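import Mathlib
import Cfsg.Prelude.Def_Classical
import Cfsg.Prelude.Def_ClassicalGeometry
import Cfsg.Agent.Lib.Helper13.Orth
import Cfsg.Agent.Lib.Helper41.SpBNDefs
import Cfsg.Agent.Lib.Helper41.SpBNCrit

/-! # The (B,N)-pair of type `D_m` of `SO⁺_{2m}(F)`: definitions (helper40, S2548 hive "OpBN")

Everything lives in the full isometry group `OG F m = O⁺_{2m}(F)` of `Q = ∑ x_i y_i`
(`Cfsg.quadFormPlus m F`, index type `Idx m = Fin m ⊕ Fin m`, `inl i ↔ e_i`, `inr i ↔ f_i`).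

* `mt g`     : the matrix of `g : OG F m`.
* `Bo F m`   : upper triangular isometries (stabiliser of the flag `⟨e_0⟩ < ⟨e_0,e_1⟩ < ...`), same
  shape as helper41 `Bsp`: `(inl,inl)` block upper triangular, `(inr,inl)` block zero (`mem_Bo_iff`, leaf).
* `No F m`   : monomial isometries whose permutation is EVEN (`Equiv.Perm.sign π = 1`): Weyl group `W(D_m)`.
* `NoAll F m`: all monomial isometries (Weyl group `W(B_m)`), used only for the generation argument.
* `So F m`   : the simple reflections, PLAIN permutation matrices `permMat σ` of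
  `simpleShort k k'` (`k+1 = k'`, helper41) and `simpleD k k'` (`k+1 = k'`, `k'+1 = m`).
* `XS XSm XD XDm` : the simple root subgroups (as sets).
The (B,N)-pair is built on the subgroup `Bo ⊔ No` (`= SO⁺`, contains `Ω`). -/

set_option autoImplicit false

namespace Cfsg.Agent.Lib.Helper40.OpBN

open Matrix Cfsg.Agent.Lib.Helper13 Cfsg.Agent.Lib.Helper41.SpBN

/-- `O⁺_{2m}(F)` as a type -/
abbrev OG (F : Type*) [Field F] (m : ℕ) : Type _ :=
  ↥(Cfsg.isometryGroup F (Cfsg.quadFormPlus m F))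

variable (F : Type*) [Field F] (m : ℕ)

/-- the matrix of an isometry, as a monoid hom -/
def omToMat : OG F m →* Matrix (Idx m) (Idx m) F :=
  (Units.coeHom (Matrix (Idx m) (Idx m) F)).comp (Cfsg.isometryGroup F (Cfsg.quadFormPlus m F)).subtype

variable {F m}

/-- the matrix of an isometry -/
def mt (g : OG F m) : Matrix (Idx m) (Idx m) F := omToMat F m g

theorem mt_def (g : OG F m) : mt g = ((g : Matrix.GeneralLinearGroup (Idx m) F) : Matrix (Idx m) (Idx m) F) :=
  rfl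

theorem mt_mul (g h : OG F m) : mt (g * h) = mt g * mt h := map_mul (omToMat F m) g h

theorem mt_one : mt (1 : OG F m) = 1 := map_one (omToMat F m)

theorem mt_inv_mul (g : OG F m) : mt g⁻¹ * mt g = 1 := by
  rw [← mt_mul, inv_mul_cancel, mt_one]

theorem mt_mul_inv (g : OG F m) : mt g * mt g⁻¹ = 1 := by
  rw [← mt_mul, mul_inv_cancel, mt_one]

theorem mt_injective : Function.Injective (mt : OG F m → Matrix (Idx m) (Idx m) F) := by
  intro g h e
  apply Subtype.ext
  apply Units.ext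
  exact e

theorem mt_ext {g h : OG F m} (e : mt g = mt h) : g = h := mt_injective e

/-- isometries preserve `Q` -/
theorem mt_preserves (g : OG F m) (v : Idx m → F) :
    Cfsg.quadFormPlus m F (mt g *ᵥ v) = Cfsg.quadFormPlus m F v :=
  (mem_isometryGroup_iff (Cfsg.quadFormPlus m F) (g : Matrix.GeneralLinearGroup (Idx m) F)).1 g.2 v

/-- MK: an invertible matrix preserving `Q` is the matrix of an isometry -/
theorem exists_mt_eq (M M' : Matrix (Idx m) (Idx m) F) (h1 : M * M' = 1) (h2 : M' * M = 1)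
    (hQ : ∀ v : Idx m → F, Cfsg.quadFormPlus m F (M *ᵥ v) = Cfsg.quadFormPlus m F v) :
    ∃ g : OG F m, mt g = M :=
  ⟨⟨⟨M, M', h1, h2⟩, (mem_isometryGroup_iff (Cfsg.quadFormPlus m F) _).2 hQ⟩, rfl⟩

variable (F m)

/-- the Borel subgroup: stabiliser of the flag `⟨e_0⟩ < ⟨e_0,e_1⟩ < ... < ⟨e_0..e_{m-1}⟩` -/
def Bo : Subgroup (OG F m) :=
  ⨅ k : Fin m, Cfsg.stabilizing (omToMat F m)
    {v : Idx m → F | (∀ i : Fin m, (k : ℕ) < (i : ℕ) → v (Sum.inl i) = 0) ∧
      ∀ i : Fin m, v (Sum.inr i) = 0}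

variable {F m}

/-- a monomial matrix with a left inverse has nonzero coefficients -/
theorem isMono_coeff_ne_zero {g h : Matrix (Idx m) (Idx m) F} (hg : h * g = 1)
    {π : Equiv.Perm (Idx m)} {d : Idx m → F} (hm : IsMono g π d) (s : Idx m) : d s ≠ 0 := by
  intro h0
  have h1 : g *ᵥ Pi.single s 1 = 0 := by rw [hm.mulVec_single, h0, zero_smul]
  have h2 : (Pi.single s 1 : Idx m → F) = 0 := by
    calc (Pi.single s 1 : Idx m → F) = (h * g) *ᵥ Pi.single s 1 := by rw [hg, Matrix.one_mulVec]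
      _ = h *ᵥ (g *ᵥ Pi.single s 1) := (Matrix.mulVec_mulVec _ _ _).symm
      _ = 0 := by rw [h1, Matrix.mulVec_zero]
  have h3 := congrFun h2 s
  rw [Pi.single_eq_same, Pi.zero_apply] at h3
  exact one_ne_zero h3

/-- the inverse of an invertible monomial matrix is monomial -/
theorem isMono_inv' {g h : Matrix (Idx m) (Idx m) F} (hg : h * g = 1)
    {π : Equiv.Perm (Idx m)} {d : Idx m → F} (hm : IsMono g π d) :
    IsMono h π.symm (fun s => (d (π.symm s))⁻¹) := by
  have hd : ∀ s, d s ≠ 0 := isMono_coeff_ne_zero hg hm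
  apply isMono_of_mulVec_single
  intro s
  have h1 : (Pi.single s 1 : Idx m → F) = g *ᵥ ((d (π.symm s))⁻¹ • Pi.single (π.symm s) 1) := by
    rw [Matrix.mulVec_smul, hm.mulVec_single, smul_smul, inv_mul_cancel₀ (hd _), one_smul,
      Equiv.apply_symm_apply]
  nth_rewrite 1 [h1]
  rw [Matrix.mulVec_mulVec, hg, Matrix.one_mulVec]

variable (F m)

/-- all monomial isometries (Weyl group of type `B_m`) -/
def NoAll : Subgroup (OG F m) where
  carrier := {g | ∃ (π : Equiv.Perm (Idx m)) (d : Idx m → F), IsMono (mt g) π d}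
  one_mem' := ⟨1, fun _ => 1, by rw [mt_one]; exact isMono_one⟩
  mul_mem' := by
    rintro a b ⟨π, d, ha⟩ ⟨ρ, e, hb⟩
    exact ⟨π * ρ, _, by rw [mt_mul]; exact isMono_mul ha hb⟩
  inv_mem' := by
    rintro a ⟨π, d, ha⟩
    exact ⟨π.symm, _, isMono_inv' (mt_inv_mul a) ha⟩

/-- the monomial isometries with EVEN permutation (Weyl group of type `D_m`) -/
def No : Subgroup (OG F m) where
  carrier := {g | ∃ (π : Equiv.Perm (Idx m)) (d : Idx m → F), IsMono (mt g) π d ∧
    Equiv.Perm.sign π = 1}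
  one_mem' := ⟨1, fun _ => 1, by rw [mt_one]; exact isMono_one, Equiv.Perm.sign_one⟩
  mul_mem' := by
    rintro a b ⟨π, d, ha, hπ⟩ ⟨ρ, e, hb, hρ⟩
    exact ⟨π * ρ, _, by rw [mt_mul]; exact isMono_mul ha hb, by rw [Equiv.Perm.sign_mul, hπ, hρ, mul_one]⟩
  inv_mem' := by
    rintro a ⟨π, d, ha, hπ⟩
    exact ⟨π.symm, _, isMono_inv' (mt_inv_mul a) ha, by rw [Equiv.Perm.sign_symm, hπ]⟩

variable {F m}

theorem mem_No_iff (g : OG F m) :
    g ∈ No F m ↔ ∃ (π : Equiv.Perm (Idx m)) (d : Idx m → F), IsMono (mt g) π d ∧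
      Equiv.Perm.sign π = 1 := Iff.rfl

theorem mem_NoAll_iff (g : OG F m) :
    g ∈ NoAll F m ↔ ∃ (π : Equiv.Perm (Idx m)) (d : Idx m → F), IsMono (mt g) π d := Iff.rfl

theorem No_le_NoAll : No F m ≤ NoAll F m := fun _ ⟨π, d, h, _⟩ => ⟨π, d, h⟩

/-! ## The simple reflections -/

/-- `(e_k f_k')(e_k' f_k)`: the reflection in the root `e_k + e_k'` -/
def simpleD (k k' : Fin m) : Equiv.Perm (Idx m) :=
  Equiv.swap (Sum.inl k) (Sum.inr k') * Equiv.swap (Sum.inl k') (Sum.inr k)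

/-- the simple generators of the Weyl group of type `D_m` inside `Perm (Fin m ⊕ Fin m)` -/
def IsSimpleGenD (σ : Equiv.Perm (Idx m)) : Prop :=
  (∃ k k' : Fin m, (k : ℕ) + 1 = (k' : ℕ) ∧ σ = simpleShort k k') ∨
    (∃ k k' : Fin m, (k : ℕ) + 1 = (k' : ℕ) ∧ (k' : ℕ) + 1 = m ∧ σ = simpleD k k')

variable (F) in
/-- the plain permutation matrix of `σ`: `e_s ↦ e_{σ s}` -/
def permMat (σ : Equiv.Perm (Idx m)) : Matrix (Idx m) (Idx m) F :=
  Matrix.of fun a s => if a = σ s then 1 else 0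

theorem permMat_isMono (σ : Equiv.Perm (Idx m)) : IsMono (permMat F σ) σ (fun _ => 1) :=
  fun _ _ => rfl

variable (F m)

/-- the representatives in `N` of the simple reflections -/
def So : Set (OG F m) :=
  {g | ∃ σ : Equiv.Perm (Idx m), IsSimpleGenD σ ∧ mt g = permMat F σ}

/-! ## The simple root subgroups (as sets) -/

/-- `x_{e_k - e_k'}(t) = 1 + t E_{e_k,e_k'} - t E_{f_k',f_k}` -/
def XS (k k' : Fin m) : Set (OG F m) :=
  {g | ∃ t : F, mt g = 1 + t • Matrix.single (Sum.inl k) (Sum.inl k') (1 : F)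
      - t • Matrix.single (Sum.inr k') (Sum.inr k) (1 : F)}

/-- `x_{e_k' - e_k}(t) = 1 + t E_{e_k',e_k} - t E_{f_k,f_k'}` -/
def XSm (k k' : Fin m) : Set (OG F m) :=
  {g | ∃ t : F, mt g = 1 + t • Matrix.single (Sum.inl k') (Sum.inl k) (1 : F)
      - t • Matrix.single (Sum.inr k) (Sum.inr k') (1 : F)}

/-- `x_{e_k + e_k'}(t) = 1 + t E_{e_k,f_k'} - t E_{e_k',f_k}` -/
def XD (k k' : Fin m) : Set (OG F m) :=
  {g | ∃ t : F, mt g = 1 + t • Matrix.single (Sum.inl k) (Sum.inr k') (1 : F)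
      - t • Matrix.single (Sum.inl k') (Sum.inr k) (1 : F)}

/-- `x_{-e_k - e_k'}(t) = 1 + t E_{f_k',e_k} - t E_{f_k,e_k'}` -/
def XDm (k k' : Fin m) : Set (OG F m) :=
  {g | ∃ t : F, mt g = 1 + t • Matrix.single (Sum.inr k') (Sum.inl k) (1 : F)
      - t • Matrix.single (Sum.inr k) (Sum.inl k') (1 : F)}

end Cfsg.Agent.Lib.Helper40.OpBN
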