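import Mathlib
import Cfsg.Agent.Lib.Helper40.OpBNDefs

/-! # OpBN hive, leaf ROOT (helper40): the root matrices are isometries of the plus form -/

set_option autoImplicit false
set_option linter.unusedSimpArgs false

namespace Cfsg.Agent.Lib.Helper40.OpBN

open Matrix Cfsg Cfsg.Agent.Lib.Helper13 Cfsg.Agent.Lib.Helper41.SpBN

variable {F : Type*} [Field F] {m : ℕ}

theorem root_mulVec (a b a' b' : Idx m) (t : F) (v : Idx m → F) (c : Idx m) :
    ((1 + t • Matrix.single a b (1 : F) - t • Matrix.single a' b' (1 : F)) *ᵥ v) c =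
      v c + (if c = a then t * v b else 0) - (if c = a' then t * v b' else 0) := by
  rw [Matrix.sub_mulVec, Matrix.add_mulVec, Matrix.one_mulVec, Matrix.smul_mulVec, Matrix.smul_mulVec]
  simp only [Pi.add_apply, Pi.sub_apply, Pi.smul_apply, smul_eq_mul]
  have h : ∀ (x y : Idx m), (Matrix.single x y (1 : F) *ᵥ v) c = if c = x then v y else 0 := by
    intro x y
    rw [Matrix.mulVec, dotProduct]
    by_cases hc : c = x
    · rw [if_pos hc, Finset.sum_eq_single y]
      · simp [hc]
      · intro s _ hs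
        simp [hs.symm]
      · intro h
        exact absurd (Finset.mem_univ _) h
    · rw [if_neg hc]
      apply Finset.sum_eq_zero
      intro s _
      simp [Ne.symm hc]
  rw [h, h]
  simp only [mul_ite, mul_zero]

theorem root_mul_inv (a b a' b' : Idx m) (h1 : b ≠ a) (h2 : b ≠ a') (h3 : b' ≠ a) (h4 : b' ≠ a')
    (t : F) :
    (1 + t • Matrix.single a b (1 : F) - t • Matrix.single a' b' (1 : F)) *
      (1 + (-t) • Matrix.single a b (1 : F) - (-t) • Matrix.single a' b' (1 : F)) = 1 := by
  have e1 : Matrix.single a b (1 : F) * Matrix.single a b (1 : F) = 0 :=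
    Matrix.single_mul_single_of_ne _ _ _ _ h1 _
  have e2 : Matrix.single a b (1 : F) * Matrix.single a' b' (1 : F) = 0 :=
    Matrix.single_mul_single_of_ne _ _ _ _ h2 _
  have e3 : Matrix.single a' b' (1 : F) * Matrix.single a b (1 : F) = 0 :=
    Matrix.single_mul_single_of_ne _ _ _ _ h3 _
  have e4 : Matrix.single a' b' (1 : F) * Matrix.single a' b' (1 : F) = 0 :=
    Matrix.single_mul_single_of_ne _ _ _ _ h4 _
  have hN : (t • Matrix.single a b (1 : F) - t • Matrix.single a' b' (1 : F)) *
      (t • Matrix.single a b (1 : F) - t • Matrix.single a' b' (1 : F)) = 0 := by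
    simp only [mul_sub, sub_mul, smul_mul_assoc, mul_smul_comm, e1, e2, e3, e4, smul_zero, sub_zero]
  have e5 : (1 + (-t) • Matrix.single a b (1 : F) - (-t) • Matrix.single a' b' (1 : F)) =
      1 - (t • Matrix.single a b (1 : F) - t • Matrix.single a' b' (1 : F)) := by
    simp only [neg_smul]
    abel
  have e6 : (1 + t • Matrix.single a b (1 : F) - t • Matrix.single a' b' (1 : F)) =
      1 + (t • Matrix.single a b (1 : F) - t • Matrix.single a' b' (1 : F)) := by
    abel
  rw [e5, e6, mul_sub, mul_one, add_mul, one_mul, hN, add_zero]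
  abel

/-- a sum of the diagonal terms plus two indicator corrections -/
theorem root_sum (k k' : Fin m) (f : Fin m → F) (c₁ c₂ : F) (g : Fin m → F)
    (h : ∀ i, g i = f i + (if i = k then c₁ else 0) + (if i = k' then c₂ else 0))
    (hc : c₁ + c₂ = 0) : ∑ i, g i = ∑ i, f i := by
  rw [Finset.sum_congr rfl (fun i _ => h i), Finset.sum_add_distrib, Finset.sum_add_distrib,
    Finset.sum_ite_eq' Finset.univ k, Finset.sum_ite_eq' Finset.univ k']
  simp only [Finset.mem_univ, if_true]
  rw [add_assoc, hc, add_zero]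

theorem root_mk (a b a' b' : Idx m) (h1 : b ≠ a) (h2 : b ≠ a') (h3 : b' ≠ a) (h4 : b' ≠ a') (t : F)
    (hQ : ∀ v : Idx m → F, Cfsg.quadFormPlus m F
      ((1 + t • Matrix.single a b (1 : F) - t • Matrix.single a' b' (1 : F)) *ᵥ v) =
        Cfsg.quadFormPlus m F v) :
    ∃ g : OG F m, mt g = 1 + t • Matrix.single a b (1 : F) - t • Matrix.single a' b' (1 : F) := by
  apply exists_mt_eq _ (1 + (-t) • Matrix.single a b (1 : F) - (-t) • Matrix.single a' b' (1 : F))
  · exact root_mul_inv a b a' b' h1 h2 h3 h4 t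
  · have := root_mul_inv a b a' b' h1 h2 h3 h4 (-t)
    rw [neg_neg] at this
    exact this
  · exact hQ

/-- LEAF ROOT (1) -/
theorem exists_xS (k k' : Fin m) (hkk : k ≠ k') (t : F) :
    ∃ g : OG F m, mt g = 1 + t • Matrix.single (Sum.inl k) (Sum.inl k') (1 : F)
      - t • Matrix.single (Sum.inr k') (Sum.inr k) (1 : F) := by
  apply root_mk _ _ _ _ (by simpa using hkk.symm) (by simp) (by simp) (by simpa using hkk) t
  intro v
  unfold Cfsg.quadFormPlus
  apply root_sum k k' _ (t * v (Sum.inl k') * v (Sum.inr k)) (-(t * v (Sum.inl k') * v (Sum.inr k)))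
  · intro i
    rw [root_mulVec, root_mulVec]
    simp only [reduceCtorEq, if_false, Sum.inl.injEq, Sum.inr.injEq, sub_zero, add_zero]
    by_cases h1 : i = k
    · have h2 : i ≠ k' := fun h => hkk (h1.symm.trans h)
      rw [if_pos h1, if_neg h2, if_pos h1, if_neg h2, h1]
      ring
    · rw [if_neg h1, if_neg h1]
      by_cases h2 : i = k'
      · rw [if_pos h2, if_pos h2, h2]
        ring
      · rw [if_neg h2, if_neg h2]
        ring
  · ring

/-- LEAF ROOT (2) -/
theorem exists_xD (k k' : Fin m) (hkk : k ≠ k') (t : F) :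
    ∃ g : OG F m, mt g = 1 + t • Matrix.single (Sum.inl k) (Sum.inr k') (1 : F)
      - t • Matrix.single (Sum.inl k') (Sum.inr k) (1 : F) := by
  apply root_mk _ _ _ _ (by simp) (by simp) (by simp) (by simp) t
  intro v
  unfold Cfsg.quadFormPlus
  apply root_sum k k' _ (t * v (Sum.inr k') * v (Sum.inr k)) (-(t * v (Sum.inr k') * v (Sum.inr k)))
  · intro i
    rw [root_mulVec, root_mulVec]
    simp only [reduceCtorEq, if_false, Sum.inl.injEq, Sum.inr.injEq, sub_zero, add_zero]
    by_cases h1 : i = k
    · have h2 : i ≠ k' := fun h => hkk (h1.symm.trans h)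
      rw [if_pos h1, if_neg h2, if_pos h1, if_neg h2, h1]
      ring
    · rw [if_neg h1, if_neg h1]
      by_cases h2 : i = k'
      · rw [if_pos h2, if_pos h2, h2]
        ring
      · rw [if_neg h2, if_neg h2]
        ring
  · ring

/-- LEAF ROOT (3) -/
theorem exists_xDm (k k' : Fin m) (hkk : k ≠ k') (t : F) :
    ∃ g : OG F m, mt g = 1 + t • Matrix.single (Sum.inr k') (Sum.inl k) (1 : F)
      - t • Matrix.single (Sum.inr k) (Sum.inl k') (1 : F) := by
  apply root_mk _ _ _ _ (by simp) (by simp) (by simp) (by simp) t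
  intro v
  unfold Cfsg.quadFormPlus
  apply root_sum k k' _ (-(t * v (Sum.inl k') * v (Sum.inl k))) (t * v (Sum.inl k') * v (Sum.inl k))
  · intro i
    rw [root_mulVec, root_mulVec]
    simp only [reduceCtorEq, if_false, Sum.inl.injEq, Sum.inr.injEq, sub_zero, add_zero]
    by_cases h1 : i = k
    · have h2 : i ≠ k' := fun h => hkk (h1.symm.trans h)
      rw [if_pos h1, if_neg h2, if_pos h1, if_neg h2, h1]
      ring
    · rw [if_neg h1, if_neg h1]
      by_cases h2 : i = k'
      · rw [if_pos h2, if_pos h2, h2]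
        ring
      · rw [if_neg h2, if_neg h2]
        ring
  · ring

end Cfsg.Agent.Lib.Helper40.OpBN
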