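import Cfsg.Agent.Lib.Helper40.SympMain
set_option autoImplicit false
open Polynomial
open LinearMap (BilinForm)

namespace Cfsg.Agent.Lib.Helper40.Symp

open Cfsg.Agent.Lib.Helper40.SemisimpleConj

section mat
variable {F : Type*} [Field F] {l : Type*} [Fintype l] [DecidableEq l]

theorem J_alt (u : l ⊕ l → F) : Matrix.toBilin' (Matrix.J l F) u u = 0 := by
  rw [Matrix.toBilin'_apply', Matrix.J, Matrix.fromBlocks_mulVec, dotProduct,
    Fintype.sum_sum_type]
  simp only [Sum.elim_inl, Sum.elim_inr, Matrix.zero_mulVec, Matrix.neg_mulVec,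
    Matrix.one_mulVec, zero_add, add_zero, Pi.neg_apply, Function.comp_apply]
  rw [← Finset.sum_add_distrib]
  apply Finset.sum_eq_zero
  intro i _
  ring

theorem J_nondegenerate : (Matrix.toBilin' (Matrix.J l F)).Nondegenerate :=
  Matrix.Nondegenerate.toBilin'
    (Matrix.nondegenerate_of_det_ne_zero (Matrix.isUnit_det_J l F).ne_zero)

theorem J_inv_of_mem (A : Matrix (l ⊕ l) (l ⊕ l) F) (hA : A ∈ Matrix.symplecticGroup l F) :
    Inv (Matrix.toBilin' (Matrix.J l F)) (Matrix.toLin' A) := by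
  intro u v
  rw [← BilinForm.comp_apply, Matrix.toBilin'_comp, SymplecticGroup.mem_iff'.1 hA]

/-- Semisimple symplectic matrices with the same characteristic polynomial are conjugate by a
symplectic matrix. -/
theorem exists_symplectic_conj [Fintype F] (A B : Matrix (l ⊕ l) (l ⊕ l) F)
    (hA : A ∈ Matrix.symplecticGroup l F) (hB : B ∈ Matrix.symplecticGroup l F) (N : ℕ)
    (hN0 : 0 < N) (hNF : (N : F) ≠ 0) (hAN : A ^ N = 1) (hBN : B ^ N = 1)
    (hc : A.charpoly = B.charpoly) :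
    ∃ S : Matrix (l ⊕ l) (l ⊕ l) F, S ∈ Matrix.symplecticGroup l F ∧ S * A = B * S := by
  have hgN : (Matrix.toLin' A) ^ N = 1 := by
    rw [← Matrix.toLin'_pow, hAN, Matrix.toLin'_one]; rfl
  have hgN' : (Matrix.toLin' B) ^ N = 1 := by
    rw [← Matrix.toLin'_pow, hBN, Matrix.toLin'_one]; rfl
  obtain ⟨φ, hφ1, hφ2⟩ := exists_isometry (F := F) _ (l ⊕ l → F) (l ⊕ l → F)
    (Matrix.toBilin' (Matrix.J l F)) (Matrix.toBilin' (Matrix.J l F)) (Matrix.toLin' A)
    (Matrix.toLin' B) N rfl J_alt J_alt J_nondegenerate J_nondegenerate (J_inv_of_mem A hA)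
    (J_inv_of_mem B hB) hN0 hgN hgN' hNF
    (by rw [Matrix.charpoly_toLin', Matrix.charpoly_toLin', hc])
  set S := LinearMap.toMatrix' (φ : (l ⊕ l → F) →ₗ[F] (l ⊕ l → F)) with hS
  have hSφ : Matrix.toLin' S = (φ : (l ⊕ l → F) →ₗ[F] (l ⊕ l → F)) := by
    rw [hS, Matrix.toLin'_toMatrix']
  refine ⟨S, ?_, ?_⟩
  · rw [SymplecticGroup.mem_iff']
    apply Matrix.toBilin'.injective
    rw [← Matrix.toBilin'_comp, hSφ]
    apply LinearMap.ext
    intro u
    apply LinearMap.ext
    intro v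
    rw [BilinForm.comp_apply]
    exact hφ2 u v
  · apply Matrix.toLin'.injective
    apply LinearMap.ext
    intro v
    rw [Matrix.toLin'_mul, Matrix.toLin'_mul, hSφ]
    simp only [LinearMap.coe_comp, LinearEquiv.coe_coe, Function.comp_apply]
    exact hφ1 v

end mat

end Cfsg.Agent.Lib.Helper40.Symp

namespace Cfsg.Agent.Lib.Helper40.Symp

section grp
variable {F : Type*} [Field F] [Fintype F] {l : Type*} [Fintype l] [DecidableEq l]

theorem natCast_ne_zero_of_coprime (p : ℕ) [Fact p.Prime] [CharP F p] (N : ℕ)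
    (hN : N.Coprime p) : (N : F) ≠ 0 := by
  intro h0
  rw [CharP.cast_eq_zero_iff F p] at h0
  have hp : p.Prime := Fact.out
  have := Nat.dvd_gcd h0 (dvd_refl p)
  rw [Nat.Coprime.gcd_eq_one hN] at this
  exact hp.one_lt.ne' (Nat.dvd_one.mp this)

theorem coe_pow_symplectic (a : ↥(Matrix.symplecticGroup l F)) (k : ℕ) :
    ((a ^ k : ↥(Matrix.symplecticGroup l F)) : Matrix (l ⊕ l) (l ⊕ l) F) =
      (a : Matrix (l ⊕ l) (l ⊕ l) F) ^ k :=
  SubmonoidClass.coe_pow a k

/-- In the symplectic group over a finite field, elements of order prime to the characteristic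
with the same characteristic polynomial are conjugate. -/
theorem isConj_symplectic (p : ℕ) [Fact p.Prime] [CharP F p]
    (a b : ↥(Matrix.symplecticGroup l F)) (ha : (orderOf a).Coprime p)
    (hb : (orderOf b).Coprime p)
    (hc : (a : Matrix (l ⊕ l) (l ⊕ l) F).charpoly = (b : Matrix (l ⊕ l) (l ⊕ l) F).charpoly) :
    IsConj a b := by
  set N := orderOf a * orderOf b with hN
  have hNcop : N.Coprime p := Nat.Coprime.mul_left ha hb
  have hNF : (N : F) ≠ 0 := natCast_ne_zero_of_coprime p N hNcop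
  have hN0 : 0 < N := Nat.pos_of_ne_zero (by
    intro h0
    rw [h0] at hNF
    simp at hNF)
  have haN : (a : Matrix (l ⊕ l) (l ⊕ l) F) ^ N = 1 := by
    rw [← coe_pow_symplectic, hN, pow_mul, pow_orderOf_eq_one, one_pow]
    rfl
  have hbN : (b : Matrix (l ⊕ l) (l ⊕ l) F) ^ N = 1 := by
    rw [← coe_pow_symplectic, hN, mul_comm, pow_mul, pow_orderOf_eq_one, one_pow]
    rfl
  obtain ⟨S, hS, hSab⟩ := exists_symplectic_conj (a : Matrix (l ⊕ l) (l ⊕ l) F)
    (b : Matrix (l ⊕ l) (l ⊕ l) F) a.2 b.2 N hN0 hNF haN hbN hc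
  rw [isConj_iff]
  refine ⟨⟨S, hS⟩, ?_⟩
  rw [mul_inv_eq_iff_eq_mul]
  apply Subtype.ext
  exact hSab

end grp

end Cfsg.Agent.Lib.Helper40.Symp
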