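import Cfsg.Agent.Lib.Helper40.HermMain
import Cfsg.Agent.Lib.Helper40.SympMatrix
import Cfsg.Agent.Lib.Helper44.HermSpace
import Cfsg.Prelude.Def_LieClassical
set_option autoImplicit false
open Polynomial

namespace Cfsg.Agent.Lib.Helper40.Herm

open Cfsg.Agent.Lib.Helper40 Cfsg.Agent.Lib.Helper40.SemisimpleConj

section std
variable {F : Type*} [Field F] [Fintype F] {q : ℕ}

/-- the involution `x ↦ x ^ q` of a field with `q ^ 2` elements -/
noncomputable def tauHom (hF : Fintype.card F = q ^ 2) : F →+* F where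
  toFun x := x ^ q
  map_one' := one_pow q
  map_mul' x y := mul_pow x y q
  map_zero' := zero_pow (by
    have := Cfsg.Agent.Lib.Helper44.two_le_q_of_card hF
    omega)
  map_add' := Cfsg.Agent.Lib.Helper44.frobK_add hF

theorem tauHom_apply (hF : Fintype.card F = q ^ 2) (x : F) : tauHom hF x = x ^ q := rfl

theorem tauHom_tauHom (hF : Fintype.card F = q ^ 2) (a : F) : tauHom hF (tauHom hF a) = a :=
  Cfsg.Agent.Lib.Helper44.frobK_frobK hF a

theorem tauHom_ne_id (hF : Fintype.card F = q ^ 2) : tauHom hF ≠ RingHom.id F := by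
  classical
  intro hid
  have hq := Cfsg.Agent.Lib.Helper44.two_le_q_of_card hF
  have hall : ∀ x : F, x ^ q = x := fun x => by
    have := congrArg (fun f : F →+* F => f x) hid
    simpa [tauHom_apply] using this
  have hne : (X ^ q - X : F[X]) ≠ 0 := FiniteField.X_pow_card_sub_X_ne_zero F (by omega)
  have hsub : (Finset.univ : Finset F).val ⊆ (X ^ q - X : F[X]).roots := by
    intro x _
    rw [mem_roots hne, IsRoot, eval_sub, eval_pow, eval_X, hall, sub_self]
  have h1 := card_le_degree_of_subset_roots hsub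
  rw [FiniteField.X_pow_card_sub_X_natDegree_eq F (by omega), Finset.card_univ, hF] at h1
  nlinarith

/-- the standard hermitian form as a sesquilinear map -/
noncomputable def stdHerm (hF : Fintype.card F = q ^ 2) (n : ℕ) :
    (Fin n → F) →ₗ[F] (Fin n → F) →ₛₗ[tauHom hF] F :=
  LinearMap.mk₂'ₛₗ (RingHom.id F) (tauHom hF) (fun u v => ∑ i, u i * tauHom hF (v i))
    (by intro a b c; simp only [Pi.add_apply, add_mul, Finset.sum_add_distrib])
    (by
      intro c a b
      simp only [Pi.smul_apply, smul_eq_mul, RingHom.id_apply, Finset.mul_sum, mul_assoc])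
    (by intro a b c; simp only [Pi.add_apply, map_add, mul_add, Finset.sum_add_distrib])
    (by
      intro c a b
      simp only [Pi.smul_apply, smul_eq_mul, map_mul, Finset.mul_sum]
      apply Finset.sum_congr rfl
      intro i _
      ring)

theorem stdHerm_apply (hF : Fintype.card F = q ^ 2) (n : ℕ) (u v : Fin n → F) :
    stdHerm hF n u v = Cfsg.hermForm n F q u v := rfl

theorem stdHerm_isHermitian (hF : Fintype.card F = q ^ 2) (n : ℕ) :
    IsHermitian (stdHerm hF n) := by
  intro u v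
  rw [stdHerm_apply, stdHerm_apply, Cfsg.hermForm, Cfsg.hermForm, map_sum]
  apply Finset.sum_congr rfl
  intro i _
  rw [map_mul, tauHom_apply, tauHom_apply, Cfsg.Agent.Lib.Helper44.frobK_frobK hF, mul_comm]

theorem stdHerm_nondeg (hF : Fintype.card F = q ^ 2) (n : ℕ) : HNondeg (stdHerm hF n) := by
  classical
  intro x hx
  funext i
  have := hx (Pi.single i 1)
  rw [stdHerm_apply, Cfsg.hermForm] at this
  rw [Finset.sum_eq_single i] at this
  · simpa using this
  · intro j _ hj
    simp [Pi.single_apply, hj, Cfsg.Agent.Lib.Helper44.two_le_q_of_card hF,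
      (show q ≠ 0 by have := Cfsg.Agent.Lib.Helper44.two_le_q_of_card hF; omega)]
  · intro h; exact absurd (Finset.mem_univ i) h

theorem mem_GU_iff (n : ℕ) (A : GL (Fin n) F) :
    A ∈ Cfsg.GU n F q ↔ ∀ u v : Fin n → F,
      Cfsg.hermForm n F q ((A : Matrix (Fin n) (Fin n) F).mulVec u)
        ((A : Matrix (Fin n) (Fin n) F).mulVec v) = Cfsg.hermForm n F q u v := Iff.rfl

end std

section conj
variable {F : Type*} [Field F] [Fintype F] {q : ℕ}

/-- Semisimple unitary matrices with the same characteristic polynomial are conjugate by a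
unitary matrix. -/
theorem exists_unitary_conj (hF : Fintype.card F = q ^ 2) (n : ℕ)
    (A B : Matrix (Fin n) (Fin n) F)
    (hA : ∀ u v, Cfsg.hermForm n F q (A.mulVec u) (A.mulVec v) = Cfsg.hermForm n F q u v)
    (hB : ∀ u v, Cfsg.hermForm n F q (B.mulVec u) (B.mulVec v) = Cfsg.hermForm n F q u v)
    (N : ℕ) (hN0 : 0 < N) (hNF : (N : F) ≠ 0) (hAN : A ^ N = 1) (hBN : B ^ N = 1)
    (hc : A.charpoly = B.charpoly) :
    ∃ S S' : Matrix (Fin n) (Fin n) F, S * S' = 1 ∧ S' * S = 1 ∧
      (∀ u v, Cfsg.hermForm n F q (S.mulVec u) (S.mulVec v) = Cfsg.hermForm n F q u v) ∧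
      S * A = B * S := by
  have hgN : (Matrix.toLin' A) ^ N = 1 := by
    rw [← Matrix.toLin'_pow, hAN, Matrix.toLin'_one]; rfl
  have hgN' : (Matrix.toLin' B) ^ N = 1 := by
    rw [← Matrix.toLin'_pow, hBN, Matrix.toLin'_one]; rfl
  obtain ⟨φ, hφ1, hφ2⟩ := hexists_isometry (tauHom hF) (tauHom_tauHom hF) (tauHom_ne_id hF) _
    (Fin n → F) (Fin n → F) (stdHerm hF n) (stdHerm hF n) (Matrix.toLin' A) (Matrix.toLin' B) N
    rfl (stdHerm_isHermitian hF n) (stdHerm_isHermitian hF n) (stdHerm_nondeg hF n)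
    (stdHerm_nondeg hF n)
    (fun u v => by
      rw [stdHerm_apply, stdHerm_apply, Matrix.toLin'_apply, Matrix.toLin'_apply]; exact hA u v)
    (fun u v => by
      rw [stdHerm_apply, stdHerm_apply, Matrix.toLin'_apply, Matrix.toLin'_apply]; exact hB u v)
    hN0 hgN hgN' hNF
    (by rw [Matrix.charpoly_toLin', Matrix.charpoly_toLin', hc])
  set S := LinearMap.toMatrix' (φ : (Fin n → F) →ₗ[F] (Fin n → F)) with hS
  set S' := LinearMap.toMatrix' (φ.symm : (Fin n → F) →ₗ[F] (Fin n → F)) with hS'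
  have hSφ : Matrix.toLin' S = (φ : (Fin n → F) →ₗ[F] (Fin n → F)) := by
    rw [hS, Matrix.toLin'_toMatrix']
  have hSv : ∀ u, S.mulVec u = φ u := by
    intro u
    rw [← Matrix.toLin'_apply, hSφ]; rfl
  refine ⟨S, S', ?_, ?_, ?_, ?_⟩
  · rw [hS, hS', ← LinearMap.toMatrix'_comp]
    have : (φ : (Fin n → F) →ₗ[F] (Fin n → F)) ∘ₗ (φ.symm : (Fin n → F) →ₗ[F] (Fin n → F)) =
        LinearMap.id := by
      apply LinearMap.ext; intro x; simp
    rw [this, LinearMap.toMatrix'_id]
  · rw [hS, hS', ← LinearMap.toMatrix'_comp]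
    have : (φ.symm : (Fin n → F) →ₗ[F] (Fin n → F)) ∘ₗ (φ : (Fin n → F) →ₗ[F] (Fin n → F)) =
        LinearMap.id := by
      apply LinearMap.ext; intro x; simp
    rw [this, LinearMap.toMatrix'_id]
  · intro u v
    rw [hSv, hSv, ← stdHerm_apply hF, ← stdHerm_apply hF]
    exact hφ2 u v
  · apply Matrix.toLin'.injective
    apply LinearMap.ext
    intro v
    rw [Matrix.toLin'_mul, Matrix.toLin'_mul, hSφ]
    simp only [LinearMap.coe_comp, LinearEquiv.coe_coe, Function.comp_apply]
    exact hφ1 v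

end conj

end Cfsg.Agent.Lib.Helper40.Herm
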