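import Cfsg.Agent.Lib.Helper41.PsDefs
import Cfsg.Agent.Lib.Helper57.PsPS4
import Cfsg.Agent.Lib.Helper11.PsPS8
import Cfsg.Agent.Lib.Helper95.PsPS9
import Cfsg.Agent.Lib.Helper34.PsPS14
import Cfsg.Agent.Lib.Helper54.PsPS17
import Cfsg.Agent.Lib.Helper49.PsPS18
import Cfsg.Agent.Lib.Helper32.PsPS19
import Cfsg.Agent.Lib.Helper27.PsPS20
import Cfsg.Agent.Lib.Helper64.PsPS21
import Cfsg.Agent.Lib.Helper8.PsPS22
import Cfsg.Agent.Lib.Helper19.PsPS23
import Cfsg.Agent.Lib.Helper69.PsPS24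
import Cfsg.Agent.Lib.Helper97.PsPS25

/-!
# Ps hive (S4321), leaf PS26 `ps_crux` (helper40): assembly of PS14..PS25.
-/

set_option autoImplicit false

namespace Cfsg.Agent.Lib.Helper41.Ps

open Subgroup
open Cfsg.Agent.Lib.Helper22.Cg

universe u

/-- the class size of a central element is `1`. -/
theorem ps26_cs_central {G : Type u} [Group G] (c : G) (hc : ∀ g : G, g * c = c * g) :
    cs c = 1 := by
  have h1 : centralizer ({c} : Set G) = ⊤ := by
    ext g
    simp only [Subgroup.mem_top, iff_true]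
    rw [Subgroup.mem_centralizer_singleton_iff]
    exact hc g
  unfold cs
  rw [h1, Subgroup.index_top]

/-- PS26. the crux. Assembly of PS14..PS25 (by contradiction: `hstar`). -/
theorem ps_crux {G : Type u} [Group G] [Finite G] (p : ℕ) [Fact p.Prime]
    (hZ : ¬ p ∣ Nat.card ↥(Subgroup.center G)) (P : Sylow p G) (b α : G) (hb : b ∈ P)
    (hb1 : b ≠ 1) (hbZ : ∀ y ∈ P, b * y = y * b) (hα : α ∈ P) (hpα : p ∣ cs α) :
    ∃ x : G, p ∣ orderOf x ∧ p ∣ cs x ∧ ¬ (cs x).Coprime (cs b) := by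
  by_contra hcon
  have hp : p.Prime := Fact.out
  have hstar : ∀ x : G, p ∣ orderOf x → p ∣ cs x → (cs x).Coprime (cs b) := by
    intro x hx1 hx2
    by_contra h3
    exact hcon ⟨x, hx1, hx2, h3⟩
  -- facts on `b`
  have hbp : ∃ n : ℕ, orderOf b = p ^ n := (ps_sylow_elt p P b hb).1
  have hb1' : 1 < cs b := ps_noncentral p hZ b hb1 hbp
  have hpb : ¬ p ∣ cs b := ps_sylow_cent p P b hbZ
  -- elements of `P` with `p ∣ cs` are nontrivial, hence `p`-singular
  have hsing : ∀ x ∈ P, p ∣ cs x → p ∣ orderOf x := by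
    intro x hx hpx
    apply (ps_sylow_elt p P x hx).2
    rintro rfl
    rw [ps26_cs_central (1 : G) (fun g => by rw [mul_one, one_mul])] at hpx
    exact hp.one_lt.ne' (Nat.dvd_one.1 hpx)
  -- (A), (B), (C)
  have hA := ps_cA p b hb1' hb1 hbp hstar
  have hB := ps_cB p P b hb hbZ hbp hA
  have hC : ∀ x ∈ P, p ∣ cs x → ∀ g : G, ∃ y ∈ P, ∃ c : G, c * x = x * c ∧ g = y * c := by
    intro x hx hpx g
    exact ps_cC p P b hB x hx (hstar x (hsing x hx hpx) hpx) g
  -- (D)
  have hN : ∀ g : G, ∀ y ∈ P, g * y * g⁻¹ ∈ P := ps_cD p P hC α hα hpα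
  -- `α` is not central in `P`
  have hαnc : ¬ ∀ y ∈ P, α * y = y * α := fun h => ps_sylow_cent p P α h hpα
  -- (E)
  obtain ⟨a, ha, hanc, hZ2⟩ := ps_cE p P α hα hαnc
  -- (F) for `a` and `a * b`
  have hpa : p ∣ cs a := ps_cF p P hN a ha hanc
  have habnc : ¬ ∀ y ∈ P, (a * b) * y = y * (a * b) := by
    intro h
    apply hanc
    intro y hy
    have h1 := h y hy
    have h2 := hbZ y hy
    -- a * b * y = y * (a * b), b * y = y * b
    have h3 : a * y * b = y * a * b := by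
      calc a * y * b = a * (y * b) := by rw [mul_assoc]
        _ = a * (b * y) := by rw [h2]
        _ = a * b * y := by rw [mul_assoc]
        _ = y * (a * b) := h1
        _ = y * a * b := by rw [mul_assoc]
    exact mul_right_cancel h3
  have hpab : p ∣ cs (a * b) := ps_cF p P hN (a * b) (P.mul_mem ha hb) habnc
  have hCa := hC a ha hpa
  have hCab := hC (a * b) (P.mul_mem ha hb) hpab
  -- (G1), (G2)
  obtain ⟨B, hBmem, hBZ, hconj⟩ := ps_cG1 p P a ha hZ2
  have hG2 : ∀ g : G, g * b * g⁻¹ * b⁻¹ ∈ B := fun g =>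
    ps_cG2 p P hN a b ha hb hbZ hCa hCab B hBmem hBZ g
  -- (H) with `A = Z(P)`
  have hbB : b ∈ B := by
    apply ps_cH ((P : Subgroup G) ⊓ centralizer ((P : Subgroup G) : Set G)) B ?_ ?_ b ?_ hG2 ?_ ?_
    · intro z hz
      obtain ⟨hz1, hz2⟩ := hBZ z hz
      rw [Subgroup.mem_inf, Subgroup.mem_centralizer_iff]
      exact ⟨hz1, fun u hu => (hz2 u hu).symm⟩
    · intro x hx y hy
      rw [Subgroup.mem_inf, Subgroup.mem_centralizer_iff] at hx hy
      exact hy.2 x hx.1
    · rw [Subgroup.mem_inf, Subgroup.mem_centralizer_iff]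
      exact ⟨hb, fun u hu => (hbZ u hu).symm⟩
    · intro c hc hcen
      rw [Subgroup.mem_inf] at hc
      by_contra hc1
      have h1 := ps_noncentral p hZ c hc1 (ps_sylow_elt p P c hc.1).1
      rw [ps26_cs_central c hcen] at h1
      exact lt_irrefl 1 h1
    · obtain ⟨n, hn⟩ := hbp
      rw [hn]
      exact Nat.Coprime.pow_right n ((Nat.Prime.coprime_iff_not_dvd hp).2 hpb).symm
  -- the element `x`
  obtain ⟨x, hx, hxab⟩ := (hBmem b).1 hbB
  have hxnc : ¬ ∀ y ∈ P, x * y = y * x := by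
    intro h
    apply hb1
    rw [hxab, h a ha]
    group
  have hpx : p ∣ cs x := ps_cF p P hN x hx hxnc
  -- the prime `t`
  have hne1 : cs b ≠ 1 := hb1'.ne'
  have : Fact (Nat.minFac (cs b)).Prime := ⟨Nat.minFac_prime hne1⟩
  have htb : Nat.minFac (cs b) ∣ cs b := Nat.minFac_dvd (cs b)
  have hta : ¬ Nat.minFac (cs b) ∣ cs a := by
    intro h
    have h1 := hstar a (hsing a ha hpa) hpa
    have h2 := Nat.Coprime.eq_one_of_dvd (Nat.Coprime.coprime_dvd_left h h1) htb
    exact (Nat.minFac_prime hne1).one_lt.ne' h2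
  have htx : ¬ Nat.minFac (cs b) ∣ cs x := by
    intro h
    have h1 := hstar x (hsing x hx hpx) hpx
    have h2 := Nat.Coprime.eq_one_of_dvd (Nat.Coprime.coprime_dvd_left h h1) htb
    exact (Nat.minFac_prime hne1).one_lt.ne' h2
  exact ps_cJ p P a x b ha hx hconj hxab.symm hCa (Nat.minFac (cs b)) hta htx htb

end Cfsg.Agent.Lib.Helper41.Ps
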