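import Cfsg.Agent.Lib.Helper40.RecipDich
set_option autoImplicit false
open Polynomial UniqueFactorizationMonoid

namespace Cfsg.Agent.Lib.Helper40.PrimeOrder

section revpoly
variable {F : Type*} [Field F]

/-- `reverse` as a monoid homomorphism (over a domain). -/
noncomputable def reverseHom : F[X] →* F[X] where
  toFun := reverse
  map_one' := by
    have h3 : (1 : F[X]) = C 1 := by simp
    rw [h3, reverse_C]
  map_mul' := reverse_mul_of_domain

theorem reverseHom_apply (f : F[X]) : reverseHom f = f.reverse := rfl

theorem reverse_multiset_prod (M : Multiset F[X]) : M.prod.reverse = (M.map reverse).prod := by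
  have := map_multiset_prod (reverseHom (F := F)) M
  rw [reverseHom_apply] at this
  rw [this]
  rfl

theorem reverse_pow' (f : F[X]) (k : ℕ) : (f ^ k).reverse = f.reverse ^ k := by
  have := map_pow (reverseHom (F := F)) f k
  simpa [reverseHom_apply] using this

theorem reverse_polyOf (a : ℕ) (M : Multiset F[X]) (h0 : ∀ π ∈ M, π.coeff 0 ≠ 0) :
    (polyOf a M).reverse =
      C ((-1) ^ a * (M.map (fun π => π.coeff 0)).prod) * polyOf a (M.map recip) := by
  unfold polyOf
  rw [reverse_mul_of_domain, reverse_pow', reverse_X_sub_one, reverse_multiset_prod]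
  have h1 : M.map reverse = M.map (fun π => C (π.coeff 0) * recip π) := by
    apply Multiset.map_congr rfl
    intro π hπ
    exact reverse_eq_of_coeff_zero π (h0 π hπ)
  rw [h1, Multiset.prod_map_mul]
  have h2 : (M.map (fun π : F[X] => C (π.coeff 0))).prod =
      C ((M.map (fun π : F[X] => π.coeff 0)).prod) := by
    rw [map_multiset_prod, Multiset.map_map]
    rfl
  rw [h2, C_mul, C_pow, C_neg, C_1, neg_pow (X - 1 : F[X]) a]
  ring

end revpoly

section transport

theorem card_multiset_transport {α β : Type*} [Nonempty α] (S : Set β) (π : α → β)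
    (hinj : Function.Injective π) (hrange : ∀ x, x ∈ S ↔ ∃ j, π j = x)
    (Q : Multiset β → Prop) :
    Nat.card {M : Multiset β // (∀ x ∈ M, x ∈ S) ∧ Q M} =
      Nat.card {M' : Multiset α // Q (M'.map π)} := by
  symm
  let f : {M' : Multiset α // Q (M'.map π)} → {M : Multiset β // (∀ x ∈ M, x ∈ S) ∧ Q M} :=
    fun M' => ⟨M'.1.map π, by
      intro x hx
      obtain ⟨j, _, rfl⟩ := Multiset.mem_map.1 hx
      exact (hrange _).2 ⟨j, rfl⟩, M'.2⟩
  apply Nat.card_eq_of_bijective f
  constructor
  · intro M M' h
    have h1 : M.1.map π = M'.1.map π := congrArg Subtype.val h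
    exact Subtype.ext (Multiset.map_injective hinj h1)
  · rintro ⟨M, hM, hQ⟩
    have hmM : (M.map (Function.invFun π)).map π = M := by
      rw [Multiset.map_map]
      conv_rhs => rw [← Multiset.map_id' M]
      apply Multiset.map_congr rfl
      intro x hx
      exact Function.invFun_eq ((hrange x).1 (hM x hx))
    refine ⟨⟨M.map (Function.invFun π), by rw [hmM]; exact hQ⟩, ?_⟩
    apply Subtype.ext
    exact hmM

end transport
end Cfsg.Agent.Lib.Helper40.PrimeOrder
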