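import Mathlib
set_option autoImplicit false

namespace Cfsg.Agent.Lib.Helper40.PrimeOrder

section comb
variable {α : Type*} [Fintype α] [LinearOrder α] (σ : α → α)

/-- representatives of the orbits of a fixed-point-free involution -/
def half : Finset α := Finset.univ.filter (fun j => j < σ j)

theorem mem_half_iff (j : α) : j ∈ half σ ↔ j < σ j := by
  simp [half]

variable {σ}

theorem sigma_mem_half_iff (hσ : ∀ j, σ (σ j) = j) (hfix : ∀ j, σ j ≠ j) (j : α) :
    σ j ∈ half σ ↔ j ∉ half σ := by
  rw [mem_half_iff, mem_half_iff, hσ, not_lt]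
  constructor
  · intro h; exact h.le
  · intro h; exact lt_of_le_of_ne h (hfix j)

theorem card_half (hσ : ∀ j, σ (σ j) = j) (hfix : ∀ j, σ j ≠ j) :
    2 * (half σ).card = Fintype.card α := by
  classical
  have hinj : Function.Injective σ := fun a b h => by rw [← hσ a, ← hσ b, h]
  have h1 : (Finset.univ : Finset α) = half σ ∪ (half σ).image σ := by
    ext j
    simp only [Finset.mem_univ, Finset.mem_union, Finset.mem_image, true_iff]
    by_cases hj : j ∈ half σ
    · exact Or.inl hj
    · right
      refine ⟨σ j, (sigma_mem_half_iff hσ hfix j).2 hj, hσ j⟩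
  have h2 : Disjoint (half σ) ((half σ).image σ) := by
    rw [Finset.disjoint_left]
    intro j hj hj'
    obtain ⟨k, hk, rfl⟩ := Finset.mem_image.1 hj'
    exact (sigma_mem_half_iff hσ hfix k).1 hj hk
  rw [← Finset.card_univ, h1, Finset.card_union_of_disjoint h2,
    Finset.card_image_of_injective _ hinj]
  ring

theorem symm_decomp [DecidableEq α] (hσ : ∀ j, σ (σ j) = j) (hfix : ∀ j, σ j ≠ j)
    (M : Multiset α) (hM : M.map σ = M) :
    M = M.filter (· ∈ half σ) + (M.filter (· ∈ half σ)).map σ := by
  have hinj : Function.Injective σ := fun a b h => by rw [← hσ a, ← hσ b, h]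
  ext x
  rw [Multiset.count_add]
  have h1 : Multiset.count x ((M.filter (· ∈ half σ)).map σ) =
      Multiset.count (σ x) (M.filter (· ∈ half σ)) := by
    conv_lhs => rw [← hσ x]
    exact Multiset.count_map_eq_count' σ _ hinj (σ x)
  have h2 : Multiset.count (σ x) M = Multiset.count x M := by
    conv_lhs => rw [← hM]
    exact Multiset.count_map_eq_count' σ _ hinj x
  rw [h1]
  by_cases hx : x ∈ half σ
  · have hx' : σ x ∉ half σ := fun h => (sigma_mem_half_iff hσ hfix x).1 h hx
    rw [Multiset.count_filter_of_pos hx, Multiset.count_filter_of_neg hx', add_zero]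
  · have hx' : σ x ∈ half σ := (sigma_mem_half_iff hσ hfix x).2 hx
    rw [Multiset.count_filter_of_neg hx, Multiset.count_filter_of_pos hx', zero_add, h2]

theorem filter_half_add [DecidableEq α] (hσ : ∀ j, σ (σ j) = j) (hfix : ∀ j, σ j ≠ j)
    (N : Multiset α) (hN : ∀ x ∈ N, x ∈ half σ) :
    (N + N.map σ).filter (· ∈ half σ) = N := by
  rw [Multiset.filter_add, Multiset.filter_eq_self.2 hN, Multiset.filter_eq_nil.2, add_zero]
  intro x hx
  obtain ⟨j, hj, rfl⟩ := Multiset.mem_map.1 hx
  exact fun h => (sigma_mem_half_iff hσ hfix j).1 h (hN j hj)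

theorem map_sigma_add (hσ : ∀ j, σ (σ j) = j) (N : Multiset α) :
    (N + N.map σ).map σ = N + N.map σ := by
  rw [Multiset.map_add, Multiset.map_map, add_comm]
  congr 1
  conv_rhs => rw [← Multiset.map_id' N]
  apply Multiset.map_congr rfl
  intro x _
  exact hσ x

theorem card_symm_multisets [DecidableEq α] (hσ : ∀ j, σ (σ j) = j) (hfix : ∀ j, σ j ≠ j)
    (i m : ℕ) :
    Nat.card {M : Multiset α // M ≠ 0 ∧ i * Multiset.card M ≤ 2 * m ∧ M.map σ = M} =
      Nat.card {N : Multiset α // (∀ x ∈ N, x ∈ ((half σ : Finset α) : Set α)) ∧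
        (N ≠ 0 ∧ i * Multiset.card N ≤ m)} := by
  let f : {M : Multiset α // M ≠ 0 ∧ i * Multiset.card M ≤ 2 * m ∧ M.map σ = M} →
      {N : Multiset α // (∀ x ∈ N, x ∈ ((half σ : Finset α) : Set α)) ∧
        (N ≠ 0 ∧ i * Multiset.card N ≤ m)} := fun M =>
    ⟨M.1.filter (· ∈ half σ), by
      intro x hx
      exact (Multiset.mem_filter.1 hx).2, by
      intro h0
      have := symm_decomp hσ hfix M.1 M.2.2.2
      rw [h0] at this
      simp only [Multiset.map_zero, add_zero] at this
      exact M.2.1 this, by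
      have h1 := symm_decomp hσ hfix M.1 M.2.2.2
      have h2 : Multiset.card M.1 = 2 * Multiset.card (M.1.filter (· ∈ half σ)) := by
        conv_lhs => rw [h1]
        rw [Multiset.card_add, Multiset.card_map]; ring
      have h3 := M.2.2.1
      rw [h2] at h3
      nlinarith⟩
  apply Nat.card_eq_of_bijective f
  constructor
  · intro M M' h
    have h1 : M.1.filter (· ∈ half σ) = M'.1.filter (· ∈ half σ) := congrArg Subtype.val h
    apply Subtype.ext
    rw [symm_decomp hσ hfix M.1 M.2.2.2, symm_decomp hσ hfix M'.1 M'.2.2.2, h1]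
  · rintro ⟨N, hN, hN0, hNle⟩
    refine ⟨⟨N + N.map σ, ?_, ?_, map_sigma_add hσ N⟩, ?_⟩
    · intro h0
      apply hN0
      have := congrArg Multiset.card h0
      rw [Multiset.card_add, Multiset.card_map, Multiset.card_zero] at this
      exact Multiset.card_eq_zero.1 (by omega)
    · rw [Multiset.card_add, Multiset.card_map]
      nlinarith
    · apply Subtype.ext
      exact filter_half_add hσ hfix N hN

end comb
end Cfsg.Agent.Lib.Helper40.PrimeOrder
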