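import Cfsg.Agent.Lib.Helper40.SympPrime
import Cfsg.Agent.Lib.Helper40.RecipPoly
import Cfsg.Agent.Lib.Helper40.SymmMultiset
set_option autoImplicit false
open Polynomial UniqueFactorizationMonoid

namespace Cfsg.Agent.Lib.Helper40.Symp

open Cfsg.Agent.Lib.Helper40.SemisimpleConj Cfsg.Agent.Lib.Helper40.PrimeOrder

section aux
variable {F : Type*} [Field F]

theorem coeff_zero_eq_one_of_recip_eq_self (π : F[X]) (hm : π.Monic) (h0 : π.coeff 0 ≠ 0)
    (h1 : π.eval 1 ≠ 0) (hrec : recip π = π) : π.coeff 0 = 1 := by
  have h2 : π.reverse = C (π.coeff 0) * π := by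
    have := reverse_eq_of_coeff_zero π h0
    rw [hrec] at this
    exact this
  have h3 : π.coeff 0 * π.coeff 0 = 1 := by
    have := congrArg (fun f : F[X] => f.coeff 0) h2
    simp only [coeff_zero_reverse, hm.leadingCoeff, coeff_C_mul] at this
    exact this.symm
  rcases mul_self_eq_one_iff.1 h3 with h | h
  · exact h
  · have h4 := congrArg (fun f : F[X] => f.eval 1) h2
    simp only [eval_one_reverse, eval_mul, eval_C, h] at h4
    have h5 : (1 + 1 : F) * π.eval 1 = 0 := by
      linear_combination h4
    rcases mul_eq_zero.1 h5 with h6 | h6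
    · rw [h]
      linear_combination (-1 : F) * h6
    · exact absurd h6 h1

end aux

set_option maxHeartbeats 1600000 in
theorem card_sp_prime_order {F : Type*} [Field F] [Fintype F] (p : ℕ) [Fact p.Prime] [CharP F p]
    (m r i t : ℕ) (hr : r.Prime) (hr2 : r ≠ 2) (hrp : r ≠ p)
    (hi : i = orderOf ((Fintype.card F : ℕ) : ZMod r)) (ht : t * i = r - 1) :
    Nat.card {C : ConjClasses ↥(Matrix.symplecticGroup (Fin m) F) //
      ∃ g : ↥(Matrix.symplecticGroup (Fin m) F), ConjClasses.mk g = C ∧ orderOf g = r} =
    if Odd i then Nat.choose (m / i + t / 2) (t / 2) - 1 else Nat.choose (2 * m / i + t) t - 1 := by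
  classical
  rw [card_sp_classes_eq p m r i hr hrp hi]
  have : Fact r.Prime := ⟨hr⟩
  have hp : p.Prime := Fact.out
  have hr0 : 0 < r := hr.pos
  have hr2' := hr.two_le
  have hrF : (r : F) ≠ 0 := by
    intro h0
    rw [CharP.cast_eq_zero_iff F p] at h0
    exact hrp ((Nat.prime_dvd_prime_iff_eq hp hr).1 h0).symm
  have hi1 : 1 ≤ i := by
    rcases Nat.eq_zero_or_pos i with h | h
    · subst h
      rw [mul_zero] at ht
      omega
    · exact h
  have ht1 : 0 < t := by
    rcases Nat.eq_zero_or_pos t with h | h
    · subst h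
      rw [zero_mul] at ht
      omega
    · exact h
  have : Nonempty (Fin t) := ⟨⟨0, ht1⟩⟩
  have hcard : (Rset F r).card = t := by
    have h1 := card_Rset_mul (F := F) r hrF
    rw [← hi, ← ht] at h1
    exact Nat.eq_of_mul_eq_mul_right hi1 h1
  let e : Fin t ≃ ↥(Rset F r) := (Finset.equivFinOfCardEq hcard).symm
  let π : Fin t → F[X] := fun j => (e j : F[X])
  have hπinj : Function.Injective π := fun a b h => e.injective (Subtype.ext h)
  have hπmem : ∀ j, π j ∈ Rset F r := fun j => (e j).2
  have hπ : ∀ j, (π j).Monic ∧ Irreducible (π j) ∧ π j ∣ X ^ r - 1 ∧ π j ≠ X - 1 :=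
    fun j => (mem_Rset hr0).1 (e j).2
  have hπ0 : ∀ j, (π j).coeff 0 ≠ 0 := fun j => coeff_zero_ne_zero_of_mem_Rset hr0 (hπmem j)
  have hrange : ∀ x, x ∈ ((Rset F r : Finset F[X]) : Set F[X]) ↔ ∃ j, π j = x := by
    intro x
    constructor
    · intro hx
      exact ⟨e.symm ⟨x, hx⟩, by simp [π]⟩
    · rintro ⟨j, rfl⟩
      exact hπmem j
  have hMm : ∀ M' : Multiset (Fin t), ∀ x ∈ M'.map π, x.Monic := by
    intro M' x hx; obtain ⟨j, _, rfl⟩ := Multiset.mem_map.1 hx; exact (hπ j).1
  have hMi : ∀ M' : Multiset (Fin t), ∀ x ∈ M'.map π, Irreducible x := by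
    intro M' x hx; obtain ⟨j, _, rfl⟩ := Multiset.mem_map.1 hx; exact (hπ j).2.1
  have hM1 : ∀ M' : Multiset (Fin t), ∀ x ∈ M'.map π, x ≠ X - 1 := by
    intro M' x hx; obtain ⟨j, _, rfl⟩ := Multiset.mem_map.1 hx; exact (hπ j).2.2.2
  have hM0 : ∀ M' : Multiset (Fin t), ∀ x ∈ M'.map π, x.coeff 0 ≠ 0 := by
    intro M' x hx; obtain ⟨j, _, rfl⟩ := Multiset.mem_map.1 hx; exact hπ0 j
  have htrans := card_multiset_transport ((Rset F r : Finset F[X]) : Set F[X]) π hπinj hrange
    (fun M => M ≠ 0 ∧ i * Multiset.card M ≤ 2 * m ∧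
      (polyOf (2 * m - i * Multiset.card M) M).reverse = polyOf (2 * m - i * Multiset.card M) M)
  refine Eq.trans htrans ?_
  by_cases hodd : Odd i
  · rw [if_pos hodd]
    -- the involution
    let σ : Fin t → Fin t := fun j => e.symm ⟨recip (π j), recip_mem_Rset r (hπmem j)⟩
    have hπσ : ∀ j, π (σ j) = recip (π j) := by
      intro j
      simp [π, σ]
    have hσ : ∀ j, σ (σ j) = j := by
      intro j
      apply hπinj
      rw [hπσ, hπσ, recip_recip _ (hπ j).1 (hπ0 j)]
    have hfix : ∀ j, σ j ≠ j := by
      intro j h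
      have h1 := hπσ j
      rw [h] at h1
      exact recip_ne_self_of_odd r hr2 (hπmem j) (hi ▸ hodd) h1.symm
    have hmaprecip : ∀ M' : Multiset (Fin t), (M'.map π).map recip = (M'.map σ).map π := by
      intro M'
      rw [Multiset.map_map, Multiset.map_map]
      apply Multiset.map_congr rfl
      intro j _
      exact (hπσ j).symm
    have hiff : ∀ M' : Multiset (Fin t),
        ((M'.map π ≠ 0 ∧ i * Multiset.card (M'.map π) ≤ 2 * m ∧
          (polyOf (2 * m - i * Multiset.card (M'.map π)) (M'.map π)).reverse =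
            polyOf (2 * m - i * Multiset.card (M'.map π)) (M'.map π)) ↔
        (M' ≠ 0 ∧ i * Multiset.card M' ≤ 2 * m ∧ M'.map σ = M')) := by
      intro M'
      rw [Multiset.card_map]
      have hne : M'.map π ≠ 0 ↔ M' ≠ 0 := not_congr Multiset.map_eq_zero
      rw [hne]
      refine and_congr_right (fun _ => and_congr_right (fun _ => ?_))
      have hrev := reverse_polyOf (2 * m - i * Multiset.card M') (M'.map π) (hM0 M')
      rw [hmaprecip] at hrev
      constructor
      · intro hpal
        rw [hpal] at hrev
        have hm1 := polyOf_monic (2 * m - i * Multiset.card M') (M'.map π) (hMm M')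
        have hm2 := polyOf_monic (2 * m - i * Multiset.card M') ((M'.map σ).map π)
          (hMm (M'.map σ))
        have hc : ((-1 : F) ^ (2 * m - i * Multiset.card M') *
            ((M'.map π).map (fun π => π.coeff 0)).prod) = 1 := by
          have := congrArg leadingCoeff hrev
          rw [leadingCoeff_mul, leadingCoeff_C, hm1.leadingCoeff, hm2.leadingCoeff, mul_one] at this
          exact this.symm
        rw [hc, C_1, one_mul] at hrev
        have h1 := filter_polyOf (2 * m - i * Multiset.card M') (M'.map π) (hMm M') (hMi M')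
          (hM1 M')
        have h2 := filter_polyOf (2 * m - i * Multiset.card M') ((M'.map σ).map π)
          (hMm _) (hMi _) (hM1 _)
        have h3 : M'.map π = (M'.map σ).map π := by
          rw [← h1, ← h2]
          exact congrArg (fun f => (normalizedFactors f).filter (fun π => π ≠ X - 1)) hrev
        exact (Multiset.map_injective hπinj h3).symm
      · intro hsym
        rw [hsym] at hrev
        rw [hrev]
        have hdec := symm_decomp hσ hfix M' hsym
        set N₁ := M'.filter (· ∈ half σ) with hN₁
        have hcardM : Multiset.card M' = 2 * Multiset.card N₁ := by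
          conv_lhs => rw [hdec]
          rw [Multiset.card_add, Multiset.card_map]; ring
        have heven : Even (2 * m - i * Multiset.card M') := by
          rw [hcardM]
          have : 2 * m - i * (2 * Multiset.card N₁) = 2 * (m - i * Multiset.card N₁) := by
            rw [Nat.mul_sub]; ring_nf
          rw [this]
          exact even_two_mul _
        have hprod : ((M'.map π).map (fun π => π.coeff 0)).prod = 1 := by
          rw [hdec, Multiset.map_add, Multiset.map_add, Multiset.prod_add, Multiset.map_map,
            Multiset.map_map, Multiset.map_map, ← Multiset.prod_map_mul]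
          apply Multiset.prod_eq_one
          intro x hx
          obtain ⟨j, _, rfl⟩ := Multiset.mem_map.1 hx
          simp only [Function.comp_apply]
          rw [hπσ, recip_coeff_zero _ (hπ j).1, mul_inv_cancel₀ (hπ0 j)]
        rw [hprod, heven.neg_one_pow, mul_one, C_1, one_mul]
    rw [Nat.card_congr (Equiv.subtypeEquivRight hiff), card_symm_multisets hσ hfix i m]
    -- transport to `Fin (t / 2)`
    have hhalf : (half σ).card = t / 2 := by
      have := card_half hσ hfix
      rw [Fintype.card_fin] at this
      omega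
    have ht2 : 0 < t / 2 := by
      have := card_half hσ hfix
      rw [Fintype.card_fin] at this
      omega
    have : Nonempty (Fin (t / 2)) := ⟨⟨0, ht2⟩⟩
    let e₁ : Fin (t / 2) ≃ ↥(half σ) := (Finset.equivFinOfCardEq hhalf).symm
    let π₁ : Fin (t / 2) → Fin t := fun j => (e₁ j : Fin t)
    have hπ₁inj : Function.Injective π₁ := fun a b h => e₁.injective (Subtype.ext h)
    have hrange₁ : ∀ x, x ∈ ((half σ : Finset (Fin t)) : Set (Fin t)) ↔ ∃ j, π₁ j = x := by
      intro x
      constructor
      · intro hx
        exact ⟨e₁.symm ⟨x, hx⟩, by simp [π₁]⟩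
      · rintro ⟨j, rfl⟩
        exact (e₁ j).2
    rw [card_multiset_transport ((half σ : Finset (Fin t)) : Set (Fin t)) π₁ hπ₁inj hrange₁
      (fun N => N ≠ 0 ∧ i * Multiset.card N ≤ m)]
    have hiff₁ : ∀ N' : Multiset (Fin (t / 2)),
        ((N'.map π₁ ≠ 0 ∧ i * Multiset.card (N'.map π₁) ≤ m) ↔
          (N' ≠ 0 ∧ i * Multiset.card N' ≤ m)) := by
      intro N'
      rw [Multiset.card_map]
      exact and_congr_left (fun _ => not_congr Multiset.map_eq_zero)
    rw [Nat.card_congr (Equiv.subtypeEquivRight hiff₁), card_multiset_ne_zero_le (t / 2) i m hi1]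
  · rw [if_neg hodd]
    have heveni : Even i := Nat.not_odd_iff_even.1 hodd
    have hrec : ∀ j, recip (π j) = π j := fun j =>
      recip_eq_self_of_even r (hπmem j) (hi ▸ heveni)
    have hc1 : ∀ j, (π j).coeff 0 = 1 := fun j =>
      coeff_zero_eq_one_of_recip_eq_self (π j) (hπ j).1 (hπ0 j)
        (eval_one_ne_zero_of_mem_Rset hr0 (hπmem j)) (hrec j)
    have hiff : ∀ M' : Multiset (Fin t),
        ((M'.map π ≠ 0 ∧ i * Multiset.card (M'.map π) ≤ 2 * m ∧
          (polyOf (2 * m - i * Multiset.card (M'.map π)) (M'.map π)).reverse =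
            polyOf (2 * m - i * Multiset.card (M'.map π)) (M'.map π)) ↔
        (M' ≠ 0 ∧ i * Multiset.card M' ≤ 2 * m)) := by
      intro M'
      rw [Multiset.card_map]
      have hne : M'.map π ≠ 0 ↔ M' ≠ 0 := not_congr Multiset.map_eq_zero
      rw [hne]
      refine and_congr_right (fun _ => ?_)
      refine and_iff_left_of_imp (fun _ => ?_)
      have hrev := reverse_polyOf (2 * m - i * Multiset.card M') (M'.map π) (hM0 M')
      have hmap : (M'.map π).map recip = M'.map π := by
        rw [Multiset.map_map]
        apply Multiset.map_congr rfl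
        intro j _
        exact hrec j
      have hprod : ((M'.map π).map (fun π => π.coeff 0)).prod = 1 := by
        apply Multiset.prod_eq_one
        intro x hx
        obtain ⟨y, hy, rfl⟩ := Multiset.mem_map.1 hx
        obtain ⟨j, _, rfl⟩ := Multiset.mem_map.1 hy
        exact hc1 j
      have heven : Even (2 * m - i * Multiset.card M') := by
        obtain ⟨k, hk⟩ := heveni
        have : 2 * m - i * Multiset.card M' = 2 * (m - k * Multiset.card M') := by
          rw [hk, Nat.mul_sub]; ring_nf
        rw [this]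
        exact even_two_mul _
      rw [hrev, hmap, hprod, heven.neg_one_pow, mul_one, C_1, one_mul]
    rw [Nat.card_congr (Equiv.subtypeEquivRight hiff), card_multiset_ne_zero_le t i (2 * m) hi1]

end Cfsg.Agent.Lib.Helper40.Symp
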