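import Cfsg.Agent.Lib.Helper40.RecipDich
import Cfsg.Agent.Lib.Helper40.SympPrimeCount
set_option autoImplicit false
open Polynomial UniqueFactorizationMonoid

namespace Cfsg.Agent.Lib.Helper40.PSp

open Cfsg.Agent.Lib.Helper40.PrimeOrder Cfsg.Agent.Lib.Helper40.Symp

section gen
variable {F : Type*} [Field F]

theorem multiset_prod_dvd_pow (M : Multiset F[X]) (Q : F[X]) (h : ∀ π ∈ M, π ∣ Q) :
    M.prod ∣ Q ^ Multiset.card M := by
  induction M using Multiset.induction_on with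
  | empty => simp
  | cons a M ih =>
    rw [Multiset.prod_cons, Multiset.card_cons, pow_succ']
    exact mul_dvd_mul (h a (Multiset.mem_cons_self a M))
      (ih (fun π hπ => h π (Multiset.mem_cons_of_mem hπ)))

/-- a semisimple matrix with `A ^ k ≠ 1` has an irreducible factor of its characteristic
polynomial not dividing `X ^ k - 1` -/
theorem exists_factor_not_dvd {ι : Type*} [Fintype ι] [DecidableEq ι] (A : Matrix ι ι F) (N : ℕ)
    (hN : (N : F) ≠ 0) (hAN : A ^ N = 1) (k : ℕ) (hk : A ^ k ≠ 1) :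
    ∃ π : F[X], π.Monic ∧ Irreducible π ∧ π ∣ A.charpoly ∧ π ∣ X ^ N - 1 ∧ ¬ π ∣ X ^ k - 1 := by
  classical
  by_contra hcon
  push Not at hcon
  apply hk
  have hχ0 : A.charpoly ≠ 0 := (Matrix.charpoly_monic A).ne_zero
  apply pow_eq_one_of_charpoly_dvd A N hN hAN k (Multiset.card (normalizedFactors A.charpoly))
  conv_lhs => rw [← prod_normalizedFactors_of_monic (Matrix.charpoly_monic A)]
  apply multiset_prod_dvd_pow
  intro π hπ
  obtain ⟨hm, hi, hd⟩ := (mem_normalizedFactors_iff_monic hχ0).1 hπ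
  exact hcon π hm hi hd (dvd_of_pow_eq_one A N hAN π hi hd)

/-- the reciprocal of a factor of a palindromic polynomial is a factor -/
theorem recip_dvd_of_reverse_eq (χ π : F[X]) (hχ : χ.reverse = χ) (h0 : π.coeff 0 ≠ 0)
    (hd : π ∣ χ) : recip π ∣ χ := by
  obtain ⟨c, rfl⟩ := hd
  have h1 : (π * c).reverse = π.reverse * c.reverse := reverse_mul_of_domain π c
  rw [← hχ, h1, reverse_eq_of_coeff_zero π h0, mul_assoc, mul_left_comm]
  exact Dvd.intro _ rfl

theorem isCoprime_of_monic_irreducible_ne (π ρ : F[X]) (hπm : π.Monic) (hπi : Irreducible π)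
    (hρm : ρ.Monic) (hdeg : ρ.natDegree ≤ π.natDegree) (hne : ρ ≠ π) : IsCoprime π ρ := by
  rw [Irreducible.coprime_iff_not_dvd hπi]
  intro hd
  exact hne (eq_of_monic_of_dvd_of_natDegree_le hπm hρm hd hdeg)

theorem mul_recip_dvd (χ π : F[X]) (hχ : χ.reverse = χ) (hm : π.Monic) (hi : Irreducible π)
    (h0 : π.coeff 0 ≠ 0) (hd : π ∣ χ) (hne : recip π ≠ π) : π * recip π ∣ χ := by
  apply IsCoprime.mul_dvd _ hd (recip_dvd_of_reverse_eq χ π hχ h0 hd)
  exact isCoprime_of_monic_irreducible_ne π (recip π) hm hi (recip_monic π h0)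
    (by rw [recip_natDegree π h0]) hne

theorem reverse_mul_recip (π : F[X]) (h0 : π.coeff 0 ≠ 0) :
    (π * recip π).reverse = π * recip π := by
  rw [reverse_mul_of_domain]
  conv_lhs => rw [reverse_eq_of_coeff_zero π h0]
  rw [recip, reverse_C_mul', reverse_reverse_of_coeff_zero π h0]
  rw [mul_assoc, ← mul_assoc (C (π.coeff 0)⁻¹ * π.reverse), mul_comm (C (π.coeff 0)⁻¹ * π.reverse),
    ← mul_assoc, ← mul_assoc, ← C_mul, mul_inv_cancel₀ h0, C_1, one_mul, mul_comm]

theorem reverse_eq_self_of_recip (π : F[X]) (hm : π.Monic) (h0 : π.coeff 0 ≠ 0)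
    (h1 : π.eval 1 ≠ 0) (hrec : recip π = π) : π.reverse = π := by
  rw [reverse_eq_of_coeff_zero π h0, hrec, coeff_zero_eq_one_of_recip_eq_self π hm h0 h1 hrec,
    C_1, one_mul]

theorem reverse_X_sub_one_pow (c : ℕ) : ((X - 1 : F[X]) ^ (2 * c)).reverse = (X - 1) ^ (2 * c) := by
  rw [reverse_pow', reverse_X_sub_one, pow_mul, pow_mul, neg_sq]

end gen

end Cfsg.Agent.Lib.Helper40.PSp
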