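import Mathlib
import Cfsg.Agent.Lib.Helper40.OpBNDefs

/-! # OpBN hive, leaf PERM (helper40): permutation matrices of permutations commuting with `Sum.swap`
are isometries of the plus form -/

set_option autoImplicit false

namespace Cfsg.Agent.Lib.Helper40.OpBN

open Matrix Cfsg Cfsg.Agent.Lib.Helper13 Cfsg.Agent.Lib.Helper41.SpBN

variable {F : Type*} [Field F] {m : ℕ}

theorem perm_permMat_mulVec (π : Equiv.Perm (Idx m)) (v : Idx m → F) (a : Idx m) :
    (permMat F π *ᵥ v) a = v (π.symm a) := by
  unfold permMat
  rw [Matrix.mulVec, dotProduct]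
  simp only [Matrix.of_apply]
  rw [Finset.sum_eq_single (π.symm a)]
  · simp
  · intro s _ hs
    rw [if_neg, zero_mul]
    intro h
    apply hs
    rw [h, Equiv.symm_apply_apply]
  · intro h
    exact absurd (Finset.mem_univ _) h

theorem perm_permMat_mul (π ρ : Equiv.Perm (Idx m)) :
    permMat F π * permMat F ρ = permMat F (π * ρ) := by
  ext a s
  rw [Matrix.mul_apply]
  unfold permMat
  simp only [Matrix.of_apply]
  rw [Finset.sum_eq_single (ρ s)]
  · by_cases h : a = π (ρ s) <;> simp [Equiv.Perm.mul_apply, h]
  · intro b _ hb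
    rw [if_neg hb, mul_zero]
  · intro h
    exact absurd (Finset.mem_univ _) h

theorem perm_permMat_one : permMat F (1 : Equiv.Perm (Idx m)) = 1 := by
  ext a s
  unfold permMat
  by_cases h : a = s <;> simp [Matrix.one_apply, h]

/-- the index of the pair of `a` -/
def permIdx (a : Idx m) : Fin m := Sum.elim id id a

theorem perm_term (v : Idx m → F) (a : Idx m) :
    v a * v a.swap = v (Sum.inl (permIdx a)) * v (Sum.inr (permIdx a)) := by
  rcases a with i | i
  · rfl
  · simp [permIdx, mul_comm]

theorem perm_preserves (π : Equiv.Perm (Idx m)) (hπ : ∀ a, π a.swap = (π a).swap) (v : Idx m → F) :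
    Cfsg.quadFormPlus m F (permMat F π *ᵥ v) = Cfsg.quadFormPlus m F v := by
  have hρ : ∀ a, π.symm a.swap = (π.symm a).swap := by
    intro a
    apply π.injective
    rw [Equiv.apply_symm_apply, hπ, Equiv.apply_symm_apply]
  unfold Cfsg.quadFormPlus
  simp only [perm_permMat_mulVec]
  set τ : Fin m → Fin m := fun i => permIdx (π.symm (Sum.inl i)) with hτ
  have hinj : Function.Injective τ := by
    intro i j hij
    have h1 : ∀ a b : Idx m, permIdx a = permIdx b → a = b ∨ a = b.swap := by
      rintro (a | a) (b | b) h <;> simp [permIdx] at h <;> simp [h]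
    rcases h1 _ _ hij with h | h
    · exact Sum.inl_injective (π.symm.injective h)
    · rw [← hρ] at h
      have := π.symm.injective h
      simp at this
  have hbij : Function.Bijective τ := hinj.bijective_of_finite
  have h2 : ∀ i : Fin m, v (π.symm (Sum.inl i)) * v (π.symm (Sum.inr i)) =
      v (Sum.inl (τ i)) * v (Sum.inr (τ i)) := by
    intro i
    have : π.symm (Sum.inr i) = (π.symm (Sum.inl i)).swap := by
      rw [← hρ]; rfl
    rw [this, perm_term]
  rw [Finset.sum_congr rfl (fun i _ => h2 i)]
  exact (Equiv.ofBijective τ hbij).sum_comp (fun i => v (Sum.inl i) * v (Sum.inr i))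

/-- LEAF PERM -/
theorem exists_perm (π : Equiv.Perm (Idx m)) (hπ : ∀ a, π a.swap = (π a).swap) :
    ∃ g : OG F m, mt g = permMat F π := by
  apply exists_mt_eq (permMat F π) (permMat F π.symm)
  · rw [perm_permMat_mul]
    have : π * π.symm = 1 := by ext a; simp
    rw [this, perm_permMat_one]
  · rw [perm_permMat_mul]
    have : π.symm * π = 1 := by ext a; simp
    rw [this, perm_permMat_one]
  · exact perm_preserves π hπ

end Cfsg.Agent.Lib.Helper40.OpBN
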