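import Mathlib
import Cfsg.Agent.Lib.Helper40.OpBNDefs
import Cfsg.Agent.Lib.Helper40.OpBN_PERM
import Cfsg.Agent.Lib.Helper8.MaxTSParity
import Cfsg.Agent.Lib.Helper8.DicksonGen
import Cfsg.Agent.Lib.Helper8.DicksonOmega
import Cfsg.Agent.Lib.Helper8.OrthForms

/-! # OpBN hive, leaf CHAR2 (helper40): in characteristic 2, `Bo ⊔ No ≤ Ω` (core, with GEN as a hypothesis) -/

set_option autoImplicit false
set_option linter.unusedSimpArgs false
set_option linter.unusedVariables false

namespace Cfsg.Agent.Lib.Helper40.OpBN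

open Matrix Module Cfsg Cfsg.Agent.Lib.Helper13 Cfsg.Agent.Lib.Helper41.SpBN Cfsg.Agent.Lib.Helper8

variable {F : Type*} [Field F] {m : ℕ}

/-- the bridge to helper8's setting -/
noncomputable def char2E (F : Type*) [Field F] (m : ℕ) :
    OG F m ≃* ↥(Cfsg.isometryGroup F ⇑(plusForm m F)) :=
  MulEquiv.subgroupCongr (congrArg (Cfsg.isometryGroup F) (plusForm_coe m F))

theorem char2E_mat (g : OG F m) :
    (((char2E F m g : ↥(Cfsg.isometryGroup F ⇑(plusForm m F))) :
      Matrix.GeneralLinearGroup (Idx m) F) : Matrix (Idx m) (Idx m) F) = mt g := rfl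

/-- the maximal totally singular subspace `⟨e_i⟩` -/
def char2W (F : Type*) [Field F] (m : ℕ) : Submodule F (Idx m → F) where
  carrier := {v | ∀ i : Fin m, v (Sum.inr i) = 0}
  add_mem' := by
    intro a b ha hb i
    rw [Pi.add_apply, ha i, hb i, add_zero]
  zero_mem' := fun i => rfl
  smul_mem' := by
    intro c a ha i
    rw [Pi.smul_apply, ha i, smul_zero]

theorem char2_mem_W (v : Idx m → F) : v ∈ char2W F m ↔ ∀ i : Fin m, v (Sum.inr i) = 0 := Iff.rfl

theorem char2_W_sing (w : Idx m → F) (hw : w ∈ char2W F m) : plusForm m F w = 0 := by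
  rw [← plusForm_coe]
  unfold Cfsg.quadFormPlus
  apply Finset.sum_eq_zero
  intro i _
  rw [hw i, mul_zero]

theorem char2_finrank_W : finrank F ↥(char2W F m) = m := by
  have e : ↥(char2W F m) ≃ₗ[F] (Fin m → F) :=
    { toFun := fun w i => (w : Idx m → F) (Sum.inl i)
      map_add' := fun a b => rfl
      map_smul' := fun c a => rfl
      invFun := fun u => ⟨Sum.elim u 0, fun i => rfl⟩
      left_inv := by
        intro w
        apply Subtype.ext
        funext a
        rcases a with i | i
        · rfl
        · exact (w.2 i).symm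
      right_inv := fun u => rfl }
  rw [e.finrank_eq, Module.finrank_fintype_fun_eq_card, Fintype.card_fin]

theorem char2_finrank_V : finrank F (Idx m → F) = 2 * m := by
  rw [Module.finrank_fintype_fun_eq_card, Fintype.card_sum, Fintype.card_fin]
  ring

theorem char2_good [Fintype F] (hgood : ¬ (m = 2 ∧ Fintype.card F = 2)) : GoodOrth (plusForm m F) := by
  left
  by_cases hF : Fintype.card F = 2
  · right
    rw [char2_finrank_V]
    intro h
    exact hgood ⟨by omega, hF⟩
  · left
    exact hF

/-- an isometry stabilising `W` has trivial Dickson invariant -/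
theorem char2_par_of_stab [Fintype F] (h2 : (2 : F) = 0) (hgood : ¬ (m = 2 ∧ Fintype.card F = 2))
    (g : OG F m) (hg : ∀ v : Idx m → F, v ∈ char2W F m ↔ mt g *ᵥ v ∈ char2W F m) :
    dicksonPar (plusForm m F) (char2E F m g) = 0 := by
  have hgen := closure_reflSet_eq_top_gen (plusForm m F) (plusForm_nondegenerate m F) (char2_good hgood)
  have hpar := maxTS_parity h2 (plusForm m F) (plusForm_nondegenerate m F) hgen m char2_finrank_V
    (char2W F m) char2_W_sing char2_finrank_W (char2E F m g) (char2W F m) char2_W_sing char2_finrank_W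
  have hmap : mapSub (plusForm m F) (char2E F m g) (char2W F m) = char2W F m := by
    apply le_antisymm
    · intro y hy
      rw [mem_mapSub] at hy
      obtain ⟨x, hx, rfl⟩ := hy
      rw [char2E_mat]
      exact (hg x).1 hx
    · intro y hy
      rw [mem_mapSub]
      refine ⟨mt g⁻¹ *ᵥ y, ?_, ?_⟩
      · rw [hg, Matrix.mulVec_mulVec, mt_mul_inv, Matrix.one_mulVec]
        exact hy
      · rw [char2E_mat, Matrix.mulVec_mulVec, mt_mul_inv, Matrix.one_mulVec]
  rw [hmap] at hpar
  have := congrArg (fun x => x - ((finrank F ↥(char2W F m ⊓ char2W F m) : ℕ) : ZMod 2)) hpar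
  simp only [sub_self, add_sub_cancel_left] at this
  exact this.symm

/-- the Dickson homomorphism on `OG F m` -/
noncomputable def char2D [Fintype F] (hgood : ¬ (m = 2 ∧ Fintype.card F = 2)) :
    OG F m →* Multiplicative (ZMod 2) :=
  (dicksonHom (plusForm m F) (plusForm_nondegenerate m F)
    (closure_reflSet_eq_top_gen (plusForm m F) (plusForm_nondegenerate m F) (char2_good hgood))).comp
      (char2E F m).toMonoidHom

theorem char2D_eq_one_iff [Fintype F] (hgood : ¬ (m = 2 ∧ Fintype.card F = 2)) (g : OG F m) :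
    char2D hgood g = 1 ↔ dicksonPar (plusForm m F) (char2E F m g) = 0 := by
  unfold char2D
  rw [MonoidHom.comp_apply, dicksonHom_apply]
  constructor
  · intro h
    exact Multiplicative.ofAdd.injective h
  · intro h
    show Multiplicative.ofAdd (dicksonPar (plusForm m F) (char2E F m g)) = 1
    rw [h]
    rfl

/-- the kernel of the Dickson homomorphism is the commutator subgroup -/
theorem char2_ker_le [Fintype F] (hm : 1 ≤ m) (h2 : (2 : F) = 0)
    (hgood : ¬ (m = 2 ∧ Fintype.card F = 2)) :
    (char2D hgood).ker ≤ commutator (OG F m) := by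
  intro g hg
  rw [MonoidHom.mem_ker, char2D_eq_one_iff] at hg
  have hex : ∃ v, plusForm m F v ≠ 0 := plusForm_exists_ne_zero m F hm
  have hrk := (mem_commutator_iff_even_rank_char2_gen h2 (plusForm m F) (plusForm_nondegenerate m F)
    (char2_good hgood) hex (char2E F m g)).2
  have hmem : char2E F m g ∈ commutator ↥(Cfsg.isometryGroup F ⇑(plusForm m F)) := by
    apply hrk
    have hrk' := rank_sub_one_add_finrank_fixSub
      ((((char2E F m g : ↥(Cfsg.isometryGroup F ⇑(plusForm m F))) :
        Matrix.GeneralLinearGroup (Idx m) F) : Matrix (Idx m) (Idx m) F))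
    unfold dicksonPar at hg
    rw [ZMod.natCast_eq_zero_iff_even, ← hrk'] at hg
    rcases hg with ⟨k, hk⟩
    exact ⟨k - finrank F ↥(fixSub (((char2E F m g : ↥(Cfsg.isometryGroup F ⇑(plusForm m F))) :
        Matrix.GeneralLinearGroup (Idx m) F) : Matrix (Idx m) (Idx m) F)), by omega⟩
  -- pull back along the isomorphism
  have hmap : (commutator (OG F m)).map (char2E F m).toMonoidHom =
      commutator ↥(Cfsg.isometryGroup F ⇑(plusForm m F)) := by
    rw [commutator_def, commutator_def, Subgroup.map_commutator,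
      Subgroup.map_top_of_surjective _ (char2E F m).surjective]
  rw [← hmap, Subgroup.mem_map] at hmem
  obtain ⟨x, hx, hxg⟩ := hmem
  have : x = g := (char2E F m).injective hxg
  rw [← this]
  exact hx

end Cfsg.Agent.Lib.Helper40.OpBN
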