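import Cfsg.Agent.Lib.Helper40.SympAdj
set_option autoImplicit false
open Polynomial
open LinearMap (BilinForm)

namespace Cfsg.Agent.Lib.Helper40.Symp

open Cfsg.Agent.Lib.Helper40.SemisimpleConj



section basic
variable {F : Type*} [Field F] {V : Type*} [AddCommGroup V] [Module F V]

/-- `B` is nondegenerate on the subspace `W`. -/
def NondegOn (B : BilinForm F V) (W : Submodule F V) : Prop :=
  ∀ x ∈ W, (∀ y ∈ W, B x y = 0) → x = 0

/-- `W` is totally isotropic. -/
def Isotropic (B : BilinForm F V) (W : Submodule F V) : Prop := ∀ x ∈ W, ∀ y ∈ W, B x y = 0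

variable {B : BilinForm F V} {g : Module.End F V} {N : ℕ}

theorem alt_swap (halt : B.IsAlt) (x y : V) : B x y = - B y x :=
  (halt.neg_eq y x).symm

theorem restrict_nondegenerate (halt : B.IsAlt) {W : Submodule F V} (h : NondegOn B W) :
    (B.restrict W).Nondegenerate := by
  constructor
  · intro x hx
    apply Subtype.ext
    apply h x.1 x.2
    intro y hy
    exact hx ⟨y, hy⟩
  · intro y hy
    apply Subtype.ext
    apply h y.1 y.2
    intro x hx
    rw [alt_swap halt]
    have h1 : B x y.1 = 0 := hy ⟨x, hx⟩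
    rw [h1, neg_zero]

theorem nondegOn_top (hnd : B.Nondegenerate) : NondegOn B ⊤ := by
  intro x _ hx
  exact hnd.1 x (fun y => hx y trivial)

theorem nondegenerate_of_nondegOn_top (halt : B.IsAlt) (h : NondegOn B ⊤) : B.Nondegenerate := by
  constructor
  · intro x hx
    exact h x trivial (fun y _ => hx y)
  · intro y hy
    apply h y trivial
    intro x _
    rw [alt_swap halt, hy x, neg_zero]

theorem perp_invt (hinv : Inv B g) (hN0 : 0 < N) (hN : g ^ N = 1) (W : Submodule F V)
    (hW : ∀ x ∈ W, g x ∈ W) : ∀ x ∈ B.orthogonal W, g x ∈ B.orthogonal W := by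
  intro x hx
  rw [BilinForm.mem_orthogonal_iff] at hx ⊢
  intro w hw
  rw [adj_g' hinv hN0 hN]
  apply hx
  have : ∀ k : ℕ, ∀ y ∈ W, (g ^ k) y ∈ W := by
    intro k
    induction k with
    | zero => intro y hy; simpa using hy
    | succ k ih => intro y hy; rw [pow_succ, Module.End.mul_apply]; exact ih _ (hW y hy)
  exact this _ w hw

theorem isCompl_perp [FiniteDimensional F V] (halt : B.IsAlt) {W : Submodule F V}
    (h : NondegOn B W) : IsCompl W (B.orthogonal W) :=
  BilinForm.isCompl_orthogonal_of_restrict_nondegenerate halt.isRefl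
    (restrict_nondegenerate halt h)

theorem nondegOn_perp [FiniteDimensional F V] (halt : B.IsAlt) (hnd : B.Nondegenerate)
    {W : Submodule F V} (h : NondegOn B W) : NondegOn B (B.orthogonal W) := by
  intro x hx hxy
  apply hnd.1 x
  intro z
  have hc := isCompl_perp halt h
  obtain ⟨a, ha, b, hb, rfl⟩ := Submodule.mem_sup.1
    (show z ∈ W ⊔ B.orthogonal W by rw [hc.sup_eq_top]; trivial)
  rw [map_add, hxy b hb, add_zero, alt_swap halt]
  rw [BilinForm.mem_orthogonal_iff] at hx
  rw [hx a ha, neg_zero]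

end basic

section cyclic
variable {F : Type*} [Field F] {V : Type*} [AddCommGroup V] [Module F V]
variable {B : BilinForm F V} {g : Module.End F V}

theorem cyc_le (v : V) (R : Submodule F V) (hR : ∀ x ∈ R, g x ∈ R) (hv : v ∈ R) :
    cyc g v ≤ R := by
  rintro _ ⟨h, rfl⟩
  rw [ev_apply]
  induction h using Polynomial.induction_on' with
  | add p q hp hq =>
    rw [map_add, LinearMap.add_apply]
    exact R.add_mem hp hq
  | monomial n a =>
    rw [aeval_monomial, Module.End.mul_apply, Module.algebraMap_end_apply]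
    apply R.smul_mem
    induction n with
    | zero => simpa using hv
    | succ n ih => rw [pow_succ', Module.End.mul_apply]; exact hR _ ih

theorem self_mem_cyc (v : V) : v ∈ cyc g v := ⟨1, by simp [ev_apply]⟩

theorem aeval_mem_cyc (v : V) (h : F[X]) : aeval g h v ∈ cyc g v := ⟨h, rfl⟩

/-- Irreducibility of the cyclic module of a vector killed by an irreducible polynomial. -/
theorem mem_cyc_of_ne_zero (p : F[X]) (hp : Irreducible p) (v : V) (hpv : aeval g p v = 0)
    (x : V) (hx : x ∈ cyc g v) (hx0 : x ≠ 0) : v ∈ cyc g x := by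
  obtain ⟨h, rfl⟩ := hx
  rw [ev_apply] at hx0 ⊢
  have hnd : ¬ p ∣ h := by
    rintro ⟨s, rfl⟩
    apply hx0
    rw [mul_comm, map_mul, Module.End.mul_apply, hpv, map_zero]
  have hc : IsCoprime p h := (Irreducible.coprime_iff_not_dvd hp).2 hnd
  obtain ⟨a, b, hab⟩ := hc
  have h1 : aeval g (a * p + b * h) v = v := by rw [hab]; simp
  rw [map_add, map_mul, map_mul, LinearMap.add_apply, Module.End.mul_apply,
    Module.End.mul_apply, hpv, map_zero, zero_add] at h1
  have h2 := aeval_mem_cyc (g := g) (aeval g h v) b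
  rw [h1] at h2
  exact h2

theorem aeval_eq_zero_on_cyc (p : F[X]) (v : V) (hpv : aeval g p v = 0) (x : V)
    (hx : x ∈ cyc g v) : aeval g p x = 0 := by
  obtain ⟨h, rfl⟩ := hx
  rw [ev_apply]
  have h1 : aeval g p (aeval g h v) = aeval g h (aeval g p v) := by
    rw [← Module.End.mul_apply, ← Module.End.mul_apply, ← map_mul, ← map_mul, mul_comm]
  rw [h1, hpv, map_zero]

/-- A degenerate cyclic irreducible submodule is totally isotropic. -/
theorem isotropic_of_degenerate {N : ℕ} (halt : B.IsAlt) (hinv : Inv B g) (hN0 : 0 < N)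
    (hN : g ^ N = 1) (p : F[X]) (hp : Irreducible p) (v : V) (hpv : aeval g p v = 0)
    (hdeg : ¬ NondegOn B (cyc g v)) : Isotropic B (cyc g v) := by
  unfold NondegOn at hdeg
  push Not at hdeg
  obtain ⟨x, hx, hxy, hx0⟩ := hdeg
  -- the radical
  let R : Submodule F V := cyc g v ⊓ B.orthogonal (cyc g v)
  have hRinv : ∀ y ∈ R, g y ∈ R := by
    intro y hy
    exact Submodule.mem_inf.2 ⟨cyc_invt g v y (Submodule.mem_inf.1 hy).1,
      perp_invt hinv hN0 hN _ (cyc_invt g v) y (Submodule.mem_inf.1 hy).2⟩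
  have hxR : x ∈ R := by
    refine Submodule.mem_inf.2 ⟨hx, ?_⟩
    rw [BilinForm.mem_orthogonal_iff]
    intro y hy
    rw [alt_swap halt, hxy y hy, neg_zero]
  have hvR : v ∈ R := by
    have h1 := mem_cyc_of_ne_zero p hp v hpv x hx hx0
    exact cyc_le x R hRinv hxR h1
  have hle : cyc g v ≤ R := cyc_le v R hRinv hvR
  intro a ha b hb
  have := (Submodule.mem_inf.1 (hle hb)).2
  rw [BilinForm.mem_orthogonal_iff] at this
  exact this a ha

end cyclic




section t2
variable {F : Type*} [Field F] {V : Type*} [AddCommGroup V] [Module F V]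
variable {B : BilinForm F V} {g : Module.End F V} {N : ℕ}

theorem isSemisimple_of_pow_eq_one (hNF : (N : F) ≠ 0) (hN : g ^ N = 1) : g.IsSemisimple := by
  have hsq : Squarefree (X ^ N - C (1 : F)) :=
    (separable_X_pow_sub_C (1 : F) hNF one_ne_zero).squarefree
  apply Module.End.isSemisimple_of_squarefree_aeval_eq_zero hsq
  rw [map_sub, map_pow, aeval_X, aeval_C, hN, map_one, sub_self]

theorem aeval_mem_of_invt (U : Submodule F V) (hU : ∀ x ∈ U, g x ∈ U) (h : F[X]) :
    ∀ x ∈ U, aeval g h x ∈ U := by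
  intro x hx
  induction h using Polynomial.induction_on' with
  | add p q hp hq =>
    rw [map_add, LinearMap.add_apply]
    exact U.add_mem hp hq
  | monomial n a =>
    rw [aeval_monomial, Module.End.mul_apply, Module.algebraMap_end_apply]
    apply U.smul_mem
    induction n with
    | zero => simpa using hx
    | succ n ih => rw [pow_succ', Module.End.mul_apply]; exact hU _ ih

/-- `(sig p)(g) V` is orthogonal to the kernel of `p(g)`. -/
theorem ortho_sig (hinv : Inv B g) (hN0 : 0 < N) (hN : g ^ N = 1) (p : F[X]) (x : V)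
    (hx : aeval g p x = 0) (v : V) : B x (aeval g (sig N p) v) = 0 := by
  rw [← adj_poly hinv hN0 hN, hx]
  simp

end t2



section sup
variable {F : Type*} [Field F] {V : Type*} [AddCommGroup V] [Module F V]

/-- The sum map `W × U → W ⊔ U`. -/
noncomputable def supMap (W U : Submodule F V) : (W × U) →ₗ[F] ↥(W ⊔ U) :=
  (W.subtype.coprod U.subtype).codRestrict (W ⊔ U) (fun x => by
    rw [LinearMap.coprod_apply]
    exact add_mem (Submodule.mem_sup_left x.1.2) (Submodule.mem_sup_right x.2.2))

theorem supMap_apply (W U : Submodule F V) (x : W × U) :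
    (supMap W U x : V) = (x.1 : V) + (x.2 : V) := by
  simp [supMap]

theorem supMap_bijective (W U : Submodule F V) (hd : Disjoint W U) :
    Function.Bijective (supMap W U) := by
  constructor
  · rw [← LinearMap.ker_eq_bot, LinearMap.ker_eq_bot']
    rintro ⟨a, b⟩ hab
    have h1 := congrArg Subtype.val hab
    rw [supMap_apply] at h1
    simp only [ZeroMemClass.coe_zero] at h1
    have h2 : (a : V) = -(b : V) := eq_neg_of_add_eq_zero_left h1
    have h3 : (a : V) ∈ W ⊓ U := Submodule.mem_inf.2 ⟨a.2, by rw [h2]; exact U.neg_mem b.2⟩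
    rw [hd.eq_bot, Submodule.mem_bot] at h3
    have h4 : (b : V) = 0 := by rw [h3, zero_add] at h1; exact h1
    exact Prod.ext (Subtype.ext h3) (Subtype.ext h4)
  · rintro ⟨x, hx⟩
    obtain ⟨a, ha, b, hb, rfl⟩ := Submodule.mem_sup.1 hx
    exact ⟨(⟨a, ha⟩, ⟨b, hb⟩), Subtype.ext (by rw [supMap_apply])⟩

/-- `W × U ≃ W ⊔ U` for disjoint subspaces. -/
noncomputable def supEquiv (W U : Submodule F V) (hd : Disjoint W U) : (W × U) ≃ₗ[F] ↥(W ⊔ U) :=
  LinearEquiv.ofBijective (supMap W U) (supMap_bijective W U hd)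

theorem supEquiv_apply (W U : Submodule F V) (hd : Disjoint W U) (x : W × U) :
    (supEquiv W U hd x : V) = (x.1 : V) + (x.2 : V) := by
  simp [supEquiv, supMap_apply]

end sup



section pairing
variable {F : Type*} [Field F] {V V' : Type*} [AddCommGroup V] [Module F V] [AddCommGroup V']
  [Module F V']

/-- The pairing map `U → W*`, `u ↦ B(·, u)`. -/
noncomputable def pairMap (B : BilinForm F V) (W U : Submodule F V) : U →ₗ[F] Module.Dual F W :=
  (LinearMap.flip B).domRestrict₁₂ U W

theorem pairMap_apply (B : BilinForm F V) (W U : Submodule F V) (u : U) (x : W) :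
    pairMap B W U u x = B x u := by
  rw [pairMap, LinearMap.domRestrict₁₂_apply, LinearMap.flip_apply]

theorem pairMap_injective (B : BilinForm F V) (W U : Submodule F V)
    (hWU : ∀ u ∈ U, (∀ x ∈ W, B x u = 0) → u = 0) : Function.Injective (pairMap B W U) := by
  rw [← LinearMap.ker_eq_bot, LinearMap.ker_eq_bot']
  intro u hu
  apply Subtype.ext
  apply hWU u.1 u.2
  intro x hx
  have := congrArg (fun f : Module.Dual F W => f ⟨x, hx⟩) hu
  simpa [pairMap_apply] using this

/-- The pairing equivalence `U ≃ W*`. -/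
noncomputable def pairEquiv [FiniteDimensional F V] (B : BilinForm F V) (W U : Submodule F V)
    (hWU : ∀ u ∈ U, (∀ x ∈ W, B x u = 0) → u = 0)
    (hdim : Module.finrank F U = Module.finrank F W) : U ≃ₗ[F] Module.Dual F W :=
  LinearMap.linearEquivOfInjective (pairMap B W U) (pairMap_injective B W U hWU)
    (by rw [hdim, Subspace.dual_finrank_eq])

theorem pairEquiv_apply [FiniteDimensional F V] (B : BilinForm F V) (W U : Submodule F V)
    (hWU : ∀ u ∈ U, (∀ x ∈ W, B x u = 0) → u = 0)
    (hdim : Module.finrank F U = Module.finrank F W) (u : U) (x : W) :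
    pairEquiv B W U hWU hdim u x = B x u := by
  simp [pairEquiv, pairMap_apply]

theorem exists_dual_equiv [FiniteDimensional F V] [FiniteDimensional F V'] (B : BilinForm F V)
    (B' : BilinForm F V') (W U : Submodule F V) (W' U' : Submodule F V')
    (hWU : ∀ u ∈ U, (∀ x ∈ W, B x u = 0) → u = 0)
    (hdim : Module.finrank F U = Module.finrank F W)
    (hWU' : ∀ u ∈ U', (∀ x ∈ W', B' x u = 0) → u = 0)
    (hdim' : Module.finrank F U' = Module.finrank F W') (ψ₀ : W ≃ₗ[F] W') :
    ∃ φU : U ≃ₗ[F] U', ∀ (x : W) (u : U), B' (ψ₀ x) (φU u) = B x u := by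
  refine ⟨pairEquiv B W U hWU hdim ≪≫ₗ ψ₀.symm.dualMap ≪≫ₗ (pairEquiv B' W' U' hWU' hdim').symm,
    ?_⟩
  intro x u
  rw [← pairEquiv_apply B' W' U' hWU' hdim']
  simp only [LinearEquiv.trans_apply, LinearEquiv.apply_symm_apply, LinearEquiv.dualMap_apply,
    LinearEquiv.symm_apply_apply, pairEquiv_apply]

end pairing


end Cfsg.Agent.Lib.Helper40.Symp
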