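import Cfsg.Agent.Lib.Helper40.SympDich
set_option autoImplicit false
open Polynomial
open LinearMap (BilinForm)

namespace Cfsg.Agent.Lib.Helper40.Symp

open Cfsg.Agent.Lib.Helper40.SemisimpleConj



section step
variable {F : Type*} [Field F] {V : Type*} [AddCommGroup V] [Module F V]
variable {B : BilinForm F V} {g : Module.End F V} {N : ℕ}

theorem isotropic_of_not_dvd (hinv : Inv B g) (hN0 : 0 < N) (hN : g ^ N = 1) (p : F[X])
    (hp : Irreducible p) (hnps : ¬ p ∣ sig N p) (U : Submodule F V)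
    (hUs : ∀ u ∈ U, aeval g (sig N p) u = 0) : Isotropic B U := by
  have hc : IsCoprime p (sig N p) := (Irreducible.coprime_iff_not_dvd hp).2 hnps
  obtain ⟨a, b, hab⟩ := hc
  intro x hx y hy
  have h1 : aeval g (a * p + b * sig N p) x = x := by rw [hab]; simp
  rw [map_add, LinearMap.add_apply, aeval_mul_apply g b, hUs x hx, map_zero, add_zero,
    mul_comm, aeval_mul_apply] at h1
  rw [← h1, adj_poly hinv hN0 hN, hUs y hy, map_zero]

theorem isotropic_of_dvd_sq [FiniteDimensional F V] (halt : B.IsAlt) (p : F[X])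
    (hp : Irreducible p) (hp2 : p ∣ X ^ 2 - 1) (w : V) (hw0 : w ≠ 0) (hpw : aeval g p w = 0)
    (U : Submodule F V) (hdim : Module.finrank F U = Module.finrank F (cyc g w)) :
    Isotropic B U := by
  have h3 : (X ^ 2 - 1 : F[X]) = (X - 1) * (X + 1) := by ring
  rw [h3] at hp2
  have hε : ∃ ε : F, g w = ε • w := by
    rcases hp.prime.dvd_or_dvd hp2 with h | h
    · refine ⟨1, ?_⟩
      have := aeval_eq_zero_of_dvd g p _ h w hpw
      rw [map_sub, aeval_X, map_one, LinearMap.sub_apply, Module.End.one_apply, sub_eq_zero] at this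
      rw [this, one_smul]
    · refine ⟨-1, ?_⟩
      have := aeval_eq_zero_of_dvd g p _ h w hpw
      rw [map_add, aeval_X, map_one, LinearMap.add_apply, Module.End.one_apply] at this
      rw [neg_smul, one_smul]
      exact eq_neg_of_add_eq_zero_left this
  obtain ⟨ε, hε⟩ := hε
  have hW : cyc g w = Submodule.span F {w} := by
    apply le_antisymm
    · apply cyc_le w _ _ (Submodule.mem_span_singleton_self w)
      intro x hx
      obtain ⟨a, rfl⟩ := Submodule.mem_span_singleton.1 hx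
      rw [map_smul, hε, smul_smul]
      exact Submodule.smul_mem _ _ (Submodule.mem_span_singleton_self w)
    · rw [Submodule.span_singleton_le_iff_mem]
      exact self_mem_cyc w
  rw [hW, finrank_span_singleton hw0] at hdim
  obtain ⟨u₀, -, hu₀⟩ := finrank_eq_one_iff'.1 hdim
  intro x hx y hy
  obtain ⟨c, hc⟩ := hu₀ ⟨x, hx⟩
  obtain ⟨d, hd⟩ := hu₀ ⟨y, hy⟩
  have hc' : x = c • (u₀ : V) := by
    have := congrArg Subtype.val hc
    simpa using this.symm
  have hd' : y = d • (u₀ : V) := by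
    have := congrArg Subtype.val hd
    simpa using this.symm
  rw [hc', hd', map_smul, map_smul, LinearMap.smul_apply, halt]
  simp

end step




section step
variable {F : Type*} [Field F] {V V' : Type*} [AddCommGroup V] [Module F V] [AddCommGroup V']
  [Module F V']

/-- In case (B), a hyperbolic piece. -/
theorem exists_typeII [FiniteDimensional F V] {B : BilinForm F V} {g : Module.End F V} {N : ℕ}
    (halt : B.IsAlt) (hnd : B.Nondegenerate) (hinv : Inv B g) (hN0 : 0 < N) (hN : g ^ N = 1)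
    (hNF : (N : F) ≠ 0) (p : F[X]) (hp : Irreducible p)
    (hB : ¬ (p ∣ sig N p ∧ ¬ p ∣ X ^ 2 - 1)) (w : V) (hw0 : w ≠ 0) (hpw : aeval g p w = 0) :
    ∃ U : Submodule F V, (∀ u ∈ U, g u ∈ U) ∧ Isotropic B (cyc g w) ∧ Isotropic B U ∧
      (∀ u ∈ U, (∀ x ∈ cyc g w, B x u = 0) → u = 0) ∧
      Module.finrank F U = Module.finrank F (cyc g w) ∧ Disjoint (cyc g w) U ∧
      NondegOn B (cyc g w ⊔ U) := by
  have hWi : Isotropic B (cyc g w) := by
    by_cases hnd' : NondegOn B (cyc g w)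
    · exact absurd (caseA_of_nondeg halt hinv hN0 hN p hp w hw0 hpw hnd') hB
    · exact isotropic_of_degenerate halt hinv hN0 hN p hp w hpw hnd'
  obtain ⟨U, hU, hc, hUs⟩ := exists_dual_compl (B := B) hinv hN0 hN hNF p w hpw
  obtain ⟨h1, h2, h3, h4⟩ := pairing_props halt hnd hWi hc
  refine ⟨U, hU, hWi, ?_, h1, h2, h3, h4⟩
  by_cases hps : p ∣ sig N p
  · have hp2 : p ∣ X ^ 2 - 1 := by
      by_contra h
      exact hB ⟨hps, h⟩
    exact isotropic_of_dvd_sq halt p hp hp2 w hw0 hpw U h2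
  · exact isotropic_of_not_dvd hinv hN0 hN p hp hps U hUs

theorem sup_invt {g : Module.End F V} (W U : Submodule F V) (hW : ∀ x ∈ W, g x ∈ W)
    (hU : ∀ x ∈ U, g x ∈ U) : ∀ x ∈ W ⊔ U, g x ∈ W ⊔ U := by
  intro x hx
  obtain ⟨a, ha, b, hb, rfl⟩ := Submodule.mem_sup.1 hx
  rw [map_add]
  exact Submodule.add_mem _ (Submodule.mem_sup_left (hW a ha)) (Submodule.mem_sup_right (hU b hb))

/-- The inductive step: matching nondegenerate invariant pieces. -/
theorem exists_piece [Fintype F] [FiniteDimensional F V] [FiniteDimensional F V']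
    {B : BilinForm F V} {B' : BilinForm F V'} {g : Module.End F V} {g' : Module.End F V'} {N : ℕ}
    (halt : B.IsAlt) (halt' : B'.IsAlt) (hnd : B.Nondegenerate) (hnd' : B'.Nondegenerate)
    (hinv : Inv B g) (hinv' : Inv B' g') (hN0 : 0 < N) (hN : g ^ N = 1) (hN' : g' ^ N = 1)
    (hNF : (N : F) ≠ 0) (hcp : g.charpoly = g'.charpoly) (hpos : 0 < Module.finrank F V) :
    ∃ (P : Submodule F V) (P' : Submodule F V'), P ≠ ⊥ ∧ (∀ x ∈ P, g x ∈ P) ∧
      (∀ x ∈ P', g' x ∈ P') ∧ NondegOn B P ∧ NondegOn B' P' ∧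
      ∃ ψ : P ≃ₗ[F] P', (∀ (x : P) (hx : g x ∈ P), (ψ ⟨g x, hx⟩ : V') = g' (ψ x)) ∧
        ∀ x y : P, B' (ψ x) (ψ y) = B x y := by
  have hnu : ¬ IsUnit g.charpoly := by
    intro hu
    have := Polynomial.natDegree_eq_zero_of_isUnit hu
    rw [LinearMap.charpoly_natDegree] at this
    omega
  obtain ⟨p, hpm, hp, hpd⟩ := Polynomial.exists_monic_irreducible_factor _ hnu
  obtain ⟨w, hw0, hpw⟩ := exists_ne_zero_aeval_eq_zero g p hp hpd
  obtain ⟨w', hw0', hpw'⟩ := exists_ne_zero_aeval_eq_zero g' p hp (hcp ▸ hpd)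
  by_cases hA : p ∣ sig N p ∧ ¬ p ∣ X ^ 2 - 1
  · obtain ⟨v, hv0, hpv, hndv⟩ :=
      exists_nondeg_cyc halt hnd hinv hN0 hN hNF p hp hA.1 hA.2 w hw0 hpw
    obtain ⟨v', hv0', hpv', hndv'⟩ :=
      exists_nondeg_cyc halt' hnd' hinv' hN0 hN' hNF p hp hA.1 hA.2 w' hw0' hpw'
    obtain ⟨ψ, hψ1, hψ2⟩ := typeI_iso B B' g g' halt halt' hinv hinv' hN0 hN hN' p hp v v' hv0 hv0'
      hpv hpv' hA.1 hA.2 hndv hndv'
    refine ⟨cyc g v, cyc g' v', ?_, cyc_invt g v, cyc_invt g' v', hndv, hndv', ψ, hψ1, hψ2⟩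
    intro hbot
    have := self_mem_cyc (g := g) v
    rw [hbot, Submodule.mem_bot] at this
    exact hv0 this
  · obtain ⟨U, hU, hWi, hUi, hWU, hdim, hd, hndP⟩ :=
      exists_typeII halt hnd hinv hN0 hN hNF p hp hA w hw0 hpw
    obtain ⟨U', hU', hWi', hUi', hWU', hdim', hd', hndP'⟩ :=
      exists_typeII halt' hnd' hinv' hN0 hN' hNF p hp hA w' hw0' hpw'
    have hk : LinearMap.ker (ev g w) = LinearMap.ker (ev g' w') := by
      ext h
      rw [mem_ker_ev_iff g w p hp hw0 hpw, mem_ker_ev_iff g' w' p hp hw0' hpw']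
    obtain ⟨ψ, hψ1, hψ2⟩ := typeII_iso B B' g g' halt halt' hinv hinv' hN0 hN hN' w w' hk U U' hU
      hU' hWi hUi hWi' hUi' hWU hdim hWU' hdim' hd hd'
    refine ⟨cyc g w ⊔ U, cyc g' w' ⊔ U', ?_, sup_invt _ _ (cyc_invt g w) hU,
      sup_invt _ _ (cyc_invt g' w') hU', hndP, hndP', ψ, hψ1, hψ2⟩
    intro hbot
    have : w ∈ cyc g w ⊔ U := Submodule.mem_sup_left (self_mem_cyc (g := g) w)
    rw [hbot, Submodule.mem_bot] at this
    exact hw0 this

end step


end Cfsg.Agent.Lib.Helper40.Symp
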