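import Cfsg.Agent.Lib.Helper40.HermTypeI
import Cfsg.Agent.Lib.Helper40.SympStep
set_option autoImplicit false
open Polynomial

namespace Cfsg.Agent.Lib.Helper40.Herm

open Cfsg.Agent.Lib.Helper40 Cfsg.Agent.Lib.Helper40.SemisimpleConj

section dich
variable {F : Type*} [Field F] {τ : F →+* F} {V : Type*} [AddCommGroup V] [Module F V]
variable {H : V →ₗ[F] V →ₛₗ[τ] F} {g : Module.End F V} {N : ℕ}

/-- An invariant complement of `W^⊥`, killed by `(hsig p)(g)`. -/
theorem hexists_dual_compl [FiniteDimensional F V] (hτ : ∀ a, τ (τ a) = a) (hH : IsHermitian H)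
    (hinv : HInv H g) (hN0 : 0 < N)
    (hN : g ^ N = 1) (hNF : (N : F) ≠ 0) (p : F[X]) (w : V) (hpw : aeval g p w = 0) :
    ∃ U : Submodule F V, (∀ u ∈ U, g u ∈ U) ∧ IsCompl U (hperp H (cyc g w)) ∧
      ∀ u ∈ U, aeval g (hsig τ N p) u = 0 := by
  have hs := Symp.isSemisimple_of_pow_eq_one (g := g) hNF hN
  have hperp' : ∀ x ∈ hperp H (cyc g w), g x ∈ hperp H (cyc g w) :=
    hperp_invt hinv hN0 hN _ (cyc_invt g w)
  obtain ⟨U, hUi, hc⟩ := Module.End.isSemisimple_iff.1 hs (hperp H (cyc g w))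
    ((Module.End.mem_invtSubmodule g).2 (fun x hx => hperp' x hx))
  have hU : ∀ u ∈ U, g u ∈ U := fun u hu => (Module.End.mem_invtSubmodule g).1 hUi hu
  refine ⟨U, hU, hc.symm, ?_⟩
  intro u hu
  have h1 : aeval g (hsig τ N p) u ∈ U := Symp.aeval_mem_of_invt U hU _ u hu
  have h2 : aeval g (hsig τ N p) u ∈ hperp H (cyc g w) := by
    rw [mem_hperp' hH]
    intro x hx
    exact hortho_sig hτ hinv hN0 hN p x (Symp.aeval_eq_zero_on_cyc p w hpw x hx) u
  have h3 : aeval g (hsig τ N p) u ∈ U ⊓ hperp H (cyc g w) := Submodule.mem_inf.2 ⟨h1, h2⟩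
  rw [hc.symm.inf_eq_bot, Submodule.mem_bot] at h3
  exact h3

theorem hisotropic_le_perp {W : Submodule F V} (hW : HIsotropic H W) : W ≤ hperp H W := by
  intro x hx y hy
  exact hW x hx y hy

theorem hpairing_props (hH : IsHermitian H) (hnd : HNondeg H)
    {W U : Submodule F V} (hW : HIsotropic H W) (hc : IsCompl U (hperp H W)) :
    (∀ u ∈ U, (∀ x ∈ W, H u x = 0) → u = 0) ∧ (∀ x ∈ W, (∀ u ∈ U, H u x = 0) → x = 0) ∧
      Disjoint W U ∧ HNondegOn H (W ⊔ U) := by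
  have h1 : ∀ u ∈ U, (∀ x ∈ W, H u x = 0) → u = 0 := by
    intro u hu hx
    have h3 : u ∈ U ⊓ hperp H W := Submodule.mem_inf.2 ⟨hu, hx⟩
    rw [hc.inf_eq_bot, Submodule.mem_bot] at h3
    exact h3
  have h2 : ∀ x ∈ W, (∀ u ∈ U, H u x = 0) → x = 0 := by
    intro x hx hu
    apply hnd x
    intro z
    apply herm_swap hH
    obtain ⟨u, hu', c, hc', rfl⟩ := Submodule.mem_sup.1
      (show z ∈ U ⊔ hperp H W by rw [hc.sup_eq_top]; trivial)
    rw [map_add, LinearMap.add_apply, hu u hu', zero_add]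
    exact hc' x hx
  have h3 : Disjoint W U := by
    rw [disjoint_comm]
    exact hc.disjoint.mono_right (hisotropic_le_perp hW)
  refine ⟨h1, h2, h3, ?_⟩
  intro x hx hxy
  obtain ⟨a, ha, b, hb, rfl⟩ := Submodule.mem_sup.1 hx
  have hb0 : b = 0 := by
    apply h1 b hb
    intro y hy
    have := hxy y (Submodule.mem_sup_left hy)
    rw [map_add, LinearMap.add_apply, hW a ha y hy, zero_add] at this
    exact this
  subst hb0
  rw [add_zero] at hxy ⊢
  apply h2 a ha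
  intro u hu
  exact herm_swap hH (hxy u (Submodule.mem_sup_right hu))

/-- If `p ∣ hsig p`, the kernel of `(hsig p)(g)` is contained in the kernel of `p(g)`. -/
theorem aeval_eq_zero_of_hsig (hτ : ∀ a, τ (τ a) = a) (hN0 : 0 < N) (hN : g ^ N = 1) (p : F[X])
    (hps : p ∣ hsig τ N p) (u : V) (hu : aeval g (hsig τ N p) u = 0) : aeval g p u = 0 := by
  obtain ⟨s, hs⟩ := hps
  have h1 : hsig τ N (hsig τ N p) = hsig τ N p * hsig τ N s := by rw [← hsig_mul, ← hs]
  have h2 : aeval g (hsig τ N (hsig τ N p)) u = 0 := by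
    rw [h1, mul_comm, Symp.aeval_mul_apply, hu, map_zero]
  rw [aeval_hsig_hsig hτ hN0 hN] at h2
  exact h2

/-- A nondegenerate cyclic irreducible piece forces `p` to be self-conjugate-reciprocal. -/
theorem hcaseA_of_nondeg (hτ : ∀ a, τ (τ a) = a) (hH : IsHermitian H) (hinv : HInv H g)
    (hN0 : 0 < N) (hN : g ^ N = 1)
    (p : F[X]) (hp : Irreducible p) (v : V) (hv0 : v ≠ 0) (hpv : aeval g p v = 0)
    (hnd : HNondegOn H (cyc g v)) : p ∣ hsig τ N p := by
  rw [← mem_ker_ev_iff g v p hp hv0 hpv, LinearMap.mem_ker, ev_apply]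
  apply hnd _ (Symp.aeval_mem_cyc v _)
  intro y hy
  apply herm_swap hH
  exact hortho_sig hτ hinv hN0 hN p y (Symp.aeval_eq_zero_on_cyc p v hpv y hy) v

/-- Under case (A) there is a nondegenerate cyclic piece. -/
theorem hexists_nondeg_cyc [FiniteDimensional F V] (hτ : ∀ a, τ (τ a) = a)
    (hτ1 : τ ≠ RingHom.id F) (hH : IsHermitian H) (hnd : HNondeg H)
    (hinv : HInv H g) (hN0 : 0 < N) (hN : g ^ N = 1) (hNF : (N : F) ≠ 0) (p : F[X])
    (hp : Irreducible p) (hps : p ∣ hsig τ N p) (w : V) (hw0 : w ≠ 0)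
    (hpw : aeval g p w = 0) :
    ∃ v : V, v ≠ 0 ∧ aeval g p v = 0 ∧ HNondegOn H (cyc g v) := by
  by_contra hcon
  push Not at hcon
  have hall : ∀ v : V, aeval g p v = 0 → H v v = 0 := by
    intro v hv
    by_cases hv0 : v = 0
    · rw [hv0]; simp
    · have := hisotropic_of_degenerate hinv hN0 hN p hp v hv (hcon v hv0 hv)
      exact this v (Symp.self_mem_cyc v) v (Symp.self_mem_cyc v)
  obtain ⟨c, hc⟩ : ∃ c : F, τ c ≠ c := by
    by_contra h
    push Not at h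
    exact hτ1 (RingHom.ext h)
  have hiso : ∀ x y : V, aeval g p x = 0 → aeval g p y = 0 → H x y = 0 := by
    intro x y hx hy
    have e1 := hall (x + y) (by rw [map_add, hx, hy, add_zero])
    have x1 : H (x + y) (x + y) = H x x + H x y + H y x + H y y := by
      simp only [map_add, LinearMap.add_apply]; ring
    rw [x1, hall x hx, hall y hy] at e1
    have e2 := hall (c • x + y) (by rw [map_add, map_smul, hx, hy, smul_zero, add_zero])
    have x2 : H (c • x + y) (c • x + y) =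
        c * τ c * H x x + c * H x y + τ c * H y x + H y y := by
      simp only [map_add, LinearMap.add_apply, map_smul, LinearMap.smul_apply, map_smulₛₗ,
        smul_eq_mul]
      ring
    rw [x2, hall x hx, hall y hy] at e2
    have e3 : (τ c - c) * H y x = 0 := by
      linear_combination e2 - c * e1
    rcases mul_eq_zero.1 e3 with h | h
    · exact absurd (sub_eq_zero.1 h) hc
    · exact herm_swap hH h
  have hWi : HIsotropic H (cyc g w) := by
    intro x hx y hy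
    exact hiso x y (Symp.aeval_eq_zero_on_cyc p w hpw x hx)
      (Symp.aeval_eq_zero_on_cyc p w hpw y hy)
  obtain ⟨U, hU, hc', hUs⟩ := hexists_dual_compl (H := H) hτ hH hinv hN0 hN hNF p w hpw
  obtain ⟨-, h2, -, -⟩ := hpairing_props hH hnd hWi hc'
  apply hw0
  apply h2 w (Symp.self_mem_cyc w)
  intro u hu
  exact hiso u w (aeval_eq_zero_of_hsig hτ hN0 hN p hps u (hUs u hu)) hpw

theorem hisotropic_of_not_dvd (hτ : ∀ a, τ (τ a) = a) (hinv : HInv H g) (hN0 : 0 < N)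
    (hN : g ^ N = 1) (p : F[X])
    (hp : Irreducible p) (hnps : ¬ p ∣ hsig τ N p) (U : Submodule F V)
    (hUs : ∀ u ∈ U, aeval g (hsig τ N p) u = 0) : HIsotropic H U := by
  have hc : IsCoprime p (hsig τ N p) := (Irreducible.coprime_iff_not_dvd hp).2 hnps
  obtain ⟨a, b, hab⟩ := hc
  intro x hx y hy
  have h1 : aeval g (a * p + b * hsig τ N p) x = x := by rw [hab]; simp
  rw [map_add, LinearMap.add_apply, Symp.aeval_mul_apply g b, hUs x hx, map_zero, add_zero,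
    mul_comm, Symp.aeval_mul_apply] at h1
  rw [← h1, hadj_poly hτ hinv hN0 hN, hUs y hy, map_zero]

end dich

section step
variable {F : Type*} [Field F] {τ : F →+* F} {V V' : Type*} [AddCommGroup V] [Module F V]
  [AddCommGroup V'] [Module F V']

/-- In case (B), a hyperbolic piece. -/
theorem hexists_typeII [FiniteDimensional F V] {H : V →ₗ[F] V →ₛₗ[τ] F} {g : Module.End F V}
    {N : ℕ} (hτ : ∀ a, τ (τ a) = a) (hH : IsHermitian H) (hnd : HNondeg H) (hinv : HInv H g)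
    (hN0 : 0 < N) (hN : g ^ N = 1)
    (hNF : (N : F) ≠ 0) (p : F[X]) (hp : Irreducible p)
    (hB : ¬ p ∣ hsig τ N p) (w : V) (hw0 : w ≠ 0) (hpw : aeval g p w = 0) :
    ∃ U : Submodule F V, (∀ u ∈ U, g u ∈ U) ∧ HIsotropic H (cyc g w) ∧ HIsotropic H U ∧
      (∀ u ∈ U, (∀ x ∈ cyc g w, H u x = 0) → u = 0) ∧
      (∀ x ∈ cyc g w, (∀ u ∈ U, H u x = 0) → x = 0) ∧ Disjoint (cyc g w) U ∧
      HNondegOn H (cyc g w ⊔ U) := by
  have hWi : HIsotropic H (cyc g w) := by
    by_cases hnd' : HNondegOn H (cyc g w)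
    · exact absurd (hcaseA_of_nondeg hτ hH hinv hN0 hN p hp w hw0 hpw hnd') hB
    · exact hisotropic_of_degenerate hinv hN0 hN p hp w hpw hnd'
  obtain ⟨U, hU, hc, hUs⟩ := hexists_dual_compl (H := H) hτ hH hinv hN0 hN hNF p w hpw
  obtain ⟨h1, h2, h3, h4⟩ := hpairing_props hH hnd hWi hc
  exact ⟨U, hU, hWi, hisotropic_of_not_dvd hτ hinv hN0 hN p hp hB U hUs, h1, h2, h3, h4⟩

/-- The inductive step: matching nondegenerate invariant pieces. -/
theorem hexists_piece [Fintype F] [FiniteDimensional F V] [FiniteDimensional F V']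
    {H : V →ₗ[F] V →ₛₗ[τ] F} {H' : V' →ₗ[F] V' →ₛₗ[τ] F} {g : Module.End F V}
    {g' : Module.End F V'} {N : ℕ} (hτ : ∀ a, τ (τ a) = a) (hτ1 : τ ≠ RingHom.id F)
    (hH : IsHermitian H) (hH' : IsHermitian H') (hnd : HNondeg H) (hnd' : HNondeg H')
    (hinv : HInv H g) (hinv' : HInv H' g') (hN0 : 0 < N) (hN : g ^ N = 1) (hN' : g' ^ N = 1)
    (hNF : (N : F) ≠ 0) (hcp : g.charpoly = g'.charpoly) (hpos : 0 < Module.finrank F V) :
    ∃ (P : Submodule F V) (P' : Submodule F V'), P ≠ ⊥ ∧ (∀ x ∈ P, g x ∈ P) ∧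
      (∀ x ∈ P', g' x ∈ P') ∧ HNondegOn H P ∧ HNondegOn H' P' ∧
      ∃ ψ : P ≃ₗ[F] P', (∀ (x : P) (hx : g x ∈ P), (ψ ⟨g x, hx⟩ : V') = g' (ψ x)) ∧
        ∀ x y : P, H' (ψ x) (ψ y) = H x y := by
  have hnu : ¬ IsUnit g.charpoly := by
    intro hu
    have := Polynomial.natDegree_eq_zero_of_isUnit hu
    rw [LinearMap.charpoly_natDegree] at this
    omega
  obtain ⟨p, hpm, hp, hpd⟩ := Polynomial.exists_monic_irreducible_factor _ hnu
  obtain ⟨w, hw0, hpw⟩ := exists_ne_zero_aeval_eq_zero g p hp hpd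
  obtain ⟨w', hw0', hpw'⟩ := exists_ne_zero_aeval_eq_zero g' p hp (hcp ▸ hpd)
  by_cases hA : p ∣ hsig τ N p
  · obtain ⟨v, hv0, hpv, hndv⟩ :=
      hexists_nondeg_cyc hτ hτ1 hH hnd hinv hN0 hN hNF p hp hA w hw0 hpw
    obtain ⟨v', hv0', hpv', hndv'⟩ :=
      hexists_nondeg_cyc hτ hτ1 hH' hnd' hinv' hN0 hN' hNF p hp hA w' hw0' hpw'
    obtain ⟨ψ, hψ1, hψ2⟩ := htypeI_iso hτ hτ1 H H' g g' hH hH' hinv hinv' hN0 hN hN' p hp v v'
      hv0 hv0' hpv hpv' hA hndv hndv'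
    refine ⟨cyc g v, cyc g' v', ?_, cyc_invt g v, cyc_invt g' v', hndv, hndv', ψ, hψ1, hψ2⟩
    intro hbot
    have := Symp.self_mem_cyc (g := g) v
    rw [hbot, Submodule.mem_bot] at this
    exact hv0 this
  · obtain ⟨U, hU, hWi, hUi, h1, h2, hd, hndP⟩ :=
      hexists_typeII hτ hH hnd hinv hN0 hN hNF p hp hA w hw0 hpw
    obtain ⟨U', hU', hWi', hUi', h1', h2', hd', hndP'⟩ :=
      hexists_typeII hτ hH' hnd' hinv' hN0 hN' hNF p hp hA w' hw0' hpw'
    have hk : LinearMap.ker (ev g w) = LinearMap.ker (ev g' w') := by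
      ext h
      rw [mem_ker_ev_iff g w p hp hw0 hpw, mem_ker_ev_iff g' w' p hp hw0' hpw']
    obtain ⟨ψ, hψ1, hψ2⟩ := htypeII_iso H H' g g' hH hH' hinv hinv' hN0 hN hN' w w' hk U U' hU
      hU' hWi hUi hWi' hUi' h1 h2 h1' h2' hd hd'
    refine ⟨cyc g w ⊔ U, cyc g' w' ⊔ U', ?_, Symp.sup_invt _ _ (cyc_invt g w) hU,
      Symp.sup_invt _ _ (cyc_invt g' w') hU', hndP, hndP', ψ, hψ1, hψ2⟩
    intro hbot
    have : w ∈ cyc g w ⊔ U := Submodule.mem_sup_left (Symp.self_mem_cyc (g := g) w)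
    rw [hbot, Submodule.mem_bot] at this
    exact hw0 this

end step

end Cfsg.Agent.Lib.Helper40.Herm
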