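import Mathlib
import Cfsg.Agent.Lib.Helper38.RhDefs

/-! # Rh hive (helper38), leaf RH-T1: `C(y) = T` for `1 ≠ y ∈ T`; tori sharing a non-identity element are equal -/

set_option autoImplicit false

namespace Cfsg.Agent.Lib.Helper38.Rh

section abstract
variable {G : Type*} [Group G] [Finite G] {N : ℕ}

/-- elements of a cyclic subgroup commute -/
theorem t1_comm_of_cyclic {C : Subgroup G} (hC : IsCyclic ↥C) {a b : G} (ha : a ∈ C) (hb : b ∈ C) :
    a * b = b * a := by
  letI := IsCyclic.commGroup (α := ↥C)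
  have := mul_comm (⟨a, ha⟩ : ↥C) ⟨b, hb⟩
  exact congrArg Subtype.val this

theorem torus_cent_eq (h : TorusHyp G N) {T : Subgroup G} (hT : IsTorus N T) {y : G} (hy : y ∈ T) (hy1 : y ≠ 1) :
    Subgroup.centralizer ({y} : Set G) = T := by
  obtain ⟨x, p, hp, hpN, hox, rfl⟩ := hT
  obtain ⟨hcyc, hcard, -⟩ := h x p hp hpN hox
  have hxT : x ∈ Subgroup.centralizer ({x} : Set G) := Subgroup.mem_centralizer_singleton_iff.mpr rfl
  -- the order of `y` divides `N`
  have hoy : orderOf y ∣ N := by
    have h1 : orderOf y ∣ Nat.card ↥(Subgroup.centralizer ({x} : Set G)) := by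
      have := orderOf_dvd_natCard (⟨y, hy⟩ : ↥(Subgroup.centralizer ({x} : Set G)))
      rwa [Subgroup.orderOf_mk] at this
    exact dvd_trans h1 hcard
  have hoy1 : orderOf y ≠ 1 := by
    intro h1
    exact hy1 (orderOf_eq_one_iff.mp h1)
  obtain ⟨p', hp', hp'dvd⟩ := Nat.exists_prime_and_dvd hoy1
  set x' := y ^ (orderOf y / p') with hx'
  have hox' : orderOf x' = p' := by
    have hpos : 0 < orderOf y := orderOf_pos y
    exact orderOf_pow_orderOf_div hpos.ne' hp'dvd
  obtain ⟨hcyc', -, -⟩ := h x' p' hp' (dvd_trans hp'dvd hoy) hox'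
  -- `x` commutes with `y`
  have hyx : y * x = x * y := Subgroup.mem_centralizer_singleton_iff.mp hy
  have hxx' : x ∈ Subgroup.centralizer ({x'} : Set G) := by
    rw [Subgroup.mem_centralizer_singleton_iff]
    exact ((Commute.pow_right (show Commute x y from hyx.symm) _)).eq
  apply le_antisymm
  · intro z hz
    have hzy : z * y = y * z := Subgroup.mem_centralizer_singleton_iff.mp hz
    have hzx' : z ∈ Subgroup.centralizer ({x'} : Set G) := by
      rw [Subgroup.mem_centralizer_singleton_iff]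
      exact ((Commute.pow_right (show Commute z y from hzy) _)).eq
    rw [Subgroup.mem_centralizer_singleton_iff]
    exact t1_comm_of_cyclic hcyc' hzx' hxx'
  · intro z hz
    rw [Subgroup.mem_centralizer_singleton_iff]
    exact t1_comm_of_cyclic hcyc hz hy

theorem torus_eq_of_mem (h : TorusHyp G N) {T₁ T₂ : Subgroup G} (hT₁ : IsTorus N T₁) (hT₂ : IsTorus N T₂) {y : G}
    (h1 : y ∈ T₁) (h2 : y ∈ T₂) (hy1 : y ≠ 1) : T₁ = T₂ := by
  rw [← torus_cent_eq h hT₁ h1 hy1, torus_cent_eq h hT₂ h2 hy1]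

end abstract

end Cfsg.Agent.Lib.Helper38.Rh
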