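import Cfsg.Agent.Lib.Helper40.PrimeOrder
set_option autoImplicit false
open Polynomial

namespace Cfsg.Agent.Lib.Helper40.PG

open Cfsg.Agent.Lib.Helper40 Cfsg.Agent.Lib.Helper40.PrimeOrder

section blocks
variable {F : Type*} [Field F] {ι₁ ι₂ : Type*} [Fintype ι₁] [DecidableEq ι₁] [Fintype ι₂]
  [DecidableEq ι₂]

/-- block diagonal embedding as a monoid hom -/
def blockHom (F : Type*) [Field F] (ι₁ ι₂ : Type*) [Fintype ι₁] [DecidableEq ι₁] [Fintype ι₂]
    [DecidableEq ι₂] :
    Matrix ι₁ ι₁ F × Matrix ι₂ ι₂ F →* Matrix (ι₁ ⊕ ι₂) (ι₁ ⊕ ι₂) F where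
  toFun x := Matrix.fromBlocks x.1 0 0 x.2
  map_one' := Matrix.fromBlocks_one
  map_mul' x y := by
    simp [Matrix.fromBlocks_multiply]

theorem blockHom_injective : Function.Injective (blockHom F ι₁ ι₂) := by
  intro x y h
  have := Matrix.fromBlocks_inj.1 h
  exact Prod.ext this.1 this.2.2.2

theorem orderOf_fromBlocks (A₁ : Matrix ι₁ ι₁ F) (A₂ : Matrix ι₂ ι₂ F) :
    orderOf (Matrix.fromBlocks A₁ 0 0 A₂) = Nat.lcm (orderOf A₁) (orderOf A₂) := by
  have h1 := orderOf_injective (blockHom F ι₁ ι₂) blockHom_injective (A₁, A₂)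
  rw [Prod.orderOf] at h1
  exact h1

theorem orderOf_reindex {n : ℕ} (e : ι₁ ≃ Fin n) (A : Matrix ι₁ ι₁ F) :
    orderOf (Matrix.reindexAlgEquiv F F e A) = orderOf A :=
  orderOf_injective ((Matrix.reindexAlgEquiv F F e : Matrix ι₁ ι₁ F ≃ₐ[F] _) :
    Matrix ι₁ ι₁ F →* Matrix (Fin n) (Fin n) F) (Matrix.reindexAlgEquiv F F e).injective A

end blocks

section embed
variable {F : Type*} [Field F]

/-- two blocks embed in any larger dimension -/
theorem exists_embed (d₁ d₂ n : ℕ) (h : d₁ + d₂ ≤ n) (A₁ : Matrix (Fin d₁) (Fin d₁) F)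
    (A₂ : Matrix (Fin d₂) (Fin d₂) F) :
    ∃ M : Matrix (Fin n) (Fin n) F, orderOf M = Nat.lcm (orderOf A₁) (orderOf A₂) := by
  classical
  have hc : Fintype.card ((Fin d₁ ⊕ Fin d₂) ⊕ Fin (n - d₁ - d₂)) = n := by
    simp only [Fintype.card_sum, Fintype.card_fin]
    omega
  set e := Fintype.equivFinOfCardEq hc with he
  refine ⟨Matrix.reindexAlgEquiv F F e (Matrix.fromBlocks (Matrix.fromBlocks A₁ 0 0 A₂) 0 0
    (1 : Matrix (Fin (n - d₁ - d₂)) (Fin (n - d₁ - d₂)) F)), ?_⟩
  rw [orderOf_reindex, orderOf_fromBlocks, orderOf_fromBlocks, orderOf_one, Nat.lcm_one_right]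

end embed

section field
variable {F : Type*} [Field F] [Fintype F]

/-- matrices of every order dividing `q ^ d - 1`, `d` the order of `q` modulo a prime `t` -/
theorem exists_matrix_orderOf (t : ℕ) [ht : Fact t.Prime] (htF : (t : F) ≠ 0) (m : ℕ)
    (hm : m ∣ Fintype.card F ^ orderOf ((Fintype.card F : ℕ) : ZMod t) - 1) :
    ∃ M : Matrix (Fin (orderOf ((Fintype.card F : ℕ) : ZMod t)))
      (Fin (orderOf ((Fintype.card F : ℕ) : ZMod t))) F, orderOf M = m := by
  classical
  set d := orderOf ((Fintype.card F : ℕ) : ZMod t) with hd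
  have ht0 : 0 < t := ht.out.pos
  have hcard := card_Rset_mul (F := F) t htF
  have hne : (Rset F t).Nonempty := by
    rw [← Finset.card_pos]
    rcases Nat.eq_zero_or_pos (Rset F t).card with h0 | hpos
    · rw [h0, zero_mul] at hcard
      have := ht.out.two_le
      omega
    · exact hpos
  obtain ⟨π, hπ⟩ := hne
  obtain ⟨hπm, hπi, hπd, hπ1⟩ := (mem_Rset ht0).1 hπ
  have hdeg : π.natDegree = d := natDegree_of_irreducible_dvd t π hπm hπi hπd hπ1
  have : Fact (Irreducible π) := ⟨hπi⟩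
  have hπne : π ≠ 0 := hπm.ne_zero
  set pb := AdjoinRoot.powerBasis hπne with hpb
  have : Module.Finite F (AdjoinRoot π) := pb.finite
  have : Finite (AdjoinRoot π) := Module.finite_of_finite F
  have : Fintype (AdjoinRoot π) := Fintype.ofFinite _
  have hfr : Module.finrank F (AdjoinRoot π) = d := by
    rw [pb.finrank, AdjoinRoot.powerBasis_dim, hdeg]
  have hcardK : Fintype.card (AdjoinRoot π) = Fintype.card F ^ d := by
    rw [← hfr]; exact Module.card_eq_pow_finrank
  obtain ⟨g, hg⟩ := IsCyclic.exists_ofOrder_eq_natCard (α := (AdjoinRoot π)ˣ)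
  have hcu : Nat.card (AdjoinRoot π)ˣ = Fintype.card F ^ d - 1 := by
    rw [Nat.card_eq_fintype_card, Fintype.card_units, hcardK]
  rw [hcu] at hg
  have hq2 : 2 ≤ Fintype.card F := Fintype.one_lt_card
  have hdpos : 0 < d := by
    rcases Nat.eq_zero_or_pos d with h0 | hpos
    · rw [← hd, h0, mul_zero] at hcard
      have := ht.out.two_le
      omega
    · exact hpos
  have hN0 : Fintype.card F ^ d - 1 ≠ 0 := by
    have : 2 ^ 1 ≤ Fintype.card F ^ d :=
      (Nat.pow_le_pow_left hq2 1).trans (Nat.pow_le_pow_right (by omega) hdpos)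
    omega
  have hy : orderOf (g ^ ((Fintype.card F ^ d - 1) / m)) = m := by
    have := orderOf_pow_orderOf_div (x := g) (n := m) (by rw [hg]; exact hN0) (by rw [hg]; exact hm)
    rwa [hg] at this
  set y : (AdjoinRoot π)ˣ := g ^ ((Fintype.card F ^ d - 1) / m) with hydef
  set b := Module.finBasisOfFinrankEq F (AdjoinRoot π) hfr with hb
  refine ⟨Algebra.leftMulMatrix b (y : AdjoinRoot π), ?_⟩
  have h1 := orderOf_injective ((Algebra.leftMulMatrix b : AdjoinRoot π →ₐ[F] _) :
    AdjoinRoot π →* Matrix (Fin d) (Fin d) F) (Algebra.leftMulMatrix_injective b) (y : AdjoinRoot π)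
  rw [orderOf_units, hy] at h1
  exact h1

end field

end Cfsg.Agent.Lib.Helper40.PG
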