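import Cfsg.Agent.Lib.Helper40.PGUnip4
import Cfsg.Agent.Lib.Helper40.PGExist
set_option autoImplicit false

namespace Cfsg.Agent.Lib.Helper40.PG

open Cfsg.Agent.Lib.Helper40 Cfsg.Agent.Lib.Helper40.PrimeOrder

section exist
variable {F : Type*} [Field F] [Fintype F]

theorem exists_orderOf_eq_of_dvd (m : ℕ) (hm : m ∣ Fintype.card F - 1) :
    ∃ ζ : F, ζ ≠ 0 ∧ orderOf ζ = m := by
  classical
  obtain ⟨g, hg⟩ := IsCyclic.exists_ofOrder_eq_natCard (α := Fˣ)
  have hcu : Nat.card Fˣ = Fintype.card F - 1 := by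
    rw [Nat.card_eq_fintype_card, Fintype.card_units]
  rw [hcu] at hg
  have hq2 : 2 ≤ Fintype.card F := Fintype.one_lt_card
  have hy : orderOf (g ^ ((Fintype.card F - 1) / m)) = m := by
    have := orderOf_pow_orderOf_div (x := g) (n := m) (by rw [hg]; omega) (by rw [hg]; exact hm)
    rwa [hg] at this
  refine ⟨((g ^ ((Fintype.card F - 1) / m) : Fˣ) : F), Units.ne_zero _, ?_⟩
  rw [orderOf_units, hy]

/-- the diagonal entries `ζ, ζ, ζ⁻², 1, …, 1` -/
def dvec (n : ℕ) (ζ : F) : Fin n → F :=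
  fun i => if i.val < 2 then ζ else if i.val = 2 then (ζ⁻¹) ^ 2 else 1

omit [Fintype F] in
theorem prod_dvec (n : ℕ) (hn : 3 ≤ n) (ζ : F) (hζ : ζ ≠ 0) : ∏ i, dvec n ζ i = 1 := by
  obtain ⟨m, rfl⟩ : ∃ m, n = m + 3 := ⟨n - 3, by omega⟩
  rw [Fin.prod_univ_succ, Fin.prod_univ_succ, Fin.prod_univ_succ]
  have h1 : ∀ i : Fin m, dvec (m + 3) ζ i.succ.succ.succ = 1 := by
    intro i
    unfold dvec
    simp only [Fin.val_succ]
    rw [if_neg (by omega), if_neg (by omega)]
  rw [Finset.prod_congr rfl (fun i _ => h1 i), Finset.prod_const_one, mul_one]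
  have e0 : dvec (m + 3) ζ 0 = ζ := by simp [dvec]
  have e1 : dvec (m + 3) ζ (Fin.succ 0) = ζ := by simp [dvec]
  have e2 : dvec (m + 3) ζ (Fin.succ (Fin.succ 0)) = ζ⁻¹ ^ 2 := by
    unfold dvec
    simp only [Fin.val_succ, Fin.val_zero]
    norm_num
  rw [e0, e1, e2]
  field_simp

/-- an element of order `r * p` of `PSL(n, q)`, `n ≥ 3`, built from a suitable root of unity -/
theorem exists_orderOf_psl_mul (p : ℕ) [Fact p.Prime] [CharP F p] (n : ℕ) (hn : 3 ≤ n) (r : ℕ)
    (hr : r.Prime) (hrp : r ≠ p) (ζ : F) (hζ : ζ ≠ 0) (h1 : ζ ^ (3 * r) = 1)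
    (h2 : 3 < n → ζ ^ r = 1) (h3 : ζ ^ 3 ≠ 1 ∨ (3 < n ∧ ζ ≠ 1)) :
    ∃ x : Matrix.ProjectiveSpecialLinearGroup (Fin n) F, orderOf x = r * p := by
  classical
  have hp : p.Prime := Fact.out
  have : Fact r.Prime := ⟨hr⟩
  set i0 : Fin n := ⟨0, by omega⟩ with hi0
  set i1 : Fin n := ⟨1, by omega⟩ with hi1
  set i2 : Fin n := ⟨2, by omega⟩ with hi2
  have h01 : i0 ≠ i1 := by simp [hi0, hi1, Fin.ext_iff]
  have hd0 : dvec n ζ i0 = ζ := by simp [dvec, hi0]
  have hd1 : dvec n ζ i1 = ζ := by simp [dvec, hi1]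
  have hd2 : dvec n ζ i2 = ζ⁻¹ ^ 2 := by simp [dvec, hi2]
  set s : Matrix.SpecialLinearGroup (Fin n) F :=
    ⟨Matrix.diagonal (dvec n ζ), by rw [Matrix.det_diagonal, prod_dvec n hn ζ hζ]⟩ with hs
  set u : Matrix.SpecialLinearGroup (Fin n) F :=
    ⟨Matrix.transvection i0 i1 1, Matrix.det_transvection_of_ne i0 i1 h01 1⟩ with hu
  have hscoe : (s : Matrix (Fin n) (Fin n) F) = Matrix.diagonal (dvec n ζ) := rfl
  have hucoe : (u : Matrix (Fin n) (Fin n) F) = Matrix.transvection i0 i1 1 := rfl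
  -- `s ^ r` is central
  have hsr : s ^ r ∈ Subgroup.center (Matrix.SpecialLinearGroup (Fin n) F) := by
    apply mem_center_of_eq_scalar n (s ^ r) (ζ ^ r)
    rw [Matrix.SpecialLinearGroup.coe_pow, hscoe, Matrix.diagonal_pow, Matrix.scalar_apply]
    congr 1
    funext i
    show ζ ^ r = dvec n ζ i ^ r
    unfold dvec
    by_cases hi : i.val < 2
    · rw [if_pos hi]
    · rw [if_neg hi]
      by_cases hi' : i.val = 2
      · rw [if_pos hi', inv_pow, inv_pow]
        apply eq_inv_of_mul_eq_one_left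
        rw [← pow_mul, ← pow_add, show r + 2 * r = 3 * r by ring, h1]
      · rw [if_neg hi', one_pow]
        exact h2 (by have := i.2; omega)
  -- `s` is not central
  have hsZ : s ∉ Subgroup.center (Matrix.SpecialLinearGroup (Fin n) F) := by
    intro h
    rw [Matrix.SpecialLinearGroup.mem_center_iff] at h
    obtain ⟨c, -, hc⟩ := h
    rw [hscoe, Matrix.scalar_apply] at hc
    have hci : ∀ i, c = dvec n ζ i := by
      intro i
      have := congrFun (congrFun hc i) i
      rwa [Matrix.diagonal_apply_eq, Matrix.diagonal_apply_eq] at this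
    have e0 := hci i0
    have e2 := hci i2
    rw [hd0] at e0
    rw [hd2, e0] at e2
    have hz3 : ζ ^ 3 = 1 := by
      have : ζ ^ 3 = ζ * ζ ^ 2 := by ring
      rw [this]
      nth_rewrite 1 [e2]
      rw [inv_pow, inv_mul_cancel₀ (pow_ne_zero 2 hζ)]
    rcases h3 with h3 | ⟨h3n, h3'⟩
    · exact h3 hz3
    · have e3 := hci ⟨3, h3n⟩
      have hd3 : dvec n ζ ⟨3, h3n⟩ = 1 := by simp [dvec]
      rw [hd3, e0] at e3
      exact h3' e3
  -- `u` has order `p`
  have hup : u ^ p = 1 := by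
    apply Subtype.ext
    rw [Matrix.SpecialLinearGroup.coe_pow, hucoe, transvection_pow i0 i1 h01, CharP.cast_eq_zero,
      zero_mul, Matrix.transvection_zero]
    rfl
  have huZ : u ∉ Subgroup.center (Matrix.SpecialLinearGroup (Fin n) F) := by
    intro h
    rw [Matrix.SpecialLinearGroup.mem_center_iff] at h
    obtain ⟨c, -, hc⟩ := h
    rw [hucoe, Matrix.scalar_apply] at hc
    have := congrFun (congrFun hc i0) i1
    rw [Matrix.diagonal_apply_ne _ h01] at this
    simp [Matrix.transvection, h01] at this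
  -- they commute
  have hcomm : Commute s u := by
    rw [commute_iff_eq]
    apply Subtype.ext
    rw [Matrix.SpecialLinearGroup.coe_mul, Matrix.SpecialLinearGroup.coe_mul, hscoe, hucoe]
    ext a b
    rw [Matrix.diagonal_mul, Matrix.mul_diagonal]
    by_cases hab : a = b
    · subst hab
      exact mul_comm _ _
    · by_cases h01' : i0 = a ∧ i1 = b
      · obtain ⟨rfl, rfl⟩ := h01'
        rw [hd0, hd1]
        exact mul_comm _ _
      · have hz : Matrix.transvection i0 i1 (1 : F) a b = 0 := by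
          simp only [Matrix.transvection, Matrix.add_apply, Matrix.one_apply_ne hab, zero_add,
            Matrix.single_apply, if_neg h01']
        rw [hz, mul_zero, zero_mul]
  -- orders in the quotient
  set Z := Subgroup.center (Matrix.SpecialLinearGroup (Fin n) F) with hZ
  have hos : orderOf (QuotientGroup.mk s : Matrix.ProjectiveSpecialLinearGroup (Fin n) F) = r := by
    apply orderOf_eq_prime
    · rw [← QuotientGroup.mk_pow, QuotientGroup.eq_one_iff]; exact hsr
    · rw [Ne, QuotientGroup.eq_one_iff]; exact hsZ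
  have hou : orderOf (QuotientGroup.mk u : Matrix.ProjectiveSpecialLinearGroup (Fin n) F) = p := by
    apply orderOf_eq_prime
    · rw [← QuotientGroup.mk_pow, hup]; rfl
    · rw [Ne, QuotientGroup.eq_one_iff]; exact huZ
  have hcomm' : Commute (QuotientGroup.mk s : Matrix.ProjectiveSpecialLinearGroup (Fin n) F)
      (QuotientGroup.mk u) := by
    rw [commute_iff_eq, ← QuotientGroup.mk_mul, ← QuotientGroup.mk_mul, hcomm.eq]
  refine ⟨QuotientGroup.mk s * QuotientGroup.mk u, ?_⟩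
  rw [hcomm'.orderOf_mul_eq_mul_orderOf_of_coprime, hos, hou]
  rw [hos, hou]
  exact (Nat.coprime_primes hr hp).2 hrp

/-- the `2 × 2` block construction for `k ≥ 2` -/
theorem exists_orderOf_sl_mul (p : ℕ) [Fact p.Prime] [CharP F p] (n : ℕ) (r : ℕ)
    (hr : r.Prime) (hrp : r ≠ p) (hk2 : 2 ≤ orderOf ((Fintype.card F : ℕ) : ZMod r))
    (hkn : orderOf ((Fintype.card F : ℕ) : ZMod r) + 2 ≤ n) :
    ∃ x : Matrix.ProjectiveSpecialLinearGroup (Fin n) F, orderOf x = r * p := by
  classical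
  have : Fact r.Prime := ⟨hr⟩
  have hp : p.Prime := Fact.out
  have hrF : (r : F) ≠ 0 := natCast_ne_zero_of_prime_ne p r hr hrp
  have hcr : r.Coprime (Fintype.card F - 1) :=
    (Nat.Prime.coprime_iff_not_dvd hr).2 (not_dvd_card_sub_one r hk2)
  have hcp : p.Coprime (Fintype.card F - 1) :=
    (Nat.Prime.coprime_iff_not_dvd hp).2 (not_dvd_card_sub_one_char p)
  have hcop : (r * p).Coprime (Fintype.card F - 1) := Nat.Coprime.mul_left hcr hcp
  have hrk : r ∣ Fintype.card F ^ orderOf ((Fintype.card F : ℕ) : ZMod r) - 1 := by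
    rw [← pow_eq_one_zmod_iff (Fintype.card F) r _ Fintype.card_pos]
    exact pow_orderOf_eq_one _
  obtain ⟨Mr, hMr⟩ := exists_matrix_orderOf (F := F) r hrF r hrk
  have hJ : orderOf (Matrix.transvection (0 : Fin 2) 1 (1 : F)) = p :=
    orderOf_transvection p 0 1 (by decide)
  obtain ⟨M, hM⟩ := exists_embed _ 2 n hkn Mr (Matrix.transvection (0 : Fin 2) 1 (1 : F))
  rw [hMr, hJ, ((Nat.coprime_primes hr hp).2 hrp).lcm_eq_mul] at hM
  have hSL := exists_SL_of_matrix_order n (r * p) M hM (Nat.mul_pos hr.pos hp.pos) hcop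
  exact (exists_orderOf_quotient_iff
    (Subgroup.center (Matrix.SpecialLinearGroup (Fin n) F)) (Fintype.card F - 1) (r * p)
    (fun z hz => center_SL_pow n z hz) hcop).2 hSL

end exist

end Cfsg.Agent.Lib.Helper40.PG
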