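import Mathlib
import Cfsg.Agent.Lib.Helper13.SympGen2

set_option autoImplicit false

namespace Cfsg.Agent.Lib.Helper40.SpGen

open Matrix Cfsg.Agent.Lib.Helper13

section tcalc
variable {F : Type*} [Field F] (m : ℕ)

theorem mat_ext_mulVec {M N : Matrix (Fin m ⊕ Fin m) (Fin m ⊕ Fin m) F}
    (h : ∀ x, M *ᵥ x = N *ᵥ x) : M = N :=
  Matrix.mulVec_injective (funext h)

/-- moving a symplectic matrix past a transvection -/
theorem mul_transv (g : symplecticGroup (Fin m) F) (w : Fin m ⊕ Fin m → F) (c : F) :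
    g * sympTransvElt m w c = sympTransvElt m (g.1 *ᵥ w) c * g := by
  apply Subtype.ext
  apply mat_ext_mulVec
  intro x
  rw [Submonoid.coe_mul, Submonoid.coe_mul, coe_sympTransvElt, coe_sympTransvElt,
    ← mulVec_mulVec, ← mulVec_mulVec, sympTransvection_mulVec, sympTransvection_mulVec,
    mulVec_add, mulVec_smul, preserves_of_mem_symplectic m g.1 g.2]

theorem conj_transv (g : symplecticGroup (Fin m) F) (w : Fin m ⊕ Fin m → F) (c : F) :
    g * sympTransvElt m w c * g⁻¹ = sympTransvElt m (g.1 *ᵥ w) c := by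
  rw [mul_transv, mul_inv_cancel_right]

theorem transv_smul (a : F) (w : Fin m ⊕ Fin m → F) (c : F) :
    sympTransvElt m (a • w) c = sympTransvElt m w (a ^ 2 * c) := by
  apply Subtype.ext
  apply mat_ext_mulVec
  intro x
  rw [coe_sympTransvElt, coe_sympTransvElt, sympTransvection_mulVec, sympTransvection_mulVec,
    sympForm_smul_right, smul_smul]
  congr 2
  ring

theorem transv_mul (w : Fin m ⊕ Fin m → F) (c d : F) :
    sympTransvElt m w c * sympTransvElt m w d = sympTransvElt m w (c + d) :=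
  Subtype.ext (by rw [Submonoid.coe_mul]; exact sympTransvection_mul m w c d)

theorem transv_zero (w : Fin m ⊕ Fin m → F) : sympTransvElt m w 0 = 1 :=
  Subtype.ext (sympTransvection_zero m w)

theorem transv_vec_zero (c : F) : sympTransvElt m (0 : Fin m ⊕ Fin m → F) c = 1 := by
  have h := transv_smul m (0 : F) (0 : Fin m ⊕ Fin m → F) c
  rw [smul_zero] at h
  rw [h]
  simp [transv_zero]

theorem transv_pow (w : Fin m ⊕ Fin m → F) (c : F) (n : ℕ) :
    sympTransvElt m w c ^ n = sympTransvElt m w ((n : F) * c) := by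
  induction n with
  | zero => simp [transv_zero]
  | succ n ih =>
    rw [pow_succ, ih, transv_mul]
    congr 1
    push_cast
    ring

/-- the set of vectors all of whose transvections lie in `H` -/
def TT (H : Subgroup (symplecticGroup (Fin m) F)) : Set (Fin m ⊕ Fin m → F) :=
  {v | ∀ c : F, sympTransvElt m v c ∈ H}

variable {m}

theorem zero_mem_TT (H : Subgroup (symplecticGroup (Fin m) F)) : (0 : Fin m ⊕ Fin m → F) ∈ TT m H := by
  intro c
  rw [transv_vec_zero]
  exact H.one_mem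

theorem mulVec_mem_TT {H : Subgroup (symplecticGroup (Fin m) F)} {g : symplecticGroup (Fin m) F}
    (hg : g ∈ H) {v : Fin m ⊕ Fin m → F} (hv : v ∈ TT m H) : g.1 *ᵥ v ∈ TT m H := by
  intro c
  rw [← conj_transv]
  exact H.mul_mem (H.mul_mem hg (hv c)) (H.inv_mem hg)

theorem transv_mem_TT {H : Subgroup (symplecticGroup (Fin m) F)} {u w : Fin m ⊕ Fin m → F}
    (hu : u ∈ TT m H) (hw : w ∈ TT m H) (c : F) :
    u + (c * Cfsg.sympForm m F u w) • w ∈ TT m H := by
  have h := mulVec_mem_TT (hw c) hu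
  rwa [coe_sympTransvElt, sympTransvection_mulVec] at h

theorem sympForm_elim_zero (e g f : Fin m → F) :
    Cfsg.sympForm m F (Sum.elim e g) (Sum.elim (0 : Fin m → F) f) = - (e ⬝ᵥ f) := by
  rw [sympForm_expand]
  simp [dotProduct, Finset.sum_neg_distrib]

theorem TT_step {H : Subgroup (symplecticGroup (Fin m) F)}
    (hR : ∀ f : Fin m → F, Sum.elim (0 : Fin m → F) f ∈ TT m H) (e g f : Fin m → F) (c : F)
    (h : Sum.elim e g ∈ TT m H) : Sum.elim e (g - (c * (e ⬝ᵥ f)) • f) ∈ TT m H := by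
  have h1 := transv_mem_TT h (hR f) c
  rw [sympForm_elim_zero] at h1
  convert h1 using 1
  ext j
  cases j <;> simp <;> ring

theorem TT_top {H : Subgroup (symplecticGroup (Fin m) F)}
    (hL : ∀ e : Fin m → F, Sum.elim e 0 ∈ TT m H)
    (hR : ∀ f : Fin m → F, Sum.elim (0 : Fin m → F) f ∈ TT m H) (v : Fin m ⊕ Fin m → F) : v ∈ TT m H := by
  obtain ⟨e, f, rfl⟩ : ∃ e f : Fin m → F, v = Sum.elim e f :=
    ⟨v ∘ Sum.inl, v ∘ Sum.inr, (Sum.elim_comp_inl_inr v).symm⟩
  by_cases he : e = 0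
  · rw [he]; exact hR f
  obtain ⟨i, hi⟩ := Function.ne_iff.1 he
  rw [Pi.zero_apply] at hi
  by_cases hγ : e ⬝ᵥ f = 0
  · have h1 := TT_step hR e 0 (Pi.single i 1) (-1 / e i) (hL e)
    have h1' : Sum.elim e (Pi.single i (1 : F)) ∈ TT m H := by
      convert h1 using 2
      rw [dotProduct_single, mul_one, zero_sub, div_mul_cancel₀ _ hi]
      simp
    have h2 := TT_step hR e (Pi.single i 1) (f - Pi.single i 1) (1 / e i) h1'
    convert h2 using 2
    rw [dotProduct_sub, hγ, dotProduct_single, mul_one, zero_sub, mul_neg, div_mul_cancel₀ _ hi]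
    simp
  · have h1 := TT_step hR e 0 f (-1 / (e ⬝ᵥ f)) (hL e)
    convert h1 using 2
    rw [div_mul_cancel₀ _ hγ]
    simp

theorem mem_TT_of_smul {H : Subgroup (symplecticGroup (Fin m) F)} {k : F} (hk : k ≠ 0)
    (hsq : ∀ x : F, ∃ a b : F, a ^ 2 + b ^ 2 = x) {v : Fin m ⊕ Fin m → F}
    (h : ∀ a : F, sympTransvElt m (a • v) k ∈ H) : v ∈ TT m H := by
  intro c
  obtain ⟨a, b, hab⟩ := hsq (c / k)
  have h1 := H.mul_mem (h a) (h b)
  rw [transv_smul, transv_smul, transv_mul] at h1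
  convert h1 using 2
  rw [← add_mul, hab, div_mul_cancel₀ _ hk]

end tcalc

end Cfsg.Agent.Lib.Helper40.SpGen
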