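import Mathlib
import Cfsg.Agent.Lib.Helper40.SpGen1

set_option autoImplicit false

namespace Cfsg.Agent.Lib.Helper40.SpGen

open Matrix Cfsg.Agent.Lib.Helper13

section singer
variable {F : Type*} [Field F] [Fintype F]

theorem orbit_mem {n : ℕ} (B : Matrix (Fin n) (Fin n) F) (S : Set (Fin n → F))
    (hS : ∀ u ∈ S, B *ᵥ u ∈ S) {v : Fin n → F} (hv : v ∈ S) (k : ℕ) : B ^ k *ᵥ v ∈ S := by
  induction k with
  | zero => simpa using hv
  | succ k ih =>
    rw [pow_succ', ← mulVec_mulVec]
    exact hS _ ih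

theorem singer_transitive {n N : ℕ} (B : Matrix (Fin n) (Fin n) F)
    (hN : Fintype.card F ^ n = N + 1) (hB : B ^ N = 1)
    (hfix : ∀ k, 0 < k → k < N → ∀ v : Fin n → F, B ^ k *ᵥ v = v → v = 0)
    (v w : Fin n → F) (hv : v ≠ 0) (hw : w ≠ 0) : ∃ k, B ^ k *ᵥ v = w := by
  classical
  have hcard : Fintype.card (Fin n → F) = N + 1 := by
    rw [Fintype.card_fun, Fintype.card_fin, hN]
  have hN1 : 0 < N := by
    rcases Nat.eq_zero_or_pos N with h | h
    · exfalso
      rw [h] at hcard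
      have : Subsingleton (Fin n → F) := Fintype.card_le_one_iff_subsingleton.1 (by omega)
      exact hv (Subsingleton.elim _ _)
    · exact h
  have hBk : ∀ (k : ℕ) (u : Fin n → F), B ^ k *ᵥ u = 0 → u = 0 := by
    intro k u hu
    have h1 : (B ^ k) ^ N = 1 := by rw [← pow_mul, mul_comm, pow_mul, hB, one_pow]
    have h2 : (B ^ k) ^ (N - 1) * B ^ k = 1 := by
      rw [← pow_succ, Nat.sub_add_cancel hN1, h1]
    calc u = ((B ^ k) ^ (N - 1) * B ^ k) *ᵥ u := by rw [h2, one_mulVec]
      _ = 0 := by rw [← mulVec_mulVec, hu, mulVec_zero]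
  have hinj : Set.InjOn (fun k : ℕ => B ^ k *ᵥ v) (Finset.range N : Set ℕ) := by
    have key : ∀ i j : ℕ, i < j → j < N → B ^ i *ᵥ v = B ^ j *ᵥ v → False := by
      intro i j hij hj h
      have h3 : B ^ j = B ^ i * B ^ (j - i) := by
        rw [← pow_add]; congr 1; omega
      rw [h3, ← mulVec_mulVec] at h
      have h4 : B ^ i *ᵥ (B ^ (j - i) *ᵥ v - v) = 0 := by
        rw [mulVec_sub, ← h, sub_self]
      have h5 := hBk i _ h4
      exact hv (hfix (j - i) (by omega) (by omega) v (sub_eq_zero.1 h5))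
    intro i hi j hj h
    simp only [Finset.coe_range, Set.mem_Iio] at hi hj
    rcases lt_trichotomy i j with h1 | h1 | h1
    · exact (key i j h1 hj h).elim
    · exact h1
    · exact (key j i h1 hi h.symm).elim
  have hsub : (Finset.range N).image (fun k : ℕ => B ^ k *ᵥ v) ⊆
      (Finset.univ : Finset (Fin n → F)).erase 0 := by
    intro u hu
    obtain ⟨k, -, rfl⟩ := Finset.mem_image.1 hu
    exact Finset.mem_erase.2 ⟨fun h => hv (hBk k v h), Finset.mem_univ _⟩
  have hc1 : ((Finset.range N).image (fun k : ℕ => B ^ k *ᵥ v)).card = N := by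
    rw [Finset.card_image_of_injOn hinj, Finset.card_range]
  have hc2 : ((Finset.univ : Finset (Fin n → F)).erase 0).card = N := by
    rw [Finset.card_erase_of_mem (Finset.mem_univ _), Finset.card_univ, hcard]
    rfl
  have heq := Finset.eq_of_subset_of_card_le hsub (by rw [hc1, hc2])
  have hwm : w ∈ (Finset.univ : Finset (Fin n → F)).erase 0 :=
    Finset.mem_erase.2 ⟨hw, Finset.mem_univ _⟩
  rw [← heq] at hwm
  obtain ⟨k, -, hk⟩ := Finset.mem_image.1 hwm
  exact ⟨k, hk⟩

theorem fix_of_leftInv {n : ℕ} (M C : Matrix (Fin n) (Fin n) F) (h : C * (M - 1) = 1)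
    (v : Fin n → F) (hv : M *ᵥ v = v) : v = 0 := by
  have h1 : (M - 1) *ᵥ v = 0 := by rw [sub_mulVec, hv, one_mulVec, sub_self]
  calc v = (C * (M - 1)) *ᵥ v := by rw [h, one_mulVec]
    _ = 0 := by rw [← mulVec_mulVec, h1, mulVec_zero]

theorem exists_sq_add_sq (x : F) : ∃ a b : F, a ^ 2 + b ^ 2 = x := by
  classical
  by_cases h2 : ringChar F = 2
  · obtain ⟨a, ha⟩ := FiniteField.isSquare_of_char_two h2 x
    exact ⟨a, 0, by rw [ha]; ring⟩
  · let f : Polynomial F := Polynomial.X ^ 2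
    let g : Polynomial F := Polynomial.X ^ 2 - Polynomial.C x
    obtain ⟨a, b, hab⟩ : ∃ a b, f.eval a + g.eval b = 0 :=
      FiniteField.exists_root_sum_quadratic (f := f) (g := g) (Polynomial.degree_X_pow 2)
        (Polynomial.degree_X_pow_sub_C (by norm_num) x)
        (FiniteField.odd_card_of_char_ne_two h2)
    refine ⟨a, b, ?_⟩
    simp only [f, g, Polynomial.eval_pow, Polynomial.eval_X, Polynomial.eval_sub,
      Polynomial.eval_C] at hab
    linear_combination hab

end singer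

end Cfsg.Agent.Lib.Helper40.SpGen
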