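import Mathlib
import Cfsg.Agent.Lib.Helper40.SpGen2
import Cfsg.Agent.Lib.Helper40.PGUnip5

set_option autoImplicit false

namespace Cfsg.Agent.Lib.Helper40.SpGen

open Matrix Cfsg.Agent.Lib.Helper13

section singerex
variable {F : Type*} [Field F] [Fintype F]

/-- a ring hom from a field: images of `y ^ k - 1` are left invertible when `y ^ k ≠ 1` -/
theorem leftInv_of_ringHom {E R : Type*} [Field E] [Ring R] (φ : E →+* R) (y : E) (k : ℕ)
    (h : y ^ k ≠ 1) : φ ((y ^ k - 1)⁻¹) * (φ y ^ k - 1) = 1 := by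
  rw [← map_pow, ← map_one φ, ← map_sub, ← map_mul, inv_mul_cancel₀ (sub_ne_zero.2 h)]

theorem exists_singer_pair (n : ℕ) (hn : 0 < n) :
    ∃ (A A' : Matrix (Fin n) (Fin n) F) (N : ℕ), Fintype.card F ^ n = N + 1 ∧ A * A'ᵀ = 1 ∧
      A ^ N = 1 ∧ A' ^ N = 1 ∧
      (∀ k, 0 < k → k < N → ∀ v : Fin n → F, A ^ k *ᵥ v = v → v = 0) ∧
      (∀ k, 0 < k → k < N → ∀ v : Fin n → F, A' ^ k *ᵥ v = v → v = 0) := by
  classical
  obtain ⟨p, hp⟩ := CharP.exists F
  haveI : Fact p.Prime := ⟨CharP.char_is_prime F p⟩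
  have hq2 : 2 ≤ Fintype.card F := Fintype.one_lt_card
  have : NeZero n := ⟨by omega⟩
  letI := Fintype.ofFinite (FiniteField.Extension F p n)
  have hE : Module.finrank F (FiniteField.Extension F p n) = n :=
    FiniteField.finrank_extension F p n
  have hcE : Fintype.card (FiniteField.Extension F p n) = Fintype.card F ^ n := by
    rw [Module.card_eq_pow_finrank (K := F), hE]
  obtain ⟨y, hy0, hy⟩ := Cfsg.Agent.Lib.Helper40.PG.exists_orderOf_eq_of_dvd
    (F := FiniteField.Extension F p n) (Fintype.card (FiniteField.Extension F p n) - 1)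
    (dvd_refl _)
  set N := Fintype.card (FiniteField.Extension F p n) - 1 with hNdef
  have hpos : 0 < Fintype.card F ^ n := by positivity
  have hN : Fintype.card F ^ n = N + 1 := by rw [hNdef, hcE]; omega
  let b : Module.Basis (Fin n) F (FiniteField.Extension F p n) := Module.finBasisOfFinrankEq F _ hE
  let φ : FiniteField.Extension F p n →+* Matrix (Fin n) (Fin n) F :=
    (Algebra.leftMulMatrix b).toRingHom
  have hyN : y ^ N = 1 := by rw [← hy]; exact pow_orderOf_eq_one y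
  have hyk : ∀ k, 0 < k → k < N → y ^ k ≠ 1 := by
    intro k hk0 hkN h
    have := orderOf_dvd_of_pow_eq_one h
    rw [hy] at this
    exact absurd (Nat.le_of_dvd hk0 this) (by omega)
  have hyik : ∀ k, 0 < k → k < N → y⁻¹ ^ k ≠ 1 := by
    intro k hk0 hkN h
    rw [inv_pow, inv_eq_one] at h
    exact hyk k hk0 hkN h
  refine ⟨φ y, (φ y⁻¹)ᵀ, N, hN, ?_, ?_, ?_, ?_, ?_⟩
  · rw [transpose_transpose, ← map_mul, mul_inv_cancel₀ hy0, map_one]
  · rw [← map_pow, hyN, map_one]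
  · rw [← transpose_pow, ← map_pow, inv_pow, hyN, inv_one, map_one, transpose_one]
  · intro k hk0 hkN v hv
    exact fix_of_leftInv _ _ (leftInv_of_ringHom φ y k (hyk k hk0 hkN)) v hv
  · intro k hk0 hkN v hv
    have h1 := leftInv_of_ringHom φ y⁻¹ k (hyik k hk0 hkN)
    have h2 : (φ y⁻¹ ^ k - 1) * φ ((y⁻¹ ^ k - 1)⁻¹) = 1 := mul_eq_one_comm.1 h1
    have h3 : (φ ((y⁻¹ ^ k - 1)⁻¹))ᵀ * (((φ y⁻¹)ᵀ) ^ k - 1) = 1 := by
      rw [← transpose_pow, ← transpose_one, ← transpose_sub, ← transpose_mul, h2]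
    exact fix_of_leftInv _ _ h3 v hv

end singerex

end Cfsg.Agent.Lib.Helper40.SpGen
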