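import Mathlib
import Cfsg.Agent.Lib.Helper38.RhDefs

/-! # Rh hive (helper38), leaf RH-T4 (core): tori are cyclic of order dividing `N`, `> 1`, and `|N(T)| = w |T|`, `w ∣ 6`.
The statement of RH-T2 for `A₀ = ⟨x⟩` is taken as a hypothesis. -/

set_option autoImplicit false

namespace Cfsg.Agent.Lib.Helper38.Rh

section abstract
variable {G : Type*} [Group G] [Finite G] {N : ℕ}

theorem t4_core (h : TorusHyp G N) {T : Subgroup G} (hT : IsTorus N T)
    (hT2 : ∀ A₀ : Subgroup G, A₀ ≤ T → A₀ ≠ ⊥ →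
      Subgroup.normalizer (A₀ : Set G) = Subgroup.normalizer (T : Set G)) :
    IsCyclic ↥T ∧ Nat.card ↥T ∣ N ∧ 1 < Nat.card ↥T ∧
      ∃ w : ℕ, w ∣ 6 ∧ Nat.card ↥(Subgroup.normalizer (T : Set G)) = w * Nat.card ↥T := by
  obtain ⟨x, p, hp, hpN, hox, rfl⟩ := hT
  obtain ⟨hcyc, hcard, hnorm⟩ := h x p hp hpN hox
  have hxT : x ∈ Subgroup.centralizer ({x} : Set G) := Subgroup.mem_centralizer_singleton_iff.mpr rfl
  have hx1 : x ≠ 1 := by
    intro h1
    rw [h1, orderOf_one] at hox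
    exact hp.one_lt.ne hox
  have hzle : Subgroup.zpowers x ≤ Subgroup.centralizer ({x} : Set G) := by
    rw [Subgroup.zpowers_le]
    exact hxT
  have hzne : Subgroup.zpowers x ≠ ⊥ := by
    intro hb
    exact hx1 (Subgroup.zpowers_eq_bot.mp hb)
  have hN := hT2 (Subgroup.zpowers x) hzle hzne
  rw [hN] at hnorm
  refine ⟨hcyc, hcard, ?_, ?_⟩
  · -- `1 < |T|` since `x ∈ T`, `x ≠ 1`
    rw [Finite.one_lt_card_iff_nontrivial]
    exact ⟨⟨⟨x, hxT⟩, 1, fun hh => hx1 (congrArg Subtype.val hh)⟩⟩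
  · have hdvd : Nat.card ↥(Subgroup.centralizer ({x} : Set G)) ∣
        Nat.card ↥(Subgroup.normalizer ((Subgroup.centralizer ({x} : Set G) : Subgroup G) : Set G)) :=
      Subgroup.card_dvd_of_le Subgroup.le_normalizer
    obtain ⟨w, hw⟩ := hdvd
    have hpos : 0 < Nat.card ↥(Subgroup.centralizer ({x} : Set G)) := Nat.card_pos
    refine ⟨w, ?_, by rw [hw, mul_comm]⟩
    rw [hw] at hnorm
    rw [mul_comm 6] at hnorm
    exact (Nat.mul_dvd_mul_iff_left hpos).mp hnorm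

end abstract

end Cfsg.Agent.Lib.Helper38.Rh
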