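import Mathlib
import Cfsg.Agent.Lib.Helper38.RhDefs
import Cfsg.Agent.Lib.Helper33.RhT2
import Cfsg.Agent.Lib.Helper40.RhT4core

/-! # Rh hive (helper38), leaf RH-T4: tori are cyclic of order dividing `N` and `> 1`; `|N(T)| = w |T|` with `w ∣ 6` -/

set_option autoImplicit false

namespace Cfsg.Agent.Lib.Helper38.Rh

section abstract
variable {G : Type*} [Group G] [Finite G] {N : ℕ}

theorem torus_basic (h : TorusHyp G N) {T : Subgroup G} (hT : IsTorus N T) :
    IsCyclic ↥T ∧ Nat.card ↥T ∣ N ∧ 1 < Nat.card ↥T ∧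
      ∃ w : ℕ, w ∣ 6 ∧ Nat.card ↥(Subgroup.normalizer (T : Set G)) = w * Nat.card ↥T :=
  t4_core h hT (fun A₀ hA hne => torus_normalizer_eq h hT A₀ hA hne)

end abstract

end Cfsg.Agent.Lib.Helper38.Rh
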