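import Mathlib
set_option autoImplicit false
open Polynomial
open LinearMap (BilinForm)

namespace Cfsg.Agent.Lib.Helper40.Symp

section adj
variable {F : Type*} [Field F] (h : F[X])

/-- the top coordinate functional on `F[X]/(h)` -/
noncomputable def topCoeff (hh : h.Monic) : AdjoinRoot h →ₗ[F] F :=
  (Polynomial.lcoeff F (h.natDegree - 1)) ∘ₗ (AdjoinRoot.modByMonicHom hh)

theorem topCoeff_mk (hh : h.Monic) (f : F[X]) :
    topCoeff h hh (AdjoinRoot.mk h f) = (f %ₘ h).coeff (h.natDegree - 1) := by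
  rw [topCoeff, LinearMap.comp_apply, AdjoinRoot.modByMonicHom_mk]
  rfl

theorem topCoeff_nondeg (hh : h.Monic) (x : AdjoinRoot h)
    (hx : ∀ y, topCoeff h hh (x * y) = 0) : x = 0 := by
  by_contra hx0
  obtain ⟨g, rfl⟩ := AdjoinRoot.mk_surjective x
  set f := g %ₘ h with hf
  have hxf : AdjoinRoot.mk h g = AdjoinRoot.mk h f := by
    have := AdjoinRoot.mk_leftInverse hh (AdjoinRoot.mk h g)
    rw [AdjoinRoot.modByMonicHom_mk] at this
    exact this.symm
  have hf0 : f ≠ 0 := by
    intro h0
    apply hx0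
    rw [hxf, h0, map_zero]
  have hdeg : f.degree < h.degree := degree_modByMonic_lt g hh
  have hnat : f.natDegree < h.natDegree := natDegree_lt_natDegree hf0 hdeg
  obtain ⟨k, hk⟩ : ∃ k, h.natDegree - 1 = f.natDegree + k := ⟨h.natDegree - 1 - f.natDegree, by omega⟩
  have := hx (AdjoinRoot.mk h (X ^ k))
  rw [hxf, ← map_mul, topCoeff_mk] at this
  have hself : (f * X ^ k) %ₘ h = f * X ^ k := by
    rw [modByMonic_eq_self_iff hh]
    rw [degree_eq_natDegree hh.ne_zero, degree_mul, degree_X_pow, degree_eq_natDegree hf0]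
    have : f.natDegree + k < h.natDegree := by omega
    exact_mod_cast this
  rw [hself, hk, coeff_mul_X_pow] at this
  exact hf0 (leadingCoeff_eq_zero.1 this)

theorem charpoly_lmul_root (hh : h.Monic) :
    haveI := (AdjoinRoot.powerBasis' hh).finite
    (Algebra.lmul F (AdjoinRoot h) (AdjoinRoot.root h)).charpoly = h := by
  have := (AdjoinRoot.powerBasis' hh).finite
  have h1 := charpoly_leftMulMatrix (AdjoinRoot.powerBasis' hh)
  rw [Algebra.leftMulMatrix_apply, LinearMap.charpoly_toMatrix] at h1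
  have h2 : (AdjoinRoot.powerBasis' hh).gen = AdjoinRoot.root h := rfl
  rw [h2, AdjoinRoot.minpoly_root hh.ne_zero, hh.leadingCoeff, inv_one, map_one, mul_one] at h1
  exact h1

end adj
end Cfsg.Agent.Lib.Helper40.Symp
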