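import Cfsg.Agent.Lib.Helper40.PSpPoly
set_option autoImplicit false
open Polynomial UniqueFactorizationMonoid

namespace Cfsg.Agent.Lib.Helper40.PSp

open Cfsg.Agent.Lib.Helper40.PrimeOrder Cfsg.Agent.Lib.Helper40.Symp

section fin
variable {F : Type*} [Field F] [Fintype F]

theorem root_ne_zero (π : F[X]) (hm : π.Monic) (hi : Irreducible π) (h0 : π.coeff 0 ≠ 0) :
    haveI : Fact (Irreducible π) := ⟨hi⟩
    AdjoinRoot.root π ≠ 0 := by
  haveI : Fact (Irreducible π) := ⟨hi⟩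
  intro h
  have h1 : AdjoinRoot.mk π X = 0 := by rw [AdjoinRoot.mk_X]; exact h
  have h2 : π ∣ X := AdjoinRoot.mk_eq_zero.1 h1
  have h3 : Associated π X := Irreducible.associated_of_dvd hi irreducible_X h2
  have h4 : π = X := eq_of_monic_of_associated hm monic_X h3
  rw [h4, coeff_X_zero] at h0
  exact h0 rfl

theorem root_pow_card (π : F[X]) (hm : π.Monic) (hi : Irreducible π) (h0 : π.coeff 0 ≠ 0) :
    haveI : Fact (Irreducible π) := ⟨hi⟩
    (AdjoinRoot.root π) ^ (Fintype.card F ^ π.natDegree - 1) = 1 := by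
  haveI : Fact (Irreducible π) := ⟨hi⟩
  have hπne : π ≠ 0 := hm.ne_zero
  set pb := AdjoinRoot.powerBasis hπne with hpb
  have : Module.Finite F (AdjoinRoot π) := pb.finite
  have : Finite (AdjoinRoot π) := Module.finite_of_finite F
  have : Fintype (AdjoinRoot π) := Fintype.ofFinite _
  have hfr : Module.finrank F (AdjoinRoot π) = π.natDegree := by
    rw [pb.finrank, AdjoinRoot.powerBasis_dim]
  have hcardK : Fintype.card (AdjoinRoot π) = Fintype.card F ^ π.natDegree := by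
    rw [← hfr]; exact Module.card_eq_pow_finrank
  rw [← hcardK]
  exact FiniteField.pow_card_sub_one_eq_one _ (root_ne_zero π hm hi h0)

theorem root_pow_eq_one_iff (π : F[X]) (hi : Irreducible π) (k : ℕ) :
    haveI : Fact (Irreducible π) := ⟨hi⟩
    (AdjoinRoot.root π) ^ k = 1 ↔ π ∣ X ^ k - 1 := by
  haveI : Fact (Irreducible π) := ⟨hi⟩
  rw [← AdjoinRoot.mk_eq_zero, map_sub, map_pow, AdjoinRoot.mk_X, map_one, sub_eq_zero]

theorem prime_dvd_orderOf_root (r s : ℕ) (hr : r.Prime) (π : F[X]) (hi : Irreducible π)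
    (hd : π ∣ X ^ (r * s) - 1) (hns : ¬ π ∣ X ^ s - 1) :
    haveI : Fact (Irreducible π) := ⟨hi⟩
    r ∣ orderOf (AdjoinRoot.root π) := by
  haveI : Fact (Irreducible π) := ⟨hi⟩
  have h1 : (AdjoinRoot.root π) ^ (r * s) = 1 := (root_pow_eq_one_iff π hi _).2 hd
  have h2 : orderOf (AdjoinRoot.root π) ∣ r * s := orderOf_dvd_of_pow_eq_one h1
  by_contra hnd
  have h3 : (orderOf (AdjoinRoot.root π)).Coprime r :=
    ((Nat.Prime.coprime_iff_not_dvd hr).2 hnd).symm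
  have h4 : orderOf (AdjoinRoot.root π) ∣ s := h3.dvd_of_dvd_mul_left h2
  exact hns ((root_pow_eq_one_iff π hi _).1 (orderOf_dvd_iff_pow_eq_one.1 h4))

theorem order_dvd_natDegree (r s : ℕ) (hr : r.Prime) (hs0 : 0 < s) (π : F[X]) (hm : π.Monic)
    (hi : Irreducible π) (hd : π ∣ X ^ (r * s) - 1) (hns : ¬ π ∣ X ^ s - 1) :
    orderOf ((Fintype.card F : ℕ) : ZMod r) ∣ π.natDegree := by
  haveI : Fact (Irreducible π) := ⟨hi⟩
  have h0 : π.coeff 0 ≠ 0 := by
    apply coeff_zero_ne_zero_of_dvd (r * s) (Nat.mul_pos hr.pos hs0) π 1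
    rw [pow_one]; exact hd
  have h1 := prime_dvd_orderOf_root r s hr π hi hd hns
  have h2 := orderOf_dvd_of_pow_eq_one (root_pow_card π hm hi h0)
  apply orderOf_dvd_of_pow_eq_one
  rw [pow_eq_one_zmod_iff _ _ _ Fintype.card_pos]
  exact h1.trans h2

/-- a self-reciprocal irreducible polynomial has its root inverted by a power of Frobenius -/
theorem exists_pow_eq_inv (π : F[X]) (hm : π.Monic) (hi : Irreducible π) (h0 : π.coeff 0 ≠ 0)
    (hrec : recip π = π) :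
    haveI : Fact (Irreducible π) := ⟨hi⟩
    ∃ j : ℕ, (AdjoinRoot.root π) ^ (Fintype.card F ^ j) = (AdjoinRoot.root π)⁻¹ := by
  haveI : Fact (Irreducible π) := ⟨hi⟩
  set ζ := AdjoinRoot.root π with hζ
  have hζ0 : ζ ≠ 0 := root_ne_zero π hm hi h0
  haveI : Invertible ζ⁻¹ := invertibleOfNonzero (inv_ne_zero hζ0)
  have hkey : aeval ζ π.reverse = 0 ↔ aeval ζ⁻¹ π = 0 := by
    have := eval₂_reverse_eq_zero_iff (algebraMap F (AdjoinRoot π)) ζ⁻¹ π
    rw [invOf_eq_inv, inv_inv] at this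
    exact this
  have hz : aeval ζ⁻¹ π = 0 := by
    rw [← hkey, reverse_eq_of_coeff_zero π h0, hrec, map_mul, AdjoinRoot.aeval_eq π,
      AdjoinRoot.mk_self, mul_zero]
  have hpb := AdjoinRoot.powerBasis hm.ne_zero
  have : Module.Finite F (AdjoinRoot π) := hpb.finite
  have : Finite (AdjoinRoot π) := Module.finite_of_finite F
  let σ : AdjoinRoot π →ₐ[F] AdjoinRoot π :=
    AdjoinRoot.liftAlgHom π (Algebra.ofId F (AdjoinRoot π)) ζ⁻¹ (by
      rw [aeval_def] at hz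
      exact hz)
  have hσζ : σ ζ = ζ⁻¹ := AdjoinRoot.liftAlgHom_root _ _ _ _
  let σe : AdjoinRoot π ≃ₐ[F] AdjoinRoot π := AlgEquiv.ofBijective σ (AlgHom.bijective σ)
  have hσe : ∀ x, σe x = σ x := fun x => rfl
  obtain ⟨⟨j, hjlt⟩, hj⟩ :=
    (FiniteField.bijective_frobeniusAlgEquivOfAlgebraic_pow F (AdjoinRoot π)).2 σe
  refine ⟨j, ?_⟩
  have h1 : (FiniteField.frobeniusAlgEquivOfAlgebraic F (AdjoinRoot π) ^ j) ζ = ζ⁻¹ := by
    have h2 : (FiniteField.frobeniusAlgEquivOfAlgebraic F (AdjoinRoot π) ^ j) = σe := hj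
    rw [h2, hσe, hσζ]
  rw [AlgEquiv.coe_pow, FiniteField.coe_frobeniusAlgEquivOfAlgebraic_iterate] at h1
  exact h1

theorem exists_dvd_pow_add_one (r s : ℕ) (hr : r.Prime) (hs : s.Prime) (π : F[X]) (hm : π.Monic)
    (hi : Irreducible π) (hd : π ∣ X ^ (r * s) - 1) (hnr : ¬ π ∣ X ^ r - 1)
    (hns : ¬ π ∣ X ^ s - 1) (hrec : recip π = π) :
    ∃ j : ℕ, r ∣ Fintype.card F ^ j + 1 ∧ s ∣ Fintype.card F ^ j + 1 := by
  haveI : Fact (Irreducible π) := ⟨hi⟩
  have h0 : π.coeff 0 ≠ 0 := by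
    apply coeff_zero_ne_zero_of_dvd (r * s) (Nat.mul_pos hr.pos hs.pos) π 1
    rw [pow_one]; exact hd
  obtain ⟨j, hj⟩ := exists_pow_eq_inv π hm hi h0 hrec
  have hζ0 := root_ne_zero π hm hi h0
  have h1 : (AdjoinRoot.root π) ^ (Fintype.card F ^ j + 1) = 1 := by
    rw [pow_succ, hj, inv_mul_cancel₀ hζ0]
  have h2 := orderOf_dvd_of_pow_eq_one h1
  refine ⟨j, (prime_dvd_orderOf_root r s hr π hi hd hns).trans h2, ?_⟩
  exact (prime_dvd_orderOf_root s r hs π hi (by rwa [mul_comm]) hnr).trans h2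

end fin

end Cfsg.Agent.Lib.Helper40.PSp
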