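import Cfsg.Agent.Lib.Helper40.PSLrMain
set_option autoImplicit false
open Polynomial

namespace Cfsg.Agent.Lib.Helper40.PSLr

open Cfsg.Agent.Lib.Helper40.PG Cfsg.Agent.Lib.Helper40.PSp Cfsg.Agent.Lib.Helper40.PSL3
  Cfsg.Agent.Lib.Helper40.PrimeOrder Cfsg.Agent.Lib.Helper40.PSLn Cfsg.Agent.Lib.Helper40.PSL2k

section
variable {F : Type*} [Field F] [Fintype F]

theorem charP_of_card (p a : ℕ) (hp : p.Prime) (hF : Fintype.card F = p ^ a) : CharP F p := by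
  obtain ⟨p', hp'⟩ := CharP.exists F
  have hpp : p'.Prime := CharP.char_is_prime F p'
  have h1 : p' ∣ Fintype.card F := (CharP.cast_eq_zero_iff F p' _).1 (FiniteField.cast_card_eq_zero F)
  rw [hF] at h1
  have h2 : p' = p := (Nat.prime_dvd_prime_iff_eq hpp hp).1 (hpp.dvd_of_dvd_pow h1)
  rw [← h2]; exact hp'

/-- the facts about the set of element orders of `PSL(n, q)` needed below -/
theorem omega_facts (p a n r : ℕ) (hp : p.Prime) (hF : Fintype.card F = p ^ a)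
    (hn : 2 ≤ n) (hr : r.Prime) (hrq : r ∣ Fintype.card F - 1) (hrn : ¬ r ∣ n) :
    ∃ N : ℕ, p ≠ r ∧
      (∀ a ∈ Set.range (orderOf : Matrix.ProjectiveSpecialLinearGroup (Fin n) F → ℕ), 0 < a) ∧
      (∀ a ∈ Set.range (orderOf : Matrix.ProjectiveSpecialLinearGroup (Fin n) F → ℕ), ∀ b, b ∣ a →
        b ∈ Set.range (orderOf : Matrix.ProjectiveSpecialLinearGroup (Fin n) F → ℕ)) ∧
      (∀ a ∈ Set.range (orderOf : Matrix.ProjectiveSpecialLinearGroup (Fin n) F → ℕ), ¬ r ∣ a →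
        r * a ∈ Set.range (orderOf : Matrix.ProjectiveSpecialLinearGroup (Fin n) F → ℕ) ∨
          ∃ e, a ∣ p ^ e * N) ∧
      N ∈ Set.range (orderOf : Matrix.ProjectiveSpecialLinearGroup (Fin n) F → ℕ) ∧
      r ∈ Set.range (orderOf : Matrix.ProjectiveSpecialLinearGroup (Fin n) F → ℕ) ∧
      ((¬ ∃ j : ℕ, n - 1 = p ^ j) →
        ∀ a ∈ Set.range (orderOf : Matrix.ProjectiveSpecialLinearGroup (Fin n) F → ℕ), ∀ e,
          p ^ e ∣ a →
          r * p ^ e ∈ Set.range (orderOf : Matrix.ProjectiveSpecialLinearGroup (Fin n) F → ℕ)) := by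
  classical
  haveI : Fact p.Prime := ⟨hp⟩
  haveI : CharP F p := charP_of_card p a hp hF
  have hq2 : 2 ≤ Fintype.card F := Fintype.one_lt_card
  have hpr : p ≠ r := by
    rintro rfl
    have h1 : p ∣ Fintype.card F := (CharP.cast_eq_zero_iff F p _).1 (FiniteField.cast_card_eq_zero F)
    have h2 : p ∣ Fintype.card F - (Fintype.card F - 1) := Nat.dvd_sub h1 hrq
    have h3 : Fintype.card F - (Fintype.card F - 1) = 1 := by omega
    rw [h3] at h2
    exact hp.one_lt.ne' (Nat.dvd_one.1 h2)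
  obtain ⟨N, hN⟩ : ∃ N, N * Nat.gcd n (Fintype.card F - 1) = gs (Fintype.card F) n :=
    ⟨_, Nat.div_mul_cancel (gcd_dvd_gs (Fintype.card F) n hq2)⟩
  obtain ⟨m, rfl⟩ : ∃ m, n = m + 1 := ⟨n - 1, by omega⟩
  have hm : 1 ≤ m := by omega
  have hex : ∃ e, m ≤ p ^ e := ⟨m, (Nat.lt_pow_self hp.one_lt).le⟩
  obtain ⟨w, hw⟩ := exists_unip_torus (F := F) p m r hm hr hrq hrn hpr.symm (Nat.find hex)
    (Nat.find_spec hex) (fun e' h => Nat.find_min' hex h)
  refine ⟨N, hpr, ?_, ?_, ?_, ?_, ?_, ?_⟩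
  · rintro _ ⟨x, rfl⟩
    exact orderOf_pos x
  · intro a ha b hb
    exact mem_range_of_dvd a b ha hb
  · rintro _ ⟨x, rfl⟩ hx
    exact dichotomy p a hF (m + 1) r (by omega) hr hrq hrn N hN x hx
  · exact exists_singer p (m + 1) (by omega) N hN
  · exact mem_range_of_dvd _ r ⟨w, rfl⟩ (by rw [hw]; exact Dvd.intro _ rfl)
  · intro hnp
    rintro _ ⟨x, rfl⟩ e he
    have hne : m + 1 ≤ p ^ Nat.find hex := by
      have h1 := Nat.find_spec hex
      have h2 : m ≠ p ^ Nat.find hex := fun h => hnp ⟨_, by rw [Nat.add_sub_cancel]; exact h⟩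
      omega
    have hle := p_part_dvd p (by omega) x e (Nat.find hex) he hne
    apply mem_range_of_dvd _ _ ⟨w, rfl⟩
    rw [hw]
    exact Nat.mul_dvd_mul_left r (pow_dvd_pow p hle)

theorem spectrum_three (p a n r m : ℕ) (hp : p.Prime) (hF : Fintype.card F = p ^ a)
    (hn : 2 ≤ n) (hr : r.Prime) (hrq : r ∣ Fintype.card F - 1) (hrn : ¬ r ∣ n) :
    Set.range (orderOf : Matrix.ProjectiveSpecialLinearGroup (Fin n) F ×
        Matrix.ProjectiveSpecialLinearGroup (Fin n) F ×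
        Matrix.ProjectiveSpecialLinearGroup (Fin n) F × Multiplicative (Fin m → ZMod r) → ℕ) =
      Set.range (orderOf : Matrix.ProjectiveSpecialLinearGroup (Fin n) F ×
        Matrix.ProjectiveSpecialLinearGroup (Fin n) F ×
        Matrix.ProjectiveSpecialLinearGroup (Fin n) F → ℕ) := by
  classical
  obtain ⟨N, hpr, hpos, hdiv, hdich, hN, hrΩ, -⟩ := omega_facts (F := F) p a n r hp hF hn hr hrq hrn
  ext o
  constructor
  · rintro ⟨⟨x, y, z, w⟩, rfl⟩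
    rw [Prod.orderOf, Prod.orderOf, Prod.orderOf]
    rcases orderOf_zmod_pi r m hr w with hw | hw
    · refine ⟨(x, y, z), ?_⟩
      rw [Prod.orderOf, Prod.orderOf, hw, Nat.lcm_one_right]
    · rw [hw]
      obtain ⟨a', ⟨x', hx'⟩, b', ⟨y', hy'⟩, c', ⟨z', hz'⟩, hl⟩ :=
        three _ p r N hp hr hpr hpos hdiv hdich hN hrΩ (orderOf x) (orderOf y) (orderOf z)
          ⟨x, rfl⟩ ⟨y, rfl⟩ ⟨z, rfl⟩
      refine ⟨(x', y', z'), ?_⟩
      rw [Prod.orderOf, Prod.orderOf, hx', hy', hz', hl, Nat.lcm_assoc, Nat.lcm_assoc]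
  · rintro ⟨⟨x, y, z⟩, rfl⟩
    refine ⟨(x, y, z, 1), ?_⟩
    rw [Prod.orderOf, Prod.orderOf, Prod.orderOf, Prod.orderOf, Prod.orderOf, orderOf_one,
      Nat.lcm_one_right]

theorem spectrum_two (p a n r m : ℕ) (hp : p.Prime) (hF : Fintype.card F = p ^ a)
    (hn : 2 ≤ n) (hr : r.Prime) (hrq : r ∣ Fintype.card F - 1) (hrn : ¬ r ∣ n)
    (hnp : ¬ ∃ j : ℕ, n - 1 = p ^ j) :
    Set.range (orderOf : Matrix.ProjectiveSpecialLinearGroup (Fin n) F ×
        Matrix.ProjectiveSpecialLinearGroup (Fin n) F × Multiplicative (Fin m → ZMod r) → ℕ) =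
      Set.range (orderOf : Matrix.ProjectiveSpecialLinearGroup (Fin n) F ×
        Matrix.ProjectiveSpecialLinearGroup (Fin n) F → ℕ) := by
  classical
  obtain ⟨N, hpr, hpos, hdiv, hdich, hN, hrΩ, hP⟩ := omega_facts (F := F) p a n r hp hF hn hr hrq hrn
  ext o
  constructor
  · rintro ⟨⟨x, y, w⟩, rfl⟩
    rw [Prod.orderOf, Prod.orderOf]
    rcases orderOf_zmod_pi r m hr w with hw | hw
    · refine ⟨(x, y), ?_⟩
      rw [Prod.orderOf, hw, Nat.lcm_one_right]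
    · rw [hw]
      obtain ⟨a', ⟨x', hx'⟩, b', ⟨y', hy'⟩, hl⟩ :=
        two _ p r N hp hr hpr hpos hdiv hdich hN (hP hnp) (orderOf x) (orderOf y)
          ⟨x, rfl⟩ ⟨y, rfl⟩
      refine ⟨(x', y'), ?_⟩
      rw [Prod.orderOf, hx', hy', hl, Nat.lcm_assoc]
  · rintro ⟨⟨x, y⟩, rfl⟩
    refine ⟨(x, y, 1), ?_⟩
    rw [Prod.orderOf, Prod.orderOf, Prod.orderOf, orderOf_one, Nat.lcm_one_right]

end

end Cfsg.Agent.Lib.Helper40.PSLr
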