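import Cfsg.Agent.Lib.Helper46.AhDefs

/-!
# Ah hive (S2538), leaf AH-E2: for `2 ∉ π` a Hall π-subgroup of `A(α)` is a Hall π-subgroup of `Perm α`
-/

set_option autoImplicit false

namespace Cfsg.Agent.Lib.Helper46.Ah

open Cfsg Equiv
open Cfsg.Agent.Lib.Helper15.Hs (resSub mem_resSub)

section leaves

variable {α : Type*} [Fintype α] [DecidableEq α] {π : Set ℕ} (M : Subgroup (Perm α)) (B : Set α)

/-- The index of the alternating group divides 2. -/
theorem e2_index_alt_dvd_two : (alternatingGroup α).index ∣ 2 := by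
  rcases subsingleton_or_nontrivial α with hs | hn
  · have : Subsingleton (Perm α) := inferInstance
    have h1 : alternatingGroup α = ⊤ := Subsingleton.elim _ _
    rw [h1, Subgroup.index_top]
    exact one_dvd _
  · rw [alternatingGroup.index_eq_two]

theorem hall_of_two_not_mem (hM : AltHall π M) (h2 : 2 ∉ π) : IsPiHall π M := by
  obtain ⟨hle, hH1, hH2⟩ := hM
  refine ⟨fun p hp hpd => ?_, fun p hp hpπ hpd => ?_⟩
  · apply hH1 p hp
    rw [Nat.card_congr (Subgroup.subgroupOfEquivOfLe hle).toEquiv]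
    exact hpd
  · rw [← Subgroup.relIndex_mul_index hle] at hpd
    rcases (Nat.Prime.dvd_mul hp).mp hpd with h | h
    · exact hH2 p hp hpπ h
    · have h3 : p ∣ 2 := dvd_trans h e2_index_alt_dvd_two
      have h4 : p = 2 := (Nat.prime_dvd_prime_iff_eq hp Nat.prime_two).mp h3
      exact h2 (h4 ▸ hpπ)

end leaves

end Cfsg.Agent.Lib.Helper46.Ah
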