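import Cfsg.Agent.Lib.Helper46.AhDefs

/-!
# Ah hive (S2538), leaf AH-GEN1: a Hall π-subgroup meets a normal subgroup in a Hall π-subgroup
-/

set_option autoImplicit false

namespace Cfsg.Agent.Lib.Helper46.Ah

open Cfsg Equiv
open Cfsg.Agent.Lib.Helper15.Hs (resSub mem_resSub)

section general

variable {G : Type*} [Group G] [Finite G] {π : Set ℕ}

/-- `|N| * |K : N| = |K|` for `N ≤ K`. -/
theorem gen1_card_mul_relIndex {N K : Subgroup G} (h : N ≤ K) :
    Nat.card N * N.relIndex K = Nat.card K := by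
  have := Subgroup.relIndex_mul_relIndex (⊥ : Subgroup G) N K bot_le h
  simpa using this

/-- `|HN : H| = |N : H ∩ N|` for a normal subgroup `N`. -/
theorem gen1_relIndex_sup (N : Subgroup G) [N.Normal] (H : Subgroup G) :
    H.relIndex (H ⊔ N) = H.relIndex N := by
  have h1 : N.relIndex (H ⊔ N) = N.relIndex H := Subgroup.relIndex_sup_right H N
  have h2 : Nat.card N * N.relIndex (H ⊔ N) = Nat.card (H ⊔ N : Subgroup G) :=
    gen1_card_mul_relIndex le_sup_right
  have h3 : Nat.card (H ⊓ N : Subgroup G) * (H ⊓ N).relIndex H = Nat.card H :=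
    gen1_card_mul_relIndex inf_le_left
  rw [Subgroup.inf_relIndex_left] at h3
  have h4 : Nat.card (H ⊓ N : Subgroup G) * (H ⊓ N).relIndex N = Nat.card N :=
    gen1_card_mul_relIndex inf_le_right
  rw [Subgroup.inf_relIndex_right] at h4
  have h5 : Nat.card H * H.relIndex (H ⊔ N) = Nat.card (H ⊔ N : Subgroup G) :=
    gen1_card_mul_relIndex le_sup_left
  have hpos : 0 < Nat.card (H ⊓ N : Subgroup G) * N.relIndex H := by
    rw [h3]; exact Nat.card_pos
  have key : Nat.card (H ⊓ N : Subgroup G) * N.relIndex H * H.relIndex (H ⊔ N) =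
      Nat.card (H ⊓ N : Subgroup G) * N.relIndex H * H.relIndex N := by
    calc Nat.card (H ⊓ N : Subgroup G) * N.relIndex H * H.relIndex (H ⊔ N)
        = Nat.card (H ⊔ N : Subgroup G) := by rw [h3, h5]
      _ = Nat.card N * N.relIndex H := by rw [← h2, h1]
      _ = Nat.card (H ⊓ N : Subgroup G) * H.relIndex N * N.relIndex H := by rw [h4]
      _ = Nat.card (H ⊓ N : Subgroup G) * N.relIndex H * H.relIndex N := by ring
  exact Nat.eq_of_mul_eq_mul_left hpos key

theorem isPiHall_subgroupOf_normal (N : Subgroup G) [N.Normal] {H : Subgroup G} (h : IsPiHall π H) :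
    IsPiHall π (H.subgroupOf N) := by
  refine ⟨fun p hp hpd => ?_, fun p hp hpπ hpd => ?_⟩
  · apply h.1 p hp
    refine dvd_trans hpd ?_
    rw [← Subgroup.inf_subgroupOf_right,
      Nat.card_congr (Subgroup.subgroupOfEquivOfLe (inf_le_right : H ⊓ N ≤ N)).toEquiv]
    exact Subgroup.card_dvd_of_le inf_le_left
  · apply h.2 p hp hpπ
    have h1 : (H.subgroupOf N).index = H.relIndex N := rfl
    rw [h1, ← gen1_relIndex_sup N H] at hpd
    exact dvd_trans hpd (Subgroup.relIndex_dvd_index_of_le le_sup_left)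

end general

end Cfsg.Agent.Lib.Helper46.Ah
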