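import Cfsg.Agent.Lib.Helper46.AhDefs

/-!
# Ah hive (S2538), leaf AH-GEN3: the join of two π-subgroups, one normalizing the other, is a π-subgroup
-/

set_option autoImplicit false

namespace Cfsg.Agent.Lib.Helper46.Ah

open Cfsg Equiv
open Cfsg.Agent.Lib.Helper15.Hs (resSub mem_resSub)

section general

variable {G : Type*} [Group G] [Finite G] {π : Set ℕ}

/-- `|N| * |K : N| = |K|` for `N ≤ K`. -/
theorem gen3_card_mul_relIndex {N K : Subgroup G} (h : N ≤ K) :
    Nat.card N * N.relIndex K = Nat.card K := by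
  have := Subgroup.relIndex_mul_relIndex (⊥ : Subgroup G) N K bot_le h
  simpa using this

/-- Product formula `|HN| |H ∩ N| = |H| |N|` when `H` normalizes `N`. -/
theorem gen3_card_sup_mul_card_inf {H N : Subgroup G} (hLE : H ≤ Subgroup.normalizer N) :
    Nat.card (H ⊔ N : Subgroup G) * Nat.card (H ⊓ N : Subgroup G) = Nat.card H * Nat.card N := by
  have h1 : N.relIndex H = N.relIndex (H ⊔ N) := by
    letI := Subgroup.normal_subgroupOf_of_le_normalizer hLE
    letI := Subgroup.normal_subgroupOf_sup_of_le_normalizer hLE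
    exact Nat.card_congr (QuotientGroup.quotientInfEquivProdNormalizerQuotient H N hLE).toEquiv
  have h2 : Nat.card N * N.relIndex (H ⊔ N) = Nat.card (H ⊔ N : Subgroup G) :=
    gen3_card_mul_relIndex le_sup_right
  have h3 : Nat.card (H ⊓ N : Subgroup G) * (H ⊓ N).relIndex H = Nat.card H :=
    gen3_card_mul_relIndex inf_le_left
  rw [Subgroup.inf_relIndex_left] at h3
  rw [← h2, ← h3, ← h1]
  ring

theorem isPiSubgroup_sup {H X : Subgroup G} (hH : IsPiSubgroup π H) (hX : IsPiSubgroup π X)
    (hn : ∀ g ∈ H, ∀ x ∈ X, g * x * g⁻¹ ∈ X) : IsPiSubgroup π (H ⊔ X) := by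
  have hLE : H ≤ Subgroup.normalizer X := by
    intro g hg
    rw [Subgroup.mem_normalizer_iff]
    intro x
    constructor
    · intro hx
      exact hn g hg x hx
    · intro hx
      have := hn g⁻¹ (H.inv_mem hg) _ hx
      simpa [mul_assoc] using this
  intro p hp hpd
  have h1 := gen3_card_sup_mul_card_inf hLE
  have h2 : p ∣ Nat.card H * Nat.card X := by
    rw [← h1]
    exact Dvd.dvd.mul_right hpd _
  rcases (Nat.Prime.dvd_mul hp).mp h2 with h | h
  · exact hH p hp h
  · exact hX p hp h

end general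

end Cfsg.Agent.Lib.Helper46.Ah
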