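import Cfsg.Agent.Lib.Helper40.C2gEngine

/-! # S2405, mechanism A: the closure certificate for E7 (python-generated, helper40)

Starting from the root `3`, the steps `(0, r, _, _)` (Coxeter image of `r`) and `(1, r, s, g)` (commutator of `X_r`, `X_s`
gives `X_g`) reach all roots. -/

set_option autoImplicit false

namespace Cfsg.Agent.Lib.Helper40.C2g

open Cfsg Cfsg.Lie

def stepsE7 : List (ℕ × ℕ × ℕ × ℕ) :=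
  [(0, 3, 0, 0), (0, 8, 0, 0), (0, 34, 0, 0), (0, 54, 0, 0), (0, 57, 0, 0), (0, 100, 0, 0),
   (0, 110, 0, 0), (0, 120, 0, 0), (0, 115, 0, 0), (0, 122, 0, 0), (0, 117, 0, 0), (0, 91, 0, 0),
   (0, 71, 0, 0), (0, 68, 0, 0), (0, 25, 0, 0), (0, 15, 0, 0), (0, 5, 0, 0), (1, 3, 100, 33),
   (0, 33, 0, 0), (0, 53, 0, 0), (0, 99, 0, 0), (0, 109, 0, 0), (0, 119, 0, 0), (0, 125, 0, 0),
   (0, 124, 0, 0), (0, 123, 0, 0), (0, 118, 0, 0), (0, 92, 0, 0), (0, 72, 0, 0), (0, 26, 0, 0),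
   (0, 16, 0, 0), (0, 6, 0, 0), (0, 0, 0, 0), (0, 1, 0, 0), (0, 2, 0, 0), (1, 3, 120, 58),
   (0, 58, 0, 0), (0, 60, 0, 0), (0, 101, 0, 0), (0, 111, 0, 0), (0, 87, 0, 0), (0, 106, 0, 0),
   (0, 114, 0, 0), (0, 89, 0, 0), (0, 70, 0, 0), (0, 67, 0, 0), (0, 65, 0, 0), (0, 24, 0, 0),
   (0, 14, 0, 0), (0, 38, 0, 0), (0, 19, 0, 0), (0, 11, 0, 0), (0, 36, 0, 0), (1, 3, 125, 95),
   (0, 95, 0, 0), (0, 84, 0, 0), (0, 104, 0, 0), (0, 113, 0, 0), (0, 88, 0, 0), (0, 107, 0, 0),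
   (0, 76, 0, 0), (0, 82, 0, 0), (0, 47, 0, 0), (0, 30, 0, 0), (0, 41, 0, 0), (0, 21, 0, 0),
   (0, 12, 0, 0), (0, 37, 0, 0), (0, 18, 0, 0), (0, 49, 0, 0), (0, 43, 0, 0), (1, 3, 124, 74),
   (0, 74, 0, 0), (0, 80, 0, 0), (0, 97, 0, 0), (0, 86, 0, 0), (0, 69, 0, 0), (0, 66, 0, 0),
   (0, 64, 0, 0), (0, 63, 0, 0), (0, 23, 0, 0), (0, 51, 0, 0), (0, 45, 0, 0), (0, 28, 0, 0),
   (0, 39, 0, 0), (0, 56, 0, 0), (0, 59, 0, 0), (0, 61, 0, 0), (0, 62, 0, 0), (1, 3, 84, 17),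
   (0, 17, 0, 0), (0, 48, 0, 0), (0, 94, 0, 0), (0, 83, 0, 0), (0, 103, 0, 0), (0, 112, 0, 0),
   (0, 121, 0, 0), (0, 116, 0, 0), (0, 90, 0, 0), (0, 108, 0, 0), (0, 77, 0, 0), (0, 31, 0, 0),
   (0, 42, 0, 0), (0, 22, 0, 0), (0, 13, 0, 0), (0, 4, 0, 0), (0, 9, 0, 0), (1, 3, 113, 44),
   (0, 44, 0, 0), (0, 27, 0, 0), (0, 93, 0, 0), (0, 73, 0, 0), (0, 79, 0, 0), (0, 96, 0, 0),
   (0, 85, 0, 0), (0, 105, 0, 0), (0, 75, 0, 0), (0, 81, 0, 0), (0, 98, 0, 0), (0, 32, 0, 0),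
   (0, 52, 0, 0), (0, 46, 0, 0), (0, 29, 0, 0), (0, 40, 0, 0), (0, 20, 0, 0)]

set_option maxRecDepth 100000 in
theorem certE7 : certOK chevE7 [3] stepsE7 = true := by decide +kernel

end Cfsg.Agent.Lib.Helper40.C2g
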