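import Cfsg.Agent.Lib.Helper40.C2gEngine

/-! # S2405, mechanism A: the closure certificate for E8 (python-generated, helper40)

Starting from the root `0`, the steps `(0, r, _, _)` (Coxeter image of `r`) and `(1, r, s, g)` (commutator of `X_r`, `X_s`
gives `X_g`) reach all roots. -/

set_option autoImplicit false

namespace Cfsg.Agent.Lib.Helper40.C2g

open Cfsg Cfsg.Lie

def stepsE8 : List (ℕ × ℕ × ℕ × ℕ) :=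
  [(0, 0, 0, 0), (0, 15, 0, 0), (0, 21, 0, 0), (0, 36, 0, 0), (0, 78, 0, 0), (0, 105, 0, 0),
   (0, 169, 0, 0), (0, 184, 0, 0), (0, 204, 0, 0), (0, 226, 0, 0), (0, 234, 0, 0), (0, 235, 0, 0),
   (0, 236, 0, 0), (0, 237, 0, 0), (0, 238, 0, 0), (0, 239, 0, 0), (0, 224, 0, 0), (0, 218, 0, 0),
   (0, 203, 0, 0), (0, 161, 0, 0), (0, 134, 0, 0), (0, 70, 0, 0), (0, 55, 0, 0), (0, 35, 0, 0),
   (0, 13, 0, 0), (0, 5, 0, 0), (0, 4, 0, 0), (0, 3, 0, 0), (0, 2, 0, 0), (1, 0, 235, 110),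
   (0, 110, 0, 0), (0, 170, 0, 0), (0, 185, 0, 0), (0, 205, 0, 0), (0, 227, 0, 0), (0, 219, 0, 0),
   (0, 233, 0, 0), (0, 232, 0, 0), (0, 225, 0, 0), (0, 231, 0, 0), (0, 223, 0, 0), (0, 217, 0, 0),
   (0, 202, 0, 0), (0, 160, 0, 0), (0, 133, 0, 0), (0, 129, 0, 0), (0, 69, 0, 0), (0, 54, 0, 0),
   (0, 34, 0, 0), (0, 12, 0, 0), (0, 20, 0, 0), (0, 6, 0, 0), (0, 7, 0, 0), (0, 14, 0, 0),
   (0, 8, 0, 0), (0, 16, 0, 0), (0, 22, 0, 0), (0, 37, 0, 0), (0, 79, 0, 0), (1, 0, 236, 114),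
   (0, 114, 0, 0), (0, 171, 0, 0), (0, 186, 0, 0), (0, 206, 0, 0), (0, 194, 0, 0), (0, 210, 0, 0),
   (0, 229, 0, 0), (0, 221, 0, 0), (0, 215, 0, 0), (0, 200, 0, 0), (0, 213, 0, 0), (0, 199, 0, 0),
   (0, 158, 0, 0), (0, 132, 0, 0), (0, 128, 0, 0), (0, 125, 0, 0), (0, 68, 0, 0), (0, 53, 0, 0),
   (0, 33, 0, 0), (0, 45, 0, 0), (0, 29, 0, 0), (0, 10, 0, 0), (0, 18, 0, 0), (0, 24, 0, 0),
   (0, 39, 0, 0), (0, 26, 0, 0), (0, 40, 0, 0), (0, 81, 0, 0), (0, 107, 0, 0), (1, 0, 237, 117),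
   (0, 117, 0, 0), (0, 172, 0, 0), (0, 187, 0, 0), (0, 152, 0, 0), (0, 178, 0, 0), (0, 191, 0, 0),
   (0, 209, 0, 0), (0, 196, 0, 0), (0, 156, 0, 0), (0, 181, 0, 0), (0, 193, 0, 0), (0, 155, 0, 0),
   (0, 131, 0, 0), (0, 127, 0, 0), (0, 124, 0, 0), (0, 122, 0, 0), (0, 67, 0, 0), (0, 52, 0, 0),
   (0, 87, 0, 0), (0, 61, 0, 0), (0, 48, 0, 0), (0, 30, 0, 0), (0, 43, 0, 0), (0, 83, 0, 0),
   (0, 58, 0, 0), (0, 46, 0, 0), (0, 84, 0, 0), (0, 108, 0, 0), (0, 112, 0, 0), (1, 0, 238, 119),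
   (0, 119, 0, 0), (0, 173, 0, 0), (0, 136, 0, 0), (0, 143, 0, 0), (0, 166, 0, 0), (0, 150, 0, 0),
   (0, 177, 0, 0), (0, 137, 0, 0), (0, 144, 0, 0), (0, 167, 0, 0), (0, 151, 0, 0), (0, 130, 0, 0),
   (0, 126, 0, 0), (0, 123, 0, 0), (0, 121, 0, 0), (0, 120, 0, 0), (0, 66, 0, 0), (0, 103, 0, 0),
   (0, 96, 0, 0), (0, 73, 0, 0), (0, 89, 0, 0), (0, 62, 0, 0), (0, 102, 0, 0), (0, 95, 0, 0),
   (0, 72, 0, 0), (0, 88, 0, 0), (0, 109, 0, 0), (0, 113, 0, 0), (0, 116, 0, 0), (1, 0, 233, 99),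
   (0, 99, 0, 0), (0, 163, 0, 0), (0, 147, 0, 0), (0, 174, 0, 0), (0, 188, 0, 0), (0, 207, 0, 0),
   (0, 228, 0, 0), (0, 220, 0, 0), (0, 214, 0, 0), (0, 230, 0, 0), (0, 222, 0, 0), (0, 216, 0, 0),
   (0, 201, 0, 0), (0, 159, 0, 0), (0, 183, 0, 0), (0, 140, 0, 0), (0, 76, 0, 0), (0, 92, 0, 0),
   (0, 65, 0, 0), (0, 51, 0, 0), (0, 32, 0, 0), (0, 11, 0, 0), (0, 19, 0, 0), (0, 25, 0, 0),
   (0, 9, 0, 0), (0, 17, 0, 0), (0, 23, 0, 0), (0, 38, 0, 0), (0, 80, 0, 0), (1, 0, 232, 93),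
   (0, 93, 0, 0), (0, 141, 0, 0), (0, 164, 0, 0), (0, 148, 0, 0), (0, 175, 0, 0), (0, 189, 0, 0),
   (0, 208, 0, 0), (0, 195, 0, 0), (0, 211, 0, 0), (0, 197, 0, 0), (0, 212, 0, 0), (0, 198, 0, 0),
   (0, 157, 0, 0), (0, 182, 0, 0), (0, 139, 0, 0), (0, 146, 0, 0), (0, 98, 0, 0), (0, 75, 0, 0),
   (0, 91, 0, 0), (0, 64, 0, 0), (0, 50, 0, 0), (0, 31, 0, 0), (0, 44, 0, 0), (0, 28, 0, 0),
   (0, 42, 0, 0), (0, 27, 0, 0), (0, 41, 0, 0), (0, 82, 0, 0), (0, 57, 0, 0), (1, 0, 225, 71),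
   (0, 71, 0, 0), (0, 162, 0, 0), (0, 135, 0, 0), (0, 142, 0, 0), (0, 165, 0, 0), (0, 149, 0, 0),
   (0, 176, 0, 0), (0, 190, 0, 0), (0, 153, 0, 0), (0, 179, 0, 0), (0, 192, 0, 0), (0, 154, 0, 0),
   (0, 180, 0, 0), (0, 138, 0, 0), (0, 145, 0, 0), (0, 168, 0, 0), (0, 77, 0, 0), (0, 104, 0, 0),
   (0, 97, 0, 0), (0, 74, 0, 0), (0, 90, 0, 0), (0, 63, 0, 0), (0, 49, 0, 0), (0, 86, 0, 0),
   (0, 60, 0, 0), (0, 47, 0, 0), (0, 85, 0, 0), (0, 59, 0, 0), (0, 101, 0, 0)]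

set_option maxRecDepth 100000 in
theorem certE8 : certOK chevE8 [0] stepsE8 = true := by decide +kernel

end Cfsg.Agent.Lib.Helper40.C2g
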