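import Cfsg.Agent.Lib.Helper40.C2gTorus
import Cfsg.Agent.Lib.Helper40.C2gCertE6
import Cfsg.Agent.Lib.Helper40.C2gCertE7
import Cfsg.Agent.Lib.Helper40.C2gCertE8

/-! # S2405, mechanism A (helper40): `g₁ = h_d(k) x_a(1)`, `g₂ = ` Coxeter lift, for `E₆`, `E₇`, `E₈`, all finite fields -/

set_option autoImplicit false

namespace Cfsg.Agent.Lib.Helper40.C2g

open Cfsg Cfsg.Lie Cfsg.Agent.Lib.Helper36

section main
variable (D : ChevalleyDatum) (hD : D ∈ [chevG2, chevB2, chevD4, chevF4, chevE6, chevE7, chevE8])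
  (F : Type*) [Field F]

include hD in
/-- mechanism A: `gc d a = 0`, `gc (cox d) a = ±1`, and a closure certificate from `[a]` -/
theorem mechA [Finite F] (a d : ℕ) (ha : a < D.nroots) (hd : d < D.nroots)
    (hgc0 : gc D d a = 0) (hgc1 : gc D (coxRoot D d) a = 1 ∨ gc D (coxRoot D d) a = -1)
    (steps : List (ℕ × ℕ × ℕ × ℕ)) (hcert : certOK D [a] steps = true) :
    ∃ x y : ↥(D.group F), Subgroup.closure ({x, y} : Set ↥(D.group F)) = ⊤ := by
  have : Fintype F := Fintype.ofFinite F
  obtain ⟨k, hk, hgen⟩ := exists_field_generator F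
  set g1 : GL D.Idx F := hGL D hD F d k * xGL D hD F a 1 with hg1
  set g2 : GL D.Idx F := coxN D hD F with hg2
  set K0 : Subgroup (GL D.Idx F) := Subgroup.closure {g1, g2} with hK0
  have hg1K : g1 ∈ K0 := Subgroup.subset_closure (by simp)
  have hg2K : g2 ∈ K0 := Subgroup.subset_closure (by simp)
  have hh : hGL D hD F d k ∈ K0 := by
    rw [← pow_card_hx D hD F a d ha hd k hk hgc0]
    exact pow_mem hg1K _
  have hx : xGL D hD F a 1 ∈ K0 := by
    have : xGL D hD F a 1 = (hGL D hD F d k)⁻¹ * g1 := by rw [hg1]; group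
    rw [this]
    exact mul_mem (inv_mem hh) hg1K
  have hh' : hGL D hD F (coxRoot D d) k ∈ K0 := hGL_cox_mem D hD F K0 hg2K d hd k hk hh
  have hPa : PX D hD F K0 a :=
    PX_fill D hD F K0 a (coxRoot D d) ha (coxRoot_lt D hD d hd) k hk hgen hgc1 hh' hx
  have hle : D.group F ≤ K0 := by
    apply cert_sound D hD F K0 hg2K [a] steps _ hcert
    intro r hr
    rw [List.mem_singleton] at hr
    subst hr
    exact ⟨ha, hPa⟩
  exact two_gen_of_le D F g1 g2
    (mul_mem (hGL_mem_group D hD F d k) (xGL_mem_group D hD F a 1)) (coxN_mem_group D hD F) hle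

end main

theorem two_gen_E6 (F : Type*) [Field F] [Finite F] :
    ∃ x y : ↥(chevE6.group F), Subgroup.closure ({x, y} : Set ↥(chevE6.group F)) = ⊤ :=
  mechA chevE6 (by simp) F 2 6 (by decide) (by decide) (by decide +kernel) (by decide +kernel) stepsE6 certE6

theorem two_gen_E7 (F : Type*) [Field F] [Finite F] :
    ∃ x y : ↥(chevE7.group F), Subgroup.closure ({x, y} : Set ↥(chevE7.group F)) = ⊤ :=
  mechA chevE7 (by simp) F 3 8 (by decide) (by decide) (by decide +kernel) (by decide +kernel) stepsE7 certE7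

theorem two_gen_E8 (F : Type*) [Field F] [Finite F] :
    ∃ x y : ↥(chevE8.group F), Subgroup.closure ({x, y} : Set ↥(chevE8.group F)) = ⊤ :=
  mechA chevE8 (by simp) F 0 13 (by decide) (by decide) (by decide +kernel) (by decide +kernel) stepsE8 certE8

end Cfsg.Agent.Lib.Helper40.C2g
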