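import Cfsg.Agent.Lib.Helper36.ChevGenN
import Cfsg.Agent.Lib.Helper36.ChevHU

/-! # S2405 (two-generation of the Chevalley groups): the shared engine (helper40)

`K0` is a subgroup of `GL D.Idx F`.  `PX r` (from Helper36): the root subgroup `X_r` lies in `K0`.
* `PX_cox`: if the Coxeter lift `coxN = ∏ n_i(1)` lies in `K0` then `PX r → PX (coxRoot r)`;
* `PX_commMulti`: the commutator formula with all terms but one known;
* `PX_refl`: `PX p_i`, `PX (-p_i)`, `PX r` give `PX (w_i r)`;
* `certOK` / `cert_sound`: a Boolean certificate checker for the closure of a set of roots under these three rules;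
* `hGL_mul'`, `hGL_pow'`, `xGL_pow'`, `PX_fill`: torus / power calculus. -/

set_option autoImplicit false

namespace Cfsg.Agent.Lib.Helper40.C2g

open Cfsg Cfsg.Lie Cfsg.Agent.Lib.Helper36

section defs
variable (D : ChevalleyDatum)

/-- `w_{i₁} w_{i₂} ⋯ w_{i_m} (r)` for `L = [i₁, …, i_m]` -/
def reflList (L : List ℕ) (r : ℕ) : ℕ := L.foldr (fun i s => D.reflectRoot i s) r

/-- the Coxeter element `w_0 w_1 ⋯ w_{l-1}` on root indices -/
def coxRoot (r : ℕ) : ℕ := reflList D (List.range D.rank) r


/-- the terms of the commutator formula whose root is not yet known -/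
def unknownTerms (S : List ℕ) (r s : ℕ) : List (ℕ × ℤ × ℕ × ℕ) :=
  (D.commTerms r s).filter fun c => !S.contains c.1

/-- one certificate step: `(0, r, _, _)` Coxeter image of `r`; `(1, r, s, g)` commutator of `r`, `s` giving `g`;
`(2, i, r, _)` reflection `w_i r` (needs `±p_i` known) -/
def stepNew (S : List ℕ) (st : ℕ × ℕ × ℕ × ℕ) : Option ℕ :=
  match st with
  | (0, r, _, _) => if S.contains r then some (coxRoot D r) else none
  | (1, r, s, g) =>
    if S.contains r && S.contains s && decide (s ≠ r) && decide (s ≠ D.neg r) && decide (g < D.nroots) then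
      match unknownTerms D S r s with
      | [(g', c, i, j)] =>
        if g' == g && (c == 1 || c == -1) && (i == 1 || j == 1) then some g else none
      | _ => none
    else none
  | (2, i, r, _) =>
    if decide (i < D.rank) && S.contains (D.simple i) && S.contains (D.neg (D.simple i)) && S.contains r then
      some (D.reflectRoot i r) else none
  | _ => none

/-- run a certificate -/
def runCert : List ℕ → List (ℕ × ℕ × ℕ × ℕ) → List ℕ
  | S, [] => S
  | S, st :: rest =>
    match stepNew D S st with
    | some g => runCert (g :: S) rest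
    | none => runCert S rest

/-- the certificate reaches all roots -/
def certOK (start : List ℕ) (steps : List (ℕ × ℕ × ℕ × ℕ)) : Bool :=
  (List.range D.nroots).all fun r => (runCert D start steps).contains r

end defs

section main
variable (D : ChevalleyDatum) (hD : D ∈ [chevG2, chevB2, chevD4, chevF4, chevE6, chevE7, chevE8])
  (F : Type*) [Field F] (K0 : Subgroup (GL D.Idx F))

/-- `n_{i₁}(1) n_{i₂}(1) ⋯ n_{i_m}(1)` -/
def nList (L : List ℕ) : GL D.Idx F := (L.map fun i => nGL D hD F (D.simple i) 1).prod

/-- the Coxeter lift -/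
def coxN : GL D.Idx F := nList D hD F (List.range D.rank)

include hD in
theorem reflList_lt (L : List ℕ) (hL : ∀ i ∈ L, i < D.rank) (r : ℕ) (hr : r < D.nroots) :
    reflList D L r < D.nroots := by
  induction L with
  | nil => exact hr
  | cons i L ih =>
    have hi : i < D.rank := hL i (List.mem_cons_self)
    have hL' : ∀ j ∈ L, j < D.rank := fun j hj => hL j (List.mem_cons_of_mem _ hj)
    exact reflectRoot_lt D hD i _ hi (ih hL')

theorem xGL_reflList (L : List ℕ) (hL : ∀ i ∈ L, i < D.rank) (r : ℕ) (hr : r < D.nroots) (t : F) :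
    ∃ t' : F, xGL D hD F (reflList D L r) t = nList D hD F L * xGL D hD F r t' * (nList D hD F L)⁻¹ := by
  induction L generalizing t with
  | nil => exact ⟨t, by simp [reflList, nList]⟩
  | cons i L ih =>
    have hi : i < D.rank := hL i (List.mem_cons_self)
    have hL' : ∀ j ∈ L, j < D.rank := fun j hj => hL j (List.mem_cons_of_mem _ hj)
    have hlt := reflList_lt D hD L hL' r hr
    have h1 := xGL_reflect D hD F i (reflList D L r) hi hlt t
    obtain ⟨t', ht'⟩ := ih hL' (((nEta D i (reflList D L r) : ℤ) : F) * t)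
    refine ⟨t', ?_⟩
    show xGL D hD F (D.reflectRoot i (reflList D L r)) t = _
    rw [h1, ht']
    simp only [nList, List.map_cons, List.prod_cons, mul_inv_rev]
    group

theorem hGL_reflList (L : List ℕ) (hL : ∀ i ∈ L, i < D.rank) (r : ℕ) (hr : r < D.nroots) (t : F) (ht : t ≠ 0) :
    hGL D hD F (reflList D L r) t = nList D hD F L * hGL D hD F r t * (nList D hD F L)⁻¹ := by
  induction L with
  | nil => simp [reflList, nList]
  | cons i L ih =>
    have hi : i < D.rank := hL i (List.mem_cons_self)
    have hL' : ∀ j ∈ L, j < D.rank := fun j hj => hL j (List.mem_cons_of_mem _ hj)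
    have hlt := reflList_lt D hD L hL' r hr
    have h1 := hGL_reflect D hD F i (reflList D L r) hi hlt t ht
    show hGL D hD F (D.reflectRoot i (reflList D L r)) t = _
    rw [h1, ih hL']
    simp only [nList, List.map_cons, List.prod_cons, mul_inv_rev]
    group

include hD in
theorem coxRoot_lt (r : ℕ) (hr : r < D.nroots) : coxRoot D r < D.nroots :=
  reflList_lt D hD _ (fun _ hi => List.mem_range.1 hi) r hr

/-- (W) closure under the Coxeter element -/
theorem PX_cox (hn : coxN D hD F ∈ K0) (r : ℕ) (hr : r < D.nroots) (h : PX D hD F K0 r) :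
    PX D hD F K0 (coxRoot D r) := by
  intro t
  obtain ⟨t', ht'⟩ := xGL_reflList D hD F (List.range D.rank) (fun _ hi => List.mem_range.1 hi) r hr t
  show xGL D hD F (reflList D (List.range D.rank) r) t ∈ K0
  rw [ht']
  exact mul_mem (mul_mem hn (h t')) (inv_mem hn)

/-- conjugating a torus element by the Coxeter lift -/
theorem hGL_cox_mem (hn : coxN D hD F ∈ K0) (r : ℕ) (hr : r < D.nroots) (t : F) (ht : t ≠ 0)
    (h : hGL D hD F r t ∈ K0) : hGL D hD F (coxRoot D r) t ∈ K0 := by
  show hGL D hD F (reflList D (List.range D.rank) r) t ∈ K0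
  rw [hGL_reflList D hD F (List.range D.rank) (fun _ hi => List.mem_range.1 hi) r hr t ht]
  exact mul_mem (mul_mem hn h) (inv_mem hn)


/-- the word of a list of commutator terms -/
def termWord (t u : F) (l : List (ℕ × ℤ × ℕ × ℕ)) : List (ℕ × F) :=
  l.map fun c => (c.1, (c.2.1 : F) * (-t) ^ c.2.2.1 * u ^ c.2.2.2)

theorem wordGL_append (w₁ w₂ : List (ℕ × F)) :
    wordGL D hD F (w₁ ++ w₂) = wordGL D hD F w₁ * wordGL D hD F w₂ := by
  unfold wordGL
  rw [List.map_append, List.prod_append]

theorem wordGL_cons (p : ℕ × F) (w : List (ℕ × F)) :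
    wordGL D hD F (p :: w) = xGL D hD F p.1 p.2 * wordGL D hD F w := by
  unfold wordGL
  rw [List.map_cons, List.prod_cons]

theorem termWord_mem (t u : F) (l : List (ℕ × ℤ × ℕ × ℕ)) (h : ∀ c ∈ l, PX D hD F K0 c.1) :
    wordGL D hD F (termWord F t u l) ∈ K0 := by
  apply wordGL_mem
  intro p hp
  unfold termWord at hp
  obtain ⟨c, hc, rfl⟩ := List.mem_map.1 hp
  exact h c hc _

/-- (C) the commutator formula with all terms but one known -/
theorem PX_commMulti (r s : ℕ) (hr : r < D.nroots) (hs : s < D.nroots) (hne1 : s ≠ r) (hne2 : s ≠ D.neg r)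
    (hPr : PX D hD F K0 r) (hPs : PX D hD F K0 s)
    (l₁ l₂ : List (ℕ × ℤ × ℕ × ℕ)) (g : ℕ) (c : ℤ) (i j : ℕ)
    (hterms : D.commTerms r s = l₁ ++ (g, c, i, j) :: l₂)
    (h₁ : ∀ x ∈ l₁, PX D hD F K0 x.1) (h₂ : ∀ x ∈ l₂, PX D hD F K0 x.1)
    (hc : (c : F) ≠ 0) (hij : i = 1 ∨ j = 1) : PX D hD F K0 g := by
  -- for every `t`, `u` the factor `x_g(c (-t)^i u^j)` lies in `K0`
  have key : ∀ t u : F, xGL D hD F g ((c : F) * (-t) ^ i * u ^ j) ∈ K0 := by
    intro t u
    have hcf := Cfsg.Agent.S1025.result (F := F) D hD r s hr hs hne1 hne2 t u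
    have hw : wordGL D hD F (D.commWord F r s t u) =
        (xGL D hD F r t * xGL D hD F s u)⁻¹ * (xGL D hD F s u * xGL D hD F r t) := by
      rw [eq_inv_mul_iff_mul_eq]
      apply Units.ext
      simp only [Units.val_mul, xGL_coe, wordGL_coe]
      exact hcf.symm
    have hmem : wordGL D hD F (D.commWord F r s t u) ∈ K0 := by
      rw [hw]
      exact mul_mem (inv_mem (mul_mem (hPr _) (hPs _))) (mul_mem (hPs _) (hPr _))
    have hsplit : D.commWord F r s t u =
        termWord F t u l₁ ++ (g, (c : F) * (-t) ^ i * u ^ j) :: termWord F t u l₂ := by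
      unfold ChevalleyDatum.commWord termWord
      rw [hterms, List.map_append, List.map_cons]
    rw [hsplit, wordGL_append, wordGL_cons] at hmem
    have hA := termWord_mem D hD F K0 t u l₁ h₁
    have hB := termWord_mem D hD F K0 t u l₂ h₂
    have h3 := (Subgroup.mul_mem_cancel_left K0 hA).mp hmem
    exact (Subgroup.mul_mem_cancel_right K0 hB).mp h3
  intro v
  rcases hij with rfl | rfl
  · have := key (-(v / (c : F))) 1
    have e : (c : F) * (- -(v / (c : F))) ^ 1 * (1 : F) ^ j = v := by
      rw [neg_neg, pow_one, one_pow, mul_one]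
      field_simp
    rwa [e] at this
  · have := key (-1) (v / (c : F))
    have e : (c : F) * (- (-1 : F)) ^ i * (v / (c : F)) ^ 1 = v := by
      rw [neg_neg, one_pow, mul_one, pow_one]
      field_simp
    rwa [e] at this

/-- (R) `±p_i` known: closure under the fundamental reflection `w_i` -/
theorem PX_refl (i : ℕ) (hi : i < D.rank) (hp : PX D hD F K0 (D.simple i))
    (hm : PX D hD F K0 (D.neg (D.simple i))) (r : ℕ) (hr : r < D.nroots) (h : PX D hD F K0 r) :
    PX D hD F K0 (D.reflectRoot i r) := by
  intro t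
  rw [xGL_reflect D hD F i r hi hr t]
  have hn : nGL D hD F (D.simple i) 1 ∈ K0 := by
    unfold nGL
    apply wordGL_mem
    intro p hp'
    unfold ChevalleyDatum.nWord at hp'
    simp only [List.mem_cons, List.not_mem_nil, or_false] at hp'
    rcases hp' with rfl | rfl | rfl
    · exact hp _
    · exact hm _
    · exact hp _
  exact mul_mem (mul_mem hn (h _)) (inv_mem hn)


/-- splitting a list at the unique element failing a predicate -/
theorem filter_eq_singleton {α : Type*} (p : α → Bool) (l : List α) (x : α) (h : l.filter p = [x]) :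
    ∃ l₁ l₂ : List α, l = l₁ ++ x :: l₂ ∧ (∀ y ∈ l₁, p y = false) ∧ (∀ y ∈ l₂, p y = false) := by
  induction l with
  | nil => simp at h
  | cons a l ih =>
    by_cases ha : p a = true
    · rw [List.filter_cons_of_pos ha] at h
      have h1 : a = x := (List.cons.inj h).1
      have h2 : l.filter p = [] := (List.cons.inj h).2
      refine ⟨[], l, by rw [h1]; rfl, by simp, ?_⟩
      intro y hy
      have := List.filter_eq_nil_iff.mp h2 y hy
      simpa using this
    · have ha' : p a = false := by simpa using ha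
      rw [List.filter_cons_of_neg (by simp [ha'])] at h
      obtain ⟨l₁, l₂, h1, h2, h3⟩ := ih h
      refine ⟨a :: l₁, l₂, by rw [h1]; rfl, ?_, h3⟩
      intro y hy
      rcases List.mem_cons.1 hy with rfl | hy
      · exact ha'
      · exact h2 y hy

/-- soundness of one step -/
theorem stepNew_sound (hn : coxN D hD F ∈ K0) (S : List ℕ)
    (hS : ∀ r ∈ S, r < D.nroots ∧ PX D hD F K0 r) (st : ℕ × ℕ × ℕ × ℕ) (g : ℕ)
    (h : stepNew D S st = some g) : g < D.nroots ∧ PX D hD F K0 g := by
  obtain ⟨tag, a, b, c⟩ := st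
  match tag, h with
  | 0, h =>
    simp only [stepNew] at h
    split_ifs at h with h1
    have h1' := List.contains_iff_mem.1 h1
    obtain ⟨hlt, hP⟩ := hS a h1'
    have : coxRoot D a = g := by simpa using h
    rw [← this]
    exact ⟨coxRoot_lt D hD a hlt, PX_cox D hD F K0 hn a hlt hP⟩
  | 1, h =>
    simp only [stepNew] at h
    split_ifs at h with h1
    simp only [Bool.and_eq_true, decide_eq_true_eq] at h1
    obtain ⟨⟨⟨⟨hr, hs⟩, hne1⟩, hne2⟩, hlt⟩ := h1
    obtain ⟨hrlt, hPr⟩ := hS a (List.contains_iff_mem.1 hr)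
    obtain ⟨hslt, hPs⟩ := hS b (List.contains_iff_mem.1 hs)
    split at h
    · rename_i g' c' i j hunk
      split_ifs at h with h2
      simp only [Bool.and_eq_true, Bool.or_eq_true, beq_iff_eq] at h2
      obtain ⟨⟨hg', hc'⟩, hij⟩ := h2
      have hgc : c = g := by simpa using h
      subst hg'
      obtain ⟨l₁, l₂, hl, hl₁, hl₂⟩ := filter_eq_singleton _ _ _ hunk
      have hknown : ∀ l : List (ℕ × ℤ × ℕ × ℕ), (∀ y ∈ l, (!S.contains y.1) = false) →
          ∀ x ∈ l, PX D hD F K0 x.1 := by
        intro l hl' x hx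
        have := hl' x hx
        simp only [Bool.not_eq_false'] at this
        exact (hS x.1 (List.contains_iff_mem.1 this)).2
      have hcF : ((c' : ℤ) : F) ≠ 0 := by
        rcases hc' with rfl | rfl <;> simp
      rw [← hgc]
      exact ⟨hlt, PX_commMulti D hD F K0 a b hrlt hslt hne1 hne2 hPr hPs l₁ l₂ g' c' i j hl
        (hknown l₁ hl₁) (hknown l₂ hl₂) hcF hij⟩
    · simp at h
  | 2, h =>
    simp only [stepNew] at h
    split_ifs at h with h1
    simp only [Bool.and_eq_true, decide_eq_true_eq] at h1
    obtain ⟨⟨⟨hi, hp⟩, hm⟩, hr⟩ := h1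
    obtain ⟨hrlt, hPr⟩ := hS b (List.contains_iff_mem.1 hr)
    have : D.reflectRoot a b = g := by simpa using h
    rw [← this]
    exact ⟨reflectRoot_lt D hD a b hi hrlt,
      PX_refl D hD F K0 a hi (hS _ (List.contains_iff_mem.1 hp)).2 (hS _ (List.contains_iff_mem.1 hm)).2 b hrlt hPr⟩
  | (n + 3), h =>
    simp [stepNew] at h

/-- soundness of a certificate run -/
theorem runCert_sound (hn : coxN D hD F ∈ K0) (steps : List (ℕ × ℕ × ℕ × ℕ)) (S : List ℕ)
    (hS : ∀ r ∈ S, r < D.nroots ∧ PX D hD F K0 r) :
    ∀ r ∈ runCert D S steps, r < D.nroots ∧ PX D hD F K0 r := by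
  induction steps generalizing S with
  | nil => exact hS
  | cons st rest ih =>
    unfold runCert
    cases hst : stepNew D S st with
    | none => exact ih S hS
    | some g =>
      apply ih
      intro r hr
      rcases List.mem_cons.1 hr with rfl | hr
      · exact stepNew_sound D hD F K0 hn S hS st r hst
      · exact hS r hr

/-- (T) a valid certificate from known root subgroups gives the whole group -/
theorem cert_sound (hn : coxN D hD F ∈ K0) (start : List ℕ) (steps : List (ℕ × ℕ × ℕ × ℕ))
    (hstart : ∀ r ∈ start, r < D.nroots ∧ PX D hD F K0 r) (hcert : certOK D start steps = true) :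
    D.group F ≤ K0 := by
  apply group_le D hD F K0
  intro r hr
  unfold certOK at hcert
  rw [List.all_eq_true] at hcert
  have := hcert r (List.mem_range.2 hr)
  exact (runCert_sound D hD F K0 hn steps start hstart r (List.contains_iff_mem.1 this)).2

end main

end Cfsg.Agent.Lib.Helper40.C2g
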