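import Cfsg.Agent.Lib.Helper40.C2gEngine

/-! # S2405 engine, part 2: torus / power calculus, the fill lemma, transfer to the subtype (helper40) -/

set_option autoImplicit false

namespace Cfsg.Agent.Lib.Helper40.C2g

open Cfsg Cfsg.Lie Cfsg.Agent.Lib.Helper36

section main
variable (D : ChevalleyDatum) (hD : D ∈ [chevG2, chevB2, chevD4, chevF4, chevE6, chevE7, chevE8])
  (F : Type*) [Field F] (K0 : Subgroup (GL D.Idx F))

theorem xGL_add' (r : ℕ) (a b : F) : xGL D hD F r (a + b) = xGL D hD F r a * xGL D hD F r b := by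
  apply Units.ext
  rw [Units.val_mul, xGL_coe, xGL_coe, xGL_coe, x_add' D hD]

theorem xGL_zero' (r : ℕ) : xGL D hD F r 0 = 1 := by
  apply Units.ext
  rw [xGL_coe, x_zero D hD, Units.val_one]

theorem xGL_inv' (r : ℕ) (t : F) : (xGL D hD F r t)⁻¹ = xGL D hD F r (-t) := by
  rw [inv_eq_iff_mul_eq_one, ← xGL_add', add_neg_cancel, xGL_zero']

theorem xGL_pow' (r : ℕ) (t : F) (m : ℕ) : xGL D hD F r t ^ m = xGL D hD F r ((m : F) * t) := by
  induction m with
  | zero => simp [xGL_zero']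
  | succ m ih =>
    rw [pow_succ, ih, ← xGL_add']
    congr 1
    push_cast
    ring

theorem hGL_mul' (r : ℕ) (hr : r < D.nroots) (a b : F) (ha : a ≠ 0) (hb : b ≠ 0) :
    hGL D hD F r (a * b) = hGL D hD F r a * hGL D hD F r b := by
  apply Units.ext
  rw [Units.val_mul, hGL_coe, hGL_coe, hGL_coe, (hMat_all D hD r hr a ha).1, (hMat_all D hD r hr b hb).1,
    (hMat_all D hD r hr (a * b) (mul_ne_zero ha hb)).1, hDiag_mul]

theorem hGL_one' (r : ℕ) (hr : r < D.nroots) : hGL D hD F r 1 = 1 := by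
  apply Units.ext
  rw [hGL_coe, (hMat_all D hD r hr 1 one_ne_zero).1, hDiag_one, Units.val_one]

theorem hGL_pow' (r : ℕ) (hr : r < D.nroots) (a : F) (ha : a ≠ 0) (m : ℕ) :
    hGL D hD F r a ^ m = hGL D hD F r (a ^ m) := by
  induction m with
  | zero => rw [pow_zero, pow_zero, hGL_one' D hD F r hr]
  | succ m ih => rw [pow_succ, ih, pow_succ, hGL_mul' D hD F r hr _ _ (pow_ne_zero _ ha) ha]

theorem hGL_mem_group (r : ℕ) (t : F) : hGL D hD F r t ∈ D.group F := by
  unfold hGL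
  apply wordGL_mem
  intro p _
  exact xGL_mem_group D hD F p.1 p.2

theorem nGL_mem_group (r : ℕ) (t : F) : nGL D hD F r t ∈ D.group F := by
  unfold nGL
  apply wordGL_mem
  intro p _
  exact xGL_mem_group D hD F p.1 p.2

theorem coxN_mem_group : coxN D hD F ∈ D.group F := by
  unfold coxN nList
  apply Subgroup.list_prod_mem
  intro g hg
  obtain ⟨i, _, rfl⟩ := List.mem_map.1 hg
  exact nGL_mem_group D hD F _ _

/-- (F) fill: a torus element acting on `X_a` through `k^{±1}`, `k` a generator, and `x_a(1)` give all of `X_a` -/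
theorem PX_fill (a d' : ℕ) (ha : a < D.nroots) (hd' : d' < D.nroots) (k : F) (hk : k ≠ 0)
    (hgen : ∀ t : F, t ≠ 0 → ∃ m : ℕ, t = k ^ m)
    (hgc : gc D d' a = 1 ∨ gc D d' a = -1) (hh : hGL D hD F d' k ∈ K0) (hx : xGL D hD F a 1 ∈ K0) :
    PX D hD F K0 a := by
  -- an element of `K0` conjugating `x_a(t)` to `x_a(k t)`
  have hconj : ∃ g ∈ K0, ∀ t : F, g * xGL D hD F a t * g⁻¹ = xGL D hD F a (k * t) := by
    rcases hgc with h1 | h1
    · refine ⟨hGL D hD F d' k, hh, fun t => ?_⟩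
      rw [hGL_conj_xGL D hD F d' a hd' ha k hk t, h1, zpow_one]
    · refine ⟨hGL D hD F d' k⁻¹, ?_, fun t => ?_⟩
      · rw [← hGL_inv D hD F d' hd' k hk]
        exact inv_mem hh
      · rw [hGL_conj_xGL D hD F d' a hd' ha k⁻¹ (inv_ne_zero hk) t, h1, zpow_neg, zpow_one, inv_inv]
  obtain ⟨g, hg, hgc'⟩ := hconj
  have hpow : ∀ m : ℕ, xGL D hD F a (k ^ m) ∈ K0 := by
    intro m
    induction m with
    | zero => rwa [pow_zero]
    | succ m ih =>
      have := hgc' (k ^ m)
      rw [pow_succ, mul_comm, ← this]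
      exact mul_mem (mul_mem hg ih) (inv_mem hg)
  intro t
  by_cases ht : t = 0
  · rw [ht, xGL_zero']
    exact one_mem _
  · obtain ⟨m, rfl⟩ := hgen t ht
    exact hpow m

/-- transfer to the subtype `↥(D.group F)` -/
theorem two_gen_of_le (g1 g2 : GL D.Idx F) (h1 : g1 ∈ D.group F) (h2 : g2 ∈ D.group F)
    (h : D.group F ≤ Subgroup.closure {g1, g2}) :
    ∃ a b : ↥(D.group F), Subgroup.closure ({a, b} : Set ↥(D.group F)) = ⊤ := by
  refine ⟨⟨g1, h1⟩, ⟨g2, h2⟩, ?_⟩
  rw [eq_top_iff]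
  intro x _
  have hx := h x.2
  have hmap : (Subgroup.closure ({⟨g1, h1⟩, ⟨g2, h2⟩} : Set ↥(D.group F))).map (D.group F).subtype =
      Subgroup.closure {g1, g2} := by
    rw [MonoidHom.map_closure]
    congr 1
    ext y
    simp [Set.image_pair]
  rw [← hmap] at hx
  obtain ⟨y, hy, hyx⟩ := hx
  have : y = x := Subtype.ext hyx
  rwa [← this]

/-- a generator of the multiplicative group of a finite field, as an element of `F` -/
theorem exists_field_generator [Finite F] :
    ∃ k : F, k ≠ 0 ∧ ∀ t : F, t ≠ 0 → ∃ m : ℕ, t = k ^ m := by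
  obtain ⟨u, hu⟩ := IsCyclic.exists_monoid_generator (α := Fˣ)
  refine ⟨(u : F), u.ne_zero, fun t ht => ?_⟩
  obtain ⟨m, hm⟩ := hu (Units.mk0 t ht)
  refine ⟨m, ?_⟩
  have := congrArg (fun v : Fˣ => (v : F)) hm
  simpa using this.symm

/-- (P0) `(h_d(k) x_a(1))^q = h_d(k)` when `h_d(k)` centralizes `X_a` -/
theorem pow_card_hx [Fintype F] (a d : ℕ) (ha : a < D.nroots) (hd : d < D.nroots) (k : F) (hk : k ≠ 0)
    (hgc0 : gc D d a = 0) :
    (hGL D hD F d k * xGL D hD F a 1) ^ Fintype.card F = hGL D hD F d k := by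
  have hcomm : Commute (hGL D hD F d k) (xGL D hD F a 1) := by
    have := hGL_conj_xGL D hD F d a hd ha k hk 1
    rw [hgc0, zpow_zero, one_mul, mul_inv_eq_iff_eq_mul] at this
    exact this
  rw [hcomm.mul_pow, hGL_pow' D hD F d hd k hk, FiniteField.pow_card, xGL_pow', FiniteField.cast_card_eq_zero, zero_mul,
    xGL_zero', mul_one]

end main

end Cfsg.Agent.Lib.Helper40.C2g
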