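import Mathlib

/-!
# A cross-characteristic degree bound (Landazuri–Seitz style)

Let `F` be a finite field, `K` a field with a primitive additive character `ψ : F → K` and
`|F| ≠ 0` in `K`.  If an elementary abelian group `F^m` acts on `K^d` by matrices `M x`
faithfully, and its non-zero "weights" are permuted transitively by matrices normalising the action,
then `|F|^m - 1 ≤ d`.
-/

set_option autoImplicit false
set_option linter.unusedSectionVars false

namespace Cfsg.Agent.Lib.Helper40.CrossChar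

open Matrix

variable {F : Type*} [Field F] [Fintype F] [DecidableEq F] {K : Type*} [Field K]
  {m d : ℕ} (ψ : AddChar F K)

/-- orthogonality: `∑_x ψ(c ⬝ x)` -/
theorem sum_dot (hψ : ψ.IsPrimitive) (c : Fin m → F) :
    ∑ x : Fin m → F, ψ (c ⬝ᵥ x) = if c = 0 then (Fintype.card F : K) ^ m else 0 := by
  split_ifs with hc
  · subst hc
    simp [Fintype.card_pi]
  · let f : (Fin m → F) →+ F :=
      { toFun := fun x => c ⬝ᵥ x
        map_zero' := dotProduct_zero c
        map_add' := dotProduct_add c }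
    have hχ : ψ.compAddMonoidHom f ≠ 1 := by
      have hψ1 : ψ ≠ 1 := by
        have := hψ (one_ne_zero (α := F))
        rwa [AddChar.mulShift_one] at this
      obtain ⟨t, ht⟩ := AddChar.ne_one_iff.mp hψ1
      obtain ⟨i, hi⟩ : ∃ i, c i ≠ 0 := by
        by_contra hcon
        push Not at hcon
        exact hc (funext hcon)
      rw [AddChar.ne_one_iff]
      refine ⟨Pi.single i (t / c i), ?_⟩
      rw [AddChar.compAddMonoidHom_apply]
      show ψ (c ⬝ᵥ Pi.single i (t / c i)) ≠ 1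
      rw [dotProduct_single, mul_div_cancel₀ _ hi]
      exact ht
    have := AddChar.sum_eq_zero_of_ne_one hχ
    simpa [f, AddChar.compAddMonoidHom_apply] using this

variable (M : (Fin m → F) → Matrix (Fin d) (Fin d) K)

/-- the (unnormalised) projection onto the `a`-weight space -/
noncomputable def EE (a : Fin m → F) : Matrix (Fin d) (Fin d) K :=
  ∑ x : Fin m → F, ψ (-(a ⬝ᵥ x)) • M x

variable {M} (hMadd : ∀ x y, M (x + y) = M x * M y)
include hMadd

theorem M_mul_EE (y a : Fin m → F) : M y * EE ψ M a = ψ (a ⬝ᵥ y) • EE ψ M a := by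
  unfold EE
  rw [Finset.mul_sum, Finset.smul_sum]
  simp_rw [Matrix.mul_smul, ← hMadd]
  rw [Fintype.sum_equiv (Equiv.addLeft y) (fun x => ψ (-(a ⬝ᵥ x)) • M (y + x))
    (fun z => ψ (-(a ⬝ᵥ (-y + z))) • M z) (fun x => by simp)]
  apply Finset.sum_congr rfl
  intro z _
  rw [smul_smul, ← AddChar.map_add_eq_mul]
  congr 2
  rw [dotProduct_add, dotProduct_neg]
  ring

theorem EE_mul_EE (hψ : ψ.IsPrimitive) (b a : Fin m → F) :
    EE ψ M b * EE ψ M a = (if a = b then (Fintype.card F : K) ^ m else 0) • EE ψ M a := by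
  have h1 : EE ψ M b * EE ψ M a = ∑ x : Fin m → F, ψ ((a - b) ⬝ᵥ x) • EE ψ M a := by
    conv_lhs => unfold EE
    rw [Finset.sum_mul]
    conv_lhs => rw [← EE]
    apply Finset.sum_congr rfl
    intro x _
    rw [Matrix.smul_mul, M_mul_EE ψ hMadd, smul_smul, ← AddChar.map_add_eq_mul]
    congr 2
    rw [sub_dotProduct]
    ring
  rw [h1, ← Finset.sum_smul, sum_dot ψ hψ]
  congr 1
  by_cases h : a = b
  · rw [if_pos h, if_pos (sub_eq_zero.mpr h)]
  · rw [if_neg h, if_neg (sub_ne_zero.mpr h)]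

omit hMadd in
theorem sum_EE (hψ : ψ.IsPrimitive) (hM0 : M 0 = 1) :
    ∑ a : Fin m → F, EE ψ M a = (Fintype.card F : K) ^ m • (1 : Matrix (Fin d) (Fin d) K) := by
  unfold EE
  rw [Finset.sum_comm]
  have h1 : ∀ x : Fin m → F, ∑ a : Fin m → F, ψ (-(a ⬝ᵥ x)) • M x =
      (if x = 0 then (Fintype.card F : K) ^ m else 0) • M x := by
    intro x
    rw [← Finset.sum_smul]
    congr 1
    have h2 : ∀ a : Fin m → F, ψ (-(a ⬝ᵥ x)) = ψ ((-x) ⬝ᵥ a) := by
      intro a
      rw [neg_dotProduct, dotProduct_comm]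
    simp_rw [h2]
    rw [sum_dot ψ hψ]
    simp only [neg_eq_zero]
  simp_rw [h1]
  rw [Finset.sum_eq_single 0]
  · rw [if_pos rfl, hM0]
  · intro x _ hx
    rw [if_neg hx, zero_smul]
  · intro h
    exact absurd (Finset.mem_univ _) h

omit hMadd in
/-- conjugation moves the weights -/
theorem L_mul_EE (L : Matrix (Fin d) (Fin d) K) (g g' : Matrix (Fin m) (Fin m) F)
    (hg : g' * g = 1) (hg' : g * g' = 1) (hL : ∀ x, L * M x = M (g *ᵥ x) * L) (a : Fin m → F) :
    L * EE ψ M a = EE ψ M (a ᵥ* g') * L := by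
  unfold EE
  rw [Finset.mul_sum, Finset.sum_mul]
  let e : (Fin m → F) ≃ (Fin m → F) :=
    { toFun := fun x => g *ᵥ x
      invFun := fun z => g' *ᵥ z
      left_inv := fun x => by simp [Matrix.mulVec_mulVec, hg]
      right_inv := fun z => by simp [Matrix.mulVec_mulVec, hg'] }
  apply Fintype.sum_equiv e (fun x => L * ψ (-(a ⬝ᵥ x)) • M x)
    (fun z => ψ (-(a ᵥ* g' ⬝ᵥ z)) • M z * L)
  intro x
  show L * ψ (-(a ⬝ᵥ x)) • M x = ψ (-(a ᵥ* g' ⬝ᵥ (g *ᵥ x))) • M (g *ᵥ x) * L
  rw [Matrix.mul_smul, Matrix.smul_mul, hL, ← Matrix.dotProduct_mulVec, Matrix.mulVec_mulVec, hg,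
    Matrix.one_mulVec]

/-- the degree bound -/
theorem card_sub_one_le (hψ : ψ.IsPrimitive) (hq : (Fintype.card F : K) ≠ 0) (hm : 0 < m)
    (hM0 : M 0 = 1) (hfaith : ∀ x, M x = 1 → x = 0)
    (hconj : ∀ a b : Fin m → F, a ≠ 0 → b ≠ 0 →
      ∃ (L : Matrix (Fin d) (Fin d) K) (g g' : Matrix (Fin m) (Fin m) F),
        IsUnit L ∧ g' * g = 1 ∧ g * g' = 1 ∧ b = a ᵥ* g' ∧ ∀ x, L * M x = M (g *ᵥ x) * L) :
    Fintype.card F ^ m - 1 ≤ d := by
  classical
  have hqm : ((Fintype.card F : K) ^ m) ≠ 0 := pow_ne_zero _ hq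
  -- some non-zero weight occurs
  have h1 : ∃ a : Fin m → F, a ≠ 0 ∧ EE ψ M a ≠ 0 := by
    by_contra hcon
    push Not at hcon
    have h2 : EE ψ M 0 = (Fintype.card F : K) ^ m • (1 : Matrix (Fin d) (Fin d) K) := by
      rw [← sum_EE ψ hψ hM0, Finset.sum_eq_single 0]
      · intro a _ ha
        exact hcon a ha
      · intro h
        exact absurd (Finset.mem_univ _) h
    -- then the action is trivial
    obtain ⟨y, hy⟩ : ∃ y : Fin m → F, y ≠ 0 := ⟨fun _ => 1, fun h => one_ne_zero (congrFun h ⟨0, hm⟩)⟩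
    apply hy
    apply hfaith
    have h3 := M_mul_EE ψ hMadd y 0
    rw [zero_dotProduct, AddChar.map_zero_eq_one, one_smul, h2, Matrix.mul_smul, Matrix.mul_one] at h3
    have h4 := congrArg (fun A => ((Fintype.card F : K) ^ m)⁻¹ • A) h3
    simpa [smul_smul, inv_mul_cancel₀ hqm] using h4
  obtain ⟨a, ha0, ha⟩ := h1
  -- all non-zero weights occur
  have h2 : ∀ b : Fin m → F, b ≠ 0 → EE ψ M b ≠ 0 := by
    intro b hb hEb
    obtain ⟨L, g, g', hL, hg, hg', hba, hLM⟩ := hconj a b ha0 hb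
    have := L_mul_EE ψ L g g' hg hg' hLM a
    rw [← hba, hEb, Matrix.zero_mul] at this
    obtain ⟨Lu, rfl⟩ := hL
    apply ha
    have h3 := congrArg (fun A => ((Lu⁻¹ : (Matrix (Fin d) (Fin d) K)ˣ) : Matrix (Fin d) (Fin d) K) * A) this
    simpa [← Matrix.mul_assoc] using h3
  -- choose non-zero columns
  have h3 : ∀ b : {b : Fin m → F // b ≠ 0}, ∃ j : Fin d, EE ψ M b.1 *ᵥ Pi.single j 1 ≠ 0 := by
    intro b
    by_contra hcon
    push Not at hcon
    apply h2 b.1 b.2
    ext i j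
    have := congrFun (hcon j) i
    simpa using this
  choose j hj using h3
  have hli : LinearIndependent K (fun b : {b : Fin m → F // b ≠ 0} =>
      EE ψ M b.1 *ᵥ (Pi.single (j b) (1 : K))) := by
    rw [Fintype.linearIndependent_iff]
    intro c hc b₀
    have h4 := congrArg (fun v => EE ψ M b₀.1 *ᵥ v) hc
    simp only [Matrix.mulVec_sum, Matrix.mulVec_smul, Matrix.mulVec_mulVec, Matrix.mulVec_zero] at h4
    simp_rw [EE_mul_EE ψ hMadd hψ] at h4
    rw [Finset.sum_eq_single b₀] at h4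
    · rw [if_pos rfl, Matrix.smul_mulVec, smul_smul] at h4
      rcases smul_eq_zero.mp h4 with h5 | h5
      · exact (mul_eq_zero.mp h5).resolve_right hqm
      · exact absurd h5 (hj b₀)
    · intro b _ hb
      rw [if_neg (fun h => hb (Subtype.ext h)), zero_smul, Matrix.zero_mulVec, smul_zero]
    · intro h
      exact absurd (Finset.mem_univ _) h
  have h5 := hli.fintype_card_le_finrank
  rw [Module.finrank_fintype_fun_eq_card, Fintype.card_fin, Fintype.card_subtype_compl,
    Fintype.card_subtype_eq, Fintype.card_pi, Finset.prod_const, Finset.card_univ,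
    Fintype.card_fin] at h5
  exact h5

end Cfsg.Agent.Lib.Helper40.CrossChar
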