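import Cfsg.Agent.Lib.Helper40.CrossChar

/-!
# Cross-characteristic degree bounds, orbit version

Refinements of `CrossChar.card_sub_one_le`: a weight occurs which is non-trivial on a given
element acting non-trivially, and the orbit of an occurring weight under normalising matrices
bounds the degree from below.
-/

set_option autoImplicit false
set_option linter.unusedSectionVars false

namespace Cfsg.Agent.Lib.Helper40.CrossChar

open Matrix

variable {F : Type*} [Field F] [Fintype F] [DecidableEq F] {K : Type*} [Field K]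
  {m d : ℕ} (ψ : AddChar F K) {M : (Fin m → F) → Matrix (Fin d) (Fin d) K}
  (hMadd : ∀ x y, M (x + y) = M x * M y)
include hMadd

/-- an element acting non-trivially is detected by an occurring weight -/
theorem exists_weight (hψ : ψ.IsPrimitive) (hq : (Fintype.card F : K) ≠ 0) (hM0 : M 0 = 1)
    (y : Fin m → F) (hy : M y ≠ 1) : ∃ a : Fin m → F, a ⬝ᵥ y ≠ 0 ∧ EE ψ M a ≠ 0 := by
  classical
  have hqm : ((Fintype.card F : K) ^ m) ≠ 0 := pow_ne_zero _ hq
  by_contra hcon
  push Not at hcon
  apply hy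
  have h1 : M y * ∑ a : Fin m → F, EE ψ M a = ∑ a : Fin m → F, EE ψ M a := by
    rw [Finset.mul_sum]
    apply Finset.sum_congr rfl
    intro a _
    rw [M_mul_EE ψ hMadd]
    by_cases ha : a ⬝ᵥ y = 0
    · rw [ha, AddChar.map_zero_eq_one, one_smul]
    · rw [hcon a ha, smul_zero]
  rw [sum_EE ψ hψ hM0, Matrix.mul_smul, Matrix.mul_one] at h1
  have h4 := congrArg (fun A => ((Fintype.card F : K) ^ m)⁻¹ • A) h1
  simpa [smul_smul, inv_mul_cancel₀ hqm] using h4

/-- the orbit of an occurring weight bounds the degree -/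
theorem card_le_of_orbit (hψ : ψ.IsPrimitive) (hq : (Fintype.card F : K) ≠ 0)
    (a₁ : Fin m → F) (h₁ : EE ψ M a₁ ≠ 0) (S : Finset (Fin m → F))
    (hS : ∀ b ∈ S, ∃ (L : Matrix (Fin d) (Fin d) K) (g g' : Matrix (Fin m) (Fin m) F),
        IsUnit L ∧ g' * g = 1 ∧ g * g' = 1 ∧ b = a₁ ᵥ* g' ∧ ∀ x, L * M x = M (g *ᵥ x) * L) :
    S.card ≤ d := by
  classical
  have hqm : ((Fintype.card F : K) ^ m) ≠ 0 := pow_ne_zero _ hq
  have h2 : ∀ b ∈ S, EE ψ M b ≠ 0 := by
    intro b hb hEb
    obtain ⟨L, g, g', hL, hg, hg', hba, hLM⟩ := hS b hb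
    have := L_mul_EE ψ L g g' hg hg' hLM a₁
    rw [← hba, hEb, Matrix.zero_mul] at this
    obtain ⟨Lu, rfl⟩ := hL
    apply h₁
    have h3 := congrArg (fun A => ((Lu⁻¹ : (Matrix (Fin d) (Fin d) K)ˣ) : Matrix (Fin d) (Fin d) K) * A) this
    simpa [← Matrix.mul_assoc] using h3
  have h3 : ∀ b : {b : Fin m → F // b ∈ S}, ∃ j : Fin d, EE ψ M b.1 *ᵥ Pi.single j 1 ≠ 0 := by
    intro b
    by_contra hcon
    push Not at hcon
    apply h2 b.1 b.2
    ext i j
    have := congrFun (hcon j) i
    simpa using this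
  choose j hj using h3
  have hli : LinearIndependent K (fun b : {b : Fin m → F // b ∈ S} =>
      EE ψ M b.1 *ᵥ (Pi.single (j b) (1 : K))) := by
    rw [Fintype.linearIndependent_iff]
    intro c hc b₀
    have h4 := congrArg (fun v => EE ψ M b₀.1 *ᵥ v) hc
    simp only [Matrix.mulVec_sum, Matrix.mulVec_smul, Matrix.mulVec_mulVec, Matrix.mulVec_zero] at h4
    simp_rw [EE_mul_EE ψ hMadd hψ] at h4
    rw [Finset.sum_eq_single b₀] at h4
    · rw [if_pos rfl, Matrix.smul_mulVec, smul_smul] at h4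
      rcases smul_eq_zero.mp h4 with h5 | h5
      · exact (mul_eq_zero.mp h5).resolve_right hqm
      · exact absurd h5 (hj b₀)
    · intro b _ hb
      rw [if_neg (fun h => hb (Subtype.ext h)), zero_smul, Matrix.zero_mulVec, smul_zero]
    · intro h
      exact absurd (Finset.mem_univ _) h
  have h5 := hli.fintype_card_le_finrank
  rw [Module.finrank_fintype_fun_eq_card, Fintype.card_fin, Fintype.card_coe] at h5
  exact h5

end Cfsg.Agent.Lib.Helper40.CrossChar
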