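import Mathlib

set_option autoImplicit false
set_option linter.unusedSectionVars false

/-!
Class number of a "dicyclic-type" group: a finite group `H` with an abelian subgroup `T` of
index two whose outside elements invert `T`, and with exactly two elements of `T` of square one.
Then `2 * k(H) = |T| + 6`.
-/

namespace Cfsg.Agent.Lib.Helper40

open scoped Classical

section abstract
variable {H : Type*} [Group H]

/-- number of elements commuting with `x` -/
noncomputable def commCount [Fintype H] (x : H) : ℕ :=
  (Finset.univ.filter (fun y : H => Commute x y)).card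

theorem card_commPairs [Fintype H] :
    Nat.card {p : H × H // Commute p.1 p.2} = ∑ x : H, commCount x := by
  rw [Nat.card_eq_fintype_card, Fintype.card_subtype, Finset.card_filter, Fintype.sum_prod_type]
  apply Finset.sum_congr rfl
  intro x _
  rw [commCount, Finset.card_filter]

variable (T : Subgroup H)
  (hidx : T.index = 2)
  (hab : ∀ s ∈ T, ∀ t ∈ T, s * t = t * s)
  (hinv : ∀ g, g ∉ T → ∀ t ∈ T, g * t * g⁻¹ = t⁻¹)
  (z : H) (hz : z ∈ T) (hz1 : z ≠ 1)
  (hZ : ∀ t ∈ T, t * t = 1 ↔ t = 1 ∨ t = z)
include hidx hab hinv hz hz1 hZ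

theorem commute_of_sq_one {x : H} (hx : x ∈ T) (hx2 : x * x = 1) (y : H) : Commute x y := by
  by_cases hy : y ∈ T
  · exact hab x hx y hy
  · have h := hinv y hy x hx
    have hxi : x⁻¹ = x := inv_eq_of_mul_eq_one_left hx2
    rw [hxi] at h
    show x * y = y * x
    calc x * y = (y * x * y⁻¹) * y := by rw [h]
      _ = y * x := by group

theorem commute_iff_mem {x : H} (hx : x ∈ T) (hx2 : x * x ≠ 1) (y : H) : Commute x y ↔ y ∈ T := by
  constructor
  · intro hc
    by_contra hy
    have h := hinv y hy x hx
    have h2 : y * x * y⁻¹ = x := by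
      have : y * x = x * y := hc.eq.symm
      rw [this]; group
    rw [h2] at h
    apply hx2
    calc x * x = x * x⁻¹ := by rw [← h]
      _ = 1 := mul_inv_cancel x
  · intro hy
    exact hab x hx y hy

theorem commute_out_iff {x : H} (hx : x ∉ T) (y : H) :
    Commute x y ↔ (y = 1 ∨ y = z ∨ y = x ∨ y = x * z) := by
  have key : ∀ t ∈ T, Commute x t ↔ (t = 1 ∨ t = z) := by
    intro t ht
    rw [← hZ t ht]
    have h := hinv x hx t ht
    constructor
    · intro hc
      have h2 : x * t * x⁻¹ = t := by
        have : x * t = t * x := hc.eq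
        rw [this]; group
      rw [h2] at h
      calc t * t = t * t⁻¹ := by rw [← h]
        _ = 1 := mul_inv_cancel t
    · intro ht2
      have hti : t⁻¹ = t := inv_eq_of_mul_eq_one_left ht2
      rw [hti] at h
      show x * t = t * x
      calc x * t = (x * t * x⁻¹) * x := by group
        _ = t * x := by rw [h]
  by_cases hy : y ∈ T
  · rw [key y hy]
    constructor
    · rintro (h | h)
      · exact Or.inl h
      · exact Or.inr (Or.inl h)
    · rintro (h | h | h | h)
      · exact Or.inl h
      · exact Or.inr h
      · exact absurd (h ▸ hy) hx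
      · exfalso
        rw [h] at hy
        exact hx ((Subgroup.mul_mem_cancel_right T hz).mp hy)
  · have hxi : x⁻¹ ∉ T := fun h => hx (by simpa using T.inv_mem h)
    have ht : x⁻¹ * y ∈ T := by
      rw [Subgroup.mul_mem_iff_of_index_two hidx]
      exact ⟨fun h => absurd h hxi, fun h => absurd h hy⟩
    have hk := key _ ht
    have hc : Commute x y ↔ Commute x (x⁻¹ * y) := by
      constructor
      · intro h
        exact (Commute.refl x).inv_right.mul_right h
      · intro h
        have : y = x * (x⁻¹ * y) := by group
        rw [this]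
        exact (Commute.refl x).mul_right h
    rw [hc, hk]
    constructor
    · rintro (h | h)
      · right; right; left
        calc y = x * (x⁻¹ * y) := by group
          _ = x := by rw [h, mul_one]
      · right; right; right
        calc y = x * (x⁻¹ * y) := by group
          _ = x * z := by rw [h]
    · rintro (h | h | h | h)
      · exact absurd (h ▸ T.one_mem) hy
      · exact absurd (h ▸ hz) hy
      · left; rw [h]; group
      · right; rw [h]; group

variable [Fintype H]

theorem commCount_central {x : H} (hx : x ∈ T) (hx2 : x * x = 1) :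
    commCount x = Nat.card H := by
  unfold commCount
  rw [Finset.filter_true_of_mem (fun y _ => commute_of_sq_one T hidx hab hinv z hz hz1 hZ hx hx2 y),
    Nat.card_eq_fintype_card]
  rfl

theorem commCount_torus {x : H} (hx : x ∈ T) (hx2 : x * x ≠ 1) :
    commCount x = Nat.card T := by
  unfold commCount
  rw [Nat.card_eq_fintype_card, Fintype.card_subtype]
  congr 1
  ext y
  simp only [Finset.mem_filter, Finset.mem_univ, true_and]
  exact commute_iff_mem T hidx hab hinv z hz hz1 hZ hx hx2 y

theorem commCount_out {x : H} (hx : x ∉ T) : commCount x = 4 := by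
  unfold commCount
  have : Finset.univ.filter (fun y : H => Commute x y) = {1, z, x, x * z} := by
    ext y
    simp only [Finset.mem_filter, Finset.mem_univ, true_and, Finset.mem_insert,
      Finset.mem_singleton]
    exact commute_out_iff T hidx hab hinv z hz hz1 hZ hx y
  rw [this]
  have h1 : (1 : H) ≠ z := fun h => hz1 h.symm
  have h2 : (1 : H) ≠ x := fun h => hx (h ▸ T.one_mem)
  have h3 : (1 : H) ≠ x * z := fun h => hx (by
    have : x = z⁻¹ := eq_inv_of_mul_eq_one_left h.symm
    rw [this]; exact T.inv_mem hz)
  have h4 : z ≠ x := fun h => hx (h ▸ hz)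
  have h5 : z ≠ x * z := fun h => hx (by
    have : x = 1 := by
      have h' : 1 * z = x * z := by rw [one_mul]; exact h
      exact (mul_right_cancel h').symm
    rw [this]; exact T.one_mem)
  have h6 : x ≠ x * z := fun h => hz1 (by
    have h' : x * 1 = x * z := by rw [mul_one]; exact h
    exact (mul_left_cancel h').symm)
  rw [Finset.card_insert_of_notMem, Finset.card_insert_of_notMem, Finset.card_insert_of_notMem,
    Finset.card_singleton]
  · simp only [Finset.mem_singleton]; exact h6
  · simp only [Finset.mem_insert, Finset.mem_singleton]; tauto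
  · simp only [Finset.mem_insert, Finset.mem_singleton]; tauto

theorem two_mul_card_conjClasses_abstract :
    2 * Nat.card (ConjClasses H) = Nat.card T + 6 := by
  classical
  have hcard : Nat.card H = 2 * Nat.card T := by
    rw [← T.card_mul_index, hidx, mul_comm]
  have hTpos : 0 < Nat.card T := Nat.card_pos
  have h1 := card_comm_eq_card_conjClasses_mul_card H
  rw [card_commPairs] at h1
  -- split the sum
  have hsum : ∑ x : H, commCount x =
      ∑ x : H, (if x ∈ T then (if x * x = 1 then Nat.card H else Nat.card T) else 4) := by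
    apply Finset.sum_congr rfl
    intro x _
    by_cases hx : x ∈ T
    · rw [if_pos hx]
      by_cases hx2 : x * x = 1
      · rw [if_pos hx2]; exact commCount_central T hidx hab hinv z hz hz1 hZ hx hx2
      · rw [if_neg hx2]; exact commCount_torus T hidx hab hinv z hz hz1 hZ hx hx2
    · rw [if_neg hx]; exact commCount_out T hidx hab hinv z hz hz1 hZ hx
  rw [hsum] at h1
  -- compute the sum
  have hZc : (Finset.univ.filter (fun x : H => x ∈ T ∧ x * x = 1)).card = 2 := by
    have : Finset.univ.filter (fun x : H => x ∈ T ∧ x * x = 1) = {1, z} := by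
      ext x
      simp only [Finset.mem_filter, Finset.mem_univ, true_and, Finset.mem_insert,
        Finset.mem_singleton]
      constructor
      · rintro ⟨hx, hx2⟩
        exact (hZ x hx).mp hx2
      · rintro (h | h)
        · subst h; exact ⟨T.one_mem, by simp⟩
        · subst h; exact ⟨hz, (hZ x hz).mpr (Or.inr rfl)⟩
    rw [this, Finset.card_insert_of_notMem, Finset.card_singleton]
    simp only [Finset.mem_singleton]
    exact fun h => hz1 h.symm
  have hTc : (Finset.univ.filter (fun x : H => x ∈ T)).card = Nat.card T := by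
    rw [Nat.card_eq_fintype_card, Fintype.card_subtype]
  have hTc2 : (Finset.univ.filter (fun x : H => x ∈ T ∧ ¬ x * x = 1)).card + 2 = Nat.card T := by
    rw [← hTc, ← hZc, ← Finset.card_union_of_disjoint]
    · congr 1
      ext x
      simp only [Finset.mem_union, Finset.mem_filter, Finset.mem_univ, true_and]
      tauto
    · rw [Finset.disjoint_left]
      intro x h1 h2
      simp only [Finset.mem_filter, Finset.mem_univ, true_and] at h1 h2
      exact h1.2 h2.2
  have hOc : (Finset.univ.filter (fun x : H => ¬ x ∈ T)).card + Nat.card T = Nat.card H := by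
    rw [← hTc, Nat.card_eq_fintype_card, ← Finset.card_univ (α := H), add_comm,
      ← Finset.card_union_of_disjoint]
    · congr 1
      ext x
      simp only [Finset.mem_union, Finset.mem_filter, Finset.mem_univ, true_and]
      tauto
    · rw [Finset.disjoint_left]
      intro x h1 h2
      simp only [Finset.mem_filter, Finset.mem_univ, true_and] at h1 h2
      exact h2 h1
  have hval : ∑ x : H, (if x ∈ T then (if x * x = 1 then Nat.card H else Nat.card T) else 4)
      = 2 * Nat.card H
        + (Finset.univ.filter (fun x : H => x ∈ T ∧ ¬ x * x = 1)).card * Nat.card T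
        + (Finset.univ.filter (fun x : H => ¬ x ∈ T)).card * 4 := by
    have e : ∀ x : H, (if x ∈ T then (if x * x = 1 then Nat.card H else Nat.card T) else 4)
        = (if x ∈ T ∧ x * x = 1 then Nat.card H else 0)
          + (if x ∈ T ∧ ¬ x * x = 1 then Nat.card T else 0)
          + (if ¬ x ∈ T then 4 else 0) := by
      intro x
      by_cases hx : x ∈ T <;> by_cases hx2 : x * x = 1 <;> simp [hx, hx2]
    rw [Finset.sum_congr rfl (fun x _ => e x), Finset.sum_add_distrib, Finset.sum_add_distrib,
      ← Finset.sum_filter, ← Finset.sum_filter, ← Finset.sum_filter, Finset.sum_const,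
      Finset.sum_const, Finset.sum_const, hZc]
    simp only [smul_eq_mul]
  rw [hval] at h1
  set m := Nat.card T
  set k := Nat.card (ConjClasses H)
  set a := (Finset.univ.filter (fun x : H => x ∈ T ∧ ¬ x * x = 1)).card
  set b := (Finset.univ.filter (fun x : H => ¬ x ∈ T)).card
  rw [hcard] at h1 hOc
  have hb : b = m := by omega
  have h5 : a * m + 2 * m = m * m := by rw [← hTc2]; ring
  have h3 : (2 * k) * m = (m + 6) * m := by
    have h6 : k * (2 * m) = (2 * k) * m := by ring
    have h7 : (m + 6) * m = m * m + 6 * m := by ring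
    rw [← h6, h7, ← h1, hb, ← h5]; ring
  exact Nat.eq_of_mul_eq_mul_right hTpos h3

end abstract

section relative
variable {G : Type*} [Group G] [Finite G]

/-- Relative version: `T ≤ N` subgroups of a finite group `G`, `N = T ∪ wT`, `T` abelian, `w`
inverts `T`, and `1, z` are the only elements of `T` of square one.  Then `|N| = 2|T|` and
`2 k(N) = |T| + 6`. -/
theorem dic_count (T N : Subgroup G) (w : G)
    (hTN : T ≤ N) (hw : w ∈ N) (hwT : w ∉ T)
    (hN : ∀ g ∈ N, g ∈ T ∨ w⁻¹ * g ∈ T)
    (hab : ∀ s ∈ T, ∀ t ∈ T, s * t = t * s)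
    (hinv : ∀ t ∈ T, w * t * w⁻¹ = t⁻¹)
    (z : G) (hz : z ∈ T) (hz1 : z ≠ 1) (hZ : ∀ t ∈ T, t * t = 1 ↔ t = 1 ∨ t = z) :
    Nat.card N = 2 * Nat.card T ∧ 2 * Nat.card (ConjClasses N) = Nat.card T + 6 := by
  have hidx : (T.subgroupOf N).index = 2 := by
    rw [Subgroup.index_eq_two_iff_exists_notMem_and']
    refine ⟨⟨w⁻¹, N.inv_mem hw⟩, ?_, ?_⟩
    · rw [Subgroup.mem_subgroupOf]
      intro h
      exact hwT (by simpa using T.inv_mem h)
    · intro b
      rw [Subgroup.mem_subgroupOf, Subgroup.mem_subgroupOf]
      rcases hN b.1 b.2 with h | h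
      · exact Or.inr h
      · exact Or.inl h
  have hcT : Nat.card (T.subgroupOf N) = Nat.card T :=
    Nat.card_congr (Subgroup.subgroupOfEquivOfLe hTN).toEquiv
  have hcard : Nat.card N = 2 * Nat.card T := by
    rw [← (T.subgroupOf N).card_mul_index, hidx, hcT, mul_comm]
  refine ⟨hcard, ?_⟩
  have := Fintype.ofFinite N
  rw [← hcT]
  apply two_mul_card_conjClasses_abstract (T.subgroupOf N) hidx ?_ ?_ ⟨z, hTN hz⟩ ?_ ?_ ?_
  · intro s hs t ht
    rw [Subgroup.mem_subgroupOf] at hs ht
    exact Subtype.ext (hab s.1 hs t.1 ht)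
  · intro g hg t ht
    rw [Subgroup.mem_subgroupOf] at hg ht
    apply Subtype.ext
    show g.1 * t.1 * g.1⁻¹ = t.1⁻¹
    have hs : w⁻¹ * g.1 ∈ T := by
      rcases hN g.1 g.2 with h | h
      · exact absurd h hg
      · exact h
    have h1 := hab _ hs t.1 ht
    have h2 := hinv t.1 ht
    have h3 : (w⁻¹ * g.1) * t.1 * (w⁻¹ * g.1)⁻¹ = t.1 := by
      rw [h1]; group
    calc g.1 * t.1 * g.1⁻¹ = w * ((w⁻¹ * g.1) * t.1 * (w⁻¹ * g.1)⁻¹) * w⁻¹ := by group
      _ = t.1⁻¹ := by rw [h3, h2]
  · rw [Subgroup.mem_subgroupOf]; exact hz
  · intro h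
    exact hz1 (congrArg Subtype.val h)
  · intro t ht
    rw [Subgroup.mem_subgroupOf] at ht
    have h := hZ t.1 ht
    constructor
    · intro h2
      have h3 : t.1 * t.1 = 1 := congrArg Subtype.val h2
      rcases h.mp h3 with h4 | h4
      · left; exact Subtype.ext h4
      · right; exact Subtype.ext h4
    · rintro (h2 | h2)
      · rw [h2]; simp
      · apply Subtype.ext
        show t.1 * t.1 = 1
        exact h.mpr (Or.inr (congrArg Subtype.val h2))

end relative

end Cfsg.Agent.Lib.Helper40
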