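import Cfsg.Agent.Lib.Helper40.SympBasic
set_option autoImplicit false
open Polynomial

namespace Cfsg.Agent.Lib.Helper40.Herm

open Cfsg.Agent.Lib.Helper40 Cfsg.Agent.Lib.Helper40.SemisimpleConj

section adj
variable {F : Type*} [Field F] {τ : F →+* F} {V : Type*} [AddCommGroup V] [Module F V]

/-- `g` preserves the sesquilinear form `H`. -/
def HInv (H : V →ₗ[F] V →ₛₗ[τ] F) (g : Module.End F V) : Prop := ∀ u v, H (g u) (g v) = H u v

/-- The adjoint on the level of polynomials, for a unitary operator with `g ^ N = 1`. -/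
noncomputable def hsig (τ : F →+* F) (N : ℕ) (h : F[X]) : F[X] := (h.map τ).comp (X ^ (N - 1))

theorem aeval_hsig (N : ℕ) (g : Module.End F V) (h : F[X]) :
    aeval g (hsig τ N h) = aeval (g ^ (N - 1)) (h.map τ) := by
  unfold hsig
  rw [Polynomial.aeval_comp, map_pow, aeval_X]

theorem hsig_mul (N : ℕ) (h k : F[X]) : hsig τ N (h * k) = hsig τ N h * hsig τ N k := by
  unfold hsig; rw [Polynomial.map_mul]; exact Polynomial.mul_comp _ _ _

theorem hsig_add (N : ℕ) (h k : F[X]) : hsig τ N (h + k) = hsig τ N h + hsig τ N k := by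
  unfold hsig; rw [Polynomial.map_add]; exact Polynomial.add_comp

theorem hsig_sub (N : ℕ) (h k : F[X]) : hsig τ N (h - k) = hsig τ N h - hsig τ N k := by
  unfold hsig; rw [Polynomial.map_sub]; exact Polynomial.sub_comp

theorem hsig_one (N : ℕ) : hsig τ N (1 : F[X]) = 1 := by
  unfold hsig; rw [Polynomial.map_one]; exact Polynomial.one_comp

theorem hsig_C (N : ℕ) (a : F) : hsig τ N (C a) = C (τ a) := by
  unfold hsig; rw [Polynomial.map_C]; exact Polynomial.C_comp

theorem hsig_X (N : ℕ) : hsig τ N (X : F[X]) = X ^ (N - 1) := by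
  unfold hsig; rw [Polynomial.map_X]; exact Polynomial.X_comp

variable {H : V →ₗ[F] V →ₛₗ[τ] F} {g : Module.End F V} {N : ℕ}

theorem hadj_g (hinv : HInv H g) (hN0 : 0 < N) (hN : g ^ N = 1) (u v : V) :
    H (g u) v = H u ((g ^ (N - 1)) v) := by
  have h1 : v = g ((g ^ (N - 1)) v) := by
    have := congrArg (fun f : Module.End F V => f v) (Symp.pow_mul_pow_pred hN0 hN)
    simpa using this.symm
  conv_lhs => rw [h1]
  exact hinv _ _

theorem hadj_g' (hinv : HInv H g) (hN0 : 0 < N) (hN : g ^ N = 1) (u v : V) :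
    H u (g v) = H ((g ^ (N - 1)) u) v := by
  have h1 : u = g ((g ^ (N - 1)) u) := by
    have := congrArg (fun f : Module.End F V => f u) (Symp.pow_mul_pow_pred hN0 hN)
    simpa using this.symm
  conv_lhs => rw [h1]
  exact hinv _ _

theorem hadj_pow (hinv : HInv H g) (hN0 : 0 < N) (hN : g ^ N = 1) (k : ℕ) (u v : V) :
    H ((g ^ k) u) v = H u (((g ^ (N - 1)) ^ k) v) := by
  induction k generalizing u v with
  | zero => simp
  | succ k ih =>
    rw [pow_succ, Module.End.mul_apply, ih, hadj_g hinv hN0 hN, pow_succ', Module.End.mul_apply]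

theorem hadj_pow' (hinv : HInv H g) (hN0 : 0 < N) (hN : g ^ N = 1) (k : ℕ) (u v : V) :
    H u ((g ^ k) v) = H (((g ^ (N - 1)) ^ k) u) v := by
  induction k generalizing u v with
  | zero => simp
  | succ k ih =>
    rw [pow_succ, Module.End.mul_apply, ih, hadj_g' hinv hN0 hN, pow_succ', Module.End.mul_apply]

/-- The adjoint of `h(g)` is `(hsig h)(g)`. -/
theorem hadj_poly (hτ : ∀ a, τ (τ a) = a) (hinv : HInv H g) (hN0 : 0 < N) (hN : g ^ N = 1)
    (h : F[X]) (u v : V) : H (aeval g h u) v = H u (aeval g (hsig τ N h) v) := by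
  rw [aeval_hsig]
  induction h using Polynomial.induction_on' with
  | add p q hp hq =>
    simp only [map_add, LinearMap.add_apply, Polynomial.map_add]
    rw [hp, hq]
  | monomial n a =>
    simp only [aeval_monomial, Module.algebraMap_end_apply, Module.End.mul_apply,
      LinearMap.smul_apply, map_smul, Polynomial.map_monomial, map_smulₛₗ, hτ]
    rw [hadj_pow hinv hN0 hN]

theorem hadj_poly' (hinv : HInv H g) (hN0 : 0 < N) (hN : g ^ N = 1)
    (h : F[X]) (u v : V) : H u (aeval g h v) = H (aeval g (hsig τ N h) u) v := by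
  rw [aeval_hsig]
  induction h using Polynomial.induction_on' with
  | add p q hp hq =>
    simp only [map_add, LinearMap.add_apply, Polynomial.map_add]
    rw [hp, hq]
  | monomial n a =>
    simp only [aeval_monomial, Module.algebraMap_end_apply, Module.End.mul_apply,
      LinearMap.smul_apply, map_smul, Polynomial.map_monomial, map_smulₛₗ]
    rw [hadj_pow' hinv hN0 hN]

/-- `hsig` is an involution modulo `g ^ N = 1`. -/
theorem aeval_hsig_hsig (hτ : ∀ a, τ (τ a) = a) (hN0 : 0 < N) (hN : g ^ N = 1) (h : F[X]) :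
    aeval g (hsig τ N (hsig τ N h)) = aeval g h := by
  rw [aeval_hsig]
  have hmap : (hsig τ N h).map τ = h.comp (X ^ (N - 1)) := by
    unfold hsig
    rw [Polynomial.map_comp, Polynomial.map_map, Polynomial.map_pow, Polynomial.map_X]
    have : τ.comp τ = RingHom.id F := RingHom.ext hτ
    rw [this, Polynomial.map_id]
  rw [hmap, Polynomial.aeval_comp, map_pow, aeval_X]
  have h1 : (g ^ (N - 1)) ^ (N - 1) = g := by
    have h2 : (g ^ (N - 1)) ^ (N - 1) * g ^ (N - 1) = 1 := by
      rw [← pow_succ, Nat.sub_add_cancel hN0, ← pow_mul, mul_comm, pow_mul, hN, one_pow]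
    calc (g ^ (N - 1)) ^ (N - 1) = (g ^ (N - 1)) ^ (N - 1) * (g ^ (N - 1) * g) := by
          rw [Symp.pow_pred_mul hN0 hN, mul_one]
      _ = ((g ^ (N - 1)) ^ (N - 1) * g ^ (N - 1)) * g := by rw [mul_assoc]
      _ = g := by rw [h2, one_mul]
  rw [h1]

end adj

end Cfsg.Agent.Lib.Helper40.Herm
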