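import Cfsg.Agent.Lib.Helper40.HermAdj
set_option autoImplicit false
open Polynomial

namespace Cfsg.Agent.Lib.Helper40.Herm

open Cfsg.Agent.Lib.Helper40 Cfsg.Agent.Lib.Helper40.SemisimpleConj

section basic
variable {F : Type*} [Field F] {τ : F →+* F} {V : Type*} [AddCommGroup V] [Module F V]

/-- `H` is nondegenerate on the subspace `W`. -/
def HNondegOn (H : V →ₗ[F] V →ₛₗ[τ] F) (W : Submodule F V) : Prop :=
  ∀ x ∈ W, (∀ y ∈ W, H x y = 0) → x = 0

/-- `W` is totally isotropic. -/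
def HIsotropic (H : V →ₗ[F] V →ₛₗ[τ] F) (W : Submodule F V) : Prop :=
  ∀ x ∈ W, ∀ y ∈ W, H x y = 0

/-- `H` is nondegenerate. -/
def HNondeg (H : V →ₗ[F] V →ₛₗ[τ] F) : Prop := ∀ x, (∀ y, H x y = 0) → x = 0

/-- `H` is hermitian. -/
def IsHermitian (H : V →ₗ[F] V →ₛₗ[τ] F) : Prop := ∀ u v, τ (H u v) = H v u

/-- the orthogonal complement -/
def hperp (H : V →ₗ[F] V →ₛₗ[τ] F) (W : Submodule F V) : Submodule F V where
  carrier := {x | ∀ w ∈ W, H x w = 0}
  add_mem' := by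
    intro a b ha hb w hw
    rw [map_add, LinearMap.add_apply, ha w hw, hb w hw, add_zero]
  zero_mem' := by
    intro w _
    simp
  smul_mem' := by
    intro c x hx w hw
    rw [map_smul, LinearMap.smul_apply, hx w hw, smul_zero]

variable {H : V →ₗ[F] V →ₛₗ[τ] F} {g : Module.End F V} {N : ℕ}

theorem mem_hperp {W : Submodule F V} {x : V} : x ∈ hperp H W ↔ ∀ w ∈ W, H x w = 0 := Iff.rfl

theorem herm_swap (hH : IsHermitian H) {x y : V} (h : H x y = 0) : H y x = 0 := by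
  rw [← hH x y, h, map_zero]

theorem mem_hperp' (hH : IsHermitian H) {W : Submodule F V} {x : V} :
    x ∈ hperp H W ↔ ∀ w ∈ W, H w x = 0 :=
  ⟨fun h w hw => herm_swap hH (h w hw), fun h w hw => herm_swap hH (h w hw)⟩

theorem hnondegOn_top (hnd : HNondeg H) : HNondegOn H ⊤ := by
  intro x _ hx
  exact hnd x (fun y => hx y trivial)

theorem hperp_invt (hinv : HInv H g) (hN0 : 0 < N) (hN : g ^ N = 1)
    (W : Submodule F V) (hW : ∀ x ∈ W, g x ∈ W) : ∀ x ∈ hperp H W, g x ∈ hperp H W := by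
  intro x hx w hw
  rw [hadj_g hinv hN0 hN]
  apply hx
  have : ∀ k : ℕ, ∀ y ∈ W, (g ^ k) y ∈ W := by
    intro k
    induction k with
    | zero => intro y hy; simpa using hy
    | succ k ih =>
      intro y hy
      rw [pow_succ, Module.End.mul_apply]
      exact ih _ (hW y hy)
  exact this _ w hw

theorem hortho_sig (hτ : ∀ a, τ (τ a) = a) (hinv : HInv H g) (hN0 : 0 < N) (hN : g ^ N = 1)
    (p : F[X]) (x : V) (hx : aeval g p x = 0) (v : V) : H x (aeval g (hsig τ N p) v) = 0 := by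
  rw [← hadj_poly hτ hinv hN0 hN, hx]
  simp

/-- A degenerate cyclic irreducible submodule is totally isotropic. -/
theorem hisotropic_of_degenerate (hinv : HInv H g)
    (hN0 : 0 < N) (hN : g ^ N = 1) (p : F[X]) (hp : Irreducible p) (v : V)
    (hpv : aeval g p v = 0) (hdeg : ¬ HNondegOn H (cyc g v)) : HIsotropic H (cyc g v) := by
  unfold HNondegOn at hdeg
  push Not at hdeg
  obtain ⟨x, hx, hxy, hx0⟩ := hdeg
  let R : Submodule F V := cyc g v ⊓ hperp H (cyc g v)
  have hRinv : ∀ y ∈ R, g y ∈ R := by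
    intro y hy
    exact Submodule.mem_inf.2 ⟨cyc_invt g v y (Submodule.mem_inf.1 hy).1,
      hperp_invt hinv hN0 hN _ (cyc_invt g v) y (Submodule.mem_inf.1 hy).2⟩
  have hxR : x ∈ R := Submodule.mem_inf.2 ⟨hx, hxy⟩
  have hvR : v ∈ R := by
    have h1 := Symp.mem_cyc_of_ne_zero p hp v hpv x hx hx0
    exact Symp.cyc_le x R hRinv hxR h1
  have hle : cyc g v ≤ R := Symp.cyc_le v R hRinv hvR
  intro a ha b hb
  exact (Submodule.mem_inf.1 (hle ha)).2 b hb

end basic

end Cfsg.Agent.Lib.Helper40.Herm
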