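import Cfsg.Agent.Lib.Helper40.SemisimpleConj
set_option autoImplicit false
open Polynomial

namespace Cfsg.Agent.Lib.Helper40.SemisimpleConj


/-- The block of an irreducible polynomial: multiplication by the root on `F[X]/(p)`. -/
theorem exists_irred_block {F : Type*} [Field F] [Fintype F] (p : F[X]) (hpm : p.Monic)
    (hpi : Irreducible p) (hp0 : p.coeff 0 ≠ 0) :
    ∃ (ι : Type) (_ : Fintype ι) (_ : DecidableEq ι) (A : Matrix ι ι F) (N : ℕ),
      Fintype.card ι = p.natDegree ∧ A.charpoly = p ∧ (N : F) ≠ 0 ∧ A ^ N = 1 := by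
  classical
  have : Fact (Irreducible p) := ⟨hpi⟩
  have hpne : p ≠ 0 := hpm.ne_zero
  set pb := AdjoinRoot.powerBasis hpne with hpb
  have hdim : pb.dim = p.natDegree := AdjoinRoot.powerBasis_dim hpne
  set A0 : Matrix (Fin pb.dim) (Fin pb.dim) F := Algebra.leftMulMatrix pb.basis pb.gen with hA0
  have hcp : A0.charpoly = p := by
    rw [hA0, charpoly_leftMulMatrix, AdjoinRoot.powerBasis_gen, AdjoinRoot.minpoly_root hpne,
      hpm.leadingCoeff, inv_one, C_1, mul_one]
  have : Module.Finite F (AdjoinRoot p) := pb.finite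
  have : Finite (AdjoinRoot p) := Module.finite_of_finite F
  have : Fintype (AdjoinRoot p) := Fintype.ofFinite _
  have hroot : AdjoinRoot.root p ≠ 0 := by
    intro h0
    have h1 := AdjoinRoot.eval₂_root p
    rw [h0, Polynomial.eval₂_at_zero] at h1
    exact hp0 ((map_eq_zero_iff _ (AdjoinRoot.of p).injective).1 h1)
  have hcard : ((Fintype.card (AdjoinRoot p) : ℕ) : F) = 0 := by
    have h1 : ((Fintype.card (AdjoinRoot p) : ℕ) : AdjoinRoot p) = 0 :=
      FiniteField.cast_card_eq_zero (AdjoinRoot p)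
    have h2 : algebraMap F (AdjoinRoot p) ((Fintype.card (AdjoinRoot p) : ℕ) : F) = 0 := by
      rw [map_natCast]; exact h1
    exact (map_eq_zero_iff _ (algebraMap F (AdjoinRoot p)).injective).1 h2
  have hpos : 1 ≤ Fintype.card (AdjoinRoot p) := Fintype.card_pos
  refine ⟨Fin pb.dim, inferInstance, inferInstance, A0, Fintype.card (AdjoinRoot p) - 1, ?_, hcp,
    ?_, ?_⟩
  · rw [Fintype.card_fin, hdim]
  · rw [Nat.cast_sub hpos, hcard, Nat.cast_one, zero_sub]
    exact neg_ne_zero.2 one_ne_zero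
  · rw [hA0, ← map_pow, AdjoinRoot.powerBasis_gen, FiniteField.pow_card_sub_one_eq_one _ hroot,
      map_one]



/-- Every monic polynomial with nonzero constant term is the characteristic polynomial of a matrix
of finite order prime to the characteristic. -/
theorem exists_matrix_of_charpoly {F : Type*} [Field F] [Fintype F] : ∀ (n : ℕ) (f : F[X]),
    f.Monic → f.natDegree = n → f.coeff 0 ≠ 0 →
    ∃ (ι : Type) (_ : Fintype ι) (_ : DecidableEq ι) (A : Matrix ι ι F) (N : ℕ),
      Fintype.card ι = n ∧ A.charpoly = f ∧ (N : F) ≠ 0 ∧ A ^ N = 1 := by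
  intro n
  induction n using Nat.strong_induction_on with
  | _ n ih =>
    intro f hfm hfd hf0
    rcases Nat.eq_zero_or_pos n with h0 | hpos
    · subst h0
      have hf1 : f = 1 := Polynomial.eq_one_of_monic_natDegree_zero hfm hfd
      refine ⟨Fin 0, inferInstance, inferInstance, 1, 1, by simp, ?_, by simp, by simp⟩
      rw [hf1, Matrix.charpoly, Matrix.det_isEmpty]
    · have hnu : ¬ IsUnit f := by
        intro hu
        have := Polynomial.natDegree_eq_zero_of_isUnit hu
        omega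
      obtain ⟨p, hpm, hpi, ⟨f₁, hf₁⟩⟩ := Polynomial.exists_monic_irreducible_factor f hnu
      have hf₁m : f₁.Monic := Polynomial.Monic.of_mul_monic_left hpm (hf₁ ▸ hfm)
      have hc0 : p.coeff 0 * f₁.coeff 0 ≠ 0 := by
        rw [← Polynomial.mul_coeff_zero, ← hf₁]; exact hf0
      have hp0 : p.coeff 0 ≠ 0 := left_ne_zero_of_mul hc0
      have hf₁0 : f₁.coeff 0 ≠ 0 := right_ne_zero_of_mul hc0
      have hdeg : p.natDegree + f₁.natDegree = n := by
        rw [← hfd, hf₁, Polynomial.Monic.natDegree_mul hpm hf₁m]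
      have hdpos := hpi.natDegree_pos
      obtain ⟨ι₁, _, _, A₁, N₁, hc₁, hcp₁, hN₁, hA₁⟩ := exists_irred_block p hpm hpi hp0
      obtain ⟨ι₂, _, _, A₂, N₂, hc₂, hcp₂, hN₂, hA₂⟩ :=
        ih f₁.natDegree (by omega) f₁ hf₁m rfl hf₁0
      refine ⟨ι₁ ⊕ ι₂, inferInstance, inferInstance, Matrix.fromBlocks A₁ 0 0 A₂, N₁ * N₂, ?_, ?_,
        ?_, ?_⟩
      · rw [Fintype.card_sum, hc₁, hc₂, hdeg]
      · rw [Matrix.charpoly_fromBlocks_zero₁₂, hcp₁, hcp₂, hf₁]
      · rw [Nat.cast_mul]; exact mul_ne_zero hN₁ hN₂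
      · rw [Matrix.fromBlocks_diagonal_pow, pow_mul, hA₁, one_pow, mul_comm, pow_mul, hA₂, one_pow,
          Matrix.fromBlocks_one]



theorem exists_GL_of_charpoly {F : Type*} [Field F] [Fintype F] (p : ℕ) [Fact p.Prime] [CharP F p]
    (n : ℕ) (f : F[X]) (hfm : f.Monic) (hfd : f.natDegree = n) (hf0 : f.coeff 0 ≠ 0) :
    ∃ g : GL (Fin n) F, (orderOf g).Coprime p ∧ (g : Matrix (Fin n) (Fin n) F).charpoly = f := by
  obtain ⟨ι, _, _, A, N, hc, hcp, hN, hA⟩ := exists_matrix_of_charpoly n f hfm hfd hf0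
  set e := Fintype.equivFinOfCardEq hc with he
  set B : Matrix (Fin n) (Fin n) F := Matrix.reindexAlgEquiv F F e A with hBdef
  have hB : B ^ N = 1 := by rw [hBdef, ← map_pow, hA, map_one]
  have hBc : B.charpoly = f := by rw [← hcp]; exact Matrix.charpoly_reindex e A
  have hNpos : 0 < N := Nat.pos_of_ne_zero (by rintro rfl; simp at hN)
  let g : GL (Fin n) F := ⟨B, B ^ (N - 1), by rw [← pow_succ', Nat.sub_add_cancel hNpos, hB],
    by rw [← pow_succ, Nat.sub_add_cancel hNpos, hB]⟩
  have hgN : g ^ N = 1 := Units.ext (by simpa [g] using hB)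
  refine ⟨g, ?_, hBc⟩
  have hdvd : orderOf g ∣ N := orderOf_dvd_of_pow_eq_one hgN
  have hNp : Nat.Coprime N p := by
    rw [Nat.coprime_comm, Nat.Prime.coprime_iff_not_dvd Fact.out]
    intro hd
    apply hN
    rw [CharP.cast_eq_zero_iff F p]
    exact hd
  exact Nat.Coprime.coprime_dvd_left hdvd hNp



section vec
variable {F : Type*} [Field F]

/-- The monic polynomial of degree `n` with lower coefficients `a`. -/
noncomputable def vecPoly {n : ℕ} (a : Fin n → F) : F[X] :=
  X ^ n + ∑ i : Fin n, C (a i) * X ^ (i : ℕ)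

theorem vecPoly_monic {n : ℕ} (a : Fin n → F) : (vecPoly a).Monic :=
  monic_X_pow_add (degree_sum_fin_lt a)

theorem vecPoly_natDegree {n : ℕ} (a : Fin n → F) : (vecPoly a).natDegree = n := by
  unfold vecPoly
  rw [natDegree_add_eq_left_of_degree_lt, natDegree_X_pow]
  rw [degree_X_pow]
  exact degree_sum_fin_lt a

theorem vecPoly_coeff {n : ℕ} (a : Fin n → F) (i : Fin n) : (vecPoly a).coeff i = a i := by
  unfold vecPoly
  rw [coeff_add, coeff_X_pow, if_neg (by have := i.2; omega), zero_add, finsetSum_coeff]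
  simp only [coeff_C_mul, coeff_X_pow]
  rw [Finset.sum_eq_single i]
  · simp
  · intro j _ hj
    rw [if_neg, mul_zero]
    intro h
    exact hj (Fin.ext h.symm)
  · intro h
    exact absurd (Finset.mem_univ i) h

/-- The coefficient vector of the characteristic polynomial. -/
noncomputable def cpVec {n : ℕ} (A : Matrix (Fin n) (Fin n) F) : Fin n → F :=
  fun i => A.charpoly.coeff i

theorem eq_of_coeff_eq {n : ℕ} (f g : F[X]) (hf : f.Monic) (hg : g.Monic) (hfd : f.natDegree = n)
    (hgd : g.natDegree = n) (h : ∀ i : Fin n, f.coeff i = g.coeff i) : f = g := by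
  ext k
  rcases lt_trichotomy k n with hk | hk | hk
  · exact h ⟨k, hk⟩
  · subst hk
    have h1 := hf.coeff_natDegree
    have h2 := hg.coeff_natDegree
    rw [hfd] at h1
    rw [hgd] at h2
    rw [h1, h2]
  · rw [coeff_eq_zero_of_natDegree_lt (by omega), coeff_eq_zero_of_natDegree_lt (by omega)]

theorem charpoly_eq_of_cpVec_eq {n : ℕ} (A B : Matrix (Fin n) (Fin n) F) (h : cpVec A = cpVec B) :
    A.charpoly = B.charpoly := by
  apply eq_of_coeff_eq (n := n) _ _ (Matrix.charpoly_monic A) (Matrix.charpoly_monic B)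
    (by rw [Matrix.charpoly_natDegree_eq_dim, Fintype.card_fin])
    (by rw [Matrix.charpoly_natDegree_eq_dim, Fintype.card_fin])
  intro i
  exact congrFun h i

theorem cpVec_eq_of_charpoly_eq_vecPoly {n : ℕ} (A : Matrix (Fin n) (Fin n) F) (a : Fin n → F)
    (h : A.charpoly = vecPoly a) : cpVec A = a := by
  funext i
  unfold cpVec
  rw [h, vecPoly_coeff]

end vec

section card
variable {F : Type*} [Fintype F]

theorem card_vec_eq (m : ℕ) (c : F) :
    Nat.card {a : Fin (m + 1) → F // a 0 = c} = Fintype.card F ^ m := by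
  classical
  have e : {a : Fin (m + 1) → F // a 0 = c} ≃ (Fin m → F) :=
    { toFun := fun a => Fin.tail a.1
      invFun := fun b => ⟨Fin.cons c b, by simp⟩
      left_inv := by
        rintro ⟨a, ha⟩
        apply Subtype.ext
        simp only
        rw [← ha]
        exact Fin.cons_self_tail a
      right_inv := by
        intro b
        simp }
  rw [Nat.card_congr e, Nat.card_eq_fintype_card, Fintype.card_fun, Fintype.card_fin]

theorem card_vec_ne [Field F] (m : ℕ) :
    Nat.card {a : Fin (m + 1) → F // a 0 ≠ 0} = (Fintype.card F - 1) * Fintype.card F ^ m := by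
  classical
  have h1 := card_vec_eq (F := F) m 0
  rw [Nat.card_eq_fintype_card] at h1 ⊢
  rw [Fintype.card_subtype_compl, h1, Fintype.card_fun, Fintype.card_fin, pow_succ,
    Nat.sub_mul, one_mul, mul_comm]

end card




section classes
variable {F : Type*} [Field F]

theorem charpoly_eq_of_isConj {ι : Type*} [Fintype ι] [DecidableEq ι] (g h : GL ι F)
    (hc : IsConj g h) : (g : Matrix ι ι F).charpoly = (h : Matrix ι ι F).charpoly := by
  obtain ⟨k, hk⟩ := isConj_iff.1 hc
  rw [← hk]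
  have h1 : ((k * g * k⁻¹ : GL ι F) : Matrix ι ι F) =
      (k : Matrix ι ι F) * (g : Matrix ι ι F) * ((k⁻¹ : GL ι F) : Matrix ι ι F) := by
    simp
  rw [h1, Matrix.charpoly_mul_comm, ← mul_assoc]
  have h2 : ((k⁻¹ : GL ι F) : Matrix ι ι F) * (k : Matrix ι ι F) = 1 := by
    rw [← Matrix.GeneralLinearGroup.coe_mul, inv_mul_cancel]; rfl
  rw [h2, one_mul]

theorem coeff_zero_charpoly_ne_zero {n : ℕ} (g : GL (Fin n) F) :
    (g : Matrix (Fin n) (Fin n) F).charpoly.coeff 0 ≠ 0 := by
  intro h0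
  have h1 := Matrix.det_eq_sign_charpoly_coeff (g : Matrix (Fin n) (Fin n) F)
  rw [h0, mul_zero] at h1
  have h2 := (Matrix.GeneralLinearGroup.det g).ne_zero
  rw [Matrix.GeneralLinearGroup.val_det_apply] at h2
  exact h2 h1

theorem card_GL_semisimple_classes [Fintype F] (p : ℕ) [Fact p.Prime] [CharP F p] (m : ℕ) :
    Nat.card {c : ConjClasses (GL (Fin (m + 1)) F) //
      ∃ g : GL (Fin (m + 1)) F, ConjClasses.mk g = c ∧ (orderOf g).Coprime p} =
      (Fintype.card F - 1) * Fintype.card F ^ m := by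
  classical
  rw [← card_vec_ne (F := F) m]
  let Ψ : {c : ConjClasses (GL (Fin (m + 1)) F) //
      ∃ g : GL (Fin (m + 1)) F, ConjClasses.mk g = c ∧ (orderOf g).Coprime p} →
      {a : Fin (m + 1) → F // a 0 ≠ 0} := fun c =>
    ⟨cpVec ((Classical.choose c.2 : GL (Fin (m + 1)) F) : Matrix (Fin (m + 1)) (Fin (m + 1)) F),
      coeff_zero_charpoly_ne_zero _⟩
  apply Nat.card_eq_of_bijective Ψ
  constructor
  · intro c c' hcc
    have h1 := congrArg Subtype.val hcc
    simp only [Ψ] at h1
    have h2 := charpoly_eq_of_cpVec_eq _ _ h1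
    obtain ⟨hc1, hc2⟩ := Classical.choose_spec c.2
    obtain ⟨hc1', hc2'⟩ := Classical.choose_spec c'.2
    have h3 := isConj_GL_of_charpoly_eq p _ _ hc2 hc2' h2
    apply Subtype.ext
    rw [← hc1, ← hc1']
    exact ConjClasses.mk_eq_mk_iff_isConj.2 h3
  · rintro ⟨a, ha⟩
    obtain ⟨g, hg, hgc⟩ := exists_GL_of_charpoly p (m + 1) (vecPoly a) (vecPoly_monic a)
      (vecPoly_natDegree a) (by
        have := vecPoly_coeff a 0
        rw [Fin.val_zero] at this
        rw [this]; exact ha)
    refine ⟨⟨ConjClasses.mk g, g, rfl, hg⟩, ?_⟩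
    apply Subtype.ext
    simp only [Ψ]
    set c : {c : ConjClasses (GL (Fin (m + 1)) F) //
      ∃ g : GL (Fin (m + 1)) F, ConjClasses.mk g = c ∧ (orderOf g).Coprime p} :=
      ⟨ConjClasses.mk g, g, rfl, hg⟩ with hcdef
    obtain ⟨hc1, hc2⟩ := Classical.choose_spec c.2
    have h3 : IsConj (Classical.choose c.2) g := ConjClasses.mk_eq_mk_iff_isConj.1 hc1
    apply cpVec_eq_of_charpoly_eq_vecPoly
    rw [charpoly_eq_of_isConj _ _ h3, hgc]

end classes


end Cfsg.Agent.Lib.Helper40.SemisimpleConj
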