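import Cfsg.Agent.Lib.Helper40.HermBasic
set_option autoImplicit false
open Polynomial

namespace Cfsg.Agent.Lib.Helper40.Herm

open Cfsg.Agent.Lib.Helper40 Cfsg.Agent.Lib.Helper40.SemisimpleConj

section dual
variable {F : Type*} [Field F] {τ : F →+* F} {V : Type*} [AddCommGroup V] [Module F V]
variable {H : V →ₗ[F] V →ₛₗ[τ] F}

/-- coordinates `u ↦ (H u (b i))_i` -/
noncomputable def pairL (H : V →ₗ[F] V →ₛₗ[τ] F) (W U : Submodule F V) {ι : Type*}
    (b : Module.Basis ι F W) : U →ₗ[F] (ι → F) :=
  LinearMap.pi (fun i => (H.flip (b i : V)).comp U.subtype)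

theorem pairL_apply (W U : Submodule F V) {ι : Type*} (b : Module.Basis ι F W) (u : U) (i : ι) :
    pairL H W U b u i = H (u : V) (b i : V) := rfl

theorem eq_on_of_basis (W : Submodule F V) {ι : Type*} [Fintype ι] (b : Module.Basis ι F W)
    (x y : V) (h : ∀ i, H x (b i : V) = H y (b i : V)) : ∀ w ∈ W, H x w = H y w := by
  intro w hw
  have h1 : (⟨w, hw⟩ : W) = ∑ i, b.repr ⟨w, hw⟩ i • b i := (b.sum_repr _).symm
  have h2 : w = ∑ i, b.repr ⟨w, hw⟩ i • (b i : V) := by
    have := congrArg W.subtype h1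
    rw [map_sum] at this
    simpa only [map_smul, Submodule.subtype_apply] using this
  rw [h2, map_sum, map_sum]
  apply Finset.sum_congr rfl
  intro i _
  rw [map_smulₛₗ, map_smulₛₗ, h i]

theorem pairL_injective (W U : Submodule F V) {ι : Type*} [Fintype ι] (b : Module.Basis ι F W)
    (h1 : ∀ u ∈ U, (∀ w ∈ W, H u w = 0) → u = 0) : Function.Injective (pairL H W U b) := by
  rw [← LinearMap.ker_eq_bot, LinearMap.ker_eq_bot']
  intro u hu
  apply Subtype.ext
  apply h1 u.1 u.2
  intro w hw
  have := eq_on_of_basis (H := H) W b (u : V) 0 (fun i => by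
    have h2 := congrFun hu i
    rw [pairL_apply] at h2
    rw [h2]; simp) w hw
  rw [this]; simp

variable [FiniteDimensional F V]

theorem finrank_le_of_sep (W U : Submodule F V)
    (h1 : ∀ u ∈ U, (∀ w ∈ W, H u w = 0) → u = 0) : Module.finrank F U ≤ Module.finrank F W := by
  have := LinearMap.finrank_le_finrank_of_injective
    (pairL_injective (H := H) W U (Module.finBasis F W) h1)
  simpa using this

theorem finrank_eq_of_perfect (hH : IsHermitian H) (W U : Submodule F V)
    (h1 : ∀ u ∈ U, (∀ w ∈ W, H u w = 0) → u = 0) (h2 : ∀ w ∈ W, (∀ u ∈ U, H u w = 0) → w = 0) :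
    Module.finrank F U = Module.finrank F W := by
  apply le_antisymm (finrank_le_of_sep W U h1)
  apply finrank_le_of_sep (H := H) U W
  intro w hw h
  exact h2 w hw (fun u hu => herm_swap hH (h u hu))

/-- the coordinate isomorphism of a perfect pairing -/
noncomputable def pairEquiv (hH : IsHermitian H) (W U : Submodule F V)
    (h1 : ∀ u ∈ U, (∀ w ∈ W, H u w = 0) → u = 0) (h2 : ∀ w ∈ W, (∀ u ∈ U, H u w = 0) → w = 0)
    {ι : Type*} [Fintype ι] (b : Module.Basis ι F W) : U ≃ₗ[F] (ι → F) :=
  LinearEquiv.ofBijective (pairL H W U b) (by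
    have hinj := pairL_injective (H := H) W U b h1
    refine ⟨hinj, ?_⟩
    apply (LinearMap.injective_iff_surjective_of_finrank_eq_finrank ?_).1 hinj
    rw [finrank_eq_of_perfect hH W U h1 h2, Module.finrank_fintype_fun_eq_card,
      Module.finrank_eq_card_basis b])

theorem pairEquiv_apply (hH : IsHermitian H) (W U : Submodule F V)
    (h1 : ∀ u ∈ U, (∀ w ∈ W, H u w = 0) → u = 0) (h2 : ∀ w ∈ W, (∀ u ∈ U, H u w = 0) → w = 0)
    {ι : Type*} [Fintype ι] (b : Module.Basis ι F W) (u : U) (i : ι) :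
    pairEquiv hH W U h1 h2 b u i = H (u : V) (b i : V) := rfl

/-- (D1) orthogonal projection onto a nondegenerate subspace -/
theorem exists_proj (hH : IsHermitian H) (W : Submodule F V) (hnd : HNondegOn H W) (v : V) :
    ∃ w₀ ∈ W, ∀ w ∈ W, H w₀ w = H v w := by
  have h2 : ∀ w ∈ W, (∀ u ∈ W, H u w = 0) → w = 0 := by
    intro w hw h
    exact hnd w hw (fun u hu => herm_swap hH (h u hu))
  have h1 : ∀ u ∈ W, (∀ w ∈ W, H u w = 0) → u = 0 := hnd
  set b := Module.finBasis F W with hb
  set e := pairEquiv hH W W h1 h2 b with he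
  refine ⟨(e.symm (fun i => H v (b i : V)) : W), (e.symm _).2, ?_⟩
  apply eq_on_of_basis W b
  intro i
  have := congrFun (e.apply_symm_apply (fun i => H v (b i : V))) i
  rw [he, pairEquiv_apply] at this
  exact this

theorem isCompl_hperp (hH : IsHermitian H) (W : Submodule F V) (hnd : HNondegOn H W) :
    IsCompl W (hperp H W) := by
  constructor
  · rw [Submodule.disjoint_def]
    intro x hx hx'
    exact hnd x hx hx'
  · rw [codisjoint_iff, eq_top_iff]
    intro v _
    obtain ⟨w₀, hw₀, hw⟩ := exists_proj hH W hnd v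
    have : v = w₀ + (v - w₀) := by abel
    rw [this]
    refine Submodule.add_mem _ (Submodule.mem_sup_left hw₀) (Submodule.mem_sup_right ?_)
    intro w hw'
    rw [map_sub, LinearMap.sub_apply, hw w hw', sub_self]

theorem hnondegOn_hperp (hH : IsHermitian H) (hnd : HNondeg H) (W : Submodule F V)
    (hW : HNondegOn H W) : HNondegOn H (hperp H W) := by
  intro x hx hxy
  apply hnd x
  intro z
  have hc := isCompl_hperp hH W hW
  obtain ⟨a, ha, b, hb, rfl⟩ := Submodule.mem_sup.1
    (show z ∈ W ⊔ hperp H W by rw [hc.sup_eq_top]; trivial)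
  rw [map_add, hxy b hb, add_zero]
  exact hx a ha

/-- (D2) Riesz representation on a nondegenerate subspace -/
theorem exists_riesz (hτ : ∀ a, τ (τ a) = a) (hH : IsHermitian H) (W : Submodule F V)
    (hnd : HNondegOn H W) (μ : W →ₗ[F] F) : ∃ t ∈ W, ∀ y : W, H (y : V) t = μ y := by
  have h2 : ∀ w ∈ W, (∀ u ∈ W, H u w = 0) → w = 0 := by
    intro w hw h
    exact hnd w hw (fun u hu => herm_swap hH (h u hu))
  have h1 : ∀ u ∈ W, (∀ w ∈ W, H u w = 0) → u = 0 := hnd
  set b := Module.finBasis F W with hb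
  set e := pairEquiv hH W W h1 h2 b with he
  set t := e.symm (fun i => τ (μ (b i))) with ht
  refine ⟨(t : V), t.2, ?_⟩
  have hti : ∀ i, H (t : V) (b i : V) = τ (μ (b i)) := by
    intro i
    have := congrFun (e.apply_symm_apply (fun i => τ (μ (b i)))) i
    rw [he, pairEquiv_apply] at this
    exact this
  have hlin : (H.flip (t : V)).comp W.subtype = μ := by
    apply b.ext
    intro i
    rw [LinearMap.comp_apply, Submodule.subtype_apply, LinearMap.flip_apply, ← hH, hti, hτ]
  intro y
  have := congrArg (fun f : W →ₗ[F] F => f y) hlin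
  simpa using this

end dual

section dual2
variable {F : Type*} [Field F] {τ : F →+* F} {V V' : Type*} [AddCommGroup V] [Module F V]
  [AddCommGroup V'] [Module F V'] [FiniteDimensional F V] [FiniteDimensional F V']
variable {H : V →ₗ[F] V →ₛₗ[τ] F} {H' : V' →ₗ[F] V' →ₛₗ[τ] F}

/-- (D3) transporting a perfect pairing -/
theorem hexists_dual_equiv (hH : IsHermitian H) (hH' : IsHermitian H')
    (W U : Submodule F V) (W' U' : Submodule F V')
    (h1 : ∀ u ∈ U, (∀ w ∈ W, H u w = 0) → u = 0) (h2 : ∀ w ∈ W, (∀ u ∈ U, H u w = 0) → w = 0)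
    (h1' : ∀ u ∈ U', (∀ w ∈ W', H' u w = 0) → u = 0)
    (h2' : ∀ w ∈ W', (∀ u ∈ U', H' u w = 0) → w = 0) (ψ₀ : W ≃ₗ[F] W') :
    ∃ φU : U ≃ₗ[F] U', ∀ (x : W) (u : U), H' (ψ₀ x : V') (φU u : V') = H (x : V) (u : V) := by
  set b := Module.finBasis F W with hb
  set b' := b.map ψ₀ with hb'
  set e := pairEquiv hH W U h1 h2 b with he
  set e' := pairEquiv hH' W' U' h1' h2' b' with he'
  refine ⟨e.trans e'.symm, ?_⟩
  intro x u
  have hkey : ∀ i, H' ((e.trans e'.symm) u : V') (b' i : V') = H (u : V) (b i : V) := by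
    intro i
    have := congrFun (e'.apply_symm_apply (e u)) i
    rw [he', pairEquiv_apply] at this
    rw [LinearEquiv.trans_apply, this, he, pairEquiv_apply]
  -- extend to all of `W` by semilinearity
  have hall : ∀ x : W, H' ((e.trans e'.symm) u : V') (ψ₀ x : V') = H (u : V) (x : V) := by
    intro x
    have h1 : x = ∑ i, b.repr x i • b i := (b.sum_repr _).symm
    have h2 : (x : V) = ∑ i, b.repr x i • (b i : V) := by
      have := congrArg W.subtype h1
      rw [map_sum] at this
      simpa only [map_smul, Submodule.subtype_apply] using this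
    have h3 : (ψ₀ x : V') = ∑ i, b.repr x i • (b' i : V') := by
      have h4 : ψ₀ x = ∑ i, b.repr x i • b' i := by
        conv_lhs => rw [h1]
        rw [map_sum]
        apply Finset.sum_congr rfl
        intro i _
        rw [map_smul, hb', Module.Basis.map_apply]
      have := congrArg W'.subtype h4
      rw [map_sum] at this
      simpa only [map_smul, Submodule.subtype_apply] using this
    rw [h3]
    conv_rhs => rw [h2]
    rw [map_sum, map_sum]
    apply Finset.sum_congr rfl
    intro i _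
    rw [map_smulₛₗ, map_smulₛₗ, hkey i]
  rw [← hH', hall, hH]

end dual2

end Cfsg.Agent.Lib.Helper40.Herm
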