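import Cfsg.Agent.Lib.Helper40.SympStep
set_option autoImplicit false
open Polynomial
open LinearMap (BilinForm)

namespace Cfsg.Agent.Lib.Helper40.Symp

open Cfsg.Agent.Lib.Helper40.SemisimpleConj



section glue
variable {F : Type*} [Field F] {V V' : Type*} [AddCommGroup V] [Module F V] [AddCommGroup V']
  [Module F V']

theorem exists_glue_iso (B : BilinForm F V) (B' : BilinForm F V') (g : Module.End F V)
    (g' : Module.End F V') (P Q : Submodule F V) (P' Q' : Submodule F V')
    (hP : ∀ x ∈ P, g x ∈ P) (hQ : ∀ x ∈ Q, g x ∈ Q)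
    (hc : IsCompl P Q) (hc' : IsCompl P' Q')
    (hPQ : ∀ x ∈ P, ∀ y ∈ Q, B x y = 0 ∧ B y x = 0)
    (hPQ' : ∀ x ∈ P', ∀ y ∈ Q', B' x y = 0 ∧ B' y x = 0)
    (ψ : P ≃ₗ[F] P') (hψ1 : ∀ (x : P) (hx : g x ∈ P), (ψ ⟨g x, hx⟩ : V') = g' (ψ x))
    (hψ2 : ∀ x y : P, B' (ψ x) (ψ y) = B x y)
    (φ' : Q ≃ₗ[F] Q') (hφ1 : ∀ (x : Q) (hx : g x ∈ Q), (φ' ⟨g x, hx⟩ : V') = g' (φ' x))
    (hφ2 : ∀ x y : Q, B' (φ' x) (φ' y) = B x y) :
    ∃ φ : V ≃ₗ[F] V', (∀ v, φ (g v) = g' (φ v)) ∧ ∀ u v, B' (φ u) (φ v) = B u v := by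
  set e := Submodule.prodEquivOfIsCompl P Q hc with he
  set e' := Submodule.prodEquivOfIsCompl P' Q' hc' with he'
  refine ⟨e.symm ≪≫ₗ (ψ.prodCongr φ') ≪≫ₗ e', ?_, ?_⟩
  · intro v
    obtain ⟨⟨a, b⟩, rfl⟩ := e.surjective v
    have h1 : g (e (a, b)) = e (⟨g a, hP a a.2⟩, ⟨g b, hQ b b.2⟩) := by
      simp [he, Submodule.coe_prodEquivOfIsCompl']
    rw [h1]
    simp only [LinearEquiv.trans_apply, LinearEquiv.symm_apply_apply, LinearEquiv.prodCongr_apply,
      he', Submodule.coe_prodEquivOfIsCompl', map_add, hψ1, hφ1]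
  · intro u v
    obtain ⟨⟨a, b⟩, rfl⟩ := e.surjective u
    obtain ⟨⟨c, d⟩, rfl⟩ := e.surjective v
    have h1 : ∀ (a : P) (b : Q), ((e.symm ≪≫ₗ (ψ.prodCongr φ') ≪≫ₗ e') (e (a, b)) : V') =
        (ψ a : V') + (φ' b : V') := by
      intro a b
      simp only [LinearEquiv.trans_apply, LinearEquiv.symm_apply_apply,
        LinearEquiv.prodCongr_apply, he', Submodule.coe_prodEquivOfIsCompl']
    have h2 : ∀ (a : P) (b : Q), e (a, b) = (a : V) + (b : V) := by
      intro a b
      simp only [he, Submodule.coe_prodEquivOfIsCompl']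
    rw [h1, h1, h2, h2]
    simp only [map_add, LinearMap.add_apply]
    rw [hψ2, hφ2, (hPQ' _ (ψ a).2 _ (φ' d).2).1, (hPQ' _ (ψ c).2 _ (φ' b).2).2,
      (hPQ _ a.2 _ d.2).1, (hPQ _ c.2 _ b.2).2]

end glue




universe u v

/-- **Equivariant uniqueness of invariant symplectic forms**: two semisimple isometries of
nondegenerate alternating forms over a finite field with the same characteristic polynomial are
conjugate by an isometry. -/
theorem exists_isometry {F : Type u} [Field F] [Fintype F] : ∀ (n : ℕ) (V V' : Type v)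
    [AddCommGroup V] [Module F V] [AddCommGroup V'] [Module F V'] [FiniteDimensional F V]
    [FiniteDimensional F V'] (B : BilinForm F V) (B' : BilinForm F V') (g : Module.End F V)
    (g' : Module.End F V') (N : ℕ), Module.finrank F V = n → B.IsAlt → B'.IsAlt →
    B.Nondegenerate → B'.Nondegenerate → Inv B g → Inv B' g' → 0 < N → g ^ N = 1 → g' ^ N = 1 →
    (N : F) ≠ 0 → g.charpoly = g'.charpoly →
    ∃ φ : V ≃ₗ[F] V', (∀ v, φ (g v) = g' (φ v)) ∧ ∀ u v, B' (φ u) (φ v) = B u v := by
  intro n
  induction n using Nat.strong_induction_on with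
  | _ n ih =>
    intro V V' _ _ _ _ _ _ B B' g g' N hn halt halt' hnd hnd' hinv hinv' hN0 hN hN' hNF hcp
    have hn' : Module.finrank F V' = n := by
      rw [← LinearMap.charpoly_natDegree g', ← hcp, LinearMap.charpoly_natDegree g, hn]
    rcases Nat.eq_zero_or_pos n with h0 | hpos
    · subst h0
      have : Subsingleton V' := Module.finrank_zero_iff.1 hn'
      have : Subsingleton V := Module.finrank_zero_iff.1 hn
      refine ⟨LinearEquiv.ofFinrankEq V V' (by rw [hn, hn']), fun v => Subsingleton.elim _ _, ?_⟩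
      intro u v
      rw [Subsingleton.elim u 0, Subsingleton.elim (LinearEquiv.ofFinrankEq V V' _ 0) 0]
      simp
    · obtain ⟨P, P', hP0, hP, hP', hndP, hndP', ψ, hψ1, hψ2⟩ :=
        exists_piece halt halt' hnd hnd' hinv hinv' hN0 hN hN' hNF hcp (hn ▸ hpos)
      set Q := B.orthogonal P with hQdef
      set Q' := B'.orthogonal P' with hQ'def
      have hc : IsCompl P Q := isCompl_perp halt hndP
      have hc' : IsCompl P' Q' := isCompl_perp halt' hndP'
      have hQ : ∀ x ∈ Q, g x ∈ Q := perp_invt hinv hN0 hN P hP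
      have hQ' : ∀ x ∈ Q', g' x ∈ Q' := perp_invt hinv' hN0 hN' P' hP'
      have hndQ : NondegOn B Q := nondegOn_perp halt hnd hndP
      have hndQ' : NondegOn B' Q' := nondegOn_perp halt' hnd' hndP'
      -- characteristic polynomials
      have hconj : ψ.conj (g.restrict hP) = g'.restrict hP' := by
        apply LinearMap.ext
        intro x
        apply Subtype.ext
        rw [LinearEquiv.conj_apply]
        simp only [LinearMap.coe_comp, LinearEquiv.coe_coe, Function.comp_apply]
        have := hψ1 (ψ.symm x) (hP _ (ψ.symm x).2)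
        rw [LinearEquiv.apply_symm_apply] at this
        rw [LinearMap.restrict_apply, LinearMap.restrict_apply]
        exact this
      have hcp1 : (g.restrict hP).charpoly = (g'.restrict hP').charpoly := by
        rw [← hconj, LinearEquiv.charpoly_conj]
      have hcp2 : (g.restrict hQ).charpoly = (g'.restrict hQ').charpoly := by
        have e1 := charpoly_eq_mul_of_isCompl g P Q hP hQ hc
        have e2 := charpoly_eq_mul_of_isCompl g' P' Q' hP' hQ' hc'
        rw [hcp, e2, hcp1] at e1
        exact (mul_left_cancel₀ (LinearMap.charpoly_monic _).ne_zero e1).symm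
      have hlt : Module.finrank F Q < n := by
        have h1 := Submodule.finrank_add_eq_of_isCompl hc
        have h2 : 1 ≤ Module.finrank F P := Submodule.one_le_finrank_iff.2 hP0
        omega
      have hpowQ : (g.restrict hQ) ^ N = 1 := by
        rw [Module.End.pow_restrict N hQ]
        apply LinearMap.ext
        intro x
        apply Subtype.ext
        rw [LinearMap.restrict_apply]
        simp [hN]
      have hpowQ' : (g'.restrict hQ') ^ N = 1 := by
        rw [Module.End.pow_restrict N hQ']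
        apply LinearMap.ext
        intro x
        apply Subtype.ext
        rw [LinearMap.restrict_apply]
        simp [hN']
      obtain ⟨φ', hφ1, hφ2⟩ := ih _ hlt Q Q' (B.restrict Q) (B'.restrict Q') (g.restrict hQ)
        (g'.restrict hQ') N rfl (fun x => halt x) (fun x => halt' x)
        (restrict_nondegenerate halt hndQ) (restrict_nondegenerate halt' hndQ')
        (fun u v => hinv u v) (fun u v => hinv' u v) hN0 hpowQ hpowQ' hNF hcp2
      refine exists_glue_iso B B' g g' P Q P' Q' hP hQ hc hc' ?_ ?_ ψ hψ1 hψ2 φ' ?_ ?_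
      · intro x hx y hy
        have h1 : B x y = 0 := BilinForm.mem_orthogonal_iff.1 hy x hx
        exact ⟨h1, by rw [alt_swap halt, h1, neg_zero]⟩
      · intro x hx y hy
        have h1 : B' x y = 0 := BilinForm.mem_orthogonal_iff.1 hy x hx
        exact ⟨h1, by rw [alt_swap halt', h1, neg_zero]⟩
      · intro x hx
        have := hφ1 x
        rw [LinearMap.restrict_apply] at this
        rw [this]
        rfl
      · intro x y
        exact hφ2 x y


end Cfsg.Agent.Lib.Helper40.Symp
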