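import Cfsg.Agent.Lib.Helper40.SympBasic
set_option autoImplicit false
open Polynomial
open LinearMap (BilinForm)

namespace Cfsg.Agent.Lib.Helper40.Symp

open Cfsg.Agent.Lib.Helper40.SemisimpleConj



section t2iso
variable {F : Type*} [Field F] {V V' : Type*} [AddCommGroup V] [Module F V] [AddCommGroup V']
  [Module F V']

theorem aeval_ev (g : Module.End F V) (w : V) (k h : F[X]) :
    aeval g k (ev g w h) = ev g w (k * h) := by
  rw [ev_apply, ev_apply, map_mul, Module.End.mul_apply]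

theorem cycEquiv_aeval (g : Module.End F V) (w : V) (g' : Module.End F V') (w' : V')
    (hk : LinearMap.ker (ev g w) = LinearMap.ker (ev g' w')) (k : F[X]) (x : cyc g w)
    (hx : aeval g k x ∈ cyc g w) :
    (cycEquiv g w g' w' hk ⟨aeval g k x, hx⟩ : V') = aeval g' k (cycEquiv g w g' w' hk x) := by
  obtain ⟨x, h, rfl⟩ := x
  have e1 : (⟨aeval g k (ev g w h), hx⟩ : cyc g w) = ⟨ev g w (k * h), ev_mem_cyc g w _⟩ := by
    apply Subtype.ext
    exact aeval_ev g w k h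
  have e2 := cycEquiv_ev g w g' w' hk h
  have e3 := cycEquiv_ev g w g' w' hk (k * h)
  change ((cycEquiv g w g' w' hk) ⟨aeval g k (ev g w h), _⟩ : V') =
    aeval g' k ((cycEquiv g w g' w' hk) ⟨ev g w h, _⟩)
  rw [e1, e3, e2, aeval_ev]

theorem pow_mem_cyc (g : Module.End F V) (w : V) (k : ℕ) (x : V) (hx : x ∈ cyc g w) :
    (g ^ k) x ∈ cyc g w := by
  have := aeval_mem_of_invt (cyc g w) (cyc_invt g w) (X ^ k) x hx
  simpa using this

theorem cycEquiv_pow (g : Module.End F V) (w : V) (g' : Module.End F V') (w' : V')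
    (hk : LinearMap.ker (ev g w) = LinearMap.ker (ev g' w')) (k : ℕ) (x : cyc g w) :
    (cycEquiv g w g' w' hk ⟨(g ^ k) x, pow_mem_cyc g w k x x.2⟩ : V') =
      (g' ^ k) (cycEquiv g w g' w' hk x) := by
  have h1 := cycEquiv_aeval g w g' w' hk (X ^ k) x (by
    have := pow_mem_cyc g w k x x.2
    simpa using this)
  simp only [map_pow, aeval_X] at h1
  exact h1

end t2iso




section t2iso
variable {F : Type*} [Field F] {V V' : Type*} [AddCommGroup V] [Module F V] [AddCommGroup V']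
  [Module F V']

/-- Two hyperbolic pieces built on isomorphic cyclic isotropic modules are equivariantly
isometric. -/
theorem typeII_iso [FiniteDimensional F V] [FiniteDimensional F V'] {N : ℕ}
    (B : BilinForm F V) (B' : BilinForm F V') (g : Module.End F V) (g' : Module.End F V')
    (halt : B.IsAlt) (halt' : B'.IsAlt) (hinv : Inv B g) (hinv' : Inv B' g') (hN0 : 0 < N)
    (hN : g ^ N = 1) (hN' : g' ^ N = 1) (w : V) (w' : V')
    (hk : LinearMap.ker (ev g w) = LinearMap.ker (ev g' w'))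
    (U : Submodule F V) (U' : Submodule F V') (hU : ∀ u ∈ U, g u ∈ U) (hU' : ∀ u ∈ U', g' u ∈ U')
    (hWi : Isotropic B (cyc g w)) (hUi : Isotropic B U) (hWi' : Isotropic B' (cyc g' w'))
    (hUi' : Isotropic B' U')
    (hWU : ∀ u ∈ U, (∀ x ∈ cyc g w, B x u = 0) → u = 0)
    (hdim : Module.finrank F U = Module.finrank F (cyc g w))
    (hWU' : ∀ u ∈ U', (∀ x ∈ cyc g' w', B' x u = 0) → u = 0)
    (hdim' : Module.finrank F U' = Module.finrank F (cyc g' w'))
    (hd : Disjoint (cyc g w) U) (hd' : Disjoint (cyc g' w') U') :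
    ∃ ψ : ↥(cyc g w ⊔ U) ≃ₗ[F] ↥(cyc g' w' ⊔ U'),
      (∀ (x : ↥(cyc g w ⊔ U)) (hx : g x ∈ cyc g w ⊔ U), (ψ ⟨g x, hx⟩ : V') = g' (ψ x)) ∧
      (∀ x y : ↥(cyc g w ⊔ U), B' (ψ x) (ψ y) = B x y) := by
  set ψ₀ := cycEquiv g w g' w' hk with hψ₀
  obtain ⟨φU, hφU⟩ := exists_dual_equiv B B' (cyc g w) U (cyc g' w') U' hWU hdim hWU' hdim' ψ₀
  -- equivariance of `φU`
  have hφUg : ∀ u : U, (φU ⟨g u, hU u u.2⟩ : V') = g' (φU u) := by
    intro u
    have h0 : (φU ⟨g u, hU u u.2⟩ : V') - g' (φU u) = 0 := by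
      apply hWU' _ (U'.sub_mem (φU _).2 (hU' _ (φU u).2))
      intro x' hx'
      obtain ⟨x, hx⟩ := ψ₀.surjective ⟨x', hx'⟩
      have e : x' = ((ψ₀ x : cyc g' w') : V') := by rw [hx]
      rw [e, map_sub, hφU, adj_g' hinv' hN0 hN']
      have h1 := cycEquiv_pow g w g' w' hk (N - 1) x
      rw [← hψ₀] at h1
      rw [← h1, hφU, adj_g' hinv hN0 hN, sub_self]
    exact sub_eq_zero.1 h0
  refine ⟨(supEquiv _ _ hd).symm ≪≫ₗ (ψ₀.prodCongr φU) ≪≫ₗ supEquiv _ _ hd', ?_, ?_⟩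
  · intro x hx
    obtain ⟨⟨a, b⟩, rfl⟩ := (supEquiv _ _ hd).surjective x
    have h1 : (⟨g (supEquiv _ _ hd (a, b)), hx⟩ : ↥(cyc g w ⊔ U)) =
        supEquiv _ _ hd (⟨g a, cyc_invt g w a a.2⟩, ⟨g b, hU b b.2⟩) := by
      apply Subtype.ext
      change g ((supEquiv _ _ hd (a, b) : ↥(cyc g w ⊔ U)) : V) = _
      rw [supEquiv_apply, supEquiv_apply, map_add]
    rw [h1]
    simp only [LinearEquiv.trans_apply, LinearEquiv.symm_apply_apply, LinearEquiv.prodCongr_apply,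
      supEquiv_apply, map_add]
    rw [hφUg b, hψ₀, cycEquiv_comm]
  · intro x y
    obtain ⟨⟨a, b⟩, rfl⟩ := (supEquiv _ _ hd).surjective x
    obtain ⟨⟨c, d⟩, rfl⟩ := (supEquiv _ _ hd).surjective y
    simp only [LinearEquiv.trans_apply, LinearEquiv.symm_apply_apply, LinearEquiv.prodCongr_apply,
      supEquiv_apply, map_add, LinearMap.add_apply]
    rw [hWi' _ (ψ₀ a).2 _ (ψ₀ c).2, hUi' _ (φU b).2 _ (φU d).2, hφU,
      alt_swap halt' (φU b : V') (ψ₀ c : V'), hφU, hWi _ a.2 _ c.2, hUi _ b.2 _ d.2,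
      alt_swap halt (b : V) (c : V)]

end t2iso


end Cfsg.Agent.Lib.Helper40.Symp
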