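import Cfsg.Agent.Lib.Helper40.HermDual
import Cfsg.Agent.Lib.Helper40.SympPieces
set_option autoImplicit false
open Polynomial

namespace Cfsg.Agent.Lib.Helper40.Herm

open Cfsg.Agent.Lib.Helper40 Cfsg.Agent.Lib.Helper40.SemisimpleConj

section t2iso
variable {F : Type*} [Field F] {τ : F →+* F} {V V' : Type*} [AddCommGroup V] [Module F V]
  [AddCommGroup V'] [Module F V']

/-- Two hyperbolic pieces built on isomorphic cyclic isotropic modules are equivariantly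
isometric. -/
theorem htypeII_iso [FiniteDimensional F V] [FiniteDimensional F V'] {N : ℕ}
    (H : V →ₗ[F] V →ₛₗ[τ] F) (H' : V' →ₗ[F] V' →ₛₗ[τ] F) (g : Module.End F V)
    (g' : Module.End F V') (hH : IsHermitian H) (hH' : IsHermitian H')
    (hinv : HInv H g) (hinv' : HInv H' g') (hN0 : 0 < N)
    (hN : g ^ N = 1) (hN' : g' ^ N = 1) (w : V) (w' : V')
    (hk : LinearMap.ker (ev g w) = LinearMap.ker (ev g' w'))
    (U : Submodule F V) (U' : Submodule F V') (hU : ∀ u ∈ U, g u ∈ U) (hU' : ∀ u ∈ U', g' u ∈ U')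
    (hWi : HIsotropic H (cyc g w)) (hUi : HIsotropic H U) (hWi' : HIsotropic H' (cyc g' w'))
    (hUi' : HIsotropic H' U')
    (h1 : ∀ u ∈ U, (∀ x ∈ cyc g w, H u x = 0) → u = 0)
    (h2 : ∀ x ∈ cyc g w, (∀ u ∈ U, H u x = 0) → x = 0)
    (h1' : ∀ u ∈ U', (∀ x ∈ cyc g' w', H' u x = 0) → u = 0)
    (h2' : ∀ x ∈ cyc g' w', (∀ u ∈ U', H' u x = 0) → x = 0)
    (hd : Disjoint (cyc g w) U) (hd' : Disjoint (cyc g' w') U') :
    ∃ ψ : ↥(cyc g w ⊔ U) ≃ₗ[F] ↥(cyc g' w' ⊔ U'),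
      (∀ (x : ↥(cyc g w ⊔ U)) (hx : g x ∈ cyc g w ⊔ U), (ψ ⟨g x, hx⟩ : V') = g' (ψ x)) ∧
      (∀ x y : ↥(cyc g w ⊔ U), H' (ψ x) (ψ y) = H x y) := by
  set ψ₀ := cycEquiv g w g' w' hk with hψ₀
  obtain ⟨φU, hφU⟩ := hexists_dual_equiv hH hH' (cyc g w) U (cyc g' w') U' h1 h2 h1' h2' ψ₀
  -- equivariance of `φU`
  have hφUg : ∀ u : U, (φU ⟨g u, hU u u.2⟩ : V') = g' (φU u) := by
    intro u
    have h0 : (φU ⟨g u, hU u u.2⟩ : V') - g' (φU u) = 0 := by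
      apply h1' _ (U'.sub_mem (φU _).2 (hU' _ (φU u).2))
      intro x' hx'
      apply herm_swap hH'
      obtain ⟨x, hx⟩ := ψ₀.surjective ⟨x', hx'⟩
      have e : x' = ((ψ₀ x : cyc g' w') : V') := by rw [hx]
      rw [e, map_sub, hφU, hadj_g' hinv' hN0 hN']
      have h3 := Symp.cycEquiv_pow g w g' w' hk (N - 1) x
      rw [← hψ₀] at h3
      rw [← h3, hφU, hadj_g' hinv hN0 hN, sub_self]
    exact sub_eq_zero.1 h0
  refine ⟨(Symp.supEquiv _ _ hd).symm ≪≫ₗ (ψ₀.prodCongr φU) ≪≫ₗ Symp.supEquiv _ _ hd', ?_, ?_⟩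
  · intro x hx
    obtain ⟨⟨a, b⟩, rfl⟩ := (Symp.supEquiv _ _ hd).surjective x
    have h3 : (⟨g (Symp.supEquiv _ _ hd (a, b)), hx⟩ : ↥(cyc g w ⊔ U)) =
        Symp.supEquiv _ _ hd (⟨g a, cyc_invt g w a a.2⟩, ⟨g b, hU b b.2⟩) := by
      apply Subtype.ext
      change g ((Symp.supEquiv _ _ hd (a, b) : ↥(cyc g w ⊔ U)) : V) = _
      rw [Symp.supEquiv_apply, Symp.supEquiv_apply, map_add]
    rw [h3]
    simp only [LinearEquiv.trans_apply, LinearEquiv.symm_apply_apply, LinearEquiv.prodCongr_apply,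
      Symp.supEquiv_apply, map_add]
    rw [hφUg b, hψ₀, cycEquiv_comm]
  · intro x y
    obtain ⟨⟨a, b⟩, rfl⟩ := (Symp.supEquiv _ _ hd).surjective x
    obtain ⟨⟨c, d⟩, rfl⟩ := (Symp.supEquiv _ _ hd).surjective y
    simp only [LinearEquiv.trans_apply, LinearEquiv.symm_apply_apply, LinearEquiv.prodCongr_apply,
      Symp.supEquiv_apply, map_add, LinearMap.add_apply]
    rw [hWi' _ (ψ₀ a).2 _ (ψ₀ c).2, hUi' _ (φU b).2 _ (φU d).2, hφU,
      ← hH' (ψ₀ c : V') (φU b : V'), hφU, hWi _ a.2 _ c.2, hUi _ b.2 _ d.2, hH]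

end t2iso

end Cfsg.Agent.Lib.Helper40.Herm
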