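import Cfsg.Agent.Lib.Helper40.SympPieces
import Cfsg.Agent.Lib.Helper13.Involution
set_option autoImplicit false
open Polynomial
open LinearMap (BilinForm)

namespace Cfsg.Agent.Lib.Helper40.Symp

open Cfsg.Agent.Lib.Helper40.SemisimpleConj

section sigL
variable {F : Type*} [Field F] (p : F[X]) (N : ℕ)

theorem mk_sig (h : F[X]) :
    AdjoinRoot.mk p (sig N h) = aeval (AdjoinRoot.root p ^ (N - 1)) h := by
  rw [← AdjoinRoot.aeval_eq, sig, Polynomial.aeval_comp, map_pow, aeval_X]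

/-- The involution induced on `F[X]/(p)` by `X ↦ X^(N-1)`, when `p` is self-reciprocal. -/
noncomputable def sigL (hps : p ∣ sig N p) : AdjoinRoot p →+* AdjoinRoot p :=
  AdjoinRoot.lift (AdjoinRoot.of p) (AdjoinRoot.root p ^ (N - 1)) (by
    have h1 : AdjoinRoot.mk p (sig N p) = 0 := AdjoinRoot.mk_eq_zero.2 hps
    rw [mk_sig, aeval_def, AdjoinRoot.algebraMap_eq] at h1
    exact h1)

theorem sigL_mk (hps : p ∣ sig N p) (h : F[X]) :
    sigL p N hps (AdjoinRoot.mk p h) = AdjoinRoot.mk p (sig N h) := by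
  rw [sigL, AdjoinRoot.lift_mk, mk_sig, aeval_def, AdjoinRoot.algebraMap_eq]

theorem root_pow_eq_one (hpN : p ∣ X ^ N - 1) : AdjoinRoot.root p ^ N = 1 := by
  have h1 : AdjoinRoot.mk p (X ^ N - 1) = 0 := AdjoinRoot.mk_eq_zero.2 hpN
  rw [map_sub, map_pow, AdjoinRoot.mk_X, map_one, sub_eq_zero] at h1
  exact h1

theorem sigL_sigL (hN0 : 0 < N) (hps : p ∣ sig N p) (hpN : p ∣ X ^ N - 1) (a : AdjoinRoot p) :
    sigL p N hps (sigL p N hps a) = a := by
  obtain ⟨h, rfl⟩ := AdjoinRoot.mk_surjective a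
  rw [sigL_mk, sigL_mk, mk_sig]
  have h1 : (AdjoinRoot.root p ^ (N - 1)) ^ (N - 1) = AdjoinRoot.root p := by
    set ζ := AdjoinRoot.root p
    have hζ : ζ ^ N = 1 := root_pow_eq_one p N hpN
    have h2 : (ζ ^ (N - 1)) ^ (N - 1) * ζ ^ (N - 1) = 1 := by
      rw [← pow_succ, Nat.sub_add_cancel hN0, ← pow_mul, mul_comm, pow_mul, hζ, one_pow]
    have h3 : ζ ^ (N - 1) * ζ = 1 := by rw [← pow_succ, Nat.sub_add_cancel hN0, hζ]
    calc (ζ ^ (N - 1)) ^ (N - 1) = (ζ ^ (N - 1)) ^ (N - 1) * (ζ ^ (N - 1) * ζ) := by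
          rw [h3, mul_one]
      _ = ((ζ ^ (N - 1)) ^ (N - 1) * ζ ^ (N - 1)) * ζ := by rw [mul_assoc]
      _ = ζ := by rw [h2, one_mul]
  have h4 : aeval ((AdjoinRoot.root p ^ (N - 1)) ^ (N - 1)) h =
      aeval (AdjoinRoot.root p ^ (N - 1)) (sig N h) := by
    rw [sig, Polynomial.aeval_comp, map_pow, aeval_X]
  rw [← h4, h1, AdjoinRoot.aeval_eq]

theorem sigL_ne_id (hN0 : 0 < N) (hps : p ∣ sig N p) (hpN : p ∣ X ^ N - 1)
    (hp2 : ¬ p ∣ X ^ 2 - 1) : sigL p N hps ≠ RingHom.id _ := by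
  intro hid
  apply hp2
  have h1 := congrArg (fun f : AdjoinRoot p →+* AdjoinRoot p => f (AdjoinRoot.root p)) hid
  simp only [RingHom.id_apply] at h1
  rw [← AdjoinRoot.mk_X, sigL_mk, mk_sig, aeval_X, AdjoinRoot.mk_X] at h1
  have hζ : AdjoinRoot.root p ^ N = 1 := root_pow_eq_one p N hpN
  have h2 : AdjoinRoot.root p ^ 2 = 1 := by
    rw [pow_two]
    nth_rewrite 1 [← h1]
    rw [← pow_succ, Nat.sub_add_cancel hN0, hζ]
  apply AdjoinRoot.mk_eq_zero.1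
  rw [map_sub, map_pow, AdjoinRoot.mk_X, map_one, h2, sub_self]

end sigL

end Cfsg.Agent.Lib.Helper40.Symp
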