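import Cfsg.Agent.Lib.Helper40.HermPieces
import Cfsg.Agent.Lib.Helper40.SympSigL
set_option autoImplicit false
open Polynomial

namespace Cfsg.Agent.Lib.Helper40.Herm

open Cfsg.Agent.Lib.Helper40 Cfsg.Agent.Lib.Helper40.SemisimpleConj

section sigL
variable {F : Type*} [Field F] (τ : F →+* F) (p : F[X]) (N : ℕ)

theorem mk_hsig (h : F[X]) :
    AdjoinRoot.mk p (hsig τ N h) =
      eval₂ ((AdjoinRoot.of p).comp τ) (AdjoinRoot.root p ^ (N - 1)) h := by
  rw [← AdjoinRoot.aeval_eq, hsig, Polynomial.aeval_comp, map_pow, aeval_X, aeval_def,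
    eval₂_map, AdjoinRoot.algebraMap_eq]

/-- The involution induced on `F[X]/(p)` by `X ↦ X^(N-1)` and `τ` on coefficients. -/
noncomputable def hsigL (hps : p ∣ hsig τ N p) : AdjoinRoot p →+* AdjoinRoot p :=
  AdjoinRoot.lift ((AdjoinRoot.of p).comp τ) (AdjoinRoot.root p ^ (N - 1)) (by
    have h1 : AdjoinRoot.mk p (hsig τ N p) = 0 := AdjoinRoot.mk_eq_zero.2 hps
    rw [mk_hsig] at h1
    exact h1)

theorem hsigL_mk (hps : p ∣ hsig τ N p) (h : F[X]) :
    hsigL τ p N hps (AdjoinRoot.mk p h) = AdjoinRoot.mk p (hsig τ N h) := by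
  rw [hsigL, AdjoinRoot.lift_mk, mk_hsig]

theorem hsigL_hsigL (hτ : ∀ a, τ (τ a) = a) (hN0 : 0 < N) (hps : p ∣ hsig τ N p)
    (hpN : p ∣ X ^ N - 1) (a : AdjoinRoot p) :
    hsigL τ p N hps (hsigL τ p N hps a) = a := by
  obtain ⟨h, rfl⟩ := AdjoinRoot.mk_surjective a
  rw [hsigL_mk, hsigL_mk]
  -- `hsig (hsig h) ≡ h` modulo `p`
  have hζ : AdjoinRoot.root p ^ N = 1 := Symp.root_pow_eq_one p N hpN
  have h1 : (AdjoinRoot.root p ^ (N - 1)) ^ (N - 1) = AdjoinRoot.root p := by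
    set ζ := AdjoinRoot.root p
    have h2 : (ζ ^ (N - 1)) ^ (N - 1) * ζ ^ (N - 1) = 1 := by
      rw [← pow_succ, Nat.sub_add_cancel hN0, ← pow_mul, mul_comm, pow_mul, hζ, one_pow]
    have h3 : ζ ^ (N - 1) * ζ = 1 := by rw [← pow_succ, Nat.sub_add_cancel hN0, hζ]
    calc (ζ ^ (N - 1)) ^ (N - 1) = (ζ ^ (N - 1)) ^ (N - 1) * (ζ ^ (N - 1) * ζ) := by
          rw [h3, mul_one]
      _ = ((ζ ^ (N - 1)) ^ (N - 1) * ζ ^ (N - 1)) * ζ := by rw [mul_assoc]
      _ = ζ := by rw [h2, one_mul]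
  have hmap : (hsig τ N h).map τ = h.comp (X ^ (N - 1)) := by
    unfold hsig
    rw [Polynomial.map_comp, Polynomial.map_map, Polynomial.map_pow, Polynomial.map_X]
    have : τ.comp τ = RingHom.id F := RingHom.ext hτ
    rw [this, Polynomial.map_id]
  rw [← AdjoinRoot.aeval_eq, hsig, Polynomial.aeval_comp, map_pow, aeval_X, hmap,
    Polynomial.aeval_comp, map_pow, aeval_X, h1, AdjoinRoot.aeval_eq]

theorem hsigL_ne_id (hp : Irreducible p) (hτ1 : τ ≠ RingHom.id F) (hps : p ∣ hsig τ N p) :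
    hsigL τ p N hps ≠ RingHom.id _ := by
  intro hid
  apply hτ1
  apply RingHom.ext
  intro a
  have h1 := congrArg (fun f : AdjoinRoot p →+* AdjoinRoot p => f (AdjoinRoot.of p a)) hid
  simp only [RingHom.id_apply] at h1
  have h2 : AdjoinRoot.of p a = AdjoinRoot.mk p (C a) := rfl
  rw [h2, hsigL_mk, hsig_C] at h1
  have : Fact (Irreducible p) := ⟨hp⟩
  have h3 : AdjoinRoot.of p (τ a) = AdjoinRoot.of p a := h1
  exact (AdjoinRoot.of p).injective h3

end sigL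

end Cfsg.Agent.Lib.Helper40.Herm
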