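import Cfsg.Agent.Lib.Helper40.SympSigL
set_option autoImplicit false
open Polynomial
open LinearMap (BilinForm)

namespace Cfsg.Agent.Lib.Helper40.Symp

open Cfsg.Agent.Lib.Helper40.SemisimpleConj

section typeI
variable {F : Type*} [Field F] {V V' : Type*} [AddCommGroup V] [Module F V] [AddCommGroup V']
  [Module F V']

theorem aeval_mul_apply (g : Module.End F V) (a b : F[X]) (x : V) :
    aeval g (a * b) x = aeval g a (aeval g b x) := by
  rw [map_mul, Module.End.mul_apply]

theorem aeval_eq_zero_of_dvd (g : Module.End F V) (p q : F[X]) (hpq : p ∣ q) (x : V)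
    (hx : aeval g p x = 0) : aeval g q x = 0 := by
  obtain ⟨s, rfl⟩ := hpq
  rw [mul_comm, aeval_mul_apply, hx, map_zero]

/-- Two nondegenerate cyclic irreducible pieces with the same self-reciprocal annihilator are
equivariantly isometric (norm surjectivity in finite fields). -/
theorem typeI_iso [Fintype F] [FiniteDimensional F V] [FiniteDimensional F V'] {N : ℕ}
    (B : BilinForm F V) (B' : BilinForm F V') (g : Module.End F V) (g' : Module.End F V')
    (halt : B.IsAlt) (halt' : B'.IsAlt) (hinv : Inv B g) (hinv' : Inv B' g') (hN0 : 0 < N)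
    (hN : g ^ N = 1) (hN' : g' ^ N = 1)
    (p : F[X]) (hp : Irreducible p) (v : V) (v' : V') (hv0 : v ≠ 0) (hv0' : v' ≠ 0)
    (hpv : aeval g p v = 0) (hpv' : aeval g' p v' = 0)
    (hps : p ∣ sig N p) (hp2 : ¬ p ∣ X ^ 2 - 1)
    (hnd : NondegOn B (cyc g v)) (hnd' : NondegOn B' (cyc g' v')) :
    ∃ ψ : ↥(cyc g v) ≃ₗ[F] ↥(cyc g' v'),
      (∀ (x : ↥(cyc g v)) (hx : g x ∈ cyc g v), (ψ ⟨g x, hx⟩ : V') = g' (ψ x)) ∧
      (∀ x y : ↥(cyc g v), B' (ψ x) (ψ y) = B x y) := by
  classical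
  have hk : LinearMap.ker (ev g v) = LinearMap.ker (ev g' v') := by
    ext h
    rw [mem_ker_ev_iff g v p hp hv0 hpv, mem_ker_ev_iff g' v' p hp hv0' hpv']
  have hpN : p ∣ X ^ N - 1 := by
    rw [← mem_ker_ev_iff g v p hp hv0 hpv, LinearMap.mem_ker, ev_apply, map_sub, map_pow, aeval_X,
      map_one, hN, sub_self, LinearMap.zero_apply]
  set ψ₀ := cycEquiv g v g' v' hk with hψ₀
  -- Step 1: the representing element
  have hndW : (B.restrict (cyc g v)).Nondegenerate := restrict_nondegenerate halt hnd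
  let μ : ↥(cyc g v) →ₗ[F] F := (B' v').comp ((cyc g' v').subtype.comp ψ₀.toLinearMap)
  set t := (BilinForm.toDual (B.restrict (cyc g v)) hndW).symm μ with ht
  have htμ : ∀ y : ↥(cyc g v), B (t : V) (y : V) = μ y := by
    intro y
    have h1 : (BilinForm.toDual (B.restrict (cyc g v)) hndW) t = μ := by
      rw [ht, LinearEquiv.apply_symm_apply]
    have h2 := congrArg (fun f : Module.Dual F ↥(cyc g v) => f y) h1
    simpa [BilinForm.toDual_def] using h2
  obtain ⟨e, he⟩ := t.2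
  rw [ev_apply] at he
  have hstar2 : ∀ k : F[X], B' v' (aeval g' k v') = B (aeval g e v) (aeval g k v) := by
    intro k
    have h1 := htμ ⟨ev g v k, ev_mem_cyc g v k⟩
    have h2 : μ ⟨ev g v k, ev_mem_cyc g v k⟩ = B' v' (aeval g' k v') := by
      change B' v' ((ψ₀ ⟨ev g v k, ev_mem_cyc g v k⟩ : ↥(cyc g' v')) : V') = _
      rw [hψ₀, cycEquiv_ev, ev_apply]
    rw [h2, ← he] at h1
    exact h1.symm
  -- Step 2
  have hstar : ∀ h k : F[X], B' (aeval g' h v') (aeval g' k v') =
      B (aeval g (e * h) v) (aeval g k v) := by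
    intro h k
    rw [adj_poly hinv' hN0 hN', ← aeval_mul_apply, hstar2, aeval_mul_apply,
      ← adj_poly hinv hN0 hN, ← aeval_mul_apply, mul_comm]
  -- Step 3
  have hep : ¬ p ∣ e := by
    intro hpe
    apply hv0'
    apply hnd' v' (self_mem_cyc v')
    rintro _ ⟨k, rfl⟩
    rw [ev_apply, hstar2, aeval_eq_zero_of_dvd g p e hpe v hpv]
    simp
  have hesym : p ∣ e - sig N e := by
    rw [← mem_ker_ev_iff g v p hp hv0 hpv, LinearMap.mem_ker, ev_apply]
    apply hnd _ (aeval_mem_cyc v _)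
    rintro _ ⟨k, rfl⟩
    rw [ev_apply, map_sub, LinearMap.sub_apply, map_sub, LinearMap.sub_apply, sub_eq_zero]
    have h1 : B (aeval g e v) (aeval g k v) = B v (aeval g (e * k) v) := by
      rw [← hstar2, alt_swap halt']
      have h2 := hstar k 1
      simp only [map_one, Module.End.one_apply] at h2
      rw [h2, ← alt_swap halt]
    rw [h1, aeval_mul_apply, adj_poly' hinv hN0 hN]
  -- Step 4: the field
  have : Fact (Irreducible p) := ⟨hp⟩
  have hpne : p ≠ 0 := hp.ne_zero
  have : Module.Finite F (AdjoinRoot p) := (AdjoinRoot.powerBasis hpne).finite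
  have : Finite (AdjoinRoot p) := Module.finite_of_finite F
  have : Fintype (AdjoinRoot p) := Fintype.ofFinite _
  set σ := sigL p N hps with hσ
  set eL : AdjoinRoot p := AdjoinRoot.mk p e with heL
  have heL0 : eL ≠ 0 := by
    rw [heL, Ne, AdjoinRoot.mk_eq_zero]
    exact hep
  have hσe : σ eL = eL := by
    rw [hσ, heL, sigL_mk]
    symm
    rw [AdjoinRoot.mk_eq_mk]
    exact hesym
  have hσμ : σ eL⁻¹ = eL⁻¹ := by rw [map_inv₀, hσe]
  obtain ⟨cL, hcL⟩ := Cfsg.Agent.Lib.Helper13.exists_mul_conj_eq σ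
    (sigL_ne_id p N hN0 hps hpN hp2) (sigL_sigL p N hN0 hps hpN) eL⁻¹ (inv_ne_zero heL0) hσμ
  obtain ⟨c, rfl⟩ := AdjoinRoot.mk_surjective cL
  have hdvd : p ∣ c * sig N c * e - 1 := by
    apply AdjoinRoot.mk_eq_zero.1
    rw [map_sub, map_mul, map_mul, map_one, ← sigL_mk p N hps, ← hσ, hcL, ← heL,
      inv_mul_cancel₀ heL0, sub_self]
  have hkey : ∀ h : F[X], aeval g (c * sig N c * e) (aeval g h v) = aeval g h v := by
    intro h
    have h1 := aeval_eq_zero_of_dvd g p _ hdvd (aeval g h v)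
      (aeval_eq_zero_on_cyc p v hpv _ (aeval_mem_cyc v h))
    rw [map_sub, LinearMap.sub_apply, map_one, Module.End.one_apply, sub_eq_zero] at h1
    exact h1
  -- Step 5: the map
  have hWc : ∀ x ∈ cyc g v, aeval g c x ∈ cyc g v :=
    aeval_mem_of_invt (cyc g v) (cyc_invt g v) c
  let ψl : ↥(cyc g v) →ₗ[F] ↥(cyc g' v') := ψ₀.toLinearMap.comp ((aeval g c).restrict hWc)
  have hψl : ∀ h : F[X], (ψl ⟨ev g v h, ev_mem_cyc g v h⟩ : V') = aeval g' (c * h) v' := by
    intro h
    have e1 : ((aeval g c).restrict hWc ⟨ev g v h, ev_mem_cyc g v h⟩ : ↥(cyc g v)) =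
        ⟨ev g v (c * h), ev_mem_cyc g v _⟩ := by
      apply Subtype.ext
      rw [LinearMap.coe_restrict_apply]
      exact aeval_ev g v c h
    change ((ψ₀ ((aeval g c).restrict hWc ⟨ev g v h, ev_mem_cyc g v h⟩) : ↥(cyc g' v')) : V') = _
    rw [e1, hψ₀, cycEquiv_ev, ev_apply]
  have hiso : ∀ x y : ↥(cyc g v), B' (ψl x) (ψl y) = B x y := by
    rintro ⟨x, h, rfl⟩ ⟨y, k, rfl⟩
    rw [hψl, hψl, hstar]
    change _ = B (aeval g h v) (aeval g k v)
    rw [aeval_mul_apply g c k, adj_poly' hinv hN0 hN, ← aeval_mul_apply, ← hkey h,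
      ← aeval_mul_apply]
    have hpoly : sig N c * (e * (c * h)) = c * sig N c * e * h := by ring
    rw [hpoly]
  have hinj : Function.Injective ψl := by
    rw [← LinearMap.ker_eq_bot, LinearMap.ker_eq_bot']
    intro x hx
    apply Subtype.ext
    apply hnd x.1 x.2
    intro y hy
    have := hiso x ⟨y, hy⟩
    rw [hx] at this
    simp only [ZeroMemClass.coe_zero, map_zero, LinearMap.zero_apply] at this
    exact this.symm
  refine ⟨LinearMap.linearEquivOfInjective ψl hinj (LinearEquiv.finrank_eq ψ₀), ?_, ?_⟩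
  · rintro ⟨x, h, rfl⟩ hx
    have e1 : (⟨g (ev g v h), hx⟩ : ↥(cyc g v)) = ⟨ev g v (X * h), ev_mem_cyc g v _⟩ := by
      apply Subtype.ext
      exact (ev_X_mul g v h).symm
    simp only [LinearMap.linearEquivOfInjective_apply]
    rw [e1, hψl, hψl, ← mul_assoc, mul_comm c X, mul_assoc, aeval_mul_apply, aeval_X]
  · intro x y
    simp only [LinearMap.linearEquivOfInjective_apply]
    exact hiso x y

end typeI

end Cfsg.Agent.Lib.Helper40.Symp
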