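import Cfsg.Agent.Lib.Helper40.HermSigL
import Cfsg.Agent.Lib.Helper40.SympTypeI
set_option autoImplicit false
open Polynomial

namespace Cfsg.Agent.Lib.Helper40.Herm

open Cfsg.Agent.Lib.Helper40 Cfsg.Agent.Lib.Helper40.SemisimpleConj

section typeI
variable {F : Type*} [Field F] {τ : F →+* F} {V V' : Type*} [AddCommGroup V] [Module F V]
  [AddCommGroup V'] [Module F V']

/-- Two nondegenerate cyclic irreducible pieces with the same self-conjugate-reciprocal annihilator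
are equivariantly isometric (norm surjectivity in finite fields). -/
theorem htypeI_iso [Fintype F] [FiniteDimensional F V] [FiniteDimensional F V'] {N : ℕ}
    (hτ : ∀ a, τ (τ a) = a) (hτ1 : τ ≠ RingHom.id F)
    (H : V →ₗ[F] V →ₛₗ[τ] F) (H' : V' →ₗ[F] V' →ₛₗ[τ] F) (g : Module.End F V)
    (g' : Module.End F V') (hH : IsHermitian H) (hH' : IsHermitian H')
    (hinv : HInv H g) (hinv' : HInv H' g') (hN0 : 0 < N)
    (hN : g ^ N = 1) (hN' : g' ^ N = 1)
    (p : F[X]) (hp : Irreducible p) (v : V) (v' : V') (hv0 : v ≠ 0) (hv0' : v' ≠ 0)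
    (hpv : aeval g p v = 0) (hpv' : aeval g' p v' = 0)
    (hps : p ∣ hsig τ N p)
    (hnd : HNondegOn H (cyc g v)) (hnd' : HNondegOn H' (cyc g' v')) :
    ∃ ψ : ↥(cyc g v) ≃ₗ[F] ↥(cyc g' v'),
      (∀ (x : ↥(cyc g v)) (hx : g x ∈ cyc g v), (ψ ⟨g x, hx⟩ : V') = g' (ψ x)) ∧
      (∀ x y : ↥(cyc g v), H' (ψ x) (ψ y) = H x y) := by
  classical
  have hk : LinearMap.ker (ev g v) = LinearMap.ker (ev g' v') := by
    ext h
    rw [mem_ker_ev_iff g v p hp hv0 hpv, mem_ker_ev_iff g' v' p hp hv0' hpv']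
  have hpN : p ∣ X ^ N - 1 := by
    rw [← mem_ker_ev_iff g v p hp hv0 hpv, LinearMap.mem_ker, ev_apply, map_sub, map_pow, aeval_X,
      map_one, hN, sub_self, LinearMap.zero_apply]
  set ψ₀ := cycEquiv g v g' v' hk with hψ₀
  -- Step 1: the representing element
  let μ : ↥(cyc g v) →ₗ[F] F :=
    (H'.flip v').comp ((cyc g' v').subtype.comp ψ₀.toLinearMap)
  obtain ⟨t, htW, htμ⟩ := exists_riesz hτ hH (cyc g v) hnd μ
  obtain ⟨e, he⟩ := htW
  rw [ev_apply] at he
  have hstar2 : ∀ k : F[X], H' (aeval g' k v') v' = H (aeval g k v) (aeval g e v) := by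
    intro k
    have h1 := htμ ⟨ev g v k, ev_mem_cyc g v k⟩
    have h2 : μ ⟨ev g v k, ev_mem_cyc g v k⟩ = H' (aeval g' k v') v' := by
      change H' ((ψ₀ ⟨ev g v k, ev_mem_cyc g v k⟩ : ↥(cyc g' v')) : V') v' = _
      rw [hψ₀, cycEquiv_ev, ev_apply]
    rw [h2, ← he] at h1
    exact h1.symm
  -- Step 2
  have hstar : ∀ h k : F[X], H' (aeval g' h v') (aeval g' k v') =
      H (aeval g h v) (aeval g (k * e) v) := by
    intro h k
    rw [hadj_poly' hinv' hN0 hN', ← Symp.aeval_mul_apply, hstar2, Symp.aeval_mul_apply,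
      Symp.aeval_mul_apply g k e, ← hadj_poly' hinv hN0 hN]
  -- Step 3
  have hep : ¬ p ∣ e := by
    intro hpe
    apply hv0'
    apply hnd' v' (Symp.self_mem_cyc v')
    rintro _ ⟨k, rfl⟩
    apply herm_swap hH'
    rw [ev_apply, hstar2, Symp.aeval_eq_zero_of_dvd g p e hpe v hpv]
    simp
  have hesym : p ∣ e - hsig τ N e := by
    rw [← mem_ker_ev_iff g v p hp hv0 hpv, LinearMap.mem_ker, ev_apply]
    apply hnd _ (Symp.aeval_mem_cyc v _)
    rintro _ ⟨k, rfl⟩
    apply herm_swap hH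
    rw [ev_apply, map_sub, LinearMap.sub_apply, map_sub, sub_eq_zero, ← hstar2,
      ← hadj_poly hτ hinv hN0 hN, ← Symp.aeval_mul_apply, ← hH, ← hH']
    have h2 := hstar 1 k
    simp only [map_one, Module.End.one_apply] at h2
    rw [h2, mul_comm]
  -- Step 4: the field
  have : Fact (Irreducible p) := ⟨hp⟩
  have hpne : p ≠ 0 := hp.ne_zero
  have : Module.Finite F (AdjoinRoot p) := (AdjoinRoot.powerBasis hpne).finite
  have : Finite (AdjoinRoot p) := Module.finite_of_finite F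
  have : Fintype (AdjoinRoot p) := Fintype.ofFinite _
  set σ := hsigL τ p N hps with hσ
  set eL : AdjoinRoot p := AdjoinRoot.mk p e with heL
  have heL0 : eL ≠ 0 := by
    rw [heL, Ne, AdjoinRoot.mk_eq_zero]
    exact hep
  have hσe : σ eL = eL := by
    rw [hσ, heL, hsigL_mk]
    symm
    rw [AdjoinRoot.mk_eq_mk]
    exact hesym
  have hσμ : σ eL⁻¹ = eL⁻¹ := by rw [map_inv₀, hσe]
  obtain ⟨cL, hcL⟩ := Cfsg.Agent.Lib.Helper13.exists_mul_conj_eq σ
    (hsigL_ne_id τ p N hp hτ1 hps) (hsigL_hsigL τ p N hτ hN0 hps hpN) eL⁻¹ (inv_ne_zero heL0) hσμ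
  obtain ⟨c, rfl⟩ := AdjoinRoot.mk_surjective cL
  have hdvd : p ∣ c * hsig τ N c * e - 1 := by
    apply AdjoinRoot.mk_eq_zero.1
    rw [map_sub, map_mul, map_mul, map_one, ← hsigL_mk τ p N hps, ← hσ, hcL, ← heL,
      inv_mul_cancel₀ heL0, sub_self]
  have hkey : ∀ h : F[X], aeval g (c * hsig τ N c * e) (aeval g h v) = aeval g h v := by
    intro h
    have h1 := Symp.aeval_eq_zero_of_dvd g p _ hdvd (aeval g h v)
      (Symp.aeval_eq_zero_on_cyc p v hpv _ (Symp.aeval_mem_cyc v h))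
    rw [map_sub, LinearMap.sub_apply, map_one, Module.End.one_apply, sub_eq_zero] at h1
    exact h1
  -- Step 5: the map
  have hWc : ∀ x ∈ cyc g v, aeval g c x ∈ cyc g v :=
    Symp.aeval_mem_of_invt (cyc g v) (cyc_invt g v) c
  let ψl : ↥(cyc g v) →ₗ[F] ↥(cyc g' v') := ψ₀.toLinearMap.comp ((aeval g c).restrict hWc)
  have hψl : ∀ h : F[X], (ψl ⟨ev g v h, ev_mem_cyc g v h⟩ : V') = aeval g' (c * h) v' := by
    intro h
    have e1 : ((aeval g c).restrict hWc ⟨ev g v h, ev_mem_cyc g v h⟩ : ↥(cyc g v)) =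
        ⟨ev g v (c * h), ev_mem_cyc g v _⟩ := by
      apply Subtype.ext
      rw [LinearMap.coe_restrict_apply]
      exact Symp.aeval_ev g v c h
    change ((ψ₀ ((aeval g c).restrict hWc ⟨ev g v h, ev_mem_cyc g v h⟩) : ↥(cyc g' v')) : V') = _
    rw [e1, hψ₀, cycEquiv_ev, ev_apply]
  have hiso : ∀ x y : ↥(cyc g v), H' (ψl x) (ψl y) = H x y := by
    rintro ⟨x, h, rfl⟩ ⟨y, k, rfl⟩
    rw [hψl, hψl, hstar]
    change _ = H (aeval g h v) (aeval g k v)
    rw [Symp.aeval_mul_apply g c h, hadj_poly hτ hinv hN0 hN, ← Symp.aeval_mul_apply, ← hkey k,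
      ← Symp.aeval_mul_apply]
    have hpoly : hsig τ N c * (c * k * e) = c * hsig τ N c * e * k := by ring
    rw [hpoly]
  have hinj : Function.Injective ψl := by
    rw [← LinearMap.ker_eq_bot, LinearMap.ker_eq_bot']
    intro x hx
    apply Subtype.ext
    apply hnd x.1 x.2
    intro y hy
    have := hiso x ⟨y, hy⟩
    rw [hx] at this
    simp only [ZeroMemClass.coe_zero, map_zero, LinearMap.zero_apply] at this
    exact this.symm
  refine ⟨LinearMap.linearEquivOfInjective ψl hinj (LinearEquiv.finrank_eq ψ₀), ?_, ?_⟩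
  · rintro ⟨x, h, rfl⟩ hx
    have e1 : (⟨g (ev g v h), hx⟩ : ↥(cyc g v)) = ⟨ev g v (X * h), ev_mem_cyc g v _⟩ := by
      apply Subtype.ext
      exact (ev_X_mul g v h).symm
    simp only [LinearMap.linearEquivOfInjective_apply]
    rw [e1, hψl, hψl, ← mul_assoc, mul_comm c X, mul_assoc, Symp.aeval_mul_apply, aeval_X]
  · intro x y
    simp only [LinearMap.linearEquivOfInjective_apply]
    exact hiso x y

end typeI

end Cfsg.Agent.Lib.Helper40.Herm
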