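import Mathlib
import Cfsg.Agent.Lib.Helper14.SL2Order4
import Cfsg.Agent.Lib.Helper38.SLCard
import Cfsg.Agent.S0016

/-! Piece M3 of helper87's joint project S5287: generalized quaternion Sylow 2-subgroups of
`SL₂(3^(2^(k-1)))`, all elements of order 4 fused. -/

set_option autoImplicit false

namespace Cfsg.Agent.Lib.Helper40.MetaSSAux
open Matrix Cfsg.Agent.Lib.Helper53 Cfsg.Agent.Lib.Helper14.SL2Order4

/-- `3^(2^m) = 1 + 2^(m+2) t` with `t` odd, for `m ≥ 1`. -/
theorem three_pow_two_pow (m : ℕ) (hm : 1 ≤ m) :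
    ∃ t : ℕ, Odd t ∧ 3 ^ 2 ^ m = 1 + 2 ^ (m + 2) * t := by
  induction m, hm using Nat.le_induction with
  | base => exact ⟨1, odd_one, by norm_num⟩
  | succ m hm ih =>
    obtain ⟨t, ht, h⟩ := ih
    refine ⟨t + 2 ^ (m + 1) * t ^ 2, ?_, ?_⟩
    · apply Odd.add_even ht
      exact Even.mul_right (Nat.even_pow.mpr ⟨even_two, by omega⟩) _
    · rw [pow_succ 2 m, pow_mul, h]; ring

section
variable {F : Type*} [Field F] [Fintype F]

theorem odd_card_of_eq {k : ℕ} (hq : Fintype.card F = 3 ^ 2 ^ (k - 1)) : Odd (Fintype.card F) := by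
  rw [hq]; exact Odd.pow (by decide)

/-- `q² - 1 = 2^(k+2) t`, `t` odd. -/
theorem sq_sub_one_eq {k : ℕ} (hk : 1 ≤ k) (hq : Fintype.card F = 3 ^ 2 ^ (k - 1)) :
    ∃ t : ℕ, Odd t ∧ Fintype.card F ^ 2 = 1 + 2 ^ (k + 2) * t := by
  obtain ⟨t, ht, h⟩ := three_pow_two_pow k hk
  refine ⟨t, ht, ?_⟩
  rw [hq, ← pow_mul, ← h]
  congr 1
  obtain ⟨j, rfl⟩ : ∃ j, k = j + 1 := ⟨k - 1, by omega⟩
  simp [pow_succ]

theorem card_SL2_eq {k : ℕ} (hk : 1 ≤ k) (hq : Fintype.card F = 3 ^ 2 ^ (k - 1)) :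
    ∃ t : ℕ, Odd t ∧ Nat.card (SpecialLinearGroup (Fin 2) F) = 2 ^ (k + 2) * t := by
  obtain ⟨t, ht, h⟩ := sq_sub_one_eq hk hq
  refine ⟨Fintype.card F * t, (odd_card_of_eq hq).mul ht, ?_⟩
  rw [Cfsg.Agent.Lib.Helper38.card_SL2, h]
  simp only [Nat.add_sub_cancel_left]
  ring

/-- The order of a Sylow 2-subgroup of a group of order `2^a t`, `t` odd. -/
theorem card_sylow_two {G : Type*} [Group G] [Finite G] (P : Sylow 2 G) (a t : ℕ) (ht : Odd t)
    (hG : Nat.card G = 2 ^ a * t) : Nat.card ↥(P : Subgroup G) = 2 ^ a := by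
  haveI : Fact (Nat.Prime 2) := ⟨Nat.prime_two⟩
  rw [Sylow.card_eq_multiplicity, hG]
  congr 1
  have ht0 : t ≠ 0 := by rintro rfl; simp at ht
  rw [Nat.factorization_mul (by positivity) ht0]
  simp only [Nat.Prime.factorization_pow Nat.prime_two, Finsupp.coe_add, Pi.add_apply,
    Finsupp.single_eq_same]
  have : t.factorization 2 = 0 := by
    apply Nat.factorization_eq_zero_of_not_dvd
    intro h2
    exact (Nat.not_even_iff_odd.mpr ht) (even_iff_two_dvd.mpr h2)
  omega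

/-- `-1` is the only involution: `UniqP 2` for every subgroup. -/
theorem uniqP_subgroup (hF : Odd (Fintype.card F)) (P : Subgroup (SpecialLinearGroup (Fin 2) F)) :
    Cfsg.Agent.S0016.UniqP 2 ↥P := by
  intro x y hx hx2 hy2
  have hx' : (x : SpecialLinearGroup (Fin 2) F) * x = 1 := by
    have := congrArg Subtype.val hx2
    simpa [pow_two] using this
  have hy' : (y : SpecialLinearGroup (Fin 2) F) * y = 1 := by
    have := congrArg Subtype.val hy2
    simpa [pow_two] using this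
  have hxv : (x : SpecialLinearGroup (Fin 2) F) = -1 := by
    rcases sl2_sq_eq_one hF _ hx' with h | h
    · exact absurd (Subtype.ext h) hx
    · exact h
  rcases sl2_sq_eq_one hF _ hy' with h | h
  · have : y = 1 := Subtype.ext h
    rw [this]; exact one_mem _
  · have : y = x := Subtype.ext (by rw [h, hxv])
    rw [this]; exact Subgroup.mem_zpowers x

/-- An element of order 4 squares to `-1`. -/
theorem sq_eq_neg_one_of_orderOf (hF : Odd (Fintype.card F)) (x : SpecialLinearGroup (Fin 2) F)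
    (hx : orderOf x = 4) : x * x = -1 := by
  have h4 : x ^ 4 = 1 := by rw [← hx]; exact pow_orderOf_eq_one x
  have h2 : (x * x) * (x * x) = 1 := by rw [← h4]; simp [pow_succ, mul_assoc]
  rcases sl2_sq_eq_one hF _ h2 with h | h
  · exfalso
    have : orderOf x ∣ 2 := orderOf_dvd_of_pow_eq_one (by rw [pow_two]; exact h)
    rw [hx] at this
    norm_num at this
  · exact h

theorem isConj_of_orderOf_four (hF : Odd (Fintype.card F)) (x y : SpecialLinearGroup (Fin 2) F)
    (hx : orderOf x = 4) (hy : orderOf y = 4) : IsConj x y := by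
  obtain ⟨gx, hgx⟩ := sl2_sq_eq_neg_one hF x (sq_eq_neg_one_of_orderOf hF x hx)
  obtain ⟨gy, hgy⟩ := sl2_sq_eq_neg_one hF y (sq_eq_neg_one_of_orderOf hF y hy)
  rw [isConj_iff]
  refine ⟨gy * gx⁻¹, ?_⟩
  rw [← hgx, ← hgy]
  group

/-- The centralizer of `w` has the order of the circle group. -/
theorem card_centralizer_w (hF : Odd (Fintype.card F)) :
    Nat.card ↥(Subgroup.centralizer ({sl2w F} : Set (SpecialLinearGroup (Fin 2) F)))
      = if Fintype.card F % 4 = 1 then Fintype.card F - 1 else Fintype.card F + 1 := by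
  have h2 := two_ne_zero_of_odd_card_field hF
  rw [← card_circle hF h2, ← Nat.card_congr (CpEquiv (F := F))]
  apply Nat.card_congr
  apply Equiv.subtypeEquivRight
  intro g
  rw [Subgroup.mem_centralizer_iff]
  simp only [Set.mem_singleton_iff, forall_eq, Cp, Set.mem_ofPred_eq]
  exact eq_comm

theorem not_dvd_circle {k : ℕ} (hk : 1 ≤ k) (hq : Fintype.card F = 3 ^ 2 ^ (k - 1)) :
    ¬ 2 ^ (k + 2) ∣ (if Fintype.card F % 4 = 1 then Fintype.card F - 1 else Fintype.card F + 1) := by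
  obtain ⟨t, ht, h⟩ := sq_sub_one_eq hk hq
  obtain ⟨j, hj⟩ := odd_card_of_eq hq
  set q := Fintype.card F with hqdef
  have hmain : 4 * j * (j + 1) = 2 ^ (k + 2) * t := by
    have : q ^ 2 = 4 * j * (j + 1) + 1 := by rw [hj]; ring
    omega
  have htne : ¬ Even t := Nat.not_even_iff_odd.mpr ht
  have hpos : 0 < 2 ^ (k + 2) := by positivity
  split_ifs with h4
  · rintro ⟨a, ha⟩
    apply htne
    have h1 : 2 * j = 2 ^ (k + 2) * a := by omega
    have h3 : 2 ^ (k + 2) * t = 2 ^ (k + 2) * (2 * (a * (j + 1))) := by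
      rw [← hmain]
      calc 4 * j * (j + 1) = 2 * (2 * j) * (j + 1) := by ring
        _ = 2 * (2 ^ (k + 2) * a) * (j + 1) := by rw [h1]
        _ = 2 ^ (k + 2) * (2 * (a * (j + 1))) := by ring
    exact ⟨a * (j + 1), by have := Nat.eq_of_mul_eq_mul_left hpos h3; omega⟩
  · rintro ⟨a, ha⟩
    apply htne
    have h1 : 2 * j + 2 = 2 ^ (k + 2) * a := by omega
    have h3 : 2 ^ (k + 2) * t = 2 ^ (k + 2) * (2 * (a * j)) := by
      rw [← hmain]
      calc 4 * j * (j + 1) = 2 * j * (2 * j + 2) := by ring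
        _ = 2 * j * (2 ^ (k + 2) * a) := by rw [h1]
        _ = 2 ^ (k + 2) * (2 * (a * j)) := by ring
    exact ⟨a * j, by have := Nat.eq_of_mul_eq_mul_left hpos h3; omega⟩

/-- A Sylow 2-subgroup of `SL₂(q)`, `q = 3^(2^(k-1))`, is not commutative. -/
theorem not_comm_sylow {k : ℕ} (hk : 1 ≤ k) (hq : Fintype.card F = 3 ^ 2 ^ (k - 1))
    (P : Sylow 2 (SpecialLinearGroup (Fin 2) F)) :
    ¬ ∀ x y : ↥(P : Subgroup (SpecialLinearGroup (Fin 2) F)), x * y = y * x := by
  haveI : Fact (Nat.Prime 2) := ⟨Nat.prime_two⟩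
  intro hcomm
  have hF := odd_card_of_eq hq
  obtain ⟨t, ht, hG⟩ := card_SL2_eq hk hq
  have hP : Nat.card ↥(P : Subgroup (SpecialLinearGroup (Fin 2) F)) = 2 ^ (k + 2) :=
    card_sylow_two P (k + 2) t ht hG
  -- a subgroup of order 4 of `P`
  obtain ⟨A, hA⟩ := Sylow.exists_subgroup_card_pow_prime (G := ↥(P : Subgroup (SpecialLinearGroup (Fin 2) F)))
    2 (n := 2) (by rw [hP]; exact pow_dvd_pow 2 (by omega))
  have hA' : Nat.card ↥(A.map (P : Subgroup (SpecialLinearGroup (Fin 2) F)).subtype) = 4 := by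
    rw [Subgroup.card_map_of_injective (Subgroup.subtype_injective _), hA]; norm_num
  obtain ⟨a, haa, hAa⟩ := exists_gen hF _ hA'
  have haP : a ∈ (P : Subgroup (SpecialLinearGroup (Fin 2) F)) := by
    have : a ∈ A.map (P : Subgroup (SpecialLinearGroup (Fin 2) F)).subtype := by
      rw [hAa]; exact Subgroup.mem_zpowers a
    obtain ⟨y, _, rfl⟩ := Subgroup.mem_map.mp this
    exact y.2
  obtain ⟨g, hg⟩ := sl2_sq_eq_neg_one hF a haa
  -- `g⁻¹ P g` centralizes `w`
  have hle : (P : Subgroup (SpecialLinearGroup (Fin 2) F)).map (MulAut.conj g⁻¹).toMonoidHom ≤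
      Subgroup.centralizer ({sl2w F} : Set (SpecialLinearGroup (Fin 2) F)) := by
    rintro _ ⟨y, hy, rfl⟩
    rw [Subgroup.mem_centralizer_iff]
    intro h hh
    rw [Set.mem_singleton_iff] at hh
    subst hh
    have hc : y * a = a * y := by
      have := hcomm ⟨y, hy⟩ ⟨a, haP⟩
      exact congrArg Subtype.val this
    simp only [MulEquiv.coe_toMonoidHom, MulAut.conj_apply, inv_inv]
    have hw : sl2w F = g⁻¹ * a * g := by rw [← hg]; group
    rw [hw]
    calc g⁻¹ * a * g * (g⁻¹ * y * g) = g⁻¹ * (a * y) * g := by group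
      _ = g⁻¹ * (y * a) * g := by rw [hc]
      _ = g⁻¹ * y * g * (g⁻¹ * a * g) := by group
  have hdvd := Subgroup.card_dvd_of_le hle
  rw [Subgroup.card_map_of_injective (MulAut.conj g⁻¹).injective, hP, card_centralizer_w hF] at hdvd
  exact not_dvd_circle hk hq hdvd

/-- The Sylow 2-subgroups of `SL₂(q)`, `q = 3^(2^(k-1))`, are generalized quaternion of order `2^(k+2)`. -/
theorem sylow_quaternion {k : ℕ} (hk : 1 ≤ k) (hq : Fintype.card F = 3 ^ 2 ^ (k - 1))
    (P : Sylow 2 (SpecialLinearGroup (Fin 2) F)) :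
    Nonempty (↥(P : Subgroup (SpecialLinearGroup (Fin 2) F)) ≃* QuaternionGroup (2 ^ k)) := by
  haveI : Fact (Nat.Prime 2) := ⟨Nat.prime_two⟩
  have hF := odd_card_of_eq hq
  obtain ⟨t, ht, hG⟩ := card_SL2_eq hk hq
  have hP : Nat.card ↥(P : Subgroup (SpecialLinearGroup (Fin 2) F)) = 2 ^ (k + 2) :=
    card_sylow_two P (k + 2) t ht hG
  rcases Cfsg.Agent.S0016.two_case P.isPGroup' (uniqP_subgroup hF _) with hc | ⟨n, ⟨e⟩⟩
  · exfalso
    apply not_comm_sylow hk hq P
    intro x y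
    obtain ⟨g, hg⟩ := hc.exists_generator
    obtain ⟨i, rfl⟩ := Subgroup.mem_zpowers_iff.mp (hg x)
    obtain ⟨j, rfl⟩ := Subgroup.mem_zpowers_iff.mp (hg y)
    rw [← _root_.zpow_add, ← _root_.zpow_add, add_comm]
  · have hcard : Nat.card (QuaternionGroup (2 ^ n)) = 4 * 2 ^ n := by
      rw [Nat.card_eq_fintype_card, QuaternionGroup.card]
    have : 2 ^ (k + 2) = 4 * 2 ^ n := by rw [← hP, Nat.card_congr e.toEquiv, hcard]
    have h2 : 2 ^ (k + 2) = 2 ^ (n + 2) := by rw [this]; ring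
    have hkn : k = n := by
      have := Nat.pow_right_injective (le_refl 2) h2
      omega
    subst hkn
    exact ⟨e⟩

end

end Cfsg.Agent.Lib.Helper40.MetaSSAux

namespace Cfsg.Agent.Lib.Helper87.MetaSS
open Cfsg.Agent.Lib.Helper40.MetaSSAux

/-- M3. Generalized quaternion Sylow subgroups with all elements of order 4 fused. -/
theorem exists_quaternion_sylow (k : ℕ) (hk : 1 ≤ k) :
    ∃ (G : Type) (_ : Group G) (_ : Finite G) (P : Sylow 2 G),
      Nonempty (↥(P : Subgroup G) ≃* QuaternionGroup (2 ^ k)) ∧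
      ∀ x y : G, orderOf x = 4 → orderOf y = 4 → IsConj x y := by
  haveI : Fact (Nat.Prime 3) := ⟨by norm_num⟩
  haveI : Fact (Nat.Prime 2) := ⟨Nat.prime_two⟩
  letI : Fintype (GaloisField 3 (2 ^ (k - 1))) := Fintype.ofFinite _
  have hq : Fintype.card (GaloisField 3 (2 ^ (k - 1))) = 3 ^ 2 ^ (k - 1) := by
    rw [← Nat.card_eq_fintype_card]
    exact GaloisField.card 3 _ (by positivity)
  have hF := odd_card_of_eq hq
  let P : Sylow 2 (Matrix.SpecialLinearGroup (Fin 2) (GaloisField 3 (2 ^ (k - 1)))) := default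
  exact ⟨Matrix.SpecialLinearGroup (Fin 2) (GaloisField 3 (2 ^ (k - 1))), inferInstance, inferInstance, P,
    sylow_quaternion hk hq P, fun x y hx hy => isConj_of_orderOf_four hF x y hx hy⟩

end Cfsg.Agent.Lib.Helper87.MetaSS
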