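import Mathlib
import Cfsg.Agent.Lib.Helper40.MetaSSM3
import Cfsg.Agent.Lib.Helper14.PSL2Klein2

/-! Piece M4 of helper87's joint project S5287: dihedral Sylow 2-subgroups of
`PSL₂(3^(2^(k-1)))`, all involutions fused. -/

set_option autoImplicit false

namespace Cfsg.Agent.Lib.Helper40.MetaSSAux
open Matrix Cfsg.Agent.Lib.Helper53 Cfsg.Agent.Lib.Helper14.SL2Order4

/-- The natural map `Q_{4n} → D_{2n}` (quotient by the centre). -/
def quatToDih (n : ℕ) : QuaternionGroup n →* DihedralGroup n :=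
  MonoidHom.mk'
    (fun x => match x with
      | QuaternionGroup.a i => DihedralGroup.r (ZMod.castHom (Dvd.intro_left 2 rfl) (ZMod n) i)
      | QuaternionGroup.xa i => DihedralGroup.sr (ZMod.castHom (Dvd.intro_left 2 rfl) (ZMod n) i))
    (by
      intro x y
      have hn : (ZMod.castHom (Dvd.intro_left 2 rfl : n ∣ 2 * n) (ZMod n)) (n : ZMod (2 * n)) = 0 := by
        rw [map_natCast]; exact ZMod.natCast_self n
      rcases x with i | i <;> rcases y with j | j
      · simp only [QuaternionGroup.a_mul_a, DihedralGroup.r_mul_r, map_add]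
      · simp only [QuaternionGroup.a_mul_xa, DihedralGroup.r_mul_sr, map_sub]
      · simp only [QuaternionGroup.xa_mul_a, DihedralGroup.sr_mul_r, map_add]
      · simp only [QuaternionGroup.xa_mul_xa, DihedralGroup.sr_mul_sr, map_add, map_sub, hn, zero_add])

theorem quatToDih_surjective (n : ℕ) [NeZero n] : Function.Surjective (quatToDih n) := by
  intro y
  rcases y with i | i
  · refine ⟨QuaternionGroup.a (((i.val : ℕ) : ZMod (2 * n))), ?_⟩
    change DihedralGroup.r _ = _
    congr 1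
    rw [map_natCast]; exact ZMod.natCast_zmod_val i
  · refine ⟨QuaternionGroup.xa (((i.val : ℕ) : ZMod (2 * n))), ?_⟩
    change DihedralGroup.sr _ = _
    congr 1
    rw [map_natCast]; exact ZMod.natCast_zmod_val i


/-- First isomorphism theorem, comparing two homomorphisms with the same kernel. -/
theorem range_equiv_of_ker_eq {A B C : Type*} [Group A] [Group B] [Group C] (f : A →* B) (ψ : A →* C)
    (hψ : Function.Surjective ψ) (hk : f.ker = ψ.ker) : Nonempty (↥f.range ≃* C) :=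
  ⟨(QuotientGroup.quotientKerEquivRange f).symm.trans
    ((QuotientGroup.quotientMulEquivOfEq hk).trans (QuotientGroup.quotientKerEquivOfSurjective ψ hψ))⟩

theorem card_ker_of_surjective {A C : Type*} [Group A] [Group C] [Finite A] (ψ : A →* C)
    (hψ : Function.Surjective ψ) : Nat.card A = Nat.card C * Nat.card ↥ψ.ker := by
  rw [Subgroup.card_eq_card_quotient_mul_card_subgroup ψ.ker,
    Nat.card_congr (QuotientGroup.quotientKerEquivOfSurjective ψ hψ).toEquiv]

theorem card_ker_range {A B : Type*} [Group A] [Group B] [Finite A] (f : A →* B) :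
    Nat.card A = Nat.card ↥f.range * Nat.card ↥f.ker := by
  rw [Subgroup.card_eq_card_quotient_mul_card_subgroup f.ker,
    Nat.card_congr (QuotientGroup.quotientKerEquivRange f).toEquiv]

section
variable {F : Type*} [Field F] [Fintype F]

/-- In a subgroup of `SL₂(q)`, `q` odd, there is at most one subgroup of order 2. -/
theorem le_of_card_two (hF : Odd (Fintype.card F)) (H : Subgroup (SpecialLinearGroup (Fin 2) F))
    (K₁ K₂ : Subgroup ↥H) (h₁ : Nat.card ↥K₁ = 2) (h₂ : Nat.card ↥K₂ = 2) : K₁ ≤ K₂ := by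
  have key : ∀ K : Subgroup ↥H, Nat.card ↥K = 2 → ∀ x ∈ K,
      ((x : ↥H) : SpecialLinearGroup (Fin 2) F) = 1 ∨ ((x : ↥H) : SpecialLinearGroup (Fin 2) F) = -1 := by
    intro K hK x hx
    haveI : Finite ↥K := Nat.finite_of_card_ne_zero (by rw [hK]; norm_num)
    have h := pow_card_eq_one' (G := ↥K) (x := ⟨x, hx⟩)
    rw [hK] at h
    have h' : (x : SpecialLinearGroup (Fin 2) F) * x = 1 := by
      have := congrArg (fun y : ↥K => ((y : ↥H) : SpecialLinearGroup (Fin 2) F)) h
      simpa [pow_two] using this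
    exact sl2_sq_eq_one hF _ h'
  have hne : K₂ ≠ ⊥ := by
    intro h; rw [h, Subgroup.card_bot] at h₂; norm_num at h₂
  obtain ⟨⟨y, hy⟩, hy0⟩ := (Subgroup.ne_bot_iff_exists_ne_one).mp hne
  have hy1 : y ≠ 1 := fun h' => hy0 (Subtype.ext h')
  have hyv : ((y : ↥H) : SpecialLinearGroup (Fin 2) F) = -1 := by
    rcases key K₂ h₂ y hy with h | h
    · exact absurd (Subtype.ext h) hy1
    · exact h
  intro x hx
  rcases key K₁ h₁ x hx with h | h
  · have : x = 1 := Subtype.ext h
    rw [this]; exact one_mem _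
  · have : x = y := Subtype.ext (by rw [h, hyv])
    rw [this]; exact hy

theorem card_PSL2_eq {k : ℕ} (hk : 1 ≤ k) (hq : Fintype.card F = 3 ^ 2 ^ (k - 1)) :
    ∃ t : ℕ, Odd t ∧ Nat.card (Matrix.ProjectiveSpecialLinearGroup (Fin 2) F) = 2 ^ (k + 1) * t := by
  obtain ⟨t, ht, h⟩ := sq_sub_one_eq hk hq
  have hF := odd_card_of_eq hq
  refine ⟨Fintype.card F * t, hF.mul ht, ?_⟩
  have h2 := Cfsg.Agent.Lib.Helper14.PSL2Klein.card_PSL2_mul_two hF
  rw [h] at h2
  simp only [Nat.add_sub_cancel_left] at h2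
  have : Nat.card (Matrix.ProjectiveSpecialLinearGroup (Fin 2) F) * 2
      = (2 ^ (k + 1) * (Fintype.card F * t)) * 2 := by rw [h2]; ring
  exact Nat.eq_of_mul_eq_mul_right (by norm_num) this

theorem sylow_dihedral {k : ℕ} (hk : 2 ≤ k) (hq : Fintype.card F = 3 ^ 2 ^ (k - 1))
    (P₀ : Sylow 2 (SpecialLinearGroup (Fin 2) F))
    (hπ : Function.Surjective (QuotientGroup.mk' (Subgroup.center (SpecialLinearGroup (Fin 2) F)))) :
    Nonempty (↥((P₀.mapSurjective hπ : Sylow 2 (Matrix.ProjectiveSpecialLinearGroup (Fin 2) F)) :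
      Subgroup (Matrix.ProjectiveSpecialLinearGroup (Fin 2) F)) ≃* DihedralGroup (2 ^ k)) := by
  haveI : Fact (Nat.Prime 2) := ⟨Nat.prime_two⟩
  have hk1 : 1 ≤ k := by omega
  have hF := odd_card_of_eq hq
  obtain ⟨t, ht, hG⟩ := card_SL2_eq hk1 hq
  have hP₀ : Nat.card ↥(P₀ : Subgroup (SpecialLinearGroup (Fin 2) F)) = 2 ^ (k + 2) :=
    card_sylow_two P₀ (k + 2) t ht hG
  obtain ⟨t', ht', hG'⟩ := card_PSL2_eq hk1 hq
  have hP : Nat.card ↥((P₀.mapSurjective hπ : Sylow 2 (Matrix.ProjectiveSpecialLinearGroup (Fin 2) F)) :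
      Subgroup (Matrix.ProjectiveSpecialLinearGroup (Fin 2) F)) = 2 ^ (k + 1) :=
    card_sylow_two _ (k + 1) t' ht' hG'
  obtain ⟨e⟩ := sylow_quaternion hk1 hq P₀
  let f : ↥(P₀ : Subgroup (SpecialLinearGroup (Fin 2) F)) →* Matrix.ProjectiveSpecialLinearGroup (Fin 2) F :=
    (QuotientGroup.mk' (Subgroup.center (SpecialLinearGroup (Fin 2) F))).comp
      (P₀ : Subgroup (SpecialLinearGroup (Fin 2) F)).subtype
  let ψ : ↥(P₀ : Subgroup (SpecialLinearGroup (Fin 2) F)) →* DihedralGroup (2 ^ k) :=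
    (quatToDih (2 ^ k)).comp e.toMonoidHom
  have hψ : Function.Surjective ψ := (quatToDih_surjective (2 ^ k)).comp e.surjective
  have hrange : f.range = ((P₀.mapSurjective hπ : Sylow 2 (Matrix.ProjectiveSpecialLinearGroup (Fin 2) F)) :
      Subgroup (Matrix.ProjectiveSpecialLinearGroup (Fin 2) F)) := by
    rw [Sylow.coe_mapSurjective, MonoidHom.range_comp, Subgroup.range_subtype]
  have hkf : Nat.card ↥f.ker = 2 := by
    have h := card_ker_range f
    rw [hrange, hP, hP₀] at h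
    have : 2 ^ (k + 1) * 2 = 2 ^ (k + 1) * Nat.card ↥f.ker := by rw [← h]; ring
    exact (Nat.eq_of_mul_eq_mul_left (by positivity) this).symm
  have hkψ : Nat.card ↥ψ.ker = 2 := by
    have h := card_ker_of_surjective ψ hψ
    rw [DihedralGroup.nat_card, hP₀] at h
    have : 2 * 2 ^ k * 2 = 2 * 2 ^ k * Nat.card ↥ψ.ker := by rw [← h]; ring
    exact (Nat.eq_of_mul_eq_mul_left (by positivity) this).symm
  have hker : f.ker = ψ.ker :=
    le_antisymm (le_of_card_two hF _ _ _ hkf hkψ) (le_of_card_two hF _ _ _ hkψ hkf)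
  obtain ⟨E⟩ := range_equiv_of_ker_eq f ψ hψ hker
  exact ⟨(MulEquiv.subgroupCongr hrange).symm.trans E⟩

end

end Cfsg.Agent.Lib.Helper40.MetaSSAux

namespace Cfsg.Agent.Lib.Helper87.MetaSS
open Cfsg.Agent.Lib.Helper40.MetaSSAux

/-- M4. Dihedral Sylow subgroups with all involutions fused. -/
theorem exists_dihedral_sylow (k : ℕ) (hk : 2 ≤ k) :
    ∃ (G : Type) (_ : Group G) (_ : Finite G) (P : Sylow 2 G),
      Nonempty (↥(P : Subgroup G) ≃* DihedralGroup (2 ^ k)) ∧
      ∀ x y : G, orderOf x = 2 → orderOf y = 2 → IsConj x y := by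
  haveI : Fact (Nat.Prime 3) := ⟨by norm_num⟩
  haveI : Fact (Nat.Prime 2) := ⟨Nat.prime_two⟩
  letI : Fintype (GaloisField 3 (2 ^ (k - 1))) := Fintype.ofFinite _
  have hq : Fintype.card (GaloisField 3 (2 ^ (k - 1))) = 3 ^ 2 ^ (k - 1) := by
    rw [← Nat.card_eq_fintype_card]
    exact GaloisField.card 3 _ (by positivity)
  have hF := odd_card_of_eq hq
  have hπ : Function.Surjective (QuotientGroup.mk' (Subgroup.center
      (Matrix.SpecialLinearGroup (Fin 2) (GaloisField 3 (2 ^ (k - 1)))))) := QuotientGroup.mk'_surjective _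
  let P₀ : Sylow 2 (Matrix.SpecialLinearGroup (Fin 2) (GaloisField 3 (2 ^ (k - 1)))) := default
  exact ⟨Matrix.ProjectiveSpecialLinearGroup (Fin 2) (GaloisField 3 (2 ^ (k - 1))), inferInstance,
    inferInstance, P₀.mapSurjective hπ, sylow_dihedral hk hq P₀ hπ,
    fun x y hx hy => Cfsg.Agent.Lib.Helper14.SL2Order4.part3 hF x y hx hy⟩

end Cfsg.Agent.Lib.Helper87.MetaSS
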