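import Cfsg.Agent.Lib.Helper40.Dicyclic
import Cfsg.Agent.Lib.Helper41.SL2Conj

set_option autoImplicit false
set_option linter.unusedSimpArgs false
set_option linter.unusedSectionVars false

/-!
The nonsplit torus `T_δ = {[[a, δ b], [b, a]] : a² - δ b² = 1}` of `SL₂(F)` for a nonsquare `δ`
(`F` finite of odd order): cyclic of order `q + 1`, self-centralising, its normaliser, and the
conjugacy of every element without eigenvector in `F²` into it.
-/

namespace Cfsg.Agent.Lib.Helper40.NST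


open Cfsg.Agent.Lib.Helper41 Cfsg.Agent.Lib.Helper40

section
variable {F : Type*} [Field F]

local notation "SLF" => Matrix.SpecialLinearGroup (Fin 2) F

/-- the nonsplit torus attached to `δ` -/
def nsT (δ : F) : Subgroup (Matrix.SpecialLinearGroup (Fin 2) F) where
  carrier := {g | g 0 0 = g 1 1 ∧ g 0 1 = δ * g 1 0}
  mul_mem' := by
    rintro a b ⟨ha1, ha2⟩ ⟨hb1, hb2⟩
    constructor
    · simp only [sl2_mul_00, sl2_mul_11, ha1, ha2, hb1, hb2]; ring
    · simp only [sl2_mul_01, sl2_mul_10, ha1, ha2, hb1, hb2]; ring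
  one_mem' := by
    constructor <;> simp
  inv_mem' := by
    rintro a ⟨ha1, ha2⟩
    constructor
    · simp only [sl2_inv_00, sl2_inv_11, ha1]
    · simp only [sl2_inv_01, sl2_inv_10, ha2]; ring

theorem mem_nsT {δ : F} (g : SLF) : g ∈ nsT δ ↔ g 0 0 = g 1 1 ∧ g 0 1 = δ * g 1 0 := Iff.rfl

theorem norm_zero {δ : F} (hδ : ¬ IsSquare δ) {a b : F} (h : a ^ 2 - δ * b ^ 2 = 0) :
    a = 0 ∧ b = 0 := by
  by_cases hb : b = 0
  · subst hb
    simp at h
    exact ⟨h, rfl⟩
  · exfalso
    apply hδ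
    refine ⟨a / b, ?_⟩
    field_simp
    linear_combination -h

theorem nsT_norm {δ : F} {g : SLF} (hg : g ∈ nsT δ) : g 1 1 ^ 2 - δ * g 1 0 ^ 2 = 1 := by
  have := sl2_det g
  rw [hg.1, hg.2] at this
  linear_combination this

/-- the commutative subring `F[J]` of the matrix ring -/
def Kring (δ : F) : Subring (Matrix (Fin 2) (Fin 2) F) where
  carrier := {M | M 0 0 = M 1 1 ∧ M 0 1 = δ * M 1 0}
  mul_mem' := by
    rintro A B ⟨hA1, hA2⟩ ⟨hB1, hB2⟩
    constructor
    · simp only [Matrix.mul_apply, Fin.sum_univ_two, hA1, hA2, hB1, hB2]; ring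
    · simp only [Matrix.mul_apply, Fin.sum_univ_two, hA1, hA2, hB1, hB2]; ring
  one_mem' := by constructor <;> simp
  add_mem' := by
    rintro A B ⟨hA1, hA2⟩ ⟨hB1, hB2⟩
    constructor
    · simp only [Matrix.add_apply, hA1, hB1]
    · simp only [Matrix.add_apply, hA2, hB2]; ring
  zero_mem' := by constructor <;> simp
  neg_mem' := by
    rintro A ⟨hA1, hA2⟩
    constructor
    · simp only [Matrix.neg_apply, hA1]
    · simp only [Matrix.neg_apply, hA2]; ring

theorem Kring_comm (δ : F) (A B : Kring δ) : A * B = B * A := by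
  obtain ⟨A, hA1, hA2⟩ := A
  obtain ⟨B, hB1, hB2⟩ := B
  apply Subtype.ext
  show A * B = B * A
  ext i j
  fin_cases i <;> fin_cases j <;>
    simp only [Matrix.mul_apply, Fin.sum_univ_two, hA1, hA2, hB1, hB2, Fin.zero_eta, Fin.mk_one,
      Fin.isValue] <;> ring

theorem Kring_nzd {δ : F} (hδ : ¬ IsSquare δ) (A B : Kring δ) (h : A * B = 0) : A = 0 ∨ B = 0 := by
  obtain ⟨A, hA1, hA2⟩ := A
  obtain ⟨B, hB1, hB2⟩ := B
  have h' : A * B = 0 := congrArg Subtype.val h
  have e00 := congrFun (congrFun h' 0) 0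
  have e10 := congrFun (congrFun h' 1) 0
  simp only [Matrix.mul_apply, Fin.sum_univ_two, hA1, hA2, hB1, hB2, Matrix.zero_apply] at e00 e10
  -- e00 : A11 * B11 + δ * A10 * B10 = 0 ; e10 : A10 * B11 + A11 * B10 = 0
  by_cases hN : A 1 1 ^ 2 - δ * A 1 0 ^ 2 = 0
  · left
    obtain ⟨h1, h2⟩ := norm_zero hδ hN
    apply Subtype.ext
    show A = 0
    ext i j
    fin_cases i <;> fin_cases j <;> simp [hA1, hA2, h1, h2]
  · right
    have k1 : (A 1 1 ^ 2 - δ * A 1 0 ^ 2) * B 1 1 = 0 := by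
      linear_combination (A 1 1) * e00 - (δ * A 1 0) * e10
    have k2 : (A 1 1 ^ 2 - δ * A 1 0 ^ 2) * B 1 0 = 0 := by
      linear_combination (A 1 1) * e10 - (A 1 0) * e00
    have b1 : B 1 1 = 0 := (mul_eq_zero.mp k1).resolve_left hN
    have b2 : B 1 0 = 0 := (mul_eq_zero.mp k2).resolve_left hN
    apply Subtype.ext
    show B = 0
    ext i j
    fin_cases i <;> fin_cases j <;> simp [hB1, hB2, b1, b2]

theorem nsT_isCyclic [Finite F] {δ : F} (hδ : ¬ IsSquare δ) : IsCyclic (nsT δ) := by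
  let _ : CommRing (Kring δ) := { (Kring δ).toRing with mul_comm := Kring_comm δ }
  have : NoZeroDivisors (Kring δ) := ⟨fun {a b} h => Kring_nzd hδ a b h⟩
  have : IsDomain (Kring δ) := NoZeroDivisors.to_isDomain _
  let f : nsT δ →* Kring δ :=
    { toFun := fun g => ⟨g.1.1, g.2⟩
      map_one' := rfl
      map_mul' := fun _ _ => rfl }
  have hf : Function.Injective f := by
    intro g h hgh
    apply Subtype.ext
    apply Subtype.ext
    exact congrArg (fun k : Kring δ => k.1) hgh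
  exact isCyclic_of_injective_ringHom f hf

/-- the torus is the conic `a² - δ b² = 1` -/
def torusEquiv (δ : F) : nsT δ ≃ {p : F × F // p.1 ^ 2 - δ * p.2 ^ 2 = 1} where
  toFun g := ⟨(g.1 1 1, g.1 1 0), nsT_norm g.2⟩
  invFun p := ⟨mkSL2 p.1.1 (δ * p.1.2) p.1.2 p.1.1 (by linear_combination p.2), ⟨rfl, rfl⟩⟩
  left_inv g := by
    apply Subtype.ext
    apply sl2_ext
    · exact g.2.1.symm
    · exact g.2.2.symm
    · rfl
    · rfl
  right_inv p := rfl

theorem one_sub_ne_zero {δ : F} (hδ : ¬ IsSquare δ) (t : F) : 1 - δ * t ^ 2 ≠ 0 := by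
  intro h
  have := norm_zero hδ (a := 1) (b := t) (by linear_combination h)
  exact one_ne_zero this.1

/-- rational parametrisation of the conic -/
noncomputable def conicEquiv [DecidableEq F] {δ : F} (hδ : ¬ IsSquare δ) (h2 : (2 : F) ≠ 0) :
    Option F ≃ {p : F × F // p.1 ^ 2 - δ * p.2 ^ 2 = 1} where
  toFun o := match o with
    | none => ⟨(-1, 0), by simp⟩
    | some t => ⟨((1 + δ * t ^ 2) / (1 - δ * t ^ 2), 2 * t / (1 - δ * t ^ 2)), by
        have := one_sub_ne_zero hδ t
        show ((1 + δ * t ^ 2) / (1 - δ * t ^ 2)) ^ 2 - δ * (2 * t / (1 - δ * t ^ 2)) ^ 2 = 1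
        field_simp
        ring⟩
  invFun p := if p.1.1 = -1 then none else some (p.1.2 / (1 + p.1.1))
  left_inv o := by
    match o with
    | none => simp
    | some t =>
      have h0 := one_sub_ne_zero hδ t
      have hne : (1 + δ * t ^ 2) / (1 - δ * t ^ 2) ≠ -1 := by
        intro h
        rw [div_eq_iff h0] at h
        apply h2
        linear_combination h
      simp only [hne, if_false]
      congr 1
      have h3 : 1 + (1 + δ * t ^ 2) / (1 - δ * t ^ 2) = 2 / (1 - δ * t ^ 2) := by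
        field_simp
        ring
      rw [h3]
      have h4 : 2 * t / (1 - δ * t ^ 2) = t * (2 / (1 - δ * t ^ 2)) := by ring
      rw [h4, mul_div_assoc, div_self (div_ne_zero h2 h0), mul_one]
  right_inv p := by
    obtain ⟨⟨a, b⟩, hp⟩ := p
    simp only at hp
    by_cases ha : a = -1
    · subst ha
      have hb : b = 0 := by
        have h1 : (0 : F) ^ 2 - δ * b ^ 2 = 0 := by linear_combination hp
        exact (norm_zero hδ h1).2
      subst hb
      simp
    · simp only [ha, if_false]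
      have h1 : 1 + a ≠ 0 := fun h => ha (by linear_combination h)
      have h3 : 1 - δ * (b / (1 + a)) ^ 2 = 2 / (1 + a) := by
        field_simp
        linear_combination hp
      apply Subtype.ext
      apply Prod.ext
      · show (1 + δ * (b / (1 + a)) ^ 2) / (1 - δ * (b / (1 + a)) ^ 2) = a
        rw [h3]
        field_simp
        linear_combination -hp
      · show 2 * (b / (1 + a)) / (1 - δ * (b / (1 + a)) ^ 2) = b
        rw [h3]
        field_simp

theorem card_nsT [Fintype F] {δ : F} (hδ : ¬ IsSquare δ) (h2 : (2 : F) ≠ 0) :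
    Nat.card (nsT δ) = Fintype.card F + 1 := by
  classical
  rw [Nat.card_congr ((torusEquiv δ).trans (conicEquiv hδ h2).symm), Nat.card_eq_fintype_card,
    Fintype.card_option]

theorem nsT_comm {δ : F} {s t : SLF} (hs : s ∈ nsT δ) (ht : t ∈ nsT δ) : s * t = t * s := by
  obtain ⟨hs1, hs2⟩ := hs
  obtain ⟨ht1, ht2⟩ := ht
  apply sl2_ext
  · simp only [sl2_mul_00, hs1, hs2, ht1, ht2]; ring
  · simp only [sl2_mul_01, hs1, hs2, ht1, ht2]; ring
  · simp only [sl2_mul_10, hs1, hs2, ht1, ht2]; ring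
  · simp only [sl2_mul_11, hs1, hs2, ht1, ht2]; ring

/-- anything commuting with a torus element with nonzero lower-left entry is in the subring -/
theorem mem_of_commute {δ : F} {g h : SLF} (hg : g ∈ nsT δ) (hb : g 1 0 ≠ 0)
    (hc : h * g = g * h) : h ∈ nsT δ := by
  obtain ⟨hg1, hg2⟩ := hg
  have e00 := congrArg (fun m : SLF => m 0 0) hc
  have e10 := congrArg (fun m : SLF => m 1 0) hc
  simp only [sl2_mul_00, sl2_mul_10, hg1, hg2] at e00 e10
  constructor
  · have : g 1 0 * (h 0 0 - h 1 1) = 0 := by linear_combination -e10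
    have := (mul_eq_zero.mp this).resolve_left hb
    exact sub_eq_zero.mp this
  · have : g 1 0 * (h 0 1 - δ * h 1 0) = 0 := by linear_combination e00
    have := (mul_eq_zero.mp this).resolve_left hb
    exact sub_eq_zero.mp this

/-- a torus element with zero lower-left entry is `±1` -/
theorem eq_pm_one_of_zero {δ : F} {g : SLF} (hg : g ∈ nsT δ) (hb : g 1 0 = 0) :
    (g : Matrix (Fin 2) (Fin 2) F) = 1 ∨ (g : Matrix (Fin 2) (Fin 2) F) = -1 := by
  have hn := nsT_norm hg
  obtain ⟨hg1, hg2⟩ := hg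
  rw [hb] at hn hg2
  have h11 : g 1 1 * g 1 1 = 1 := by linear_combination hn
  rcases mul_self_eq_one_iff.mp h11 with h | h
  · left
    ext i j
    fin_cases i <;> fin_cases j <;> simp [hg1, hg2, h, hb]
  · right
    ext i j
    fin_cases i <;> fin_cases j <;> simp [hg1, hg2, h, hb]

theorem centralizer_elt {δ : F} {g : SLF} (hg : g ∈ nsT δ)
    (h1 : (g : Matrix (Fin 2) (Fin 2) F) ≠ 1) (h2 : (g : Matrix (Fin 2) (Fin 2) F) ≠ -1) :
    Subgroup.centralizer ({g} : Set SLF) = nsT δ := by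
  have hb : g 1 0 ≠ 0 := by
    intro hb
    rcases eq_pm_one_of_zero hg hb with h | h
    · exact h1 h
    · exact h2 h
  ext h
  rw [Subgroup.mem_centralizer_singleton_iff]
  constructor
  · intro hc
    exact mem_of_commute hg hb hc
  · intro hh
    exact nsT_comm hh hg

/-- the antidiagonal-type coset -/
def IsAntiJ (δ : F) (g : SLF) : Prop := g 1 1 = - g 0 0 ∧ g 0 1 = -(δ * g 1 0)

theorem antiJ_norm {δ : F} {g : SLF} (hg : IsAntiJ δ g) : g 0 0 ^ 2 - δ * g 1 0 ^ 2 = -1 := by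
  have := sl2_det g
  rw [hg.1, hg.2] at this
  linear_combination -this

theorem conj_antiJ {δ : F} {g t : SLF} (hg : IsAntiJ δ g) (ht : t ∈ nsT δ) :
    g * t * g⁻¹ = t⁻¹ := by
  have hn := antiJ_norm hg
  obtain ⟨hg1, hg2⟩ := hg
  obtain ⟨ht1, ht2⟩ := ht
  apply sl2_ext
  · simp only [sl2_mul_00, sl2_mul_01, sl2_mul_10, sl2_mul_11, sl2_inv_00, sl2_inv_01, sl2_inv_10,
      sl2_inv_11, hg1, hg2, ht1, ht2]
    linear_combination (-(t 1 1)) * hn
  · simp only [sl2_mul_00, sl2_mul_01, sl2_mul_10, sl2_mul_11, sl2_inv_00, sl2_inv_01, sl2_inv_10,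
      sl2_inv_11, hg1, hg2, ht1, ht2]
    linear_combination (δ * t 1 0) * hn
  · simp only [sl2_mul_00, sl2_mul_01, sl2_mul_10, sl2_mul_11, sl2_inv_00, sl2_inv_01, sl2_inv_10,
      sl2_inv_11, hg1, hg2, ht1, ht2]
    linear_combination (t 1 0) * hn
  · simp only [sl2_mul_00, sl2_mul_01, sl2_mul_10, sl2_mul_11, sl2_inv_00, sl2_inv_01, sl2_inv_10,
      sl2_inv_11, hg1, hg2, ht1, ht2]
    linear_combination (-(t 1 1)) * hn

theorem antiJ_inv {δ : F} {g : SLF} (hg : IsAntiJ δ g) : IsAntiJ δ g⁻¹ := by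
  obtain ⟨hg1, hg2⟩ := hg
  constructor
  · rw [sl2_inv_11, sl2_inv_00, hg1]; ring
  · rw [sl2_inv_01, sl2_inv_10, hg2]; ring

theorem mem_normalizer_of_antiJ {δ : F} {g : SLF} (hg : IsAntiJ δ g) :
    g ∈ Subgroup.normalizer ((nsT δ : Subgroup SLF) : Set SLF) := by
  rw [Subgroup.mem_normalizer_iff]
  intro t
  constructor
  · intro ht
    rw [conj_antiJ hg ht]
    exact (nsT δ).inv_mem ht
  · intro ht
    have h := conj_antiJ (antiJ_inv hg) ht
    have h2 : g⁻¹ * (g * t * g⁻¹) * g⁻¹⁻¹ = t := by group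
    rw [h2] at h
    rw [h]
    exact (nsT δ).inv_mem ht

theorem antiJ_mul {δ : F} {g h : SLF} (hg : IsAntiJ δ g) (hh : IsAntiJ δ h) : g⁻¹ * h ∈ nsT δ := by
  obtain ⟨hg1, hg2⟩ := hg
  obtain ⟨hh1, hh2⟩ := hh
  constructor
  · simp only [sl2_mul_00, sl2_mul_11, sl2_inv_00, sl2_inv_01, sl2_inv_10, sl2_inv_11, hg1, hg2,
      hh1, hh2]
    ring
  · simp only [sl2_mul_01, sl2_mul_10, sl2_inv_00, sl2_inv_01, sl2_inv_10, sl2_inv_11, hg1, hg2,
      hh1, hh2]
    ring

theorem antiJ_sq {δ : F} {g : SLF} (hg : IsAntiJ δ g) :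
    ((g * g : SLF) : Matrix (Fin 2) (Fin 2) F) = -1 := by
  have hn := antiJ_norm hg
  obtain ⟨hg1, hg2⟩ := hg
  ext i j
  fin_cases i <;> fin_cases j
  · show (g * g) 0 0 = _
    simp only [sl2_mul_00, hg1, hg2]
    simp
    linear_combination hn
  · show (g * g) 0 1 = _
    simp only [sl2_mul_01, hg1, hg2]
    simp
    ring
  · show (g * g) 1 0 = _
    simp only [sl2_mul_10, hg1, hg2]
    simp
    ring
  · show (g * g) 1 1 = _
    simp only [sl2_mul_11, hg1, hg2]
    simp
    linear_combination hn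

/-- the normaliser of the nonsplit torus -/
theorem normalizer_casesJ {δ : F} (hδ : ¬ IsSquare δ) (h2 : (2 : F) ≠ 0)
    {τ : SLF} (hτ : τ ∈ nsT δ) (hb : τ 1 0 ≠ 0) {g : SLF}
    (hg : g ∈ Subgroup.normalizer ((nsT δ : Subgroup SLF) : Set SLF)) :
    g ∈ nsT δ ∨ IsAntiJ δ g := by
  rw [Subgroup.mem_normalizer_iff] at hg
  obtain ⟨e1, e2⟩ := (hg τ).mp hτ
  obtain ⟨hτ1, hτ2⟩ := hτ
  have hdet := sl2_det g
  simp only [sl2_mul_00, sl2_mul_01, sl2_mul_10, sl2_mul_11, sl2_inv_00, sl2_inv_01, sl2_inv_10,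
    sl2_inv_11, hτ1, hτ2] at e1 e2
  -- E1 : y w - δ x z = 0 ; E2 : δ (x² - w²) - y² + δ² z² = 0
  have E1 : g 0 1 * g 1 1 - δ * g 0 0 * g 1 0 = 0 := by
    have : (2 * τ 1 0) * (g 0 1 * g 1 1 - δ * g 0 0 * g 1 0) = 0 := by linear_combination e1
    exact (mul_eq_zero.mp this).resolve_left (mul_ne_zero h2 hb)
  have E2 : δ * (g 0 0 ^ 2 - g 1 1 ^ 2) - g 0 1 ^ 2 + δ ^ 2 * g 1 0 ^ 2 = 0 := by
    have : (τ 1 0) * (δ * (g 0 0 ^ 2 - g 1 1 ^ 2) - g 0 1 ^ 2 + δ ^ 2 * g 1 0 ^ 2) = 0 := by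
      linear_combination e2
    exact (mul_eq_zero.mp this).resolve_left hb
  have k1 : ((g 0 1 + δ * g 1 0) ^ 2 - δ * (g 0 0 + g 1 1) ^ 2) * (g 0 0 - g 1 1) = 0 := by
    linear_combination (-(g 0 0 + g 1 1)) * E2 - (2 * (g 0 1 + δ * g 1 0)) * E1
  have k2 : ((g 0 1 + δ * g 1 0) ^ 2 - δ * (g 0 0 + g 1 1) ^ 2) * (δ * g 1 0 - g 0 1) = 0 := by
    linear_combination (2 * δ * (g 0 0 + g 1 1)) * E1 + (g 0 1 + δ * g 1 0) * E2
  by_cases hN : (g 0 1 + δ * g 1 0) ^ 2 - δ * (g 0 0 + g 1 1) ^ 2 = 0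
  · right
    obtain ⟨n1, n2⟩ := norm_zero hδ hN
    constructor
    · linear_combination n2
    · linear_combination n1
  · left
    have c1 := (mul_eq_zero.mp k1).resolve_left hN
    have c2 := (mul_eq_zero.mp k2).resolve_left hN
    constructor
    · linear_combination c1
    · linear_combination -c2

theorem nsT_sq_one {δ : F} (h2 : (2 : F) ≠ 0) {t : SLF} (ht : t ∈ nsT δ) :
    t * t = 1 ↔ t = 1 ∨ t = -1 := by
  constructor
  · intro h
    have e10 := congrArg (fun m : SLF => m 1 0) h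
    have e00 := congrArg (fun m : SLF => m 0 0) h
    have hn := nsT_norm ht
    obtain ⟨ht1, ht2⟩ := ht
    simp only [sl2_mul_10, sl2_mul_00, ht1, ht2] at e10 e00
    have e10' : t 1 0 * t 1 1 + t 1 1 * t 1 0 = 0 := by simpa using e10
    have e00' : t 1 1 * t 1 1 + δ * t 1 0 * t 1 0 = 1 := by simpa using e00
    have hb : t 1 0 = 0 := by
      have k : (2 * t 1 1) * t 1 0 = 0 := by linear_combination e10'
      rcases mul_eq_zero.mp k with k1 | k1
      · exfalso
        have h11 : t 1 1 = 0 := (mul_eq_zero.mp k1).resolve_left h2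
        rw [h11] at hn e00'
        apply h2
        linear_combination -hn - e00'
      · exact k1
    have h11 : t 1 1 * t 1 1 = 1 := by rw [hb] at e00'; linear_combination e00'
    rcases mul_self_eq_one_iff.mp h11 with h | h
    · left
      apply sl2_ext
      · rw [ht1, h]; simp
      · rw [ht2, hb]; simp
      · rw [hb]; simp
      · rw [h]; simp
    · right
      apply sl2_ext
      · rw [ht1, h]; simp
      · rw [ht2, hb]; simp
      · rw [hb]; simp
      · rw [h]; simp
  · rintro (h | h)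
    · rw [h]; simp
    · rw [h]; simp

theorem neg_one_mem_nsT (δ : F) : (-1 : SLF) ∈ nsT δ := by
  constructor <;> simp

theorem disc_nonsquare (h2 : (2 : F) ≠ 0) {g : SLF}
    (hg : ∀ (c : F) (v : Fin 2 → F), v ≠ 0 →
      (g : Matrix (Fin 2) (Fin 2) F).mulVec v ≠ c • v) :
    ¬ IsSquare ((g 0 0 + g 1 1) ^ 2 - 4) := by
  rintro ⟨u, hu⟩
  have hdet := sl2_det g
  obtain ⟨c, hc⟩ : ∃ c : F, 2 * c = g 0 0 + g 1 1 + u := ⟨(g 0 0 + g 1 1 + u) / 2, by field_simp⟩
  have hcc : c ^ 2 - (g 0 0 + g 1 1) * c + 1 = 0 := by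
    have h4 : (4 : F) ≠ 0 := by
      have : (4 : F) = 2 * 2 := by norm_num
      rw [this]; exact mul_ne_zero h2 h2
    have : 4 * (c ^ 2 - (g 0 0 + g 1 1) * c + 1) = 0 := by
      have e : u = 2 * c - (g 0 0 + g 1 1) := by linear_combination -hc
      rw [e] at hu
      linear_combination -hu
    exact (mul_eq_zero.mp this).resolve_left h4
  by_cases h1 : g 0 1 = 0 ∧ c - g 0 0 = 0
  · by_cases h3 : c - g 1 1 = 0 ∧ g 1 0 = 0
    · apply hg c ![1, 0]
      · intro h
        have := congrFun h 0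
        simp at this
      · funext i
        fin_cases i
        · simp [Matrix.mulVec, dotProduct, Fin.sum_univ_two]
          linear_combination -h1.2
        · simp [Matrix.mulVec, dotProduct, Fin.sum_univ_two]
          exact h3.2
    · apply hg c ![c - g 1 1, g 1 0]
      · intro h
        apply h3
        have e0 := congrFun h 0
        have e1 := congrFun h 1
        simp at e0 e1
        exact ⟨e0, e1⟩
      · funext i
        fin_cases i
        · simp [Matrix.mulVec, dotProduct, Fin.sum_univ_two]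
          linear_combination -hcc - hdet
        · simp [Matrix.mulVec, dotProduct, Fin.sum_univ_two]
          ring
  · apply hg c ![g 0 1, c - g 0 0]
    · intro h
      apply h1
      have e0 := congrFun h 0
      have e1 := congrFun h 1
      simp at e0 e1
      exact ⟨e0, e1⟩
    · funext i
      fin_cases i
      · simp [Matrix.mulVec, dotProduct, Fin.sum_univ_two]
        ring
      · simp [Matrix.mulVec, dotProduct, Fin.sum_univ_two]
        linear_combination -hcc - hdet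

theorem exists_sq_of_nonsquares [Fintype F] {D δ : F} (hD : ¬ IsSquare D) (hδ : ¬ IsSquare δ) :
    ∃ s : F, D = δ * s ^ 2 := by
  classical
  have hD0 : D ≠ 0 := fun h => hD (h ▸ IsSquare.zero)
  have hδ0 : δ ≠ 0 := fun h => hδ (h ▸ IsSquare.zero)
  have h1 := quadraticChar_neg_one_iff_not_isSquare.mpr hD
  have h2 := quadraticChar_neg_one_iff_not_isSquare.mpr hδ
  have h3 : quadraticChar F (D * δ) = 1 := by
    rw [map_mul, h1, h2]; norm_num
  obtain ⟨r, hr⟩ := (quadraticChar_one_iff_isSquare (mul_ne_zero hD0 hδ0)).mp h3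
  refine ⟨r / δ, ?_⟩
  field_simp
  linear_combination hr

theorem exists_conj_mem [Fintype F] (hodd : Fintype.card F % 2 = 1) (h2 : (2 : F) ≠ 0)
    {δ : F} (hδ : ¬ IsSquare δ) {g : SLF}
    (hg : ∀ (c : F) (v : Fin 2 → F), v ≠ 0 →
      (g : Matrix (Fin 2) (Fin 2) F).mulVec v ≠ c • v) :
    ∃ h : SLF, h * g * h⁻¹ ∈ nsT δ := by
  have hD := disc_nonsquare h2 hg
  obtain ⟨s, hs⟩ := exists_sq_of_nonsquares hD hδ
  have hD0 : (g 0 0 + g 1 1) ^ 2 - 4 ≠ 0 := fun h => hD (h ▸ IsSquare.zero)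
  have hs0 : s ≠ 0 := by
    intro h
    rw [h] at hs
    apply hD0
    rw [hs]; ring
  have h4 : (4 : F) ≠ 0 := by
    have : (4 : F) = 2 * 2 := by norm_num
    rw [this]; exact mul_ne_zero h2 h2
  let τ : SLF := mkSL2 ((g 0 0 + g 1 1) / 2) (δ * (s / 2)) (s / 2) ((g 0 0 + g 1 1) / 2) (by
    field_simp
    linear_combination hs)
  have hτ : τ ∈ nsT δ := ⟨rfl, rfl⟩
  have hτc : τ ∉ Subgroup.center SLF := by
    rw [sl2_mem_center_iff]
    rintro ⟨-, h10, -⟩
    have : s / 2 = 0 := h10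
    rcases div_eq_zero_iff.mp this with h | h
    · exact hs0 h
    · exact h2 h
  have hgc : g ∉ Subgroup.center SLF := by
    rw [sl2_mem_center_iff]
    rintro ⟨-, h10, -⟩
    apply hg (g 0 0) ![1, 0]
    · intro h
      have := congrFun h 0
      simp at this
    · funext i
      fin_cases i
      · simp [Matrix.mulVec, dotProduct, Fin.sum_univ_two]
      · simp [Matrix.mulVec, dotProduct, Fin.sum_univ_two]
        exact h10
  have htr : tr2 τ = tr2 g := by
    show (g 0 0 + g 1 1) / 2 + (g 0 0 + g 1 1) / 2 = g 0 0 + g 1 1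
    field_simp
    ring
  have hN : NormUniversal (tr2 g) := by
    apply normUniversal_of_odd hodd
    intro h
    apply hD0
    show (g 0 0 + g 1 1) ^ 2 - 4 = 0
    have : tr2 g = g 0 0 + g 1 1 := rfl
    rw [← this, h]; ring
  obtain ⟨W, hW⟩ := conj_of_tr2_eq hgc hτc htr hN
  exact ⟨W, hW ▸ hτ⟩


theorem antiJ_not_mem {δ : F} (h2 : (2 : F) ≠ 0) {g : SLF} (hg : IsAntiJ δ g) : g ∉ nsT δ := by
  intro hm
  have hn := antiJ_norm hg
  obtain ⟨hg1, hg2⟩ := hg
  obtain ⟨hm1, hm2⟩ := hm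
  have k1 : 2 * g 0 0 = 0 := by linear_combination hm1 + hg1
  have k2 : 2 * (δ * g 1 0) = 0 := by linear_combination hg2 - hm2
  have x0 : g 0 0 = 0 := (mul_eq_zero.mp k1).resolve_left h2
  have z0 : δ * g 1 0 = 0 := (mul_eq_zero.mp k2).resolve_left h2
  rw [x0] at hn
  have : (0 : F) = -1 := by
    have e : δ * g 1 0 ^ 2 = (δ * g 1 0) * g 1 0 := by ring
    rw [e, z0] at hn
    linear_combination hn
  apply h2
  linear_combination (2 : F) * this

end

/-- Let F be a finite field with q elements, q odd. Then SL₂ over F contains a cyclic subgroup T′ of order q + 1 (a non-split torus) with the following properties: T′ is its own centraliser, and indeed the centraliser of each element of T′ other than 1 and −1 is exactly T′; every element of SL₂ having no eigenvector in F² is conjugate to an element of T′; the normaliser of T′ has order 2(q + 1) and exactly (q + 7)/2 conjugacy classes; and every element of that normaliser outside T′ has square −1. -/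
theorem nonsplit_torus_exists {F : Type*} [Field F] [Fintype F] (hodd : Odd (Fintype.card F)) :
    ∃ T' : Subgroup (Matrix.SpecialLinearGroup (Fin 2) F), IsCyclic T' ∧ Nat.card T' = Fintype.card F + 1 ∧
      Subgroup.centralizer ((T' : Set (Matrix.SpecialLinearGroup (Fin 2) F))) = T' ∧
      (∀ g : Matrix.SpecialLinearGroup (Fin 2) F, g ∈ T' → (g : Matrix (Fin 2) (Fin 2) F) ≠ 1 → (g : Matrix (Fin 2) (Fin 2) F) ≠ -1 → Subgroup.centralizer ({g} : Set (Matrix.SpecialLinearGroup (Fin 2) F)) = T') ∧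
      (∀ g : Matrix.SpecialLinearGroup (Fin 2) F, (∀ (c : F) (v : Fin 2 → F), v ≠ 0 → (g : Matrix (Fin 2) (Fin 2) F).mulVec v ≠ c • v) → ∃ h : Matrix.SpecialLinearGroup (Fin 2) F, h * g * h⁻¹ ∈ T') ∧
      Nat.card (Subgroup.normalizer (T' : Set (Matrix.SpecialLinearGroup (Fin 2) F))) = 2 * (Fintype.card F + 1) ∧
      Nat.card (ConjClasses (Subgroup.normalizer (T' : Set (Matrix.SpecialLinearGroup (Fin 2) F)))) = (Fintype.card F + 7) / 2 ∧
      ∀ g : Matrix.SpecialLinearGroup (Fin 2) F, g ∈ Subgroup.normalizer (T' : Set (Matrix.SpecialLinearGroup (Fin 2) F)) → g ∉ T' → ((g * g) : Matrix (Fin 2) (Fin 2) F) = -1 := by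
  classical
  have hq : Fintype.card F % 2 = 1 := Nat.odd_iff.mp hodd
  have hchar : ringChar F ≠ 2 := by
    intro h
    have := FiniteField.even_card_iff_char_two.mp h
    omega
  have h2 : (2 : F) ≠ 0 := Ring.two_ne_zero hchar
  obtain ⟨δ, hδ⟩ := FiniteField.exists_nonsquare hchar
  have hδ0 : δ ≠ 0 := fun h => hδ (h ▸ IsSquare.zero)
  -- a torus element with nonzero lower-left entry
  obtain ⟨τ, hτ, hτb⟩ : ∃ τ : Matrix.SpecialLinearGroup (Fin 2) F, τ ∈ nsT δ ∧ τ 1 0 ≠ 0 := by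
    refine ⟨((torusEquiv δ).symm ((conicEquiv hδ h2) (some 1))).1,
      ((torusEquiv δ).symm ((conicEquiv hδ h2) (some 1))).2, ?_⟩
    show (2 * 1 / (1 - δ * 1 ^ 2) : F) ≠ 0
    exact div_ne_zero (mul_ne_zero h2 one_ne_zero) (one_sub_ne_zero hδ 1)
  -- an element of the other coset
  obtain ⟨x, z, hxz⟩ := exists_quadratic_sum_eq_zero hq 1 0 (-δ) 0 1 one_ne_zero
    (neg_ne_zero.mpr hδ0)
  have hw : IsAntiJ δ (mkSL2 x (-(δ * z)) z (-x) (by linear_combination -hxz)) := ⟨rfl, rfl⟩
  have hneg : (-1 : Matrix.SpecialLinearGroup (Fin 2) F) ≠ 1 := by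
    intro h
    have h1 : (-1 : F) = 1 := by
      have := congrArg (fun m : Matrix.SpecialLinearGroup (Fin 2) F => m 0 0) h
      simpa using this
    apply h2
    linear_combination -h1
  have hmain := dic_count (nsT δ) (Subgroup.normalizer ((nsT δ : Subgroup _) : Set _)) _
    Subgroup.le_normalizer (mem_normalizer_of_antiJ hw) (antiJ_not_mem h2 hw)
    (fun g hg => by
      rcases normalizer_casesJ hδ h2 hτ hτb hg with h | h
      · exact Or.inl h
      · exact Or.inr (antiJ_mul hw h))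
    (fun s hs t ht => nsT_comm hs ht)
    (fun t ht => conj_antiJ hw ht)
    (-1) (neg_one_mem_nsT δ) hneg
    (fun t ht => nsT_sq_one h2 ht)
  have hT : Nat.card (nsT δ) = Fintype.card F + 1 := card_nsT hδ h2
  refine ⟨nsT δ, nsT_isCyclic hδ, hT, ?_, ?_, ?_, ?_, ?_, ?_⟩
  · ext h
    rw [Subgroup.mem_centralizer_iff]
    constructor
    · intro hc
      exact mem_of_commute hτ hτb (hc τ hτ).symm
    · intro hh t ht
      exact nsT_comm ht hh
  · intro g hg h1 h2'
    exact centralizer_elt hg h1 h2'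
  · intro g hg
    exact exists_conj_mem hq h2 hδ hg
  · rw [hmain.1, hT]
  · have h3 := hmain.2
    rw [hT] at h3
    omega
  · intro g hg hgT
    rcases normalizer_casesJ hδ h2 hτ hτb hg with h | h
    · exact absurd h hgT
    · exact antiJ_sq h

end Cfsg.Agent.Lib.Helper40.NST
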