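import Mathlib
import Cfsg.Agent.Lib.Helper5.SLGen

set_option autoImplicit false
set_option linter.unusedSimpArgs false
set_option linter.unusedSectionVars false

/-!
The cyclic monomial element `w` of `SL_{n+1}(K)` (ones in positions `(i, i+1)` and `(-1)^n` in
position `(n, 0)`), its conjugation action on transvections, and the generation lemma: a subgroup
containing `w` and the whole root subgroup `X_{01}` is everything.
-/

namespace Cfsg.Agent.Lib.Helper40

open Matrix Matrix.SpecialLinearGroup Cfsg.Agent.Lib.Helper5

section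
variable {K : Type*} [Field K] {n : ℕ}

/-- the sign carried by row `i` of the cyclic monomial matrix -/
def cycSign (n : ℕ) (K : Type*) [Field K] (i : Fin (n + 1)) : K := if i.val = n then (-1) ^ n else 1

/-- the cyclic monomial matrix -/
def cycMat (n : ℕ) (K : Type*) [Field K] : Matrix (Fin (n + 1)) (Fin (n + 1)) K :=
  Matrix.of (fun i j => if j.val = i.val + 1 then 1 else if i.val = n ∧ j.val = 0 then (-1) ^ n else 0)

theorem cycSign_sq (i : Fin (n + 1)) : cycSign n K i * cycSign n K i = 1 := by
  unfold cycSign
  split_ifs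
  · rw [← mul_pow]; simp
  · simp

theorem cycMat_apply (i j : Fin (n + 1)) :
    cycMat n K i j = if j = i + 1 then cycSign n K i else 0 := by
  unfold cycMat cycSign
  simp only [Matrix.of_apply]
  by_cases hi : i.val = n
  · have hi' : i = Fin.last n := Fin.ext hi
    have h1 : i + 1 = 0 := by rw [hi']; exact Fin.last_add_one n
    have h2 : ¬ j.val = i.val + 1 := by have := j.2; omega
    rw [if_neg h2, h1, if_pos hi]
    by_cases hj : j = 0
    · rw [if_pos hj, if_pos ⟨hi, by rw [hj]; rfl⟩]
    · rw [if_neg hj, if_neg]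
      rintro ⟨-, h⟩
      exact hj (Fin.ext h)
  · have hlt : i.val < n := by have := i.2; omega
    have h1 : (i + 1).val = i.val + 1 := Fin.val_add_one_of_lt (by
      rw [Fin.lt_def, Fin.val_last]; exact hlt)
    rw [if_neg hi]
    by_cases hj : j = i + 1
    · rw [if_pos hj, if_pos (by rw [hj, h1])]
    · rw [if_neg hj, if_neg, if_neg]
      · rintro ⟨h, -⟩; exact hi h
      · intro h
        exact hj (Fin.ext (by rw [h1]; exact h))

theorem cycMat_mul_single (a b : Fin (n + 1)) (s : K) :
    cycMat n K * Matrix.single a b s = Matrix.single (a - 1) b (cycSign n K (a - 1) * s) := by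
  ext i j
  simp only [Matrix.mul_apply, Matrix.single_apply, cycMat_apply]
  by_cases hj : b = j
  · subst hj
    by_cases hi : a - 1 = i
    · subst hi
      rw [Finset.sum_eq_single a]
      · simp
      · intro k _ hk
        simp [Ne.symm hk]
      · simp
    · rw [if_neg (by tauto)]
      apply Finset.sum_eq_zero
      intro k _
      by_cases hk : a = k
      · subst hk
        have : ¬ a = i + 1 := fun h => hi (by rw [h, add_sub_cancel_right])
        simp [this]
      · simp [hk]
  · rw [if_neg (by tauto)]
    apply Finset.sum_eq_zero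
    intro k _
    simp [hj]

theorem single_mul_cycMat (a b : Fin (n + 1)) (s : K) :
    Matrix.single a b s * cycMat n K = Matrix.single a (b + 1) (s * cycSign n K b) := by
  ext i j
  simp only [Matrix.mul_apply, Matrix.single_apply, cycMat_apply]
  by_cases hi : a = i
  · subst hi
    by_cases hj : b + 1 = j
    · subst hj
      rw [Finset.sum_eq_single b]
      · simp
      · intro k _ hk
        simp [Ne.symm hk]
      · simp
    · rw [if_neg (by tauto)]
      apply Finset.sum_eq_zero
      intro k _
      by_cases hk : b = k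
      · subst hk
        simp [Ne.symm hj]
      · simp [hk]
  · rw [if_neg (by tauto)]
    apply Finset.sum_eq_zero
    intro k _
    simp [hi]

/-- conjugating a transvection by the cyclic monomial element shifts it -/
theorem cyc_conj_transvection (w : SpecialLinearGroup (Fin (n + 1)) K)
    (hw : (w : Matrix (Fin (n + 1)) (Fin (n + 1)) K) = cycMat n K)
    {a b : Fin (n + 1)} (hab : a ≠ b) (hab' : a - 1 ≠ b - 1) (s : K) :
    w * transvection hab s * w⁻¹ =
      transvection hab' (cycSign n K (a - 1) * cycSign n K (b - 1) * s) := by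
  rw [mul_inv_eq_iff_eq_mul]
  apply Subtype.ext
  simp only [coe_mul, transvection_coe, hw]
  rw [mul_add, add_mul, mul_one, one_mul, cycMat_mul_single, single_mul_cycMat, sub_add_cancel]
  congr 2
  have := cycSign_sq (K := K) (b - 1)
  calc cycSign n K (a - 1) * s = cycSign n K (a - 1) * s * (cycSign n K (b - 1) * cycSign n K (b - 1)) := by
        rw [this, mul_one]
    _ = _ := by ring

/-- the whole root subgroup `X_{ab}` lies in `H` -/
def RootIn (H : Subgroup (SpecialLinearGroup (Fin (n + 1)) K)) (a b : Fin (n + 1)) : Prop :=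
  ∀ (h : a ≠ b) (s : K), transvection h s ∈ H

theorem RootIn.shift {H : Subgroup (SpecialLinearGroup (Fin (n + 1)) K)}
    (w : SpecialLinearGroup (Fin (n + 1)) K)
    (hw : (w : Matrix (Fin (n + 1)) (Fin (n + 1)) K) = cycMat n K) (hwH : w ∈ H)
    {a b : Fin (n + 1)} (hR : RootIn H a b) : RootIn H (a - 1) (b - 1) := by
  intro h' s
  have hab : a ≠ b := fun e => h' (by rw [e])
  have h1 := cyc_conj_transvection w hw hab h' (cycSign n K (a - 1) * cycSign n K (b - 1) * s)
  have h2 : cycSign n K (a - 1) * cycSign n K (b - 1) *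
      (cycSign n K (a - 1) * cycSign n K (b - 1) * s) = s := by
    have e1 := cycSign_sq (K := K) (a - 1)
    have e2 := cycSign_sq (K := K) (b - 1)
    calc _ = (cycSign n K (a - 1) * cycSign n K (a - 1)) *
          (cycSign n K (b - 1) * cycSign n K (b - 1)) * s := by ring
      _ = s := by rw [e1, e2, one_mul, one_mul]
  rw [h2] at h1
  rw [← h1]
  exact H.mul_mem (H.mul_mem hwH (hR hab _)) (H.inv_mem hwH)

open Fin.NatCast

theorem ne_add_cast (i : Fin (n + 1)) (d : ℕ) (hd1 : 1 ≤ d) (hdn : d ≤ n) :
    i ≠ i + (d : Fin (n + 1)) := by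
  intro e
  have h0 : ((d : ℕ) : Fin (n + 1)) = 0 := by
    have := e.symm
    rwa [add_eq_left] at this
  rw [Fin.natCast_eq_zero] at h0
  have := Nat.le_of_dvd (by omega) h0
  omega

/-- a subgroup of `SL_{n+1}(K)` containing the cyclic monomial element and the root subgroup
`X_{01}` is everything -/
theorem eq_top_of_cyc_root (hn : 1 ≤ n) (H : Subgroup (SpecialLinearGroup (Fin (n + 1)) K))
    (w : SpecialLinearGroup (Fin (n + 1)) K)
    (hw : (w : Matrix (Fin (n + 1)) (Fin (n + 1)) K) = cycMat n K) (hwH : w ∈ H)
    (hX : RootIn H 0 1) : H = ⊤ := by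
  -- step 2 : all shifts of (0,1)
  have h2 : ∀ m : ℕ, RootIn H (0 - (m : Fin (n + 1))) (1 - (m : Fin (n + 1))) := by
    intro m
    induction m with
    | zero => simpa using hX
    | succ m ih =>
      have := RootIn.shift w hw hwH ih
      have e1 : (0 : Fin (n + 1)) - ((m + 1 : ℕ) : Fin (n + 1)) = 0 - (m : Fin (n + 1)) - 1 := by
        rw [Nat.cast_succ, sub_add_eq_sub_sub]
      have e2 : (1 : Fin (n + 1)) - ((m + 1 : ℕ) : Fin (n + 1)) = 1 - (m : Fin (n + 1)) - 1 := by
        rw [Nat.cast_succ, sub_add_eq_sub_sub]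
      rw [e1, e2]
      exact this
  -- step 3 : all (i, i+1)
  have h3 : ∀ i : Fin (n + 1), RootIn H i (i + 1) := by
    intro i
    have := h2 (-i).val
    rw [Fin.cast_val_eq_self, zero_sub, neg_neg, sub_neg_eq_add, add_comm] at this
    exact this
  -- step 4 : all (i, i+d)
  have h4 : ∀ d : ℕ, 1 ≤ d → d ≤ n → ∀ i : Fin (n + 1), RootIn H i (i + (d : Fin (n + 1))) := by
    intro d hd1
    induction d, hd1 using Nat.le_induction with
    | base =>
      intro _ i
      rw [Nat.cast_one]
      exact h3 i
    | succ d hd1 ih =>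
      intro hdn i
      have ihd := ih (by omega) i
      have hj : i + ((d + 1 : ℕ) : Fin (n + 1)) = (i + (d : Fin (n + 1))) + 1 := by
        rw [Nat.cast_succ, add_assoc]
      rw [hj]
      intro hij s
      have hik : i ≠ i + (d : Fin (n + 1)) := ne_add_cast i d hd1 (by omega)
      have hkj : i + (d : Fin (n + 1)) ≠ i + (d : Fin (n + 1)) + 1 := by
        have := ne_add_cast (i + (d : Fin (n + 1))) 1 le_rfl hn
        rwa [Nat.cast_one] at this
      rw [← commutator_transvection hij hik hkj s]
      exact Subgroup.commutator_mem_commutator (H₁ := H) (H₂ := H) (ihd hik s)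
        (h3 _ hkj 1) |> fun h => Subgroup.commutator_le_self H h
  -- step 5 : all (i, j)
  apply eq_top_of_transvection_mem
  intro i j hij s
  have hd : (j - i) ≠ 0 := sub_ne_zero.mpr (Ne.symm hij)
  have hd1 : 1 ≤ (j - i).val := by
    have : (j - i).val ≠ 0 := fun h => hd (Fin.ext h)
    omega
  have hdn : (j - i).val ≤ n := by have := (j - i).2; omega
  have := h4 (j - i).val hd1 hdn i
  rw [Fin.cast_val_eq_self, add_sub_cancel] at this
  exact this hij s

end

end Cfsg.Agent.Lib.Helper40
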