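import Mathlib
import Cfsg.Agent.S2402
import Cfsg.Agent.S2403
import Cfsg.Agent.Lib.Helper39.SLPerfect

/-!
# Og hive, leaf OG-SLGEN (owner of the hive: helper67; this leaf: helper40)

Two generators of `SL_{n+1}(F)`, `n ≥ 2`, the second one supported on the indices `0, 1`:
from the landed S2402 / S2403 (generation modulo the centre) and the perfectness of `SL`.
-/

set_option autoImplicit false
set_option linter.unusedSectionVars false
set_option linter.unusedVariables false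

namespace Cfsg.Agent.Lib.Helper67.Og

open Matrix
open scoped commutatorElement

/-- a subgroup of a perfect group that generates it together with the centre is everything -/
theorem slgen_eq_top_of_sup_center {G : Type*} [Group G] (hperf : commutator G = ⊤)
    (H : Subgroup G) (h : H ⊔ Subgroup.center G = ⊤) : H = ⊤ := by
  rw [eq_top_iff, ← hperf, commutator_def, Subgroup.commutator_le]
  intro g₁ _ g₂ _
  have h1 : g₁ ∈ H ⊔ Subgroup.center G := by rw [h]; exact Subgroup.mem_top _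
  have h2 : g₂ ∈ H ⊔ Subgroup.center G := by rw [h]; exact Subgroup.mem_top _
  obtain ⟨a₁, ha₁, z₁, hz₁, rfl⟩ := Subgroup.mem_sup_of_normal_right.mp h1
  obtain ⟨a₂, ha₂, z₂, hz₂, rfl⟩ := Subgroup.mem_sup_of_normal_right.mp h2
  have e : ⁅a₁ * z₁, a₂ * z₂⁆ = ⁅a₁, a₂⁆ := by
    rw [commutatorElement_def, commutatorElement_def]
    have c1 : ∀ g : G, g * z₁ = z₁ * g := fun g => Subgroup.mem_center_iff.mp hz₁ g
    have c2 : ∀ g : G, g * z₂ = z₂ * g := fun g => Subgroup.mem_center_iff.mp hz₂ g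
    have e1 : a₁ * z₁ * (a₂ * z₂) * (a₁ * z₁)⁻¹ * (a₂ * z₂)⁻¹
        = a₁ * a₂ * a₁⁻¹ * a₂⁻¹ * (z₁ * z₂ * z₁⁻¹ * z₂⁻¹) := by
      have i1 : (a₁ * z₁)⁻¹ = a₁⁻¹ * z₁⁻¹ := by
        rw [_root_.mul_inv_rev]
        have := Subgroup.mem_center_iff.mp (Subgroup.inv_mem _ hz₁) a₁⁻¹
        exact this.symm
      have i2 : (a₂ * z₂)⁻¹ = a₂⁻¹ * z₂⁻¹ := by
        rw [_root_.mul_inv_rev]
        have := Subgroup.mem_center_iff.mp (Subgroup.inv_mem _ hz₂) a₂⁻¹
        exact this.symm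
      rw [i1, i2]
      have d1 : ∀ g : G, g * z₁⁻¹ = z₁⁻¹ * g :=
        fun g => Subgroup.mem_center_iff.mp (Subgroup.inv_mem _ hz₁) g
      have d2 : ∀ g : G, g * z₂⁻¹ = z₂⁻¹ * g :=
        fun g => Subgroup.mem_center_iff.mp (Subgroup.inv_mem _ hz₂) g
      calc a₁ * z₁ * (a₂ * z₂) * (a₁⁻¹ * z₁⁻¹) * (a₂⁻¹ * z₂⁻¹)
          = a₁ * (z₁ * a₂) * (z₂ * a₁⁻¹) * (z₁⁻¹ * a₂⁻¹) * z₂⁻¹ := by group
        _ = a₁ * (a₂ * z₁) * (a₁⁻¹ * z₂) * (a₂⁻¹ * z₁⁻¹) * z₂⁻¹ := by
            rw [c1 a₂, c2 a₁⁻¹, d1 a₂⁻¹]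
        _ = a₁ * a₂ * (z₁ * a₁⁻¹) * (z₂ * a₂⁻¹) * z₁⁻¹ * z₂⁻¹ := by group
        _ = a₁ * a₂ * (a₁⁻¹ * z₁) * (a₂⁻¹ * z₂) * z₁⁻¹ * z₂⁻¹ := by
            rw [c1 a₁⁻¹, c2 a₂⁻¹]
        _ = a₁ * a₂ * a₁⁻¹ * (z₁ * a₂⁻¹) * z₂ * z₁⁻¹ * z₂⁻¹ := by group
        _ = a₁ * a₂ * a₁⁻¹ * (a₂⁻¹ * z₁) * z₂ * z₁⁻¹ * z₂⁻¹ := by rw [c1 a₂⁻¹]
        _ = a₁ * a₂ * a₁⁻¹ * a₂⁻¹ * (z₁ * z₂ * z₁⁻¹ * z₂⁻¹) := by group
    rw [e1]
    have e2 : z₁ * z₂ * z₁⁻¹ * z₂⁻¹ = 1 := by
      rw [← c1 z₂]
      group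
    rw [e2, mul_one]
  rw [e]
  exact Subgroup.mul_mem _ (Subgroup.mul_mem _ (Subgroup.mul_mem _ ha₁ ha₂) (Subgroup.inv_mem _ ha₁))
    (Subgroup.inv_mem _ ha₂)

section
variable {F : Type*} [Field F]

/-- the determinant of the cyclic monomial matrix is one -/
theorem slgen_det_cycMat (n : ℕ) : (Cfsg.Agent.Lib.Helper40.cycMat n F).det = 1 := by
  classical
  have hfac : Cfsg.Agent.Lib.Helper40.cycMat n F =
      Matrix.diagonal (Cfsg.Agent.Lib.Helper40.cycSign n F) *
        (finRotate (n + 1)).permMatrix F := by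
    ext i j
    rw [Cfsg.Agent.Lib.Helper40.cycMat_apply, Matrix.diagonal_mul]
    simp only [Equiv.Perm.permMatrix, PEquiv.toMatrix_apply, Equiv.toPEquiv_apply,
      Option.mem_def, Option.some.injEq, finRotate_apply]
    by_cases h : j = i + 1
    · rw [if_pos h, if_pos h.symm, mul_one]
    · rw [if_neg h, if_neg (fun h' => h h'.symm), mul_zero]
  rw [hfac, Matrix.det_mul, Matrix.det_diagonal, Matrix.det_permutation, sign_finRotate]
  have hprod : ∏ i : Fin (n + 1), Cfsg.Agent.Lib.Helper40.cycSign n F i = (-1) ^ n := by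
    rw [Finset.prod_eq_single (Fin.last n)]
    · unfold Cfsg.Agent.Lib.Helper40.cycSign
      rw [if_pos (Fin.val_last n)]
    · intro i _ hi
      unfold Cfsg.Agent.Lib.Helper40.cycSign
      rw [if_neg]
      intro h
      exact hi (Fin.ext (by rw [h, Fin.val_last]))
    · intro h
      exact absurd (Finset.mem_univ _) h
  rw [hprod]
  have : n + 1 - 1 = n := by omega
  rw [this]
  push_cast
  rw [← mul_pow]
  norm_num

/-- the cyclic monomial matrix as an element of `SL` -/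
noncomputable def slgenW (n : ℕ) : Matrix.SpecialLinearGroup (Fin (n + 1)) F :=
  ⟨Cfsg.Agent.Lib.Helper40.cycMat n F, slgen_det_cycMat n⟩

theorem slgen_transvection_pow {n : ℕ} (h01 : (0 : Fin (n + 1)) ≠ 1) (j : ℕ) :
    (Matrix.SpecialLinearGroup.transvection h01 (1 : F)) ^ j =
      Matrix.SpecialLinearGroup.transvection h01 (j : F) := by
  induction j with
  | zero =>
    rw [pow_zero, Nat.cast_zero, Matrix.SpecialLinearGroup.transvection_coeff_zero]
  | succ j ih =>
    rw [pow_succ, ih, Cfsg.Agent.S2402.transvection_add, Nat.cast_succ]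

end

theorem exists_sl_gens {F : Type*} [Field F] [Fintype F] (n : ℕ) (hn : 2 ≤ n) :
    ∃ a b : Matrix.SpecialLinearGroup (Fin (n + 1)) F,
      Subgroup.closure ({a, b} : Set (Matrix.SpecialLinearGroup (Fin (n + 1)) F)) = ⊤ ∧
      (∀ i j : Fin (n + 1), (2 ≤ i.val ∨ 2 ≤ j.val) →
        (b : Matrix (Fin (n + 1)) (Fin (n + 1)) F) i j = if i = j then 1 else 0) ∧
      ((3 < Fintype.card F ∧ b ^ (Fintype.card F - 1) = 1) ∨
        (Fintype.card F ≤ 3 ∧ b ^ (ringChar F) = 1)) := by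
  classical
  have hperf : commutator (Matrix.SpecialLinearGroup (Fin (n + 1)) F) = ⊤ :=
    Cfsg.Agent.Lib.Helper39.SLPerfect.commutator_SL_eq_top (by rw [Fintype.card_fin]; omega)
  have h01 : (0 : Fin (n + 1)) ≠ 1 := by
    intro e
    have := congrArg Fin.val e
    rw [Fin.val_zero, Fin.val_one', Nat.mod_eq_of_lt (by omega)] at this
    omega
  set x : Matrix.SpecialLinearGroup (Fin (n + 1)) F :=
    Matrix.SpecialLinearGroup.transvection h01 (1 : F) with hxdef
  have hx : (x : Matrix (Fin (n + 1)) (Fin (n + 1)) F) =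
      Matrix.transvection (0 : Fin (n + 1)) (1 : Fin (n + 1)) 1 := rfl
  set w : Matrix.SpecialLinearGroup (Fin (n + 1)) F := slgenW n with hwdef
  have hw : (w : Matrix (Fin (n + 1)) (Fin (n + 1)) F) =
      Matrix.of (fun i j => if j.val = i.val + 1 then 1
        else if i.val = n ∧ j.val = 0 then (-1) ^ n else 0) := rfl
  have hxent : ∀ i j : Fin (n + 1), (2 ≤ i.val ∨ 2 ≤ j.val) →
      (x : Matrix (Fin (n + 1)) (Fin (n + 1)) F) i j = if i = j then 1 else 0 := by
    intro i j hij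
    rw [hx, Matrix.transvection, Matrix.add_apply, Matrix.one_apply, Matrix.single_apply]
    have : ¬ ((0 : Fin (n + 1)) = i ∧ (1 : Fin (n + 1)) = j) := by
      rintro ⟨rfl, rfl⟩
      rcases hij with h | h
      · rw [Fin.val_zero] at h; omega
      · rw [Fin.val_one', Nat.mod_eq_of_lt (by omega)] at h; omega
    rw [if_neg this, add_zero]
  by_cases hF : 3 < Fintype.card F
  · -- the diagonal generator
    obtain ⟨k, hk⟩ := IsCyclic.exists_generator (α := Fˣ)
    set d : Fin (n + 1) → F :=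
      fun i => if i.val = 0 then (k : F) else if i.val = 1 then ((k⁻¹ : Fˣ) : F) else 1 with hd
    have hdet : (Matrix.diagonal d).det = 1 := by
      rw [Matrix.det_diagonal]
      obtain ⟨m, rfl⟩ : ∃ m, n = m + 2 := ⟨n - 2, by omega⟩
      rw [Fin.prod_univ_succ, Fin.prod_univ_succ]
      have e0 : d 0 = (k : F) := by simp [hd]
      have e1 : d (Fin.succ 0) = ((k⁻¹ : Fˣ) : F) := by simp [hd]
      have e2 : ∀ i : Fin (m + 1), d i.succ.succ = 1 := by
        intro i
        simp [hd]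
      rw [e0, e1]
      simp only [e2, Finset.prod_const_one, mul_one]
      rw [← Units.val_mul, mul_inv_cancel, Units.val_one]
    set h : Matrix.SpecialLinearGroup (Fin (n + 1)) F := ⟨Matrix.diagonal d, hdet⟩ with hhdef
    have hh : (h : Matrix (Fin (n + 1)) (Fin (n + 1)) F) = Matrix.diagonal d := rfl
    have hres := Cfsg.Agent.S2402.result hF n (by omega) k hk h x w hh hx hw
    have htop := slgen_eq_top_of_sup_center hperf _ hres
    refine ⟨x * w, h, ?_, ?_, Or.inl ⟨hF, ?_⟩⟩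
    · rw [Set.pair_comm]; exact htop
    · intro i j hij
      rw [hh, Matrix.diagonal_apply]
      by_cases hijeq : i = j
      · rw [if_pos hijeq, if_pos hijeq]
        subst hijeq
        have h2 : 2 ≤ i.val := by rcases hij with h | h <;> exact h
        show (if i.val = 0 then (k : F) else if i.val = 1 then ((k⁻¹ : Fˣ) : F) else 1) = 1
        rw [if_neg (by omega), if_neg (by omega)]
      · rw [if_neg hijeq, if_neg hijeq]
    · apply Subtype.ext
      rw [Matrix.SpecialLinearGroup.coe_pow, hh, Matrix.diagonal_pow,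
        Matrix.SpecialLinearGroup.coe_one, ← Matrix.diagonal_one]
      congr 1
      funext i
      show (d i) ^ (Fintype.card F - 1) = 1
      apply FiniteField.pow_card_sub_one_eq_one
      show (if i.val = 0 then (k : F) else if i.val = 1 then ((k⁻¹ : Fˣ) : F) else 1) ≠ 0
      split_ifs
      · exact k.ne_zero
      · exact (k⁻¹).ne_zero
      · exact one_ne_zero
  · have hF' : Fintype.card F ≤ 3 := by omega
    have hres := Cfsg.Agent.S2403.result hF' n (by omega) x w hx hw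
    have htop := slgen_eq_top_of_sup_center hperf _ hres
    refine ⟨w, x, ?_, hxent, Or.inr ⟨hF', ?_⟩⟩
    · rw [Set.pair_comm]; exact htop
    · rw [hxdef, slgen_transvection_pow, ringChar.Nat.cast_ringChar,
        Matrix.SpecialLinearGroup.transvection_coeff_zero]

end Cfsg.Agent.Lib.Helper67.Og
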