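import Mathlib
import Cfsg.Agent.Lib.Helper40.OpBN_CHAR2core

/-! # OpBN hive, leaf CHAR2 (helper40), part 2: generators have trivial Dickson invariant -/

set_option autoImplicit false
set_option linter.unusedSimpArgs false
set_option linter.unusedVariables false

namespace Cfsg.Agent.Lib.Helper40.OpBN

open Matrix Module Cfsg Cfsg.Agent.Lib.Helper13 Cfsg.Agent.Lib.Helper41.SpBN Cfsg.Agent.Lib.Helper8

variable {F : Type*} [Field F] {m : ℕ}

theorem char2_Bo_stab (hm : 1 ≤ m) {b : OG F m} (hb : b ∈ Bo F m) (v : Idx m → F) :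
    v ∈ char2W F m ↔ mt b *ᵥ v ∈ char2W F m := by
  unfold Bo at hb
  rw [Subgroup.mem_iInf] at hb
  have h := hb ⟨m - 1, by omega⟩ v
  have hS : ∀ w : Idx m → F, w ∈ {v : Idx m → F | (∀ i : Fin m,
      (((⟨m - 1, by omega⟩ : Fin m) : ℕ)) < (i : ℕ) → v (Sum.inl i) = 0) ∧
      ∀ i : Fin m, v (Sum.inr i) = 0} ↔ w ∈ char2W F m := by
    intro w
    constructor
    · intro hw
      exact hw.2
    · intro hw
      refine ⟨fun i hi => ?_, hw⟩
      exfalso
      have := i.2
      simp only at hi
      omega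
  rw [← hS v, ← hS (mt b *ᵥ v)]
  exact h

theorem char2_perm_stab {s : OG F m} {σ : Equiv.Perm (Idx m)} (hs : mt s = permMat F σ)
    (h1 : ∀ j : Fin m, ∃ j' : Fin m, σ (Sum.inr j) = Sum.inr j')
    (h2 : ∀ j : Fin m, ∃ j' : Fin m, σ.symm (Sum.inr j) = Sum.inr j') (v : Idx m → F) :
    v ∈ char2W F m ↔ mt s *ᵥ v ∈ char2W F m := by
  rw [hs]
  constructor
  · intro hv i
    rw [perm_permMat_mulVec]
    obtain ⟨j', hj'⟩ := h2 i
    rw [hj']
    exact hv j'
  · intro hv j
    obtain ⟨j', hj'⟩ := h1 j
    have := hv j'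
    rw [perm_permMat_mulVec, ← hj', Equiv.symm_apply_apply] at this
    exact this

theorem char2_short_inr (k k' j : Fin m) :
    simpleShort k k' (Sum.inr j) = Sum.inr (Equiv.swap k k' j) := by
  unfold simpleShort
  rw [Equiv.Perm.mul_apply]
  have h1 : Equiv.swap (Sum.inr k : Idx m) (Sum.inr k') (Sum.inr j) = Sum.inr (Equiv.swap k k' j) :=
    Sum.inr_injective.swap_apply k k' j
  rw [h1, Equiv.swap_apply_of_ne_of_ne (by simp) (by simp)]

theorem char2_short_symm (k k' : Fin m) : (simpleShort k k').symm = simpleShort k k' := by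
  ext x
  apply (simpleShort k k').injective
  rw [Equiv.apply_symm_apply]
  unfold simpleShort
  rcases x with i | i
  · simp only [Equiv.Perm.mul_apply]
    rw [Equiv.swap_apply_of_ne_of_ne (a := (Sum.inr k : Idx m)) (b := Sum.inr k') (x := Sum.inl i)
      (by simp) (by simp)]
    by_cases h1 : i = k
    · subst h1
      rw [Equiv.swap_apply_left, Equiv.swap_apply_of_ne_of_ne (a := (Sum.inr i : Idx m))
        (b := Sum.inr k') (x := Sum.inl k') (by simp) (by simp), Equiv.swap_apply_right]
    · by_cases h2 : i = k'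
      · subst h2
        rw [Equiv.swap_apply_right, Equiv.swap_apply_of_ne_of_ne (a := (Sum.inr k : Idx m))
          (b := Sum.inr i) (x := Sum.inl k) (by simp) (by simp), Equiv.swap_apply_left]
      · have h3 : Equiv.swap (Sum.inl k : Idx m) (Sum.inl k') (Sum.inl i) = Sum.inl i :=
          Equiv.swap_apply_of_ne_of_ne (by simpa using h1) (by simpa using h2)
        rw [h3, Equiv.swap_apply_of_ne_of_ne (a := (Sum.inr k : Idx m))
          (b := Sum.inr k') (x := Sum.inl i) (by simp) (by simp), h3]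
  · simp only [Equiv.Perm.mul_apply]
    have e : ∀ y : Fin m, Equiv.swap (Sum.inl k : Idx m) (Sum.inl k') (Sum.inr y) = Sum.inr y :=
      fun y => Equiv.swap_apply_of_ne_of_ne (by simp) (by simp)
    have e2 : ∀ y : Fin m, Equiv.swap (Sum.inr k : Idx m) (Sum.inr k') (Sum.inr y) =
        Sum.inr (Equiv.swap k k' y) := fun y => Sum.inr_injective.swap_apply k k' y
    rw [e2, e, e2, e, Equiv.swap_apply_self]

/-- conjugating `(e_k e_k')(f_k f_k')` by the flip `(e_k' f_k')` gives `(e_k f_k')(e_k' f_k)` -/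
theorem char2_conj_perm (k k' : Fin m) (hkk : k ≠ k') :
    Equiv.swap (Sum.inl k' : Idx m) (Sum.inr k') * simpleShort k k' *
      Equiv.swap (Sum.inl k' : Idx m) (Sum.inr k') = simpleD k k' := by
  have hinv : (Equiv.swap (Sum.inl k' : Idx m) (Sum.inr k'))⁻¹ =
      Equiv.swap (Sum.inl k' : Idx m) (Sum.inr k') := Equiv.swap_inv _ _
  set ρ := Equiv.swap (Sum.inl k' : Idx m) (Sum.inr k') with hρ
  unfold simpleShort simpleD
  have h1 : ρ * Equiv.swap (Sum.inl k : Idx m) (Sum.inl k') * ρ⁻¹ =
      Equiv.swap (ρ (Sum.inl k)) (ρ (Sum.inl k')) := by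
    rw [Equiv.swap_apply_apply]
  have h2 : ρ * Equiv.swap (Sum.inr k : Idx m) (Sum.inr k') * ρ⁻¹ =
      Equiv.swap (ρ (Sum.inr k)) (ρ (Sum.inr k')) := by
    rw [Equiv.swap_apply_apply]
  have e1 : ρ (Sum.inl k) = Sum.inl k := by
    rw [hρ]
    exact Equiv.swap_apply_of_ne_of_ne (by simpa using hkk) (by simp)
  have e2 : ρ (Sum.inl k') = Sum.inr k' := by rw [hρ]; exact Equiv.swap_apply_left _ _
  have e3 : ρ (Sum.inr k) = Sum.inr k := by
    rw [hρ]
    exact Equiv.swap_apply_of_ne_of_ne (by simp) (by simpa using hkk)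
  have e4 : ρ (Sum.inr k') = Sum.inl k' := by rw [hρ]; exact Equiv.swap_apply_right _ _
  rw [e1, e2] at h1
  rw [e3, e4] at h2
  calc ρ * (Equiv.swap (Sum.inl k : Idx m) (Sum.inl k') * Equiv.swap (Sum.inr k) (Sum.inr k')) * ρ
      = (ρ * Equiv.swap (Sum.inl k : Idx m) (Sum.inl k') * ρ⁻¹) *
          (ρ * Equiv.swap (Sum.inr k : Idx m) (Sum.inr k') * ρ⁻¹) := by
        rw [hinv]
        have : ρ * ρ = 1 := by rw [hρ]; exact Equiv.swap_mul_self _ _
        calc ρ * (Equiv.swap (Sum.inl k : Idx m) (Sum.inl k') * Equiv.swap (Sum.inr k) (Sum.inr k')) * ρ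
            = ρ * Equiv.swap (Sum.inl k : Idx m) (Sum.inl k') * 1 * Equiv.swap (Sum.inr k) (Sum.inr k') * ρ := by
              group
          _ = _ := by rw [← this]; group
    _ = Equiv.swap (Sum.inl k : Idx m) (Sum.inr k') * Equiv.swap (Sum.inl k') (Sum.inr k) := by
        rw [h1, h2, Equiv.swap_comm (Sum.inr k : Idx m) (Sum.inl k')]

/-- CHAR2 core: with GEN as a hypothesis -/
theorem char2_core [Fintype F] (hm : 1 ≤ m) (h2 : (2 : F) = 0)
    (hgood : ¬ (m = 2 ∧ Fintype.card F = 2))
    (hGEN : Subgroup.closure (So F m) ⊔ (Bo F m ⊓ No F m) = No F m) :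
    Bo F m ⊔ No F m ≤ commutator (OG F m) := by
  refine le_trans ?_ (char2_ker_le hm h2 hgood)
  have hB : Bo F m ≤ (char2D hgood).ker := by
    intro b hb
    rw [MonoidHom.mem_ker, char2D_eq_one_iff]
    exact char2_par_of_stab h2 hgood b (char2_Bo_stab hm hb)
  have hshort : ∀ (k k' : Fin m) (s : OG F m), mt s = permMat F (simpleShort k k') →
      char2D hgood s = 1 := by
    intro k k' s hs
    rw [char2D_eq_one_iff]
    apply char2_par_of_stab h2 hgood s
    apply char2_perm_stab hs
    · intro j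
      exact ⟨_, char2_short_inr k k' j⟩
    · intro j
      rw [char2_short_symm]
      exact ⟨_, char2_short_inr k k' j⟩
  have hS : So F m ⊆ ((char2D hgood).ker : Set (OG F m)) := by
    rintro s ⟨σ, hσ, hs⟩
    rw [SetLike.mem_coe, MonoidHom.mem_ker]
    rcases hσ with ⟨k, k', hkk, rfl⟩ | ⟨k, k', hkk, hk', rfl⟩
    · exact hshort k k' s hs
    · have hne : k ≠ k' := by
        intro h
        rw [h] at hkk
        omega
      obtain ⟨r, hr⟩ := exists_perm (F := F) (Equiv.swap (Sum.inl k' : Idx m) (Sum.inr k')) (by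
        intro a
        rcases a with i | i
        · by_cases h : i = k'
          · subst h
            simp
          · rw [Sum.swap_inl, Equiv.swap_apply_of_ne_of_ne (by simp) (by simpa using h),
              Equiv.swap_apply_of_ne_of_ne (by simpa using h) (by simp), Sum.swap_inl]
        · by_cases h : i = k'
          · subst h
            simp
          · rw [Sum.swap_inr, Equiv.swap_apply_of_ne_of_ne (by simpa using h) (by simp),
              Equiv.swap_apply_of_ne_of_ne (by simp) (by simpa using h), Sum.swap_inr])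
      obtain ⟨t, ht⟩ := exists_perm (F := F) (simpleShort k k') (by
        intro a
        rcases a with i | i
        · rw [Sum.swap_inl, char2_short_inr]
          unfold simpleShort
          rw [Equiv.Perm.mul_apply, Equiv.swap_apply_of_ne_of_ne (a := (Sum.inr k : Idx m))
            (b := Sum.inr k') (x := Sum.inl i) (by simp) (by simp)]
          have : Equiv.swap (Sum.inl k : Idx m) (Sum.inl k') (Sum.inl i) = Sum.inl (Equiv.swap k k' i) :=
            Sum.inl_injective.swap_apply k k' i
          rw [this, Sum.swap_inl]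
        · rw [Sum.swap_inr, char2_short_inr, Sum.swap_inr]
          unfold simpleShort
          rw [Equiv.Perm.mul_apply, Equiv.swap_apply_of_ne_of_ne (a := (Sum.inr k : Idx m))
            (b := Sum.inr k') (x := Sum.inl i) (by simp) (by simp)]
          exact (Sum.inl_injective.swap_apply k k' i))
      have hrr : r * r = 1 := by
        apply mt_ext
        rw [mt_mul, hr, perm_permMat_mul, Equiv.swap_mul_self, perm_permMat_one, mt_one]
      have hrinv : r⁻¹ = r := inv_eq_of_mul_eq_one_left hrr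
      have hst : s = r * t * r⁻¹ := by
        apply mt_ext
        rw [hrinv, mt_mul, mt_mul, hr, ht, hs, perm_permMat_mul, perm_permMat_mul,
          char2_conj_perm k k' hne]
      rw [hst, map_mul, map_mul, map_inv, hshort k k' t ht, mul_one, mul_inv_cancel]
  apply sup_le hB
  rw [← hGEN]
  apply sup_le
  · rw [Subgroup.closure_le]
    exact hS
  · exact inf_le_left.trans hB

end Cfsg.Agent.Lib.Helper40.OpBN
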