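import Mathlib
import Cfsg.Agent.Lib.Helper40.OpBN_CHAR2core2
import Cfsg.Agent.Lib.Helper97.OpBN_GENcore
import Cfsg.Agent.Lib.Helper43.OpBN_WEYLD
import Cfsg.Agent.Lib.Helper2.OpBN_MONOSWAP

/-! # OpBN hive, leaf CHAR2 (helper40): in characteristic 2, `Bo ⊔ No ≤ Ω` -/

set_option autoImplicit false

namespace Cfsg.Agent.Lib.Helper40.OpBN

open Matrix Cfsg Cfsg.Agent.Lib.Helper13 Cfsg.Agent.Lib.Helper41.SpBN

variable {F : Type*} [Field F] {m : ℕ}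

/-- LEAF CHAR2 -/
theorem Bo_sup_No_le_commutator [Fintype F] (hm : 1 ≤ m) (h2 : (2 : F) = 0)
    (hgood : ¬ (m = 2 ∧ Fintype.card F = 2)) :
    Bo F m ⊔ No F m ≤ commutator (OG F m) :=
  char2_core hm h2 hgood
    (gen_core (fun _ _ _ h => (isMono_swap h).1) weylD_gen exists_perm)

end Cfsg.Agent.Lib.Helper40.OpBN
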