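import Mathlib
import Cfsg.Agent.Lib.Helper40.OpBNDefs
import Cfsg.Agent.Lib.Helper40.OpBN_PERM
import Cfsg.Agent.Lib.Helper40.OpBN_ROOT
import Cfsg.Agent.Lib.Helper40.OpBN_CHAR2
import Cfsg.Agent.Lib.Helper87.OpBN_BOREL
import Cfsg.Agent.Lib.Helper87.OpBN_LOWER
import Cfsg.Agent.Lib.Helper53.OpBN_FACS
import Cfsg.Agent.Lib.Helper34.OpBN_FACD
import Cfsg.Agent.Lib.Helper25.OpBN_RK1S
import Cfsg.Agent.Lib.Helper1.OpBN_RK1D
import Cfsg.Agent.Lib.Helper85.OpBN_CONJS
import Cfsg.Agent.Lib.Helper85.OpBN_CONJD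
import Cfsg.Agent.Lib.Helper85.OpBN_CONJNE
import Cfsg.Agent.Lib.Helper2.OpBN_TCONJ
import Cfsg.Agent.Lib.Helper2.OpBN_TORUS
import Cfsg.Agent.Lib.Helper2.OpBN_CARDT
import Cfsg.Agent.Lib.Helper2.OpBN_UNIP
import Cfsg.Agent.Lib.Helper97.OpBN_SUBN
import Cfsg.Agent.Lib.Helper97.OpBN_SQ
import Cfsg.Agent.Lib.Helper97.OpBN_INJ
import Cfsg.Agent.Lib.Helper97.OpBN_GEN
import Cfsg.Agent.Lib.Helper53.OpBN_OPP
import Cfsg.Agent.Lib.Helper37.OpBN_BRIDGE
import Cfsg.Agent.Lib.Helper37.OpBN_CENTER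
import Cfsg.Agent.Lib.Helper37.OpBN_INVOL
import Cfsg.Agent.Lib.Helper10.OpBN_MOVE
import Cfsg.Agent.Lib.Helper82.OpBN_REFLMONO
import Cfsg.Agent.Lib.Helper82.OpBN_TOPALLcore
import Cfsg.Agent.Lib.Helper86.OpBN_FLIPBcore
import Cfsg.Agent.Lib.Helper86.OpBN_FLIPN
import Cfsg.Agent.Lib.Helper21.OpBN_TOPcore
import Cfsg.Agent.Lib.Helper22.OpBN_SUB
import Cfsg.Agent.Lib.Helper22.OpBN_TOPABS
import Cfsg.Agent.Lib.Helper19.OpBN_ABS
import Cfsg.Agent.Lib.Helper69.OpBN_DESC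
import Cfsg.Agent.Lib.Helper13.OpBN_SMALL
import Cfsg.Agent.Lib.Helper69.OpBN_EXC
import Cfsg.Agent.Lib.Helper42.OmegaDescent
import Cfsg.Agent.Lib.Helper81.OneIrr

/-! # S2548 hive (helper40): assembly -/

set_option autoImplicit false

namespace Cfsg.Agent.Lib.Helper40.OpBN

open Matrix Cfsg Cfsg.Agent.Lib.Helper13 Cfsg.Agent.Lib.Helper41.SpBN

variable {F : Type*} [Field F] {m : ℕ}

/-- TOPALL (wired from helper82 `topall_core`, helper37 BRIDGE, helper10 MOVE, helper82 REFLMONO) -/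
theorem main_Bo_sup_NoAll [Fintype F] (hgood : ¬ (m = 2 ∧ Fintype.card F = 2)) :
    Bo F m ⊔ NoAll F m = ⊤ :=
  topall_core (closure_refl_eq_top hgood) exists_Bo_move refl_isMono

/-- FLIPB (wired from helper86 `flipb_core`, helper87 BOREL/LOWER/LAST) -/
theorem main_flip_conj_Bo {k : Fin m} (hk : (k : ℕ) + 1 = m) {r : OG F m}
    (hr : mt r = permMat F (Equiv.swap (Sum.inl k) (Sum.inr k))) :
    ∀ b ∈ Bo F m, r * b * r⁻¹ ∈ Bo F m :=
  flipb_core mem_Bo_iff (fun _ hg => Bo_lower hg) (fun _ hg _ hk => Bo_last hg hk) hk hr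

/-- TOP (wired from helper21 `top_core`) -/
theorem main_commutator_le [Fintype F] (hm : 1 ≤ m) (hgood : ¬ (m = 2 ∧ Fintype.card F = 2)) :
    commutator (OG F m) ≤ Bo F m ⊔ No F m :=
  top_core hm exists_perm (fun hk _ hr => main_flip_conj_Bo hk hr) (fun k _ hr => NoAll_cases k hr)
    No_conj (main_Bo_sup_NoAll hgood) commutator_le_of_sup_zpowers

theorem mul_mem_union_o : ∀ s ∈ So F m, ∀ n ∈ No F m, ∀ b ∈ Bo F m,
    s * b * n ∈ DoubleCoset.doubleCoset (s * n) (Bo F m : Set (OG F m)) (Bo F m) ∪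
      DoubleCoset.doubleCoset n (Bo F m : Set (OG F m)) (Bo F m) := by
  rintro s ⟨σ, hσ, hs⟩ n hn b hb
  rcases hσ with ⟨k, k', hkk, rfl⟩ | ⟨k, k', hkk, hk', rfl⟩
  · have hne : k ≠ k' := by
      intro h
      rw [h] at hkk
      omega
    exact bn_crit (Bo F m) s n (XS F m k k') (XSm F m k k') (facS hkk hs) (rk1S hkk hs)
      (conjS hne n (No_le_NoAll hn)) b hb
  · have hne : k ≠ k' := by
      intro h
      rw [h] at hkk
      omega
    exact bn_crit (Bo F m) s n (XD F m k k') (XDm F m k k') (facD hkk hk' hs) (rk1D hne hs)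
      (conjD hne n (No_le_NoAll hn)) b hb

variable (F m) in
/-- **The (B,N)-pair of type `D_m` on `Bo ⊔ No`.** -/
def bnPairO : Cfsg.BNPair ↥(Bo F m ⊔ No F m) :=
  subBN (Bo F m) (No F m) (So F m)
    (fun n hn t ht => (T_conj n (No_le_NoAll hn) t ht).1)
    So_subset_No So_sq_mem So_inj closure_So_sup mul_mem_union_o So_conj_ne

/-! ## glue: subgroups of a subgroup -/

section glue

variable {G : Type*} [Group G]

theorem card_subgroupOf_of_le {K H : Subgroup G} (h : K ≤ H) :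
    Nat.card ↥(K.subgroupOf H) = Nat.card ↥K :=
  Nat.card_congr (Subgroup.subgroupOfEquivOfLe h).toEquiv

theorem inf_subgroupOf' (K L H : Subgroup G) :
    K.subgroupOf H ⊓ L.subgroupOf H = (K ⊓ L).subgroupOf H := by
  ext x
  simp only [Subgroup.mem_inf, Subgroup.mem_subgroupOf]

theorem map_conj_subgroupOf (K H : Subgroup G) (n : G) (hn : n ∈ H) :
    (K.subgroupOf H).map (MulAut.conj (⟨n, hn⟩ : ↥H)).toMonoidHom =
      (K.map (MulAut.conj n).toMonoidHom).subgroupOf H := by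
  ext x
  simp only [Subgroup.mem_map, Subgroup.mem_subgroupOf, MulEquiv.coe_toMonoidHom, MulAut.conj_apply]
  constructor
  · rintro ⟨y, hy, rfl⟩
    exact ⟨(y : G), hy, by simp⟩
  · rintro ⟨y, hy, hyx⟩
    have hyH : y ∈ H := by
      have : y = n⁻¹ * (x : G) * n := by rw [← hyx]; group
      rw [this]
      exact H.mul_mem (H.mul_mem (H.inv_mem hn) x.2) hn
    refine ⟨⟨y, hyH⟩, hy, ?_⟩
    apply Subtype.ext
    simpa using hyx

end glue

/-- **The Steinberg character of `Bo ⊔ No`.** -/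
theorem exists_steinberg_o [Fintype F] (p : ℕ) [Fact p.Prime] [CharP F p] (m : ℕ) :
    ∃ χ : ↥(Bo F m ⊔ No F m) → ℂ, Cfsg.IsIrrCharacter ↥(Bo F m ⊔ No F m) χ ∧
      ∃ a k : ℕ, χ 1 = ((p ^ a : ℕ) : ℂ) ∧ Nat.card ↥(Bo F m ⊔ No F m) = p ^ a * k ∧ ¬ p ∣ k ∧
        ∀ z : ↥(Bo F m ⊔ No F m), z ∈ Subgroup.center ↥(Bo F m ⊔ No F m) →
          (z : OG F m) ∈ Bo F m → χ z = χ 1 := by
  classical
  haveI : Finite (OG F m) := inferInstance
  obtain ⟨n0, hn0, hopp⟩ := exists_opp (F := F) (m := m)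
  obtain ⟨a, ha⟩ := card_Bo (F := F) (m := m) p
  have hT := card_T_coprime (F := F) (m := m) p
  have hn0H : n0 ∈ Bo F m ⊔ No F m := (le_sup_right : No F m ≤ _) hn0
  have hBle : Bo F m ≤ Bo F m ⊔ No F m := le_sup_left
  have hTle : Bo F m ⊓ No F m ≤ Bo F m ⊔ No F m := inf_le_left.trans le_sup_left
  have hBN : (bnPairO F m).B ⊓ (bnPairO F m).N = (Bo F m ⊓ No F m).subgroupOf (Bo F m ⊔ No F m) :=
    inf_subgroupOf' _ _ _
  obtain ⟨χ, hχ, h1, ⟨k, hk, hpk⟩, hz⟩ := abs_steinberg (bnPairO F m) p ⟨n0, hn0H⟩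
    (show (⟨n0, hn0H⟩ : ↥(Bo F m ⊔ No F m)) ∈ (No F m).subgroupOf (Bo F m ⊔ No F m) from
      Subgroup.mem_subgroupOf.mpr hn0)
    (by
      rw [hBN]
      show (Bo F m).subgroupOf (Bo F m ⊔ No F m) ⊓
        ((Bo F m).subgroupOf (Bo F m ⊔ No F m)).map (MulAut.conj (⟨n0, hn0H⟩ : ↥(Bo F m ⊔ No F m))).toMonoidHom = _
      rw [map_conj_subgroupOf, inf_subgroupOf', hopp])
    a
    (by
      rw [hBN, card_subgroupOf_of_le hTle]
      show Nat.card ↥((Bo F m).subgroupOf (Bo F m ⊔ No F m)) = _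
      rw [card_subgroupOf_of_le hBle, ha])
    (by
      rw [hBN, card_subgroupOf_of_le hTle]
      exact hT)
  refine ⟨χ, hχ, a, k, h1, hk, hpk, fun z hzc hzB => hz z hzc ?_⟩
  exact Subgroup.mem_subgroupOf.mpr hzB

end Cfsg.Agent.Lib.Helper40.OpBN

namespace Cfsg.Agent.Lib.Helper40.OpBN

open Matrix Cfsg Cfsg.Agent.Lib.Helper13 Cfsg.Agent.Lib.Helper41.SpBN

variable {F : Type*} [Field F]

/-- an isometry with scalar matrix is central -/
theorem scalar_central {m : ℕ} {z : OG F m} {c : F} (hc : mt z = c • (1 : Matrix (Idx m) (Idx m) F))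
    (x : OG F m) : x * z = z * x := by
  apply mt_ext
  rw [mt_mul, mt_mul, hc]
  simp

/-- an isometry with scalar matrix lies in `B` -/
theorem scalar_mem_Bo {m : ℕ} {z : OG F m} {c : F} (hc : mt z = c • (1 : Matrix (Idx m) (Idx m) F)) :
    z ∈ Bo F m := by
  rw [mem_Bo_iff, hc]
  refine ⟨fun i j hij => ?_, fun i j => ?_⟩
  · have hne : (Sum.inl i : Idx m) ≠ Sum.inl j := by
      intro h
      have := Sum.inl_injective h
      rw [this] at hij
      exact lt_irrefl _ hij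
    simp [Matrix.one_apply_ne hne]
  · simp

/-- **S2548**: the Steinberg character of `PΩ⁺_{2m}(F)`. -/
theorem steinberg_pomega_plus [Fintype F] (p : ℕ) [Fact p.Prime] [CharP F p] (m : ℕ) (hm : 1 ≤ m) :
    ∃ χ : Cfsg.POmega F (Cfsg.quadFormPlus m F) → ℂ,
      Cfsg.IsIrrCharacter (Cfsg.POmega F (Cfsg.quadFormPlus m F)) χ ∧
      ∀ P : Sylow p (Cfsg.POmega F (Cfsg.quadFormPlus m F)), χ 1 = Nat.card P ∧
        ∀ x : Cfsg.POmega F (Cfsg.quadFormPlus m F), x ∈ P → x ≠ 1 → χ x = 0 := by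
  classical
  have hp : p.Prime := Fact.out
  rcases Nat.lt_or_ge m 2 with hm1 | hm2
  · obtain rfl : m = 1 := by omega
    haveI := subsingleton_pomega_one (F := F)
    refine ⟨fun _ => 1, Cfsg.Agent.Lib.Helper81.isIrrCharacter_one, fun P => ⟨?_, ?_⟩⟩
    · have h1 : Nat.card P = 1 := by
        rw [Nat.card_eq_one_iff_unique]
        exact ⟨⟨fun a b => Subtype.ext (Subsingleton.elim _ _)⟩, ⟨1⟩⟩
      rw [h1]
      simp
    · intro x _ hx1
      exact absurd (Subsingleton.elim x 1) hx1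
  by_cases hgood : m = 2 ∧ Fintype.card F = 2
  · obtain ⟨rfl, hF⟩ := hgood
    have h2 : ((2 : ℕ) : F) = 0 := by
      have hc : ((Fintype.card F : ℕ) : F) = 0 := Nat.cast_card_eq_zero F
      rw [hF] at hc
      exact hc
    have hp2 : p = 2 := by
      have hd := (CharP.cast_eq_zero_iff F p 2).mp h2
      exact (Nat.prime_dvd_prime_iff_eq hp Nat.prime_two).mp hd
    subst hp2
    exact steinberg_two_two hF
  obtain ⟨χ, hχ, a, k, h1, hk, hpk, hz⟩ := exists_steinberg_o (F := F) p m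
  have hle : commutator (OG F m) ≤ Bo F m ⊔ No F m := main_commutator_le hm hgood
  refine descent_gen p (Bo F m ⊔ No F m) (commutator (OG F m)) hle χ hχ (p ^ a) k a rfl h1 hk hpk
    ?_ ?_
  · by_cases h2 : (2 : F) = 0
    · have hge : Bo F m ⊔ No F m ≤ commutator (OG F m) := Bo_sup_No_le_commutator hm h2 hgood
      have htop : (commutator (OG F m)).subgroupOf (Bo F m ⊔ No F m) = ⊤ :=
        Subgroup.subgroupOf_eq_top.mpr hge
      rw [htop, Subgroup.index_top]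
      exact Nat.coprime_one_right _
    · obtain ⟨n, hn⟩ := Cfsg.Agent.Lib.Helper42.OmDesc.index_commutator_of_invol
        (closure_invol_eq_top (F := F) (m := m) hgood)
      have hdvd : ((commutator (OG F m)).subgroupOf (Bo F m ⊔ No F m)).index ∣ 2 ^ n := by
        rw [← hn]
        exact Subgroup.relIndex_dvd_index_of_normal _ _
      have hpodd : p ≠ 2 := by
        intro h
        apply h2
        have := CharP.cast_eq_zero F p
        rw [h] at this
        exact_mod_cast this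
      have hcop : (p ^ a).Coprime (2 ^ n) := by
        apply Nat.Coprime.pow
        exact (Nat.coprime_primes hp Nat.prime_two).mpr hpodd
      exact Nat.Coprime.coprime_dvd_right hdvd hcop
  · intro z hzc
    obtain ⟨c, hc⟩ := center_scalar hm2 hgood (z : OG F m) z.2 (fun g hg => by
      have := Subgroup.mem_center_iff.mp hzc ⟨g, hg⟩
      exact congrArg Subtype.val this)
    apply hz
    · rw [Subgroup.mem_center_iff]
      intro x
      apply Subtype.ext
      exact scalar_central hc (x : OG F m)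
    · exact scalar_mem_Bo hc

end Cfsg.Agent.Lib.Helper40.OpBN
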