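import Mathlib
set_option autoImplicit false

namespace Cfsg.Agent.Lib.Helper40.PG

section count
variable {F : Type*} [Field F] [Fintype F] {V : Type*} [AddCommGroup V] [Module F V]
  [FiniteDimensional F V]

/-- If an operator of prime order `r` acts without nonzero fixed points on an invariant subspace
`U`, then the order of `q` modulo `r` divides `dim U`. -/
theorem dvd_finrank_of_fixedPointFree (r : ℕ) [Fact r.Prime] (φ : Module.End F V)
    (hφ : φ ^ r = 1) (U : Submodule F V) (hU : ∀ u ∈ U, φ u ∈ U)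
    (hfix : ∀ u ∈ U, φ u = u → u = 0) :
    orderOf ((Fintype.card F : ℕ) : ZMod r) ∣ Module.finrank F U := by
  classical
  have : Finite U := Module.finite_of_finite F
  have : Fintype U := Fintype.ofFinite _
  let fU : Function.End U := fun u => ⟨φ u, hU u u.2⟩
  have hpow : ∀ (j : ℕ) (u : U), ((fU ^ j) u : V) = (φ ^ j) u := by
    intro j
    induction j with
    | zero => intro u; rfl
    | succ j ih =>
      intro u
      rw [pow_succ, pow_succ, Module.End.mul_apply]
      change ((fU ^ j) (fU u) : V) = _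
      rw [ih]
  have hf : fU ^ r ^ 1 = 1 := by
    funext u
    apply Subtype.ext
    rw [pow_one, hpow, hφ]
    rfl
  have h1 := Equiv.Perm.card_fixedPoints_modEq (p := r) (n := 1) hf
  have h2 : Fintype.card (Function.fixedPoints fU) = 1 := by
    rw [Fintype.card_eq_one_iff]
    refine ⟨⟨0, ?_⟩, ?_⟩
    · show fU 0 = 0
      apply Subtype.ext
      show φ ((0 : U) : V) = ((0 : U) : V)
      simp
    · rintro ⟨u, hu⟩
      apply Subtype.ext
      apply Subtype.ext
      apply hfix u u.2
      have := congrArg Subtype.val (show fU u = u from hu)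
      exact this
  rw [h2, Module.card_eq_pow_finrank (K := F) (V := U)] at h1
  apply orderOf_dvd_of_pow_eq_one
  have h3 : ((Fintype.card F ^ Module.finrank F U : ℕ) : ZMod r) = ((1 : ℕ) : ZMod r) :=
    (ZMod.natCast_eq_natCast_iff _ _ _).2 h1
  push_cast at h3
  exact h3

end count

section sub
variable {F : Type*} [Field F] {V : Type*} [AddCommGroup V] [Module F V]

theorem pow_invt (f : Module.End F V) (U : Submodule F V) (hU : ∀ u ∈ U, f u ∈ U) (j : ℕ) :
    ∀ u ∈ U, (f ^ j) u ∈ U := by
  induction j with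
  | zero => intro u hu; simpa using hu
  | succ j ih =>
    intro u hu
    rw [pow_succ, Module.End.mul_apply]
    exact ih _ (hU u hu)

/-- A nonzero invariant subspace on which an operator of prime order acts fixed-point-freely. -/
theorem exists_fpf_subspace (r : ℕ) (hrF : (r : F) ≠ 0) (f a : Module.End F V)
    (hcomm : Commute f a) (har : a ^ r = 1) (ha1 : a ≠ 1) :
    ∃ U : Submodule F V, U ≠ ⊥ ∧ (∀ u ∈ U, f u ∈ U) ∧ (∀ u ∈ U, a u = u → u = 0) := by
  set Na : Module.End F V := ∑ j ∈ Finset.range r, a ^ j with hNa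
  have hcN : Commute f Na := by
    rw [hNa]
    exact Commute.sum_right _ _ _ (fun j _ => hcomm.pow_right j)
  refine ⟨LinearMap.ker Na, ?_, ?_, ?_⟩
  · intro hbot
    apply ha1
    apply LinearMap.ext
    intro v
    have h1 : Na * (a - 1) = a ^ r - 1 := geom_sum_mul a r
    have h2 : (a - 1) v ∈ LinearMap.ker Na := by
      rw [LinearMap.mem_ker, ← Module.End.mul_apply, h1, har, sub_self]
      rfl
    rw [hbot, Submodule.mem_bot] at h2
    rw [LinearMap.sub_apply, sub_eq_zero] at h2
    exact h2
  · intro u hu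
    rw [LinearMap.mem_ker] at hu ⊢
    have := congrArg (fun g : Module.End F V => g u) hcN.eq
    simp only [Module.End.mul_apply] at this
    rw [← this, hu, map_zero]
  · intro u hu hau
    rw [LinearMap.mem_ker] at hu
    have h1 : ∀ j : ℕ, (a ^ j) u = u := by
      intro j
      induction j with
      | zero => rfl
      | succ j ih => rw [pow_succ, Module.End.mul_apply, hau, ih]
    have h2 : Na u = (r : F) • u := by
      rw [hNa, LinearMap.sum_apply, Finset.sum_congr rfl (fun j _ => h1 j), Finset.sum_const,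
        Finset.card_range, Nat.cast_smul_eq_nsmul]
    rw [h2] at hu
    rcases smul_eq_zero.1 hu with h | h
    · exact absurd h hrF
    · exact h

end sub

section bound
variable {F : Type*} [Field F] [Fintype F] {V : Type*} [AddCommGroup V] [Module F V]
  [FiniteDimensional F V]

/-- an operator of prime order `s` (prime to the characteristic) needs dimension at least the
order of `q` modulo `s` -/
theorem orderOf_le_finrank_of_prime_order (s : ℕ) [Fact s.Prime] (hsF : (s : F) ≠ 0)
    (b : Module.End F V) (hbs : b ^ s = 1) (hb1 : b ≠ 1) :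
    orderOf ((Fintype.card F : ℕ) : ZMod s) ≤ Module.finrank F V := by
  obtain ⟨U, hU0, hUf, hUfix⟩ := exists_fpf_subspace s hsF b b (Commute.refl b) hbs hb1
  have h1 := dvd_finrank_of_fixedPointFree s b hbs U hUf hUfix
  have h2 : 0 < Module.finrank F U := by
    rw [Module.finrank_pos_iff]
    exact Submodule.nontrivial_iff_ne_bot.2 hU0
  exact (Nat.le_of_dvd h2 h1).trans (Submodule.finrank_le U)

/-- an operator of order `r s` forces `k + l ≤ dim` or a common multiple of `k`, `l` below
`dim` -/
theorem dim_bound_of_order_mul (r s : ℕ) [Fact r.Prime] [Fact s.Prime] (hrF : (r : F) ≠ 0)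
    (hsF : (s : F) ≠ 0) (f : Module.End F V) (hf : f ^ (r * s) = 1) (hfs : f ^ s ≠ 1)
    (hfr : f ^ r ≠ 1) :
    orderOf ((Fintype.card F : ℕ) : ZMod r) + orderOf ((Fintype.card F : ℕ) : ZMod s) ≤
        Module.finrank F V ∨
      ∃ d : ℕ, 0 < d ∧ d ≤ Module.finrank F V ∧ orderOf ((Fintype.card F : ℕ) : ZMod r) ∣ d ∧
        orderOf ((Fintype.card F : ℕ) : ZMod s) ∣ d := by
  set a := f ^ s with ha
  set b := f ^ r with hb
  have har : a ^ r = 1 := by rw [ha, ← pow_mul, mul_comm, hf]
  have hbs : b ^ s = 1 := by rw [hb, ← pow_mul, hf]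
  obtain ⟨Ur, hUr0, hUrf, hUrfix⟩ :=
    exists_fpf_subspace r hrF f a ((Commute.refl f).pow_right s) har hfs
  obtain ⟨Us, hUs0, hUsf, hUsfix⟩ :=
    exists_fpf_subspace s hsF f b ((Commute.refl f).pow_right r) hbs hfr
  have hUra : ∀ u ∈ Ur, a u ∈ Ur := pow_invt f Ur hUrf s
  have hUsb : ∀ u ∈ Us, b u ∈ Us := pow_invt f Us hUsf r
  have h1 := dvd_finrank_of_fixedPointFree r a har Ur hUra hUrfix
  have h2 := dvd_finrank_of_fixedPointFree s b hbs Us hUsb hUsfix
  have hWf : ∀ u ∈ Ur ⊓ Us, f u ∈ Ur ⊓ Us := fun u hu =>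
    Submodule.mem_inf.2 ⟨hUrf u (Submodule.mem_inf.1 hu).1, hUsf u (Submodule.mem_inf.1 hu).2⟩
  have h3 := dvd_finrank_of_fixedPointFree r a har (Ur ⊓ Us) (pow_invt f _ hWf s)
    (fun u hu => hUrfix u (Submodule.mem_inf.1 hu).1)
  have h4 := dvd_finrank_of_fixedPointFree s b hbs (Ur ⊓ Us) (pow_invt f _ hWf r)
    (fun u hu => hUsfix u (Submodule.mem_inf.1 hu).2)
  have hpr : 0 < Module.finrank F Ur := by
    rw [Module.finrank_pos_iff]
    exact Submodule.nontrivial_iff_ne_bot.2 hUr0
  have hps : 0 < Module.finrank F Us := by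
    rw [Module.finrank_pos_iff]
    exact Submodule.nontrivial_iff_ne_bot.2 hUs0
  have hdim := Submodule.finrank_sup_add_finrank_inf_eq Ur Us
  have hsup : Module.finrank F ↥(Ur ⊔ Us) ≤ Module.finrank F V := Submodule.finrank_le _
  rcases Nat.eq_zero_or_pos (Module.finrank F ↥(Ur ⊓ Us)) with h0 | hpos
  · left
    have hk := Nat.le_of_dvd hpr h1
    have hl := Nat.le_of_dvd hps h2
    omega
  · right
    exact ⟨_, hpos, Submodule.finrank_le _, h3, h4⟩

end bound

end Cfsg.Agent.Lib.Helper40.PG
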