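import Mathlib
set_option autoImplicit false

namespace Cfsg.Agent.Lib.Helper40.PG

section lift
variable {G : Type*} [Group G]

/-- Orders prime to the exponent of a normal subgroup `Z` occur in `G` iff they occur in `G ⧸ Z`. -/
theorem exists_orderOf_quotient_iff (Z : Subgroup G) [Z.Normal] (c m : ℕ)
    (hZ : ∀ z ∈ Z, z ^ c = 1) (hcop : m.Coprime c) :
    (∃ g : G ⧸ Z, orderOf g = m) ↔ ∃ g : G, orderOf g = m := by
  constructor
  · rintro ⟨gb, hgb⟩
    obtain ⟨g₀, rfl⟩ := QuotientGroup.mk_surjective gb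
    refine ⟨g₀ ^ c, ?_⟩
    have h1 : g₀ ^ m ∈ Z := by
      rw [← QuotientGroup.eq_one_iff, QuotientGroup.mk_pow, ← hgb, pow_orderOf_eq_one]
    have h2 : (g₀ ^ c) ^ m = 1 := by
      rw [← pow_mul, mul_comm, pow_mul]
      exact hZ _ h1
    have h3 : orderOf (g₀ ^ c) ∣ m := orderOf_dvd_of_pow_eq_one h2
    have h4 : orderOf ((QuotientGroup.mk g₀ : G ⧸ Z) ^ c) = m := by
      rw [Nat.Coprime.orderOf_pow (by rw [hgb]; exact hcop), hgb]
    have h5 : orderOf ((QuotientGroup.mk (g₀ ^ c) : G ⧸ Z)) ∣ orderOf (g₀ ^ c) :=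
      orderOf_map_dvd (QuotientGroup.mk' Z) (g₀ ^ c)
    rw [QuotientGroup.mk_pow, h4] at h5
    exact Nat.dvd_antisymm h3 h5
  · rintro ⟨g, hg⟩
    refine ⟨QuotientGroup.mk g, ?_⟩
    have h1 : orderOf (QuotientGroup.mk g : G ⧸ Z) ∣ m := by
      rw [← hg]
      exact orderOf_map_dvd (QuotientGroup.mk' Z) g
    have h2 : g ^ orderOf (QuotientGroup.mk g : G ⧸ Z) ∈ Z := by
      rw [← QuotientGroup.eq_one_iff, QuotientGroup.mk_pow, pow_orderOf_eq_one]
    have h3 := hZ _ h2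
    rw [← pow_mul] at h3
    have h4 : m ∣ orderOf (QuotientGroup.mk g : G ⧸ Z) * c := by
      rw [← hg]; exact orderOf_dvd_of_pow_eq_one h3
    exact Nat.dvd_antisymm h1 (hcop.dvd_of_dvd_mul_right h4)

end lift

section center
variable {F : Type*} [Field F] [Fintype F]

theorem center_SL_pow (n : ℕ) (z : Matrix.SpecialLinearGroup (Fin n) F)
    (hz : z ∈ Subgroup.center (Matrix.SpecialLinearGroup (Fin n) F)) :
    z ^ (Fintype.card F - 1) = 1 := by
  rw [Matrix.SpecialLinearGroup.mem_center_iff] at hz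
  obtain ⟨ζ, hζ, hζz⟩ := hz
  apply Matrix.SpecialLinearGroup.ext
  intro i j
  rw [Matrix.SpecialLinearGroup.coe_pow, ← hζz]
  rcases Nat.eq_zero_or_pos n with h0 | hpos
  · subst h0
    exact i.elim0
  · have hζ0 : ζ ≠ 0 := by
      intro h0
      rw [h0, Fintype.card_fin, zero_pow hpos.ne'] at hζ
      exact zero_ne_one hζ
    rw [← map_pow, FiniteField.pow_card_sub_one_eq_one ζ hζ0, map_one]
    rfl

end center

end Cfsg.Agent.Lib.Helper40.PG
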