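import Cfsg.Agent.Lib.Helper40.PGExist
import Cfsg.Agent.Lib.Helper40.PGDim
import Cfsg.Agent.Lib.Helper40.PGLift
set_option autoImplicit false
open Polynomial

namespace Cfsg.Agent.Lib.Helper40.PG

open Cfsg.Agent.Lib.Helper40 Cfsg.Agent.Lib.Helper40.PrimeOrder

section sl
set_option linter.unusedSectionVars false
variable {F : Type*} [Field F] [Fintype F]

/-- the coercion `SL → Matrix` as a monoid hom -/
def slCoeHom (n : ℕ) (F : Type*) [Field F] :
    Matrix.SpecialLinearGroup (Fin n) F →* Matrix (Fin n) (Fin n) F where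
  toFun g := (g : Matrix (Fin n) (Fin n) F)
  map_one' := rfl
  map_mul' _ _ := rfl

theorem slCoeHom_injective (n : ℕ) : Function.Injective (slCoeHom n F) := by
  intro a b h
  exact Subtype.ext h

theorem orderOf_SL_coe (n : ℕ) (g : Matrix.SpecialLinearGroup (Fin n) F) :
    orderOf (g : Matrix (Fin n) (Fin n) F) = orderOf g :=
  orderOf_injective (slCoeHom n F) (slCoeHom_injective n) g

/-- a matrix of order prime to `q - 1` has determinant one -/
theorem exists_SL_of_matrix_order (n m : ℕ) (M : Matrix (Fin n) (Fin n) F) (hM : orderOf M = m)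
    (hm : 0 < m) (hcop : m.Coprime (Fintype.card F - 1)) :
    ∃ g : Matrix.SpecialLinearGroup (Fin n) F, orderOf g = m := by
  have h1 : M ^ m = 1 := by rw [← hM]; exact pow_orderOf_eq_one M
  have h2 : M.det ^ m = 1 := by rw [← Matrix.det_pow, h1, Matrix.det_one]
  have h0 : M.det ≠ 0 := by
    intro h
    rw [h, zero_pow hm.ne'] at h2
    exact zero_ne_one h2
  have h3 : M.det ^ (Fintype.card F - 1) = 1 := FiniteField.pow_card_sub_one_eq_one _ h0
  have h4 : M.det ^ (Nat.gcd m (Fintype.card F - 1)) = 1 := pow_gcd_eq_one.2 ⟨h2, h3⟩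
  rw [hcop.gcd_eq_one, pow_one] at h4
  set g : Matrix.SpecialLinearGroup (Fin n) F := ⟨M, h4⟩ with hg
  refine ⟨g, ?_⟩
  rw [← orderOf_SL_coe n g]
  exact hM

theorem toLin'_pow_eq_one_iff (n : ℕ) (g : Matrix.SpecialLinearGroup (Fin n) F) (j : ℕ) :
    (Matrix.toLin' (g : Matrix (Fin n) (Fin n) F)) ^ j = 1 ↔ g ^ j = 1 := by
  rw [← Matrix.toLin'_pow, ← Matrix.SpecialLinearGroup.coe_pow]
  constructor
  · intro h
    apply Subtype.ext
    apply Matrix.toLin'.injective
    rw [h, Matrix.SpecialLinearGroup.coe_one, Matrix.toLin'_one]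
    rfl
  · intro h
    rw [h, Matrix.SpecialLinearGroup.coe_one, Matrix.toLin'_one]
    rfl

theorem not_dvd_card_sub_one (r : ℕ) (h2 : 2 ≤ orderOf ((Fintype.card F : ℕ) : ZMod r)) :
    ¬ r ∣ Fintype.card F - 1 := by
  intro h
  have h1 : ((Fintype.card F : ℕ) : ZMod r) ^ 1 = 1 := by
    rw [pow_eq_one_zmod_iff _ _ _ Fintype.card_pos, pow_one]; exact h
  have := orderOf_dvd_of_pow_eq_one h1
  have := Nat.le_of_dvd one_pos this
  omega

theorem natCast_ne_zero_of_prime_ne (p : ℕ) [Fact p.Prime] [CharP F p] (r : ℕ) (hr : r.Prime)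
    (hrp : r ≠ p) : (r : F) ≠ 0 := by
  intro h
  rw [CharP.cast_eq_zero_iff F p] at h
  have hp : p.Prime := Fact.out
  exact hrp ((Nat.prime_dvd_prime_iff_eq hp hr).1 h).symm

end sl

end Cfsg.Agent.Lib.Helper40.PG
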