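import Cfsg.Agent.Lib.Helper40.PGDim
import Cfsg.Agent.Lib.Helper40.SympBasic
set_option autoImplicit false

namespace Cfsg.Agent.Lib.Helper40.PG

open Cfsg.Agent.Lib.Helper40

section nil
variable {F : Type*} [Field F] {V : Type*} [AddCommGroup V] [Module F V]

/-- a nilpotent operator has a nonzero kernel on every nonzero invariant subspace -/
theorem nil_exists_ker (N : Module.End F V) (hN : IsNilpotent N) (W : Submodule F V)
    (hW : ∀ w ∈ W, N w ∈ W) (w : V) (hw : w ∈ W) (hw0 : w ≠ 0) :
    ∃ x ∈ W, x ≠ 0 ∧ N x = 0 := by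
  classical
  obtain ⟨m, hm⟩ := hN
  have hex : ∃ j : ℕ, (N ^ j) w = 0 := ⟨m, by rw [hm]; rfl⟩
  set j₀ := Nat.find hex with hj₀
  have hj₀s : (N ^ j₀) w = 0 := Nat.find_spec hex
  have hj₀0 : j₀ ≠ 0 := by
    intro h0
    rw [h0, pow_zero] at hj₀s
    exact hw0 hj₀s
  obtain ⟨i, hi⟩ : ∃ i, j₀ = i + 1 := ⟨j₀ - 1, by omega⟩
  refine ⟨(N ^ i) w, pow_invt N W hW i w hw, ?_, ?_⟩
  · intro h
    have : j₀ ≤ i := Nat.find_min' hex h
    omega
  · rw [← Module.End.mul_apply, ← pow_succ', ← hi]
    exact hj₀s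

theorem nil_dims [FiniteDimensional F V] (N : Module.End F V) (hN : IsNilpotent N)
    (W : Submodule F V) (hW : ∀ w ∈ W, N w ∈ W) (w : V) (hw : w ∈ W) (hNw : N w ≠ 0) :
    0 < Module.finrank F ↥(W ⊓ LinearMap.ker N) ∧
      Module.finrank F ↥(W ⊓ LinearMap.ker N) < Module.finrank F W := by
  have hw0 : w ≠ 0 := by
    intro h
    rw [h, map_zero] at hNw
    exact hNw rfl
  obtain ⟨x, hxW, hx0, hNx⟩ := nil_exists_ker N hN W hW w hw hw0
  constructor
  · rw [Module.finrank_pos_iff]
    rw [Submodule.nontrivial_iff_ne_bot]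
    intro hbot
    have : x ∈ W ⊓ LinearMap.ker N := Submodule.mem_inf.2 ⟨hxW, LinearMap.mem_ker.2 hNx⟩
    rw [hbot, Submodule.mem_bot] at this
    exact hx0 this
  · apply Submodule.finrank_lt_finrank_of_lt
    refine lt_of_le_of_ne inf_le_left ?_
    intro h
    have : w ∈ W ⊓ LinearMap.ker N := by rw [h]; exact hw
    exact hNw (LinearMap.mem_ker.1 (Submodule.mem_inf.1 this).2)

end nil

section decomp
variable {F : Type*} [Field F] {V : Type*} [AddCommGroup V] [Module F V]

/-- the norm operator `1 + a + ... + a^(r-1)` -/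
def normOp (a : Module.End F V) (r : ℕ) : Module.End F V := ∑ j ∈ Finset.range r, a ^ j

theorem normOp_fixed (a : Module.End F V) (r : ℕ) (c : V) (hc : a c = c) :
    normOp a r c = (r : F) • c := by
  have h1 : ∀ j : ℕ, (a ^ j) c = c := by
    intro j
    induction j with
    | zero => rfl
    | succ j ih => rw [pow_succ, Module.End.mul_apply, hc, ih]
  unfold normOp
  rw [LinearMap.sum_apply, Finset.sum_congr rfl (fun j _ => h1 j), Finset.sum_const,
    Finset.card_range, Nat.cast_smul_eq_nsmul]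

theorem normOp_range_fixed (a : Module.End F V) (r : ℕ) (har : a ^ r = 1) (v : V) :
    a (normOp a r v) = normOp a r v := by
  have h1 : (a - 1) * normOp a r = a ^ r - 1 := mul_geom_sum a r
  have h2 := congrArg (fun g : Module.End F V => g v) h1
  simp only [Module.End.mul_apply, LinearMap.sub_apply, har, Module.End.one_apply, sub_self] at h2
  exact sub_eq_zero.1 h2

theorem commute_normOp (a N : Module.End F V) (h : Commute a N) (r : ℕ) :
    Commute (normOp a r) N := by
  unfold normOp
  exact Commute.sum_left _ _ _ (fun j _ => h.pow_left j)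

/-- `V = ker(norm) ⊕ ker(a - 1)` -/
theorem isCompl_fpf_fixed (r : ℕ) (hrF : (r : F) ≠ 0) (a : Module.End F V) (har : a ^ r = 1) :
    IsCompl (LinearMap.ker (normOp a r)) (LinearMap.ker (a - 1)) := by
  constructor
  · rw [Submodule.disjoint_def]
    intro x hx hx'
    rw [LinearMap.mem_ker] at hx hx'
    rw [LinearMap.sub_apply, Module.End.one_apply, sub_eq_zero] at hx'
    rw [normOp_fixed a r x hx'] at hx
    rcases smul_eq_zero.1 hx with h | h
    · exact absurd h hrF
    · exact h
  · rw [codisjoint_iff, eq_top_iff]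
    intro v _
    set c := (r : F)⁻¹ • normOp a r v with hc
    have hcfix : a c = c := by rw [hc, map_smul, normOp_range_fixed a r har]
    have h1 : v = (v - c) + c := by abel
    rw [h1]
    refine Submodule.add_mem _ (Submodule.mem_sup_left ?_) (Submodule.mem_sup_right ?_)
    · rw [LinearMap.mem_ker, map_sub, normOp_fixed a r c hcfix, hc, smul_smul,
        mul_inv_cancel₀ hrF, one_smul, sub_self]
    · rw [LinearMap.mem_ker, LinearMap.sub_apply, Module.End.one_apply, hcfix, sub_self]

theorem fpf_of_mem_ker_normOp (r : ℕ) (hrF : (r : F) ≠ 0) (a : Module.End F V) (u : V)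
    (hu : u ∈ LinearMap.ker (normOp a r)) (hau : a u = u) : u = 0 := by
  rw [LinearMap.mem_ker, normOp_fixed a r u hau] at hu
  rcases smul_eq_zero.1 hu with h | h
  · exact absurd h hrF
  · exact h

theorem ker_invt_of_commute (f g : Module.End F V) (h : Commute f g) :
    ∀ x ∈ LinearMap.ker f, g x ∈ LinearMap.ker f := by
  intro x hx
  rw [LinearMap.mem_ker] at hx ⊢
  have := congrArg (fun e : Module.End F V => e x) h.eq
  simp only [Module.End.mul_apply] at this
  rw [this, hx, map_zero]

end decomp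

section bound
variable {F : Type*} [Field F] [Fintype F] {V : Type*} [AddCommGroup V] [Module F V]
  [FiniteDimensional F V]

/-- a semisimple element of prime order `r` commuting with a nontrivial unipotent needs
dimension at least `k + 2` when `k ≥ 2` -/
theorem dim_bound_unipotent (r : ℕ) [Fact r.Prime] (hrF : (r : F) ≠ 0) (a N : Module.End F V)
    (hcomm : Commute a N) (har : a ^ r = 1) (ha1 : a ≠ 1) (hN : IsNilpotent N) (hN0 : N ≠ 0)
    (hk : 2 ≤ orderOf ((Fintype.card F : ℕ) : ZMod r)) :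
    orderOf ((Fintype.card F : ℕ) : ZMod r) + 2 ≤ Module.finrank F V := by
  obtain ⟨k, hkdef⟩ : ∃ k, k = orderOf ((Fintype.card F : ℕ) : ZMod r) := ⟨_, rfl⟩
  rw [← hkdef] at hk ⊢
  set U := LinearMap.ker (normOp a r) with hU
  set C := LinearMap.ker (a - 1) with hC
  have hcompl : IsCompl U C := isCompl_fpf_fixed r hrF a har
  have hdim := Submodule.finrank_add_eq_of_isCompl hcompl
  have hUa : ∀ x ∈ U, a x ∈ U :=
    ker_invt_of_commute _ _ (commute_normOp a a (Commute.refl a) r)
  have hUN : ∀ x ∈ U, N x ∈ U := ker_invt_of_commute _ _ (commute_normOp a N hcomm r)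
  have hCN : ∀ x ∈ C, N x ∈ C :=
    ker_invt_of_commute _ _ ((hcomm.sub_left (Commute.one_left N)))
  have hUfix : ∀ u ∈ U, a u = u → u = 0 := fun u hu => fpf_of_mem_ker_normOp r hrF a u hu
  -- `U ≠ 0`
  have hU0 : U ≠ ⊥ := by
    intro hbot
    apply ha1
    apply LinearMap.ext
    intro v
    have hv : v ∈ U ⊔ C := by rw [hcompl.sup_eq_top]; trivial
    rw [hbot, bot_sup_eq, hC, LinearMap.mem_ker, LinearMap.sub_apply, Module.End.one_apply,
      sub_eq_zero] at hv
    rw [hv]; rfl
  have hkU := dvd_finrank_of_fixedPointFree r a har U hUa hUfix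
  rw [← hkdef] at hkU
  have hUpos : 0 < Module.finrank F U := by
    rw [Module.finrank_pos_iff]
    exact Submodule.nontrivial_iff_ne_bot.2 hU0
  have hkU' : k ≤ Module.finrank F U := Nat.le_of_dvd hUpos hkU
  -- a vector moved by `N`
  obtain ⟨v, hv⟩ : ∃ v, N v ≠ 0 := by
    by_contra h
    push Not at h
    exact hN0 (LinearMap.ext h)
  obtain ⟨x, hx, c, hc, rfl⟩ := Submodule.mem_sup.1
    (show v ∈ U ⊔ C by rw [hcompl.sup_eq_top]; trivial)
  rw [map_add] at hv
  by_cases hNx : N x = 0
  · have hNc : N c ≠ 0 := by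
      intro h
      rw [hNx, h, add_zero] at hv
      exact hv rfl
    obtain ⟨h1, h2⟩ := nil_dims N hN C hCN c hc hNc
    omega
  · obtain ⟨h1, h2⟩ := nil_dims N hN U hUN x hx hNx
    have hKa : ∀ y ∈ U ⊓ LinearMap.ker N, a y ∈ U ⊓ LinearMap.ker N := by
      intro y hy
      exact Submodule.mem_inf.2 ⟨hUa y (Submodule.mem_inf.1 hy).1,
        ker_invt_of_commute N a hcomm.symm y (Submodule.mem_inf.1 hy).2⟩
    have hkK := dvd_finrank_of_fixedPointFree r a har (U ⊓ LinearMap.ker N) hKa
      (fun u hu => hUfix u (Submodule.mem_inf.1 hu).1)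
    rw [← hkdef] at hkK
    obtain ⟨c₁, hc₁⟩ := hkK
    obtain ⟨c₂, hc₂⟩ := hkU
    rw [hc₁] at h1 h2
    rw [hc₂] at h2
    have hc12 : c₁ < c₂ := by
      by_contra h
      push Not at h
      have := Nat.mul_le_mul_left k h
      omega
    have hc1 : 1 ≤ c₁ := by
      rcases Nat.eq_zero_or_pos c₁ with h | h
      · rw [h, mul_zero] at h1; omega
      · exact h
    have : 2 * k ≤ k * c₂ := by nlinarith
    omega

end bound

end Cfsg.Agent.Lib.Helper40.PG
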