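import Cfsg.Agent.Lib.Helper40.PGUnip
set_option autoImplicit false

namespace Cfsg.Agent.Lib.Helper40.PG

open Cfsg.Agent.Lib.Helper40

section la
variable {F : Type*} [Field F] {V : Type*} [AddCommGroup V] [Module F V]

/-- a semisimple operator commuting with a nilpotent one, which acts as a scalar on the kernel
of the nilpotent operator inside an invariant subspace, acts as this scalar on the subspace -/
theorem scalar_of_scalar_on_ker (m : ℕ) (hmF : (m : F) ≠ 0) (T N : Module.End F V)
    (hcomm : Commute T N) (hT : T ^ m = 1) (hN : IsNilpotent N) (W : Submodule F V)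
    (hWT : ∀ w ∈ W, T w ∈ W) (hWN : ∀ w ∈ W, N w ∈ W) (c : F)
    (hc : ∀ x ∈ W, N x = 0 → T x = c • x) : ∀ x ∈ W, T x = c • x := by
  have hss : T.IsSemisimple := Symp.isSemisimple_of_pow_eq_one hmF hT
  set S : Module.End F V := T - c • 1 with hS
  have hSN : Commute S N := hcomm.sub_left ((Commute.one_left N).smul_left c)
  have hWS : ∀ w ∈ W, S w ∈ W := by
    intro w hw
    rw [hS, LinearMap.sub_apply, LinearMap.smul_apply, Module.End.one_apply]
    exact W.sub_mem (hWT w hw) (W.smul_mem c hw)
  have key : ∀ j : ℕ, ∀ x ∈ W, (N ^ j) x = 0 → (S ^ j) x = 0 := by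
    intro j
    induction j with
    | zero => intro x _ hx; simpa using hx
    | succ j ih =>
      intro x hx hNx
      rw [pow_succ, Module.End.mul_apply]
      apply ih (S x) (hWS x hx)
      have h1 : (N ^ j) (S x) = S ((N ^ j) x) := by
        have := congrArg (fun e : Module.End F V => e x) (hSN.pow_right j).eq
        simp only [Module.End.mul_apply] at this
        exact this.symm
      rw [h1]
      have h2 : N ((N ^ j) x) = 0 := by
        rw [← Module.End.mul_apply, ← pow_succ']; exact hNx
      have h3 := hc ((N ^ j) x) (pow_invt N W hWN j x hx) h2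
      rw [hS, LinearMap.sub_apply, LinearMap.smul_apply, Module.End.one_apply, h3, sub_self]
  obtain ⟨M, hM⟩ := hN
  intro x hx
  have h1 : (S ^ M) x = 0 := key M x hx (by rw [hM]; rfl)
  have h2 : x ∈ T.genEigenspace c (M : ℕ∞) := by
    rw [Module.End.mem_genEigenspace_nat, LinearMap.mem_ker]
    exact h1
  by_cases hM0 : M = 0
  · rw [hM0, pow_zero] at h1
    rw [show x = 0 from h1]; simp
  · rw [hss.isFinitelySemisimple.genEigenspace_eq_eigenspace c
      (by exact_mod_cast Nat.pos_of_ne_zero hM0)] at h2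
    exact Module.End.mem_eigenspace_iff.1 h2

/-- an operator acts as a scalar on an invariant line -/
theorem eig_of_finrank_one (T : Module.End F V) (W : Submodule F V) (hWT : ∀ w ∈ W, T w ∈ W)
    (hW : Module.finrank F W = 1) : ∃ c : F, ∀ x ∈ W, T x = c • x := by
  obtain ⟨v, hv0, hv⟩ := finrank_eq_one_iff'.1 hW
  obtain ⟨c, hc⟩ := hv ⟨T v, hWT v v.2⟩
  refine ⟨c, ?_⟩
  intro x hx
  obtain ⟨a, ha⟩ := hv ⟨x, hx⟩
  have ha' : a • (v : V) = x := congrArg Subtype.val ha
  have hc' : c • (v : V) = T v := congrArg Subtype.val hc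
  rw [← ha', map_smul, ← hc', smul_comm]

theorem exists_ne_zero_of_finrank_pos (W : Submodule F V) (hW : 0 < Module.finrank F W) :
    ∃ w ∈ W, w ≠ 0 := by
  by_contra h
  push Not at h
  have h1 : W = ⊥ := (Submodule.eq_bot_iff W).2 h
  rw [h1, finrank_bot] at hW
  omega

end la

section fd
variable {F : Type*} [Field F] {V : Type*} [AddCommGroup V] [Module F V] [FiniteDimensional F V]

theorem ker_dims (N : Module.End F V) (hN : IsNilpotent N) (hN0 : N ≠ 0) :
    0 < Module.finrank F (LinearMap.ker N) ∧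
      Module.finrank F (LinearMap.ker N) < Module.finrank F V := by
  obtain ⟨v, hv⟩ : ∃ v, N v ≠ 0 := by
    by_contra h
    push Not at h
    exact hN0 (LinearMap.ext h)
  have h := nil_dims N hN ⊤ (fun _ _ => Submodule.mem_top) v Submodule.mem_top hv
  rw [top_inf_eq, finrank_top] at h
  exact h

omit [FiniteDimensional F V] in
/-- if the kernel of the nilpotent operator is a line, the semisimple operator is scalar -/
theorem scalar_of_ker_line (m : ℕ) (hmF : (m : F) ≠ 0) (T N : Module.End F V)
    (hcomm : Commute T N) (hT : T ^ m = 1) (hN : IsNilpotent N)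
    (hK : Module.finrank F (LinearMap.ker N) = 1) : ∃ c : F, ∀ x, T x = c • x := by
  obtain ⟨c, hc⟩ := eig_of_finrank_one T (LinearMap.ker N)
    (ker_invt_of_commute N T hcomm.symm) hK
  refine ⟨c, fun x => ?_⟩
  exact scalar_of_scalar_on_ker m hmF T N hcomm hT hN ⊤ (fun _ _ => Submodule.mem_top)
    (fun _ _ => Submodule.mem_top) c (fun x _ hx => hc x (LinearMap.mem_ker.2 hx)) x
    Submodule.mem_top

/-- two-dimensional case -/
theorem scalar_of_finrank_two (m : ℕ) (hmF : (m : F) ≠ 0) (T N : Module.End F V)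
    (hcomm : Commute T N) (hT : T ^ m = 1) (hN : IsNilpotent N) (hN0 : N ≠ 0)
    (hV : Module.finrank F V = 2) : ∃ c : F, ∀ x, T x = c • x := by
  obtain ⟨h1, h2⟩ := ker_dims N hN hN0
  exact scalar_of_ker_line m hmF T N hcomm hT hN (by omega)

/-- determinant of an operator acting as a scalar on one summand and trivially on the other -/
theorem det_of_isCompl_scalar (U C : Submodule F V) (hUC : IsCompl U C) (f : Module.End F V)
    (c : F) (hU : ∀ u ∈ U, f u = c • u) (hC : ∀ x ∈ C, f x = x) :
    LinearMap.det f = c ^ Module.finrank F U := by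
  have hf : f = ((Submodule.prodEquivOfIsCompl U C hUC : (U × C) →ₗ[F] V)) ∘ₗ
      (LinearMap.prodMap (c • (LinearMap.id : U →ₗ[F] U)) (LinearMap.id : C →ₗ[F] C)) ∘ₗ
      ((Submodule.prodEquivOfIsCompl U C hUC).symm : V →ₗ[F] (U × C)) := by
    apply LinearMap.ext
    intro v
    obtain ⟨x, hx, y, hy, rfl⟩ := Submodule.mem_sup.1
      (show v ∈ U ⊔ C by rw [hUC.sup_eq_top]; trivial)
    have h1 : x + y = Submodule.prodEquivOfIsCompl U C hUC (⟨x, hx⟩, ⟨y, hy⟩) := by
      rw [Submodule.coe_prodEquivOfIsCompl']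
    simp only [LinearMap.coe_comp, LinearEquiv.coe_coe, Function.comp_apply]
    rw [h1, LinearEquiv.symm_apply_apply, LinearMap.prodMap_apply, ← h1,
      Submodule.coe_prodEquivOfIsCompl', map_add, hU x hx, hC y hy]
    rfl
  rw [hf, LinearMap.det_conj, LinearMap.det_prodMap, LinearMap.det_id, mul_one,
    LinearMap.det_smul, LinearMap.det_id, mul_one]

end fd

section three
variable {F : Type*} [Field F] {V : Type*} [AddCommGroup V] [Module F V] [FiniteDimensional F V]

/-- an operator of order three and determinant one with a fixed vector, commuting with a nonzero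
nilpotent operator in dimension three, is trivial -/
theorem eq_one_of_finrank_three (h3 : (3 : F) ≠ 0) (T N : Module.End F V) (hcomm : Commute T N)
    (hT : T ^ 3 = 1) (hdet : LinearMap.det T = 1) (hN : IsNilpotent N) (hN0 : N ≠ 0)
    (hV : Module.finrank F V = 3) (v : V) (hv0 : v ≠ 0) (hv : T v = v) : ∀ x, T x = x := by
  have h3' : ((3 : ℕ) : F) ≠ 0 := by exact_mod_cast h3
  set U := LinearMap.ker (normOp T 3) with hU
  set C := LinearMap.ker (T - 1) with hC
  have hcompl : IsCompl U C := isCompl_fpf_fixed 3 h3' T hT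
  have hdim := Submodule.finrank_add_eq_of_isCompl hcompl
  rw [hV] at hdim
  have hUT : ∀ x ∈ U, T x ∈ U := ker_invt_of_commute _ _ (commute_normOp T T (Commute.refl T) 3)
  have hUN : ∀ x ∈ U, N x ∈ U := ker_invt_of_commute _ _ (commute_normOp T N hcomm 3)
  have hCN : ∀ x ∈ C, N x ∈ C := ker_invt_of_commute _ _ (hcomm.sub_left (Commute.one_left N))
  have hCfix : ∀ x ∈ C, T x = x := by
    intro x hx
    rw [hC, LinearMap.mem_ker, LinearMap.sub_apply, Module.End.one_apply, sub_eq_zero] at hx
    exact hx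
  have hvC : v ∈ C := by
    rw [hC, LinearMap.mem_ker, LinearMap.sub_apply, Module.End.one_apply, hv, sub_self]
  have hCpos : 0 < Module.finrank F C := by
    rw [Module.finrank_pos_iff, Submodule.nontrivial_iff_ne_bot]
    intro hbot
    rw [hbot, Submodule.mem_bot] at hvC
    exact hv0 hvC
  by_cases hU0 : Module.finrank F U = 0
  · have hUbot : U = ⊥ := Submodule.finrank_eq_zero.1 hU0
    intro x
    have hx : x ∈ U ⊔ C := by rw [hcompl.sup_eq_top]; trivial
    rw [hUbot, bot_sup_eq] at hx
    exact hCfix x hx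
  · exfalso
    have hUpos : 0 < Module.finrank F U := Nat.pos_of_ne_zero hU0
    have hsc : ∃ c : F, ∀ u ∈ U, T u = c • u := by
      have hU12 : Module.finrank F U = 1 ∨ Module.finrank F U = 2 := by omega
      rcases hU12 with h1 | h2
      · exact eig_of_finrank_one T U hUT h1
      · have hC1 : Module.finrank F C = 1 := by omega
        have hNC : ∀ x ∈ C, N x = 0 := by
          intro x hx
          by_contra hNx
          obtain ⟨h1, h2⟩ := nil_dims N hN C hCN x hx hNx
          omega
        obtain ⟨w, hw⟩ : ∃ w, N w ≠ 0 := by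
          by_contra h
          push Not at h
          exact hN0 (LinearMap.ext h)
        obtain ⟨x, hx, y, hy, rfl⟩ := Submodule.mem_sup.1
          (show w ∈ U ⊔ C by rw [hcompl.sup_eq_top]; trivial)
        rw [map_add, hNC y hy, add_zero] at hw
        obtain ⟨h1, h2'⟩ := nil_dims N hN U hUN x hx hw
        have hK1 : Module.finrank F ↥(U ⊓ LinearMap.ker N) = 1 := by omega
        have hKT : ∀ y ∈ U ⊓ LinearMap.ker N, T y ∈ U ⊓ LinearMap.ker N := by
          intro y hy
          exact Submodule.mem_inf.2 ⟨hUT y (Submodule.mem_inf.1 hy).1,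
            ker_invt_of_commute N T hcomm.symm y (Submodule.mem_inf.1 hy).2⟩
        obtain ⟨c, hc⟩ := eig_of_finrank_one T _ hKT hK1
        refine ⟨c, ?_⟩
        exact scalar_of_scalar_on_ker 3 h3' T N hcomm hT hN U hUT hUN c
          (fun x hx hNx => hc x (Submodule.mem_inf.2 ⟨hx, LinearMap.mem_ker.2 hNx⟩))
    obtain ⟨c, hc⟩ := hsc
    have hdet' := det_of_isCompl_scalar U C hcompl T c hc hCfix
    rw [hdet] at hdet'
    obtain ⟨u, hu, hu0⟩ := exists_ne_zero_of_finrank_pos U hUpos
    have hrel : 1 + c + c ^ 2 = 0 := by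
      have h1 : normOp T 3 u = 0 := LinearMap.mem_ker.1 hu
      unfold normOp at h1
      rw [Finset.sum_range_succ, Finset.sum_range_succ, Finset.sum_range_one] at h1
      simp only [LinearMap.add_apply, pow_zero, pow_one, Module.End.one_apply, pow_two,
        Module.End.mul_apply] at h1
      rw [hc u hu, map_smul, hc u hu, smul_smul] at h1
      have h2 : (1 + c + c ^ 2) • u = 0 := by
        rw [add_smul, add_smul, one_smul, pow_two]; exact h1
      rcases smul_eq_zero.1 h2 with h | h
      · exact h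
      · exact absurd h hu0
    have hU12 : Module.finrank F U = 1 ∨ Module.finrank F U = 2 := by omega
    rcases hU12 with h1 | h2
    · rw [h1, pow_one] at hdet'
      apply h3
      rw [← hdet'] at hrel
      linear_combination hrel
    · rw [h2] at hdet'
      apply h3
      have hc2 : c = -2 := by linear_combination hrel + hdet'
      rw [hc2] at hdet'
      linear_combination -hdet'

/-- three-dimensional case -/
theorem scalar_of_finrank_three (m : ℕ) (hmF : (m : F) ≠ 0) (h3 : (3 : F) ≠ 0)
    (h9 : ∀ x : F, x ^ 9 = 1 → x ^ 3 = 1) (T N : Module.End F V) (hcomm : Commute T N)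
    (hT : T ^ m = 1) (ω : F) (hω : ω ^ 3 = 1) (hT3 : T ^ 3 = ω • 1)
    (hdet : LinearMap.det T = 1) (hN : IsNilpotent N) (hN0 : N ≠ 0)
    (hV : Module.finrank F V = 3) : ∃ c : F, ∀ x, T x = c • x := by
  obtain ⟨h1, h2⟩ := ker_dims N hN hN0
  rw [hV] at h2
  have hK12 : Module.finrank F (LinearMap.ker N) = 1 ∨ Module.finrank F (LinearMap.ker N) = 2 := by
    omega
  rcases hK12 with hK1 | hK2
  · exact scalar_of_ker_line m hmF T N hcomm hT hN hK1
  · have hrank := LinearMap.finrank_range_add_finrank_ker N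
    rw [hV, hK2] at hrank
    have hL1 : Module.finrank F (LinearMap.range N) = 1 := by omega
    have hLT : ∀ x ∈ LinearMap.range N, T x ∈ LinearMap.range N := by
      rintro x ⟨y, rfl⟩
      refine ⟨T y, ?_⟩
      have := congrArg (fun e : Module.End F V => e y) hcomm.eq
      simp only [Module.End.mul_apply] at this
      exact this.symm
    obtain ⟨μ, hμ⟩ := eig_of_finrank_one T _ hLT hL1
    obtain ⟨v, hvL, hv0⟩ := exists_ne_zero_of_finrank_pos (LinearMap.range N) (by omega)
    have hTv := hμ v hvL
    have hμ3 : μ ^ 3 = ω := by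
      have h1 : (T ^ 3) v = (μ ^ 3) • v := by
        rw [pow_succ, pow_succ, pow_one, Module.End.mul_apply, Module.End.mul_apply, hTv,
          map_smul, hTv, map_smul, map_smul, hTv, smul_smul, smul_smul]
        ring_nf
      rw [hT3, LinearMap.smul_apply, Module.End.one_apply] at h1
      have h2 : (ω - μ ^ 3) • v = 0 := by rw [sub_smul, h1, sub_self]
      rcases smul_eq_zero.1 h2 with h | h
      · exact (sub_eq_zero.1 h).symm
      · exact absurd h hv0
    have hμ9 : μ ^ 9 = 1 := by
      rw [show 9 = 3 * 3 from rfl, pow_mul, hμ3, hω]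
    have hμ31 : μ ^ 3 = 1 := h9 μ hμ9
    have hμ0 : μ ≠ 0 := by
      intro h
      rw [h] at hμ31
      simp at hμ31
    set T₁ : Module.End F V := μ⁻¹ • T with hT₁
    have hT₁3 : T₁ ^ 3 = 1 := by
      rw [hT₁, smul_pow, hT3, ← hμ3, smul_smul, inv_pow, inv_mul_cancel₀ (pow_ne_zero 3 hμ0),
        one_smul]
    have hT₁v : T₁ v = v := by
      rw [hT₁, LinearMap.smul_apply, hTv, smul_smul, inv_mul_cancel₀ hμ0, one_smul]
    have hT₁det : LinearMap.det T₁ = 1 := by
      rw [hT₁, LinearMap.det_smul, hdet, mul_one, hV, inv_pow, hμ31, inv_one]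
    have hT₁N : Commute T₁ N := hcomm.smul_left μ⁻¹
    have hfix := eq_one_of_finrank_three h3 T₁ N hT₁N hT₁3 hT₁det hN hN0 hV v hv0 hT₁v
    refine ⟨μ, fun x => ?_⟩
    have h5 := hfix x
    rw [hT₁, LinearMap.smul_apply] at h5
    calc T x = μ • (μ⁻¹ • T x) := by rw [smul_smul, mul_inv_cancel₀ hμ0, one_smul]
      _ = μ • x := by rw [h5]

end three

end Cfsg.Agent.Lib.Helper40.PG
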