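import Cfsg.Agent.Lib.Helper40.PGUnip2
import Cfsg.Agent.Lib.Helper40.PGSL
import Cfsg.Agent.Lib.Helper40.PGLift
set_option autoImplicit false

namespace Cfsg.Agent.Lib.Helper40.PG

open Cfsg.Agent.Lib.Helper40

section transv
variable {F : Type*} [Field F] {ι : Type*} [Fintype ι] [DecidableEq ι]

theorem transvection_pow (i j : ι) (hij : i ≠ j) (c : F) (k : ℕ) :
    (Matrix.transvection i j c) ^ k = Matrix.transvection i j ((k : F) * c) := by
  induction k with
  | zero => simp [Matrix.transvection_zero]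
  | succ k ih =>
    rw [pow_succ, ih, Matrix.transvection_mul_transvection_same i j hij]
    congr 1
    push_cast
    ring

omit [Fintype ι] in
theorem transvection_ne_one (i j : ι) (hij : i ≠ j) :
    Matrix.transvection i j (1 : F) ≠ 1 := by
  intro h
  have := congrFun (congrFun h i) j
  simp [Matrix.transvection, hij] at this

theorem orderOf_transvection (p : ℕ) [Fact p.Prime] [CharP F p] (i j : ι) (hij : i ≠ j) :
    orderOf (Matrix.transvection i j (1 : F)) = p := by
  apply orderOf_eq_prime
  · rw [transvection_pow i j hij, CharP.cast_eq_zero, zero_mul, Matrix.transvection_zero]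
  · exact transvection_ne_one i j hij

end transv

section center
variable {F : Type*} [Field F]

theorem mem_center_of_eq_scalar (n : ℕ) (A : Matrix.SpecialLinearGroup (Fin n) F) (c : F)
    (h : Matrix.scalar (Fin n) c = (A : Matrix (Fin n) (Fin n) F)) :
    A ∈ Subgroup.center (Matrix.SpecialLinearGroup (Fin n) F) := by
  rw [Matrix.SpecialLinearGroup.mem_center_iff]
  refine ⟨c, ?_, h⟩
  have h1 := A.2
  rw [← h, Matrix.scalar_apply, Matrix.det_diagonal, Finset.prod_const, Finset.card_univ] at h1
  exact h1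

theorem mem_center_of_toLin_scalar (n : ℕ) (t : Matrix.SpecialLinearGroup (Fin n) F) (c : F)
    (h : ∀ x, Matrix.toLin' (t : Matrix (Fin n) (Fin n) F) x = c • x) :
    t ∈ Subgroup.center (Matrix.SpecialLinearGroup (Fin n) F) := by
  apply mem_center_of_eq_scalar n t c
  apply Matrix.toLin'.injective
  apply LinearMap.ext
  intro x
  rw [h, Matrix.scalar_apply, ← Matrix.smul_one_eq_diagonal, map_smul, Matrix.toLin'_one]
  rfl

end center

section reduce
variable {F : Type*} [Field F] [Fintype F]

theorem not_dvd_card_sub_one_char (p : ℕ) [Fact p.Prime] [CharP F p] :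
    ¬ p ∣ Fintype.card F - 1 := by
  intro h
  have h1 : p ∣ Fintype.card F := by
    rw [← CharP.cast_eq_zero_iff F p]; exact FiniteField.cast_card_eq_zero F
  have h2 : 1 ≤ Fintype.card F := Fintype.card_pos
  have h3 : p ∣ 1 := by
    have := Nat.dvd_sub h1 h
    rwa [show Fintype.card F - (Fintype.card F - 1) = 1 by omega] at this
  exact (Fact.out : p.Prime).one_lt.ne' (Nat.dvd_one.1 h3)

theorem natCast_card_sub_one_ne_zero (p : ℕ) [Fact p.Prime] [CharP F p] :
    ((Fintype.card F - 1 : ℕ) : F) ≠ 0 := by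
  intro h
  rw [CharP.cast_eq_zero_iff F p] at h
  exact not_dvd_card_sub_one_char p h

/-- an element of order `r * p` of `PSL` gives a noncentral `t` with `t ^ r` central commuting with
a nontrivial unipotent element -/
theorem exists_commuting_pair (p : ℕ) [Fact p.Prime] [CharP F p] (n : ℕ) (r : ℕ) (hr : r.Prime)
    (x : Matrix.ProjectiveSpecialLinearGroup (Fin n) F) (hx : orderOf x = r * p) :
    ∃ t u : Matrix.SpecialLinearGroup (Fin n) F, Commute t u ∧
      t ∉ Subgroup.center (Matrix.SpecialLinearGroup (Fin n) F) ∧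
      t ^ r ∈ Subgroup.center (Matrix.SpecialLinearGroup (Fin n) F) ∧ u ^ p = 1 ∧ u ≠ 1 := by
  obtain ⟨g, rfl⟩ := QuotientGroup.mk_surjective x
  have hp : p.Prime := Fact.out
  have key : ∀ j : ℕ, g ^ j ∈ Subgroup.center (Matrix.SpecialLinearGroup (Fin n) F) ↔
      r * p ∣ j := by
    intro j
    rw [← hx, orderOf_dvd_iff_pow_eq_one, ← QuotientGroup.mk_pow, QuotientGroup.eq_one_iff]
  refine ⟨g ^ p, g ^ (r * (Fintype.card F - 1)), ((Commute.refl g).pow_left p).pow_right _,
    ?_, ?_, ?_, ?_⟩
  · rw [key]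
    intro h
    have h1 := Nat.le_of_dvd hp.pos h
    have h2 : 2 * p ≤ r * p := Nat.mul_le_mul_right p hr.two_le
    have h3 := hp.pos
    omega
  · rw [← pow_mul, key, mul_comm]
  · rw [← pow_mul, show r * (Fintype.card F - 1) * p = (r * p) * (Fintype.card F - 1) by ring,
      pow_mul]
    exact center_SL_pow n _ ((key _).2 dvd_rfl)
  · intro h
    have h1 : g ^ (r * (Fintype.card F - 1)) ∈
        Subgroup.center (Matrix.SpecialLinearGroup (Fin n) F) := by
      rw [h]; exact Subgroup.one_mem _
    rw [key] at h1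
    have : p ∣ Fintype.card F - 1 := (Nat.mul_dvd_mul_iff_left hr.pos).1 h1
    exact not_dvd_card_sub_one_char p this

/-- the nilpotent operator attached to a unipotent element -/
theorem unip_setup (p : ℕ) [Fact p.Prime] [CharP F p] (n : ℕ) [Nonempty (Fin n)]
    (t u : Matrix.SpecialLinearGroup (Fin n) F) (hcomm : Commute t u) (hup : u ^ p = 1)
    (hu1 : u ≠ 1) :
    Commute (Matrix.toLin' (t : Matrix (Fin n) (Fin n) F))
        (Matrix.toLin' ((u : Matrix (Fin n) (Fin n) F) - 1)) ∧
      IsNilpotent (Matrix.toLin' ((u : Matrix (Fin n) (Fin n) F) - 1)) ∧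
      Matrix.toLin' ((u : Matrix (Fin n) (Fin n) F) - 1) ≠ 0 := by
  refine ⟨?_, ⟨p, ?_⟩, ?_⟩
  · have h1 : (t : Matrix (Fin n) (Fin n) F) * (u : Matrix (Fin n) (Fin n) F) =
        (u : Matrix (Fin n) (Fin n) F) * (t : Matrix (Fin n) (Fin n) F) := by
      rw [← Matrix.SpecialLinearGroup.coe_mul, ← Matrix.SpecialLinearGroup.coe_mul, hcomm.eq]
    rw [commute_iff_eq, Module.End.mul_eq_comp, Module.End.mul_eq_comp, ← Matrix.toLin'_mul,
      ← Matrix.toLin'_mul, mul_sub, sub_mul, h1, mul_one, one_mul]
  · rw [← Matrix.toLin'_pow, sub_pow_char_of_commute p (Commute.one_right _), one_pow,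
      ← Matrix.SpecialLinearGroup.coe_pow, hup, Matrix.SpecialLinearGroup.coe_one, sub_self,
      map_zero]
  · intro h
    have h1 : (u : Matrix (Fin n) (Fin n) F) - 1 = 0 := by
      apply Matrix.toLin'.injective
      rw [h, map_zero]
    apply hu1
    apply Subtype.ext
    rw [Matrix.SpecialLinearGroup.coe_one]
    exact sub_eq_zero.1 h1

end reduce

end Cfsg.Agent.Lib.Helper40.PG
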