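import Cfsg.Agent.Lib.Helper40.PGUnip3
set_option autoImplicit false

namespace Cfsg.Agent.Lib.Helper40.PG

open Cfsg.Agent.Lib.Helper40 Cfsg.Agent.Lib.Helper40.PrimeOrder

section nonexist
variable {F : Type*} [Field F] [Fintype F]

theorem pow_three_of_pow_nine (h9 : ¬ 9 ∣ Fintype.card F - 1) (x : F) (hx : x ^ 9 = 1) :
    x ^ 3 = 1 := by
  have hx0 : x ≠ 0 := by
    intro h
    rw [h] at hx
    simp at hx
  have h1 : x ^ (Fintype.card F - 1) = 1 := FiniteField.pow_card_sub_one_eq_one x hx0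
  have h2 : orderOf x ∣ Nat.gcd 9 (Fintype.card F - 1) :=
    Nat.dvd_gcd (orderOf_dvd_of_pow_eq_one hx) (orderOf_dvd_of_pow_eq_one h1)
  have h3 : Nat.gcd 9 (Fintype.card F - 1) ∣ 3 := by
    have h4 : Nat.gcd 9 (Fintype.card F - 1) ∣ 3 ^ 2 := Nat.gcd_dvd_left 9 _
    obtain ⟨j, hj, hj'⟩ := (Nat.dvd_prime_pow Nat.prime_three).1 h4
    interval_cases j
    · rw [hj']; norm_num
    · rw [hj']; norm_num
    · exfalso
      apply h9
      have := Nat.gcd_dvd_right 9 (Fintype.card F - 1)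
      rw [hj'] at this
      exact this
  exact orderOf_dvd_iff_pow_eq_one.1 (h2.trans h3)

/-- the operators attached to an element of order `r * p` of `PSL` -/
theorem exists_operators (p : ℕ) [Fact p.Prime] [CharP F p] (n : ℕ) [Nonempty (Fin n)] (r : ℕ)
    (hr : r.Prime) (x : Matrix.ProjectiveSpecialLinearGroup (Fin n) F)
    (hx : orderOf x = r * p) :
    ∃ T N : Module.End F (Fin n → F), Commute T N ∧ T ^ (r * (Fintype.card F - 1)) = 1 ∧
      IsNilpotent N ∧ N ≠ 0 ∧ LinearMap.det T = 1 ∧ (∃ ω : F, ω ^ n = 1 ∧ T ^ r = ω • 1) ∧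
      ¬ ∃ c : F, ∀ x, T x = c • x := by
  obtain ⟨t, u, hcomm, htZ, htr, hup, hu1⟩ := exists_commuting_pair p n r hr x hx
  obtain ⟨h1, h2, h3⟩ := unip_setup p n t u hcomm hup hu1
  refine ⟨Matrix.toLin' (t : Matrix (Fin n) (Fin n) F),
    Matrix.toLin' ((u : Matrix (Fin n) (Fin n) F) - 1), h1, ?_, h2, h3, ?_, ?_, ?_⟩
  · rw [toLin'_pow_eq_one_iff, pow_mul]
    exact center_SL_pow n _ htr
  · rw [LinearMap.det_toLin']
    exact t.2
  · rw [Matrix.SpecialLinearGroup.mem_center_iff] at htr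
    obtain ⟨ω, hω, hsc⟩ := htr
    rw [Fintype.card_fin] at hω
    refine ⟨ω, hω, ?_⟩
    rw [← Matrix.toLin'_pow, ← Matrix.SpecialLinearGroup.coe_pow, ← hsc, Matrix.scalar_apply,
      ← Matrix.smul_one_eq_diagonal, map_smul, Matrix.toLin'_one]
    rfl
  · rintro ⟨c, hc⟩
    exact htZ (mem_center_of_toLin_scalar n t c hc)

theorem natCast_mul_card_sub_one_ne_zero (p : ℕ) [Fact p.Prime] [CharP F p] (r : ℕ)
    (hr : r.Prime) (hrp : r ≠ p) : ((r * (Fintype.card F - 1) : ℕ) : F) ≠ 0 := by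
  rw [Nat.cast_mul]
  exact mul_ne_zero (natCast_ne_zero_of_prime_ne p r hr hrp) (natCast_card_sub_one_ne_zero p)

/-- `PSL(2, q)` has no element of order `r * p` -/
theorem no_order_two (p : ℕ) [Fact p.Prime] [CharP F p] (r : ℕ) (hr : r.Prime) (hrp : r ≠ p) :
    r * p ∉ Set.range (orderOf : Matrix.ProjectiveSpecialLinearGroup (Fin 2) F → ℕ) := by
  rintro ⟨x, hx⟩
  obtain ⟨T, N, hcomm, hT, hN, hN0, -, -, hns⟩ := exists_operators p 2 r hr x hx
  exact hns (scalar_of_finrank_two _ (natCast_mul_card_sub_one_ne_zero p r hr hrp) T N hcomm hT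
    hN hN0 (Module.finrank_fin_fun F))

/-- `PSL(3, q)` has no element of order `3 * p` when `9` does not divide `q - 1` -/
theorem no_order_three (p : ℕ) [Fact p.Prime] [CharP F p] (h3p : 3 ≠ p)
    (h9 : ¬ 9 ∣ Fintype.card F - 1) :
    3 * p ∉ Set.range (orderOf : Matrix.ProjectiveSpecialLinearGroup (Fin 3) F → ℕ) := by
  rintro ⟨x, hx⟩
  obtain ⟨T, N, hcomm, hT, hN, hN0, hdet, ⟨ω, hω, hT3⟩, hns⟩ :=
    exists_operators p 3 3 Nat.prime_three x hx
  have h3F : (3 : F) ≠ 0 := by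
    have := natCast_ne_zero_of_prime_ne (F := F) p 3 Nat.prime_three h3p
    exact_mod_cast this
  exact hns (scalar_of_finrank_three _
    (natCast_mul_card_sub_one_ne_zero p 3 Nat.prime_three h3p) h3F
    (pow_three_of_pow_nine h9) T N hcomm hT ω hω hT3 hdet hN hN0 (Module.finrank_fin_fun F))

/-- no element of order `r * p` when the order `k ≥ 2` of `q` modulo `r` exceeds `n - 2` -/
theorem no_order_of_large (p : ℕ) [Fact p.Prime] [CharP F p] (n : ℕ) (hn : 2 ≤ n) (r : ℕ)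
    (hr : r.Prime) (hrp : r ≠ p) (hk2 : 2 ≤ orderOf ((Fintype.card F : ℕ) : ZMod r))
    (hkn : n < orderOf ((Fintype.card F : ℕ) : ZMod r) + 2) :
    r * p ∉ Set.range (orderOf : Matrix.ProjectiveSpecialLinearGroup (Fin n) F → ℕ) := by
  rintro ⟨x, hx⟩
  have : Fact r.Prime := ⟨hr⟩
  have hp : p.Prime := Fact.out
  have : Nonempty (Fin n) := ⟨⟨0, by omega⟩⟩
  have hrF : (r : F) ≠ 0 := natCast_ne_zero_of_prime_ne p r hr hrp
  have hcr : r.Coprime (Fintype.card F - 1) :=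
    (Nat.Prime.coprime_iff_not_dvd hr).2 (not_dvd_card_sub_one r hk2)
  have hcp : p.Coprime (Fintype.card F - 1) :=
    (Nat.Prime.coprime_iff_not_dvd hp).2 (not_dvd_card_sub_one_char p)
  have hcop : (r * p).Coprime (Fintype.card F - 1) := Nat.Coprime.mul_left hcr hcp
  obtain ⟨g, hg⟩ := (exists_orderOf_quotient_iff
    (Subgroup.center (Matrix.SpecialLinearGroup (Fin n) F)) (Fintype.card F - 1) (r * p)
    (fun z hz => center_SL_pow n z hz) hcop).1 ⟨x, hx⟩
  have hcomm : Commute (g ^ p) (g ^ r) := ((Commute.refl g).pow_left p).pow_right r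
  have hup : (g ^ r) ^ p = 1 := by
    rw [← pow_mul, ← hg]; exact pow_orderOf_eq_one g
  have hu1 : g ^ r ≠ 1 := by
    intro h
    have h1 := orderOf_dvd_of_pow_eq_one h
    rw [hg] at h1
    have h2 := Nat.le_of_dvd hr.pos h1
    have h3 : r * 2 ≤ r * p := Nat.mul_le_mul_left r hp.two_le
    have h4 := hr.pos
    omega
  obtain ⟨h1, h2, h3⟩ := unip_setup p n (g ^ p) (g ^ r) hcomm hup hu1
  have hTr : (Matrix.toLin' ((g ^ p : Matrix.SpecialLinearGroup (Fin n) F) :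
      Matrix (Fin n) (Fin n) F)) ^ r = 1 := by
    rw [toLin'_pow_eq_one_iff, ← pow_mul, mul_comm, ← hg]; exact pow_orderOf_eq_one g
  have hT1 : Matrix.toLin' ((g ^ p : Matrix.SpecialLinearGroup (Fin n) F) :
      Matrix (Fin n) (Fin n) F) ≠ 1 := by
    intro h
    have h5 : (Matrix.toLin' ((g ^ p : Matrix.SpecialLinearGroup (Fin n) F) :
      Matrix (Fin n) (Fin n) F)) ^ 1 = 1 := by rw [pow_one, h]
    rw [toLin'_pow_eq_one_iff, pow_one] at h5
    have h6 := orderOf_dvd_of_pow_eq_one h5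
    rw [hg] at h6
    have h7 := Nat.le_of_dvd hp.pos h6
    have h8 : 2 * p ≤ r * p := Nat.mul_le_mul_right p hr.two_le
    have h9 := hp.pos
    omega
  have hb := dim_bound_unipotent r hrF _ _ h1 hTr hT1 h2 h3 hk2
  rw [Module.finrank_fin_fun F] at hb
  omega

end nonexist

end Cfsg.Agent.Lib.Helper40.PG
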