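import Cfsg.Agent.Lib.Helper40.PSL2kMat
set_option autoImplicit false
open Polynomial

namespace Cfsg.Agent.Lib.Helper40.PSL2k

open Cfsg.Agent.Lib.Helper40.PG Cfsg.Agent.Lib.Helper40.PSp Cfsg.Agent.Lib.Helper40.PSL3
  Cfsg.Agent.Lib.Helper40.PrimeOrder Cfsg.Agent.Lib.Helper40.PSLn

section main
variable {F : Type*} [Field F] [Fintype F]

theorem center_eq_bot (hF : Fintype.card F = 2) (n : ℕ) (hn : 0 < n) :
    Subgroup.center (Matrix.SpecialLinearGroup (Fin n) F) = ⊥ := by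
  rw [Subgroup.eq_bot_iff_forall]
  intro z hz
  rw [Matrix.SpecialLinearGroup.mem_center_iff] at hz
  obtain ⟨r, hr, hrz⟩ := hz
  have hr0 : r ≠ 0 := by
    rintro rfl
    rw [zero_pow (by rw [Fintype.card_fin]; omega)] at hr
    exact zero_ne_one hr
  have hr1 := eq_one_of_ne_zero hF r hr0
  apply Subtype.ext
  rw [← hrz, hr1, map_one]
  rfl

theorem mk_injective (hF : Fintype.card F = 2) (n : ℕ) (hn : 0 < n) :
    Function.Injective (QuotientGroup.mk' (Subgroup.center (Matrix.SpecialLinearGroup (Fin n) F))) := by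
  rw [← MonoidHom.ker_eq_bot_iff, QuotientGroup.ker_mk', center_eq_bot hF n hn]

theorem orderOf_mk (hF : Fintype.card F = 2) (n : ℕ) (hn : 0 < n)
    (g : Matrix.SpecialLinearGroup (Fin n) F) :
    orderOf (QuotientGroup.mk g : Matrix.ProjectiveSpecialLinearGroup (Fin n) F) = orderOf g :=
  orderOf_injective (QuotientGroup.mk' _) (mk_injective hF n hn) g

/-- over the field with two elements invertible matrices have determinant one -/
theorem exists_SL_of_pow_eq_one (hF : Fintype.card F = 2) (n : ℕ) (A : Matrix (Fin n) (Fin n) F)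
    (k : ℕ) (hk : 0 < k) (hA : A ^ k = 1) :
    ∃ g : Matrix.SpecialLinearGroup (Fin n) F, (g : Matrix (Fin n) (Fin n) F) = A := by
  have h1 : A.det ^ k = 1 := by rw [← Matrix.det_pow, hA, Matrix.det_one]
  have h0 : A.det ≠ 0 := by
    intro h
    rw [h, zero_pow (by omega)] at h1
    exact zero_ne_one h1
  exact ⟨⟨A, eq_one_of_ne_zero hF _ h0⟩, rfl⟩

/-- a regular unipotent element -/
theorem exists_unip (hF : Fintype.card F = 2) (n : ℕ) (hn : 0 < n) :
    ∃ (u : Matrix.ProjectiveSpecialLinearGroup (Fin n) F) (b : ℕ), orderOf u = 2 ^ b ∧ n ≤ 2 ^ b := by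
  classical
  haveI : Nonempty (Fin n) := ⟨⟨0, hn⟩⟩
  haveI : Fact (Nat.Prime 2) := ⟨Nat.prime_two⟩
  haveI : CharP F 2 := charP_two hF
  have hpow : ∀ t : ℕ, (1 + shiftMat n F) ^ (2 ^ t) = 1 + shiftMat n F ^ (2 ^ t) := by
    intro t
    rw [add_pow_char_pow_of_commute 2 t (Commute.one_left _), one_pow]
  have hJ : ∀ t : ℕ, (1 + shiftMat n F) ^ (2 ^ t) = 1 ↔ n ≤ 2 ^ t := by
    intro t
    rw [hpow, ← shiftMat_pow_eq_zero_iff (F := F) n (2 ^ t) hn]
    constructor
    · intro h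
      have := congrArg (fun M => M - 1) h
      simpa using this
    · intro h
      rw [h, add_zero]
  have hn2 : n ≤ 2 ^ n := Nat.lt_two_pow_self.le
  obtain ⟨g, hg⟩ := exists_SL_of_pow_eq_one hF n (1 + shiftMat n F) (2 ^ n) (by positivity) ((hJ n).2 hn2)
  have hgn : g ^ (2 ^ n) = 1 := by
    apply Subtype.ext
    rw [Matrix.SpecialLinearGroup.coe_pow, hg, (hJ n).2 hn2]
    rfl
  obtain ⟨b, -, hb⟩ := (Nat.dvd_prime_pow Nat.prime_two).1 (orderOf_dvd_of_pow_eq_one hgn)
  refine ⟨QuotientGroup.mk g, b, ?_, ?_⟩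
  · rw [orderOf_mk hF n hn, hb]
  · rw [← hJ b, ← hg, ← Matrix.SpecialLinearGroup.coe_pow, ← hb, pow_orderOf_eq_one]
    rfl

omit [Fintype F] in
theorem prodMap_id_pow_apply {E W : Type*} [Field E] [Algebra F E] [AddCommGroup W] [Module F W]
    (y : E) (j : ℕ) (x : E) (w : W) :
    ((LinearMap.prodMap (Algebra.lmul F E y) (LinearMap.id : W →ₗ[F] W)) ^ j) (x, w) =
      (y ^ j * x, w) := by
  induction j generalizing x w with
  | zero => simp
  | succ k ih =>
    rw [pow_succ, Module.End.mul_apply]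
    have h1 : (LinearMap.prodMap (Algebra.lmul F E y) (LinearMap.id : W →ₗ[F] W)) (x, w) =
        (y * x, w) := by
      simp
    rw [h1, ih, pow_succ, mul_assoc]

/-- Singer type elements -/
theorem exists_singer (hF : Fintype.card F = 2) (n d : ℕ) (hd1 : 1 ≤ d) (hdn : d ≤ n) :
    ∃ x : Matrix.ProjectiveSpecialLinearGroup (Fin n) F, 2 ^ d - 1 ∣ orderOf x := by
  classical
  haveI : Fact (Nat.Prime 2) := ⟨Nat.prime_two⟩
  haveI : CharP F 2 := charP_two hF
  haveI : NeZero d := ⟨by omega⟩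
  letI := Fintype.ofFinite (FiniteField.Extension F 2 d)
  have hE : Module.finrank F (FiniteField.Extension F 2 d) = d :=
    FiniteField.finrank_extension F 2 d
  have hcE : Fintype.card (FiniteField.Extension F 2 d) = 2 ^ d := by
    rw [Module.card_eq_pow_finrank (K := F), hE, hF]
  obtain ⟨y, hy0, hy⟩ := exists_orderOf_eq_of_dvd (F := FiniteField.Extension F 2 d)
    (Fintype.card (FiniteField.Extension F 2 d) - 1) dvd_rfl
  rw [hcE] at hy
  have hV : Module.finrank F (FiniteField.Extension F 2 d × (Fin (n - d) → F)) = n := by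
    rw [Module.finrank_prod, hE, Module.finrank_fin_fun]
    omega
  have hnorm : Algebra.norm F y ≠ 0 := Algebra.norm_ne_zero_iff.2 hy0
  have hdet : LinearMap.det (LinearMap.prodMap (Algebra.lmul F (FiniteField.Extension F 2 d) y)
      (LinearMap.id : (Fin (n - d) → F) →ₗ[F] (Fin (n - d) → F))) = 1 := by
    rw [LinearMap.det_prodMap, LinearMap.det_id, mul_one, ← Algebra.norm_apply]
    exact eq_one_of_ne_zero hF _ hnorm
  obtain ⟨g, hg⟩ := exists_SLn_of_linear n (by omega) hV _ hdet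
  refine ⟨QuotientGroup.mk g, ?_⟩
  have hs : g ^ orderOf (QuotientGroup.mk g : Matrix.ProjectiveSpecialLinearGroup (Fin n) F) ∈
      Subgroup.center (Matrix.SpecialLinearGroup (Fin n) F) := by
    rw [← QuotientGroup.eq_one_iff, QuotientGroup.mk_pow]
    exact pow_orderOf_eq_one _
  obtain ⟨c, hc⟩ := (hg _).1 hs
  have h1 := LinearMap.congr_fun hc (1, 0)
  rw [prodMap_id_pow_apply] at h1
  have h1' : y ^ orderOf (QuotientGroup.mk g : Matrix.ProjectiveSpecialLinearGroup (Fin n) F) =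
      algebraMap F (FiniteField.Extension F 2 d) c := by
    have := congrArg Prod.fst h1
    simpa [Algebra.algebraMap_eq_smul_one] using this
  have hc0 : c ≠ 0 := by
    rintro rfl
    rw [map_zero] at h1'
    exact pow_ne_zero _ hy0 h1'
  rw [eq_one_of_ne_zero hF c hc0, map_one] at h1'
  rw [← hy]
  exact orderOf_dvd_of_pow_eq_one h1'

/-- a matrix witnessing a prime power dividing an element order -/
theorem exists_matrix_of_pow_dvd (hF : Fintype.card F = 2) (n : ℕ) (hn : 0 < n) (ℓ e : ℕ)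
    (hℓ : ℓ.Prime) (g : Matrix.ProjectiveSpecialLinearGroup (Fin n) F)
    (h : ℓ ^ (e + 1) ∣ orderOf g) :
    ∃ A : Matrix (Fin n) (Fin n) F, A ^ (ℓ ^ (e + 1)) = 1 ∧ A ^ (ℓ ^ e) ≠ 1 := by
  have ho : orderOf (g ^ (orderOf g / ℓ ^ (e + 1))) = ℓ ^ (e + 1) :=
    orderOf_pow_orderOf_div (orderOf_pos g).ne' h
  obtain ⟨g', hg'⟩ := QuotientGroup.mk_surjective (g ^ (orderOf g / ℓ ^ (e + 1)))
  rw [← hg', orderOf_mk hF n hn] at ho
  refine ⟨(g' : Matrix (Fin n) (Fin n) F), ?_, ?_⟩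
  · rw [← Matrix.SpecialLinearGroup.coe_pow, ← ho, pow_orderOf_eq_one]
    rfl
  · intro h1
    have h2 : g' ^ (ℓ ^ e) = 1 := by
      apply Subtype.ext
      rw [Matrix.SpecialLinearGroup.coe_pow]
      exact h1
    have h3 := orderOf_dvd_of_pow_eq_one h2
    rw [ho] at h3
    have h4 := Nat.le_of_dvd (pow_pos hℓ.pos _) h3
    have h5 : ℓ ^ e < ℓ ^ (e + 1) := Nat.pow_lt_pow_right hℓ.one_lt (by omega)
    omega

/-- the element orders of direct powers of `PSL(n, 2)` -/
theorem range_eq (hF : Fintype.card F = 2) (n k : ℕ) (hn : 2 ≤ n) (hk : (n + 3) / 2 ≤ k) :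
    Set.range (orderOf : (Fin k → Matrix.ProjectiveSpecialLinearGroup (Fin n) F) → ℕ) =
      {T | T ∣ Monoid.exponent (Matrix.ProjectiveSpecialLinearGroup (Fin n) F)} := by
  classical
  obtain ⟨u, b, hub, hnb⟩ := exists_unip hF n (by omega)
  have hex : ∀ d : ℕ, ∃ x : Matrix.ProjectiveSpecialLinearGroup (Fin n) F,
      1 ≤ d ∧ d ≤ n → 2 ^ d - 1 ∣ orderOf x := by
    intro d
    by_cases hd : 1 ≤ d ∧ d ≤ n
    · obtain ⟨x, hx⟩ := exists_singer hF n d hd.1 hd.2
      exact ⟨x, fun _ => hx⟩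
    · exact ⟨1, fun h => absurd h hd⟩
  choose sing hsing using hex
  obtain ⟨S, hSdef⟩ : ∃ S : Finset (Matrix.ProjectiveSpecialLinearGroup (Fin n) F),
      S = insert u ((Finset.Ioc (n / 2) n).image sing) := ⟨_, rfl⟩
  have hcard : S.card ≤ k := by
    have h1 : S.card ≤ ((Finset.Ioc (n / 2) n).image sing).card + 1 := by
      rw [hSdef]; exact Finset.card_insert_le _ _
    have h2 : ((Finset.Ioc (n / 2) n).image sing).card ≤ (Finset.Ioc (n / 2) n).card :=
      Finset.card_image_le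
    rw [Nat.card_Ioc] at h2
    omega
  apply PowSpec.range_orderOf_pi S k hcard
  intro ℓ e hℓ g hg
  rcases Nat.eq_zero_or_pos e with rfl | he
  · exact ⟨u, by rw [hSdef]; exact Finset.mem_insert_self _ _, by simp⟩
  obtain ⟨e', rfl⟩ : ∃ e', e = e' + 1 := ⟨e - 1, by omega⟩
  obtain ⟨A, hA1, hA2⟩ := exists_matrix_of_pow_dvd hF n (by omega) ℓ e' hℓ g hg
  by_cases hℓ2 : ℓ = 2
  · subst hℓ2
    refine ⟨u, by rw [hSdef]; exact Finset.mem_insert_self _ _, ?_⟩
    have h1 := pow_two_pow_eq_one hF (by omega) A (e' + 1) hA1 b hnb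
    rw [hub]
    apply pow_dvd_pow
    by_contra hlt
    push Not at hlt
    apply hA2
    obtain ⟨t, ht⟩ := Nat.exists_eq_add_of_le (Nat.lt_succ_iff.1 hlt)
    rw [ht, pow_add, pow_mul, h1, one_pow]
  · obtain ⟨d, hd1, hdn, hdd⟩ := dvd_two_pow_sub_one_of_order hF A ℓ e' hℓ hℓ2 hA1 hA2
    have hM1 : d * (n / d) ≤ n := Nat.mul_div_le n d
    have hM2 : n < n / d * d + d := Nat.lt_div_mul_add (by omega)
    have ht1 : 1 ≤ n / d := (Nat.one_le_div_iff (by omega)).2 hdn
    have hM3 : n / 2 < d * (n / d) := by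
      rcases Nat.lt_or_ge (n / d) 2 with h2 | h2
      · have : n / d = 1 := by omega
        rw [this, mul_one]
        rw [this, one_mul] at hM2
        omega
      · have : 2 * d ≤ d * (n / d) := by
          rw [mul_comm 2 d]; exact Nat.mul_le_mul_left d h2
        rw [mul_comm (n / d) d] at hM2
        omega
    have hmem : d * (n / d) ∈ Finset.Ioc (n / 2) n := Finset.mem_Ioc.2 ⟨hM3, hM1⟩
    refine ⟨sing (d * (n / d)), ?_, ?_⟩
    · rw [hSdef]
      exact Finset.mem_insert_of_mem (Finset.mem_image_of_mem _ hmem)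
    · have h1 : 2 ^ d - 1 ∣ 2 ^ (d * (n / d)) - 1 := by
        rw [pow_mul]; exact Nat.sub_one_dvd_pow_sub_one _ _
      have h2 : 1 ≤ d * (n / d) := by
        have := Nat.mul_le_mul hd1 ht1
        omega
      exact hdd.trans (h1.trans (hsing _ ⟨h2, hM1⟩))

end main

end Cfsg.Agent.Lib.Helper40.PSL2k
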