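import Mathlib
set_option autoImplicit false

namespace Cfsg.Agent.Lib.Helper40.PowSpec

theorem orderOf_pi_dvd_iff {ι : Type*} {G : Type*} [Monoid G] (f : ι → G) (s : ℕ) :
    orderOf f ∣ s ↔ ∀ i, orderOf (f i) ∣ s := by
  simp only [orderOf_dvd_iff_pow_eq_one]
  constructor
  · intro h i
    exact congrFun h i
  · intro h
    funext i
    exact h i

/-- the element orders of a direct power, when a small set of elements carries all prime power
parts of element orders -/
theorem range_orderOf_pi {G : Type*} [Group G] [Finite G] (S : Finset G) (k : ℕ) (hk : S.card ≤ k)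
    (hS : ∀ ℓ e : ℕ, ℓ.Prime → ∀ g : G, ℓ ^ e ∣ orderOf g → ∃ h ∈ S, ℓ ^ e ∣ orderOf h) :
    Set.range (orderOf : (Fin k → G) → ℕ) = {T | T ∣ Monoid.exponent G} := by
  classical
  ext T
  simp only [Set.mem_range, Set.mem_setOf_eq]
  constructor
  · rintro ⟨f, rfl⟩
    rw [orderOf_pi_dvd_iff]
    intro i
    exact Monoid.order_dvd_exponent _
  · intro hT
    obtain ⟨e, he⟩ : ∃ e : Fin k → G, ∀ h ∈ S, ∃ i, e i = h := by
      refine ⟨fun i => if h : i.val < S.card then ((S.equivFin.symm ⟨i.val, h⟩ : S) : G) else 1, ?_⟩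
      intro h hh
      refine ⟨⟨(S.equivFin ⟨h, hh⟩).val, lt_of_lt_of_le (S.equivFin ⟨h, hh⟩).2 hk⟩, ?_⟩
      simp only
      rw [dif_pos (S.equivFin ⟨h, hh⟩).2]
      simp
    obtain ⟨f, hfdef⟩ : ∃ f : Fin k → G,
        f = fun i => (e i) ^ (orderOf (e i) / Nat.gcd T (orderOf (e i))) := ⟨_, rfl⟩
    have hf : ∀ i, orderOf (f i) = Nat.gcd T (orderOf (e i)) := by
      intro i
      rw [hfdef]
      exact orderOf_pow_orderOf_div (orderOf_pos _).ne' (Nat.gcd_dvd_right _ _)
    refine ⟨f, ?_⟩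
    apply Nat.dvd_antisymm
    · rw [orderOf_pi_dvd_iff]
      intro i
      rw [hf]
      exact Nat.gcd_dvd_left _ _
    · rw [Nat.dvd_iff_prime_pow_dvd_dvd]
      intro ℓ c hℓ hc
      have h1 : ℓ ^ c ∣ Monoid.exponent G := hc.trans hT
      obtain ⟨g, hg⟩ := hℓ.exists_orderOf_eq_pow_factorization_exponent G
      have h2 : ℓ ^ c ∣ orderOf g := by
        rw [hg]
        exact pow_dvd_pow _
          ((hℓ.pow_dvd_iff_le_factorization Monoid.exponent_ne_zero_of_finite).1 h1)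
      obtain ⟨h, hh, hh2⟩ := hS ℓ c hℓ g h2
      obtain ⟨i, hi⟩ := he h hh
      have h3 : ℓ ^ c ∣ orderOf (f i) := by
        rw [hf, hi]
        exact Nat.dvd_gcd hc hh2
      exact h3.trans ((orderOf_pi_dvd_iff f _).1 dvd_rfl i)

end Cfsg.Agent.Lib.Helper40.PowSpec
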