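import Cfsg.Agent.Lib.Helper40.PSLnIrr
import Cfsg.Agent.Lib.Helper40.PowSpec
set_option autoImplicit false
open Polynomial

namespace Cfsg.Agent.Lib.Helper40.PSL2k

open Cfsg.Agent.Lib.Helper40.PG Cfsg.Agent.Lib.Helper40.PSp Cfsg.Agent.Lib.Helper40.PSL3
  Cfsg.Agent.Lib.Helper40.PrimeOrder Cfsg.Agent.Lib.Helper40.PSLn

section two
variable {F : Type*} [Field F] [Fintype F]

theorem eq_one_of_ne_zero (hF : Fintype.card F = 2) (c : F) (hc : c ≠ 0) : c = 1 := by
  have h := FiniteField.pow_card_sub_one_eq_one c hc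
  rw [hF] at h
  simpa using h

theorem two_eq_zero (hF : Fintype.card F = 2) : (2 : F) = 0 := by
  have h := FiniteField.cast_card_eq_zero F
  rw [hF] at h
  exact_mod_cast h

theorem charP_two (hF : Fintype.card F = 2) : CharP F 2 := by
  obtain ⟨p, hp⟩ := CharP.exists F
  have h2 : ((2 : ℕ) : F) = 0 := by
    have := two_eq_zero hF
    exact_mod_cast this
  have hpp : p.Prime := CharP.char_is_prime F p
  have h3 : p ∣ 2 := (CharP.cast_eq_zero_iff F p 2).1 h2
  have h4 : p = 2 := (Nat.prime_dvd_prime_iff_eq hpp Nat.prime_two).1 h3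
  rw [← h4]; exact hp

theorem natCast_odd (hF : Fintype.card F = 2) (N : ℕ) (hN : Odd N) : ((N : ℕ) : F) = 1 := by
  obtain ⟨t, rfl⟩ := hN
  push_cast
  rw [two_eq_zero hF, zero_mul, zero_add]

/-- odd prime power orders divide some `2 ^ d - 1` with `d ≤ n` -/
theorem dvd_two_pow_sub_one_of_order (hF : Fintype.card F = 2) {n : ℕ}
    (A : Matrix (Fin n) (Fin n) F) (ℓ e : ℕ) (hℓ : ℓ.Prime) (hℓ2 : ℓ ≠ 2)
    (h1 : A ^ (ℓ ^ (e + 1)) = 1) (h2 : A ^ (ℓ ^ e) ≠ 1) :
    ∃ d, 1 ≤ d ∧ d ≤ n ∧ ℓ ^ (e + 1) ∣ 2 ^ d - 1 := by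
  classical
  have hodd : Odd (ℓ ^ (e + 1)) := (hℓ.odd_of_ne_two hℓ2).pow
  have hNF : ((ℓ ^ (e + 1) : ℕ) : F) ≠ 0 := by
    rw [natCast_odd hF _ hodd]; exact one_ne_zero
  obtain ⟨π, hπm, hπi, hπd, hπN, hπk⟩ := exists_factor_not_dvd A _ hNF h1 _ h2
  haveI : Fact (Irreducible π) := ⟨hπi⟩
  haveI : Fact ℓ.Prime := ⟨hℓ⟩
  have h0 : π.coeff 0 ≠ 0 := by
    apply coeff_zero_ne_zero_of_dvd (ℓ ^ (e + 1)) (pow_pos hℓ.pos _) π 1
    rw [pow_one]; exact hπN
  have ho : orderOf (AdjoinRoot.root π) = ℓ ^ (e + 1) := by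
    apply orderOf_eq_prime_pow
    · rw [root_pow_eq_one_iff π hπi]; exact hπk
    · rw [root_pow_eq_one_iff π hπi]; exact hπN
  have h3 := orderOf_dvd_of_pow_eq_one (root_pow_card π hπm hπi h0)
  rw [ho, hF] at h3
  refine ⟨π.natDegree, hπi.natDegree_pos, ?_, h3⟩
  have := Polynomial.natDegree_le_of_dvd hπd (Matrix.charpoly_monic A).ne_zero
  rwa [Matrix.charpoly_natDegree_eq_dim, Fintype.card_fin] at this

/-- a matrix of two-power order is killed by any two-power exponent at least `n` -/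
theorem pow_two_pow_eq_one (hF : Fintype.card F = 2) {n : ℕ} (hn : 0 < n)
    (A : Matrix (Fin n) (Fin n) F) (e : ℕ) (h1 : A ^ (2 ^ e) = 1) (b : ℕ) (hb : n ≤ 2 ^ b) :
    A ^ (2 ^ b) = 1 := by
  classical
  haveI : Nonempty (Fin n) := ⟨⟨0, hn⟩⟩
  haveI : Fact (Nat.Prime 2) := ⟨Nat.prime_two⟩
  haveI : CharP F 2 := charP_two hF
  have hc : Commute A (1 : Matrix (Fin n) (Fin n) F) := Commute.one_right A
  have h2 : (A - 1) ^ (2 ^ e) = 0 := by
    rw [sub_pow_char_pow_of_commute 2 e hc, h1, one_pow, sub_self]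
  set φ : Module.End F (Fin n → F) := Matrix.toLin' (A - 1) with hφ
  have hnil : IsNilpotent φ := ⟨2 ^ e, by rw [hφ, ← Matrix.toLin'_pow, h2, map_zero]⟩
  have hch := (LinearMap.isNilpotent_iff_charpoly φ).1 hnil
  have h3 : φ ^ n = 0 := by
    have h4 := LinearMap.aeval_self_charpoly φ
    rw [hch, Module.finrank_pi, Fintype.card_fin, map_pow, aeval_X] at h4
    exact h4
  have h5 : (A - 1) ^ n = 0 := by
    apply Matrix.toLin'.injective
    rw [Matrix.toLin'_pow, ← hφ, h3, map_zero]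
  have h6 : (A - 1) ^ (2 ^ b) = 0 := by
    obtain ⟨t, ht⟩ := Nat.exists_eq_add_of_le hb
    rw [ht, pow_add, h5, zero_mul]
  rw [sub_pow_char_pow_of_commute 2 b hc, one_pow, sub_eq_zero] at h6
  exact h6

end two

section unip
variable {F : Type*} [Field F]

/-- the nilpotent shift matrix -/
def shiftMat (n : ℕ) (F : Type*) [Field F] : Matrix (Fin n) (Fin n) F :=
  fun i j => if j.val = i.val + 1 then 1 else 0

theorem shiftMat_pow_apply (n t : ℕ) (i j : Fin n) :
    (shiftMat n F ^ t) i j = if j.val = i.val + t then 1 else 0 := by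
  induction t generalizing i j with
  | zero =>
    rw [pow_zero, Matrix.one_apply, add_zero]
    by_cases h : i = j
    · rw [if_pos h, if_pos (by rw [h])]
    · rw [if_neg h, if_neg (fun h' => h (Fin.ext h'.symm))]
  | succ t ih =>
    rw [pow_succ, Matrix.mul_apply]
    by_cases h : j.val = i.val + (t + 1)
    · rw [if_pos h]
      have hk : i.val + t < n := by have := j.2; omega
      rw [Finset.sum_eq_single (⟨i.val + t, hk⟩ : Fin n)]
      · rw [ih, if_pos rfl, one_mul]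
        unfold shiftMat
        rw [if_pos (by simp only; omega)]
      · intro k _ hk'
        rw [ih, if_neg (fun h' => hk' (Fin.ext h')), zero_mul]
      · intro h'
        exact absurd (Finset.mem_univ _) h'
    · rw [if_neg h]
      apply Finset.sum_eq_zero
      intro k _
      rw [ih]
      by_cases hk : k.val = i.val + t
      · rw [if_pos hk, one_mul]
        unfold shiftMat
        rw [if_neg (by omega)]
      · rw [if_neg hk, zero_mul]

theorem shiftMat_pow_eq_zero_iff (n t : ℕ) (hn : 0 < n) : shiftMat n F ^ t = 0 ↔ n ≤ t := by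
  constructor
  · intro h
    by_contra hlt
    push Not at hlt
    have h1 := shiftMat_pow_apply (F := F) n t ⟨0, hn⟩ ⟨t, hlt⟩
    rw [h, if_pos (by simp)] at h1
    exact zero_ne_one h1
  · intro h
    ext i j
    rw [shiftMat_pow_apply, if_neg (by have := j.2; omega)]
    rfl

end unip

end Cfsg.Agent.Lib.Helper40.PSL2k
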