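import Cfsg.Agent.Lib.Helper40.PSL3Gen
set_option autoImplicit false

namespace Cfsg.Agent.Lib.Helper40.PSL3

open Cfsg.Agent.Lib.Helper40.PG

section diag
variable {F : Type*} [Field F]

/-- powers of a diagonal element of `SL₃` that are central -/
theorem diag_pow_mem_center (v : Fin 3 → F) (g : Matrix.SpecialLinearGroup (Fin 3) F)
    (hg : (g : Matrix (Fin 3) (Fin 3) F) = Matrix.diagonal v) (j : ℕ) :
    g ^ j ∈ Subgroup.center (Matrix.SpecialLinearGroup (Fin 3) F) ↔
      v 0 ^ j = v 1 ^ j ∧ v 0 ^ j = v 2 ^ j := by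
  rw [mem_center_iff_exists_scalar, Matrix.SpecialLinearGroup.coe_pow, hg, Matrix.diagonal_pow]
  constructor
  · rintro ⟨c, hc⟩
    rw [Matrix.scalar_apply, Matrix.diagonal_eq_diagonal_iff] at hc
    have h0 := hc 0
    have h1 := hc 1
    have h2 := hc 2
    simp only [Pi.pow_apply] at h0 h1 h2
    exact ⟨by rw [← h0, ← h1], by rw [← h0, ← h2]⟩
  · rintro ⟨h1, h2⟩
    refine ⟨v 0 ^ j, ?_⟩
    rw [Matrix.scalar_apply, Matrix.diagonal_eq_diagonal_iff]
    intro i
    fin_cases i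
    · rfl
    · exact h1
    · exact h2

theorem exists_diag (v : Fin 3 → F) (hv : v 0 * v 1 * v 2 = 1) :
    ∃ g : Matrix.SpecialLinearGroup (Fin 3) F,
      (g : Matrix (Fin 3) (Fin 3) F) = Matrix.diagonal v :=
  ⟨⟨Matrix.diagonal v, by rw [Matrix.det_diagonal, Fin.prod_univ_three, hv]⟩, rfl⟩

end diag

section ex1
variable {F : Type*} [Field F] [Fintype F]

/-- an element of order `q - 1` -/
theorem exists_orderOf_sub_one :
    ∃ x : Matrix.ProjectiveSpecialLinearGroup (Fin 3) F, orderOf x = Fintype.card F - 1 := by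
  obtain ⟨a, ha0, ha⟩ := exists_orderOf_eq_of_dvd (F := F) (Fintype.card F - 1) dvd_rfl
  obtain ⟨g, hg⟩ := exists_diag (![a, a⁻¹, 1] : Fin 3 → F) (by
    simp only [Matrix.cons_val_zero, Matrix.cons_val_one, Matrix.cons_val_two, Matrix.head_cons,
      Matrix.tail_cons]
    rw [mul_inv_cancel₀ ha0, one_mul])
  refine ⟨QuotientGroup.mk g, orderOf_mk_eq g _ fun j => ?_⟩
  rw [diag_pow_mem_center _ g hg j, ← ha, orderOf_dvd_iff_pow_eq_one]
  simp only [Matrix.cons_val_zero, Matrix.cons_val_one, Matrix.cons_val_two, Matrix.head_cons,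
    Matrix.tail_cons]
  constructor
  · rintro ⟨-, h2⟩
    rw [h2, one_pow]
  · intro h
    rw [inv_pow, h, inv_one, one_pow]
    exact ⟨rfl, rfl⟩

/-- an element of order `p (q - 1) / d` -/
theorem exists_orderOf_char_mul (p : ℕ) [Fact p.Prime] [CharP F p] :
    ∃ x : Matrix.ProjectiveSpecialLinearGroup (Fin 3) F,
      orderOf x = p * (Fintype.card F - 1) / Nat.gcd 3 (Fintype.card F - 1) := by
  classical
  have hp : p.Prime := Fact.out
  obtain ⟨a, ha0, ha⟩ := exists_orderOf_eq_of_dvd (F := F) (Fintype.card F - 1) dvd_rfl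
  obtain ⟨s, hs⟩ := exists_diag (![a, a, (a⁻¹) ^ 2] : Fin 3 → F) (by
    simp only [Matrix.cons_val_zero, Matrix.cons_val_one, Matrix.cons_val_two, Matrix.head_cons,
      Matrix.tail_cons]
    field_simp)
  obtain ⟨m₀, hm₀⟩ : ∃ m₀, m₀ = (Fintype.card F - 1) / Nat.gcd 3 (Fintype.card F - 1) := ⟨_, rfl⟩
  have hos : orderOf (QuotientGroup.mk s : Matrix.ProjectiveSpecialLinearGroup (Fin 3) F) = m₀ := by
    refine orderOf_mk_eq s _ fun j => ?_
    rw [diag_pow_mem_center _ s hs j]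
    simp only [Matrix.cons_val_zero, Matrix.cons_val_one, Matrix.cons_val_two, Matrix.head_cons,
      Matrix.tail_cons]
    have h3 : a ^ j = ((a⁻¹) ^ 2) ^ j ↔ a ^ (3 * j) = 1 := by
      have haj : a ^ j ≠ 0 := pow_ne_zero _ ha0
      rw [inv_pow, inv_pow, ← mul_eq_one_iff_eq_inv₀ (pow_ne_zero _ (pow_ne_zero _ ha0)), ← pow_mul,
        ← pow_add]
      rw [show j + 2 * j = 3 * j by ring]
    rw [h3, ← orderOf_dvd_iff_pow_eq_one, ha]
    constructor
    · rintro ⟨-, h⟩
      rw [hm₀]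
      exact div_gcd_dvd_of_dvd_three_mul _ j h
    · intro h
      refine ⟨trivial, ?_⟩
      have h1 := sub_one_dvd_three_mul (Fintype.card F) 1
      rw [one_mul, ← hm₀] at h1
      exact h1.trans (Nat.mul_dvd_mul_left 3 h)
  -- the transvection
  have h01 : (0 : Fin 3) ≠ 1 := by decide
  set u : Matrix.SpecialLinearGroup (Fin 3) F :=
    ⟨Matrix.transvection 0 1 1, Matrix.det_transvection_of_ne 0 1 h01 1⟩ with hu
  have hucoe : (u : Matrix (Fin 3) (Fin 3) F) = Matrix.transvection 0 1 1 := rfl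
  have hup : u ^ p = 1 := by
    apply Subtype.ext
    rw [Matrix.SpecialLinearGroup.coe_pow, hucoe, transvection_pow 0 1 h01, CharP.cast_eq_zero,
      zero_mul, Matrix.transvection_zero]
    rfl
  have huZ : u ∉ Subgroup.center (Matrix.SpecialLinearGroup (Fin 3) F) := by
    intro h
    rw [Matrix.SpecialLinearGroup.mem_center_iff] at h
    obtain ⟨c, -, hc⟩ := h
    rw [hucoe, Matrix.scalar_apply] at hc
    have := congrFun (congrFun hc 0) 1
    rw [Matrix.diagonal_apply_ne _ h01] at this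
    simp [Matrix.transvection, h01] at this
  have hcomm : Commute s u := by
    rw [commute_iff_eq]
    apply Subtype.ext
    rw [Matrix.SpecialLinearGroup.coe_mul, Matrix.SpecialLinearGroup.coe_mul, hs, hucoe]
    ext i k
    rw [Matrix.diagonal_mul, Matrix.mul_diagonal]
    by_cases hik : i = k
    · subst hik
      exact mul_comm _ _
    · by_cases h01' : (0 : Fin 3) = i ∧ (1 : Fin 3) = k
      · obtain ⟨rfl, rfl⟩ := h01'
        simp only [Matrix.cons_val_zero, Matrix.cons_val_one]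
        exact mul_comm _ _
      · have hz : Matrix.transvection (0 : Fin 3) 1 (1 : F) i k = 0 := by
          simp only [Matrix.transvection, Matrix.add_apply, Matrix.one_apply_ne hik, zero_add,
            Matrix.single_apply, if_neg h01']
        rw [hz, mul_zero, zero_mul]
  have hou : orderOf (QuotientGroup.mk u : Matrix.ProjectiveSpecialLinearGroup (Fin 3) F) = p := by
    apply orderOf_eq_prime
    · rw [← QuotientGroup.mk_pow, hup]; rfl
    · rw [Ne, QuotientGroup.eq_one_iff]; exact huZ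
  have hcomm' : Commute (QuotientGroup.mk s : Matrix.ProjectiveSpecialLinearGroup (Fin 3) F)
      (QuotientGroup.mk u) := by
    rw [commute_iff_eq, ← QuotientGroup.mk_mul, ← QuotientGroup.mk_mul, hcomm.eq]
  have hcop : m₀.Coprime p := by
    rw [Nat.coprime_comm, Nat.Prime.coprime_iff_not_dvd hp]
    intro h
    apply not_dvd_card_sub_one_char (F := F) p
    rw [hm₀] at h
    exact h.trans (Nat.div_dvd_of_dvd (gcd_dvd_sub_one _))
  refine ⟨QuotientGroup.mk s * QuotientGroup.mk u, ?_⟩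
  rw [hcomm'.orderOf_mul_eq_mul_orderOf_of_coprime (by rw [hos, hou]; exact hcop), hos, hou,
    mul_div_gcd, hm₀, mul_comm]

omit [Fintype F] in
/-- in characteristic two there is an element of order four -/
theorem exists_orderOf_four [CharP F 2] :
    ∃ x : Matrix.ProjectiveSpecialLinearGroup (Fin 3) F, orderOf x = 4 := by
  have h2 : (2 : F) = 0 := by
    have := CharP.cast_eq_zero F 2
    exact_mod_cast this
  have h11 : (1 : F) + 1 = 0 := by rw [one_add_one_eq_two, h2]
  have hJ2 : (!![1,1,0;0,1,1;0,0,1] : Matrix (Fin 3) (Fin 3) F) * !![1,1,0;0,1,1;0,0,1] =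
      !![1,0,1;0,1,0;0,0,1] := by
    rw [Matrix.mul_fin_three]
    simp [h11]
  have hK2 : (!![1,0,1;0,1,0;0,0,1] : Matrix (Fin 3) (Fin 3) F) * !![1,0,1;0,1,0;0,0,1] = 1 := by
    rw [Matrix.mul_fin_three, Matrix.one_fin_three]
    simp [h11]
  have hdet : (!![1,1,0;0,1,1;0,0,1] : Matrix (Fin 3) (Fin 3) F).det = 1 := by
    rw [Matrix.det_fin_three]
    simp
  obtain ⟨g, hg⟩ : ∃ g : Matrix.SpecialLinearGroup (Fin 3) F,
      (g : Matrix (Fin 3) (Fin 3) F) = !![1,1,0;0,1,1;0,0,1] := ⟨⟨_, hdet⟩, rfl⟩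
  have hg2 : ((g ^ 2 : Matrix.SpecialLinearGroup (Fin 3) F) : Matrix (Fin 3) (Fin 3) F) =
      !![1,0,1;0,1,0;0,0,1] := by
    rw [Matrix.SpecialLinearGroup.coe_pow, hg, pow_two, hJ2]
  have hg4 : g ^ 4 = 1 := by
    apply Subtype.ext
    rw [show (4 : ℕ) = 2 * 2 from rfl, pow_mul, pow_two (g ^ 2),
      Matrix.SpecialLinearGroup.coe_mul, hg2, hK2]
    rfl
  have : Fact (Nat.Prime 2) := ⟨Nat.prime_two⟩
  refine ⟨QuotientGroup.mk g, ?_⟩
  have := orderOf_eq_prime_pow (x := (QuotientGroup.mk g :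
    Matrix.ProjectiveSpecialLinearGroup (Fin 3) F)) (n := 1) (p := 2) ?_ ?_
  · simpa using this
  · rw [pow_one, ← QuotientGroup.mk_pow, QuotientGroup.eq_one_iff, mem_center_iff_exists_scalar]
    rintro ⟨c, hc⟩
    rw [hg2, Matrix.scalar_apply] at hc
    have := congrFun (congrFun hc 0) 2
    rw [Matrix.diagonal_apply_ne _ (by decide)] at this
    simp at this
  · rw [show (2 : ℕ) ^ (1 + 1) = 4 from rfl, ← QuotientGroup.mk_pow, hg4]
    rfl

end ex1

end Cfsg.Agent.Lib.Helper40.PSL3
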