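import Cfsg.Agent.Lib.Helper40.PSL3Ex1
set_option autoImplicit false

namespace Cfsg.Agent.Lib.Helper40.PSL3

open Cfsg.Agent.Lib.Helper40.PG

/-- `(q² - 1) ∣ j (q + 2)` if and only if `(q² - 1)/d ∣ j` -/
theorem sq_sub_dvd_iff (q : ℕ) (hq : 2 ≤ q) (j : ℕ) :
    q ^ 2 - 1 ∣ j * (q + 2) ↔ (q ^ 2 - 1) / Nat.gcd 3 (q - 1) ∣ j := by
  constructor
  · intro h
    rw [sq_sub_eq q (by omega)] at h ⊢
    have h1 : q + 1 ∣ j := by
      have hc : (q + 1).Coprime (q + 2) := by
        rw [show q + 2 = q + 1 + 1 by ring]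
        simp
      exact hc.dvd_of_dvd_mul_right ((Dvd.intro_left _ rfl).trans h)
    obtain ⟨j₁, rfl⟩ := h1
    have h2 : q - 1 ∣ j₁ * (q + 2) := by
      have h' : (q + 1) * (q - 1) ∣ (q + 1) * (j₁ * (q + 2)) := by
        rw [← mul_assoc, mul_comm (q + 1) (q - 1)]; exact h
      exact Nat.dvd_of_mul_dvd_mul_left (by omega) h'
    have h3 : q - 1 ∣ 3 * j₁ := by
      have e : j₁ * (q + 2) = j₁ * (q - 1) + 3 * j₁ := by
        obtain ⟨k, rfl⟩ : ∃ k, q = k + 1 := ⟨q - 1, by omega⟩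
        simp only [Nat.add_sub_cancel]
        ring
      rw [e] at h2
      exact (Nat.dvd_add_right (Dvd.intro_left _ rfl)).1 h2
    have h4 := div_gcd_dvd_of_dvd_three_mul q j₁ h3
    rw [Nat.mul_comm (q - 1), Nat.mul_div_assoc _ (gcd_dvd_sub_one q)]
    exact Nat.mul_dvd_mul_left _ h4
  · intro h
    exact (sq_sub_dvd q (by omega)).trans (Nat.mul_dvd_mul_right h _)

section ex2
variable {F : Type*} [Field F] [Fintype F]

omit [Fintype F] in
theorem lmul_pow_eq_smul_iff {E : Type*} [Field E] [Algebra F E] (y : E) (j : ℕ) (c : F) :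
    (Algebra.lmul F E y) ^ j = c • (1 : E →ₗ[F] E) ↔ y ^ j = algebraMap F E c := by
  rw [← map_pow]
  constructor
  · intro h
    have := LinearMap.congr_fun h 1
    simpa [Algebra.algebraMap_eq_smul_one] using this
  · intro h
    ext x
    simp [h, Algebra.smul_def]

/-- an element of order `(q² + q + 1)/d` from a cubic extension -/
theorem exists_orderOf_cubic {E : Type*} [Field E] [Fintype E] [Algebra F E]
    (hE : Module.finrank F E = 3) :
    ∃ x : Matrix.ProjectiveSpecialLinearGroup (Fin 3) F,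
      orderOf x = (Fintype.card F ^ 2 + Fintype.card F + 1) / Nat.gcd 3 (Fintype.card F - 1) := by
  obtain ⟨q, hq⟩ : ∃ q, q = Fintype.card F := ⟨_, rfl⟩
  have hq2 : 2 ≤ q := by rw [hq]; exact Fintype.one_lt_card
  have hcE : Fintype.card E = q ^ 3 := by rw [Module.card_eq_pow_finrank (K := F), hE, hq]
  have hQ : q ^ 2 + q + 1 ∣ Fintype.card E - 1 := by
    rw [hcE]
    refine ⟨q - 1, ?_⟩
    obtain ⟨t, rfl⟩ : ∃ t, q = t + 1 := ⟨q - 1, by omega⟩
    simp only [Nat.add_sub_cancel]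
    have : (t + 1) ^ 3 = ((t + 1) ^ 2 + (t + 1) + 1) * t + 1 := by ring
    rw [this, Nat.add_sub_cancel]
  obtain ⟨y, hy0, hy⟩ := exists_orderOf_eq_of_dvd (F := E) _ hQ
  have hyQ : y ^ (q ^ 2 + q + 1) = 1 := by rw [← hy]; exact pow_orderOf_eq_one y
  have hsum : ∑ i ∈ Finset.range 3, q ^ i = q ^ 2 + q + 1 := by
    simp [Finset.sum_range_succ]; ring
  have hnorm : Algebra.norm F y = 1 := by
    apply (algebraMap F E).injective
    rw [FiniteField.algebraMap_norm_eq_pow_sum, hE, map_one, Nat.card_eq_fintype_card, ← hq, hsum]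
    exact hyQ
  have hdet : LinearMap.det (Algebra.lmul F E y) = 1 := by
    rw [← Algebra.norm_apply]; exact hnorm
  obtain ⟨g, hg⟩ := exists_SL3_of_linear hE (Algebra.lmul F E y) hdet
  refine ⟨QuotientGroup.mk g, orderOf_mk_eq g _ fun j => ?_⟩
  rw [hg j, ← hq]
  constructor
  · rintro ⟨c, hc⟩
    rw [lmul_pow_eq_smul_iff] at hc
    have hc0 : c ≠ 0 := by
      rintro rfl
      rw [map_zero] at hc
      exact pow_ne_zero j hy0 hc
    have h1 : y ^ (j * (q - 1)) = 1 := by
      rw [pow_mul, hc, ← map_pow, hq, FiniteField.pow_card_sub_one_eq_one c hc0, map_one]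
    have h2 : q ^ 2 + q + 1 ∣ j * (q - 1) := by
      rw [← hy]; exact orderOf_dvd_of_pow_eq_one h1
    exact div_gcd_dvd_of_dvd_mul q (by omega) j h2
  · rintro ⟨t, rfl⟩
    have hd : (y ^ ((q ^ 2 + q + 1) / Nat.gcd 3 (q - 1))) ^ Nat.gcd 3 (Fintype.card F - 1) = 1 := by
      rw [← hq, ← pow_mul, Nat.div_mul_cancel (gcd_dvd_sq_add q (by omega)), hyQ]
    obtain ⟨ω, hω⟩ := exists_algebraMap_eq_of_pow_gcd _ hd
    refine ⟨ω ^ t, ?_⟩
    rw [lmul_pow_eq_smul_iff, pow_mul, hω, map_pow]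

omit [Fintype F] in
theorem prodMap_pow_apply {E : Type*} [Field E] [Algebra F E] (y : E) (a : F) (j : ℕ) (x : E)
    (t : F) :
    ((LinearMap.prodMap (Algebra.lmul F E y) (a • (LinearMap.id : F →ₗ[F] F))) ^ j) (x, t) =
      (y ^ j * x, a ^ j * t) := by
  induction j generalizing x t with
  | zero => simp
  | succ k ih =>
    rw [pow_succ, Module.End.mul_apply]
    have h1 : (LinearMap.prodMap (Algebra.lmul F E y) (a • (LinearMap.id : F →ₗ[F] F))) (x, t) =
        (y * x, a * t) := by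
      simp
    rw [h1, ih, pow_succ, pow_succ, mul_assoc, mul_assoc]

/-- an element of order `(q² - 1)/d` from a quadratic extension -/
theorem exists_orderOf_quadratic {E : Type*} [Field E] [Fintype E] [Algebra F E]
    (hE : Module.finrank F E = 2) :
    ∃ x : Matrix.ProjectiveSpecialLinearGroup (Fin 3) F,
      orderOf x = (Fintype.card F ^ 2 - 1) / Nat.gcd 3 (Fintype.card F - 1) := by
  obtain ⟨q, hq⟩ : ∃ q, q = Fintype.card F := ⟨_, rfl⟩
  have hq2 : 2 ≤ q := by rw [hq]; exact Fintype.one_lt_card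
  have hcE : Fintype.card E = q ^ 2 := by rw [Module.card_eq_pow_finrank (K := F), hE, hq]
  obtain ⟨y, hy0, hy⟩ := exists_orderOf_eq_of_dvd (F := E) (q ^ 2 - 1) (by rw [hcE])
  obtain ⟨ν, hνdef⟩ : ∃ ν, ν = Algebra.norm F y := ⟨_, rfl⟩
  have hsum : ∑ i ∈ Finset.range 2, q ^ i = q + 1 := by
    simp [Finset.sum_range_succ]; ring
  have hν : algebraMap F E ν = y ^ (q + 1) := by
    rw [hνdef, FiniteField.algebraMap_norm_eq_pow_sum, hE, Nat.card_eq_fintype_card, ← hq, hsum]
  have hν0 : ν ≠ 0 := by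
    intro h
    rw [h, map_zero] at hν
    exact pow_ne_zero _ hy0 hν.symm
  have : Module.Finite F E := Module.finite_of_finrank_pos (by rw [hE]; norm_num)
  have hV : Module.finrank F (E × F) = 3 := by
    rw [Module.finrank_prod, hE, Module.finrank_self]
  have hdet : LinearMap.det
      (LinearMap.prodMap (Algebra.lmul F E y) (ν⁻¹ • (LinearMap.id : F →ₗ[F] F))) = 1 := by
    rw [LinearMap.det_prodMap, ← Algebra.norm_apply, LinearMap.det_smul, Module.finrank_self,
      pow_one, LinearMap.det_id, mul_one, ← hνdef, mul_inv_cancel₀ hν0]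
  obtain ⟨g, hg⟩ := exists_SL3_of_linear hV _ hdet
  refine ⟨QuotientGroup.mk g, orderOf_mk_eq g _ fun j => ?_⟩
  rw [hg j, ← hq, ← sq_sub_dvd_iff q hq2 j, ← hy, orderOf_dvd_iff_pow_eq_one]
  have hexp : j * (q + 2) = j + (q + 1) * j := by ring
  constructor
  · rintro ⟨c, hc⟩
    have h1 := LinearMap.congr_fun hc (1, 0)
    have h2 := LinearMap.congr_fun hc (0, 1)
    rw [prodMap_pow_apply] at h1 h2
    have h1' : y ^ j = algebraMap F E c := by
      have := congrArg Prod.fst h1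
      simpa [Algebra.algebraMap_eq_smul_one] using this
    have h2' : (ν⁻¹) ^ j = c := by
      have := congrArg Prod.snd h2
      simpa using this
    rw [hexp, pow_add, pow_mul, ← hν, h1', ← map_pow, ← map_mul, ← h2', ← mul_pow,
      inv_mul_cancel₀ hν0, one_pow, map_one]
  · intro h
    rw [hexp, pow_add, pow_mul, ← hν, ← map_pow] at h
    have hyj : y ^ j = algebraMap F E ((ν⁻¹) ^ j) := by
      rw [inv_pow, map_inv₀]
      exact eq_inv_of_mul_eq_one_left h
    refine ⟨(ν⁻¹) ^ j, ?_⟩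
    apply LinearMap.ext
    rintro ⟨x, t⟩
    rw [prodMap_pow_apply, hyj]
    simp [Algebra.smul_def]

end ex2

end Cfsg.Agent.Lib.Helper40.PSL3
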