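import Cfsg.Agent.Lib.Helper40.PSL3Sub2
set_option autoImplicit false

namespace Cfsg.Agent.Lib.Helper40.PSL3

open Cfsg.Agent.Lib.Helper40.PG

section gen
variable {F : Type*} [Field F]

/-- the order of the image in `PSL` from the set of exponents with central power -/
theorem orderOf_mk_eq (g : Matrix.SpecialLinearGroup (Fin 3) F) (L : ℕ)
    (h : ∀ j : ℕ, g ^ j ∈ Subgroup.center (Matrix.SpecialLinearGroup (Fin 3) F) ↔ L ∣ j) :
    orderOf (QuotientGroup.mk g : Matrix.ProjectiveSpecialLinearGroup (Fin 3) F) = L := by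
  apply Nat.dvd_antisymm
  · apply orderOf_dvd_of_pow_eq_one
    rw [← QuotientGroup.mk_pow, QuotientGroup.eq_one_iff]
    exact (h L).2 dvd_rfl
  · rw [← h, ← QuotientGroup.eq_one_iff, QuotientGroup.mk_pow]
    exact pow_orderOf_eq_one _

theorem mem_center_iff_exists_scalar (g : Matrix.SpecialLinearGroup (Fin 3) F) :
    g ∈ Subgroup.center (Matrix.SpecialLinearGroup (Fin 3) F) ↔
      ∃ c : F, Matrix.scalar (Fin 3) c = (g : Matrix (Fin 3) (Fin 3) F) := by
  constructor
  · intro h
    rw [Matrix.SpecialLinearGroup.mem_center_iff] at h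
    obtain ⟨c, -, hc⟩ := h
    exact ⟨c, hc⟩
  · rintro ⟨c, hc⟩
    exact mem_center_of_eq_scalar 3 g c hc

/-- in a finite group every divisor of an element order is an element order -/
theorem exists_orderOf_of_dvd {G : Type*} [Group G] [Finite G] (x : G) (m : ℕ)
    (hm : m ∣ orderOf x) : ∃ y : G, orderOf y = m :=
  ⟨x ^ (orderOf x / m), orderOf_pow_orderOf_div (orderOf_pos x).ne' hm⟩

/-- an endomorphism of determinant one of a three dimensional space as an element of `SL₃` -/
theorem exists_SL3_of_linear {V : Type*} [AddCommGroup V] [Module F V]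
    (hV : Module.finrank F V = 3) (f : V →ₗ[F] V) (hdet : LinearMap.det f = 1) :
    ∃ g : Matrix.SpecialLinearGroup (Fin 3) F, ∀ j : ℕ,
      g ^ j ∈ Subgroup.center (Matrix.SpecialLinearGroup (Fin 3) F) ↔
        ∃ c : F, f ^ j = c • (1 : V →ₗ[F] V) := by
  have : Module.Finite F V := Module.finite_of_finrank_pos (by rw [hV]; norm_num)
  set b : Module.Basis (Fin 3) F V := Module.finBasisOfFinrankEq F V hV with hb
  set A : Matrix (Fin 3) (Fin 3) F := LinearMap.toMatrix b b f with hA
  have hAdet : A.det = 1 := by rw [hA, LinearMap.det_toMatrix, hdet]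
  obtain ⟨g, hg⟩ : ∃ g : Matrix.SpecialLinearGroup (Fin 3) F,
      (g : Matrix (Fin 3) (Fin 3) F) = A := ⟨⟨A, hAdet⟩, rfl⟩
  refine ⟨g, fun j => ?_⟩
  rw [mem_center_iff_exists_scalar]
  have hpow : ((g ^ j : Matrix.SpecialLinearGroup (Fin 3) F) : Matrix (Fin 3) (Fin 3) F) =
      LinearMap.toMatrix b b (f ^ j) := by
    rw [Matrix.SpecialLinearGroup.coe_pow, hg, hA, LinearMap.toMatrix_pow]
  have hsc : ∀ c : F, Matrix.scalar (Fin 3) c = LinearMap.toMatrix b b (c • (1 : V →ₗ[F] V)) := by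
    intro c
    rw [map_smul, LinearMap.toMatrix_one, Matrix.scalar_apply, Matrix.smul_one_eq_diagonal]
  constructor
  · rintro ⟨c, hc⟩
    refine ⟨c, ?_⟩
    rw [hpow, hsc] at hc
    exact ((LinearMap.toMatrix b b).injective hc).symm
  · rintro ⟨c, hc⟩
    refine ⟨c, ?_⟩
    rw [hpow, hsc, hc]

end gen

end Cfsg.Agent.Lib.Helper40.PSL3
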