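import Mathlib
set_option autoImplicit false

namespace Cfsg.Agent.Lib.Helper40.PSL3

section num
variable (q : ℕ)

theorem gcd_eq_one_or_three : Nat.gcd 3 (q - 1) = 1 ∨ Nat.gcd 3 (q - 1) = 3 :=
  (Nat.dvd_prime Nat.prime_three).1 (Nat.gcd_dvd_left 3 (q - 1))

theorem gcd_pos : 0 < Nat.gcd 3 (q - 1) := Nat.gcd_pos_of_pos_left _ (by norm_num)

theorem gcd_dvd_sub_one : Nat.gcd 3 (q - 1) ∣ q - 1 := Nat.gcd_dvd_right 3 (q - 1)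

theorem sq_add_eq (hq : 1 ≤ q) : q ^ 2 + q + 1 = (q - 1) * (q + 2) + 3 := by
  obtain ⟨t, rfl⟩ : ∃ t, q = t + 1 := ⟨q - 1, by omega⟩
  simp only [Nat.add_sub_cancel]
  ring

theorem sq_sub_eq (hq : 1 ≤ q) : q ^ 2 - 1 = (q - 1) * (q + 1) := by
  obtain ⟨t, rfl⟩ : ∃ t, q = t + 1 := ⟨q - 1, by omega⟩
  simp only [Nat.add_sub_cancel]
  have : (t + 1) ^ 2 = t * (t + 1 + 1) + 1 := by ring
  rw [this, Nat.add_sub_cancel]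

theorem gcd_dvd_sq_add (hq : 1 ≤ q) : Nat.gcd 3 (q - 1) ∣ q ^ 2 + q + 1 := by
  rw [sq_add_eq q hq]
  exact Dvd.dvd.add (Dvd.dvd.mul_right (gcd_dvd_sub_one q) _) (Nat.gcd_dvd_left 3 (q - 1))

theorem gcd_dvd_sq_sub (hq : 1 ≤ q) : Nat.gcd 3 (q - 1) ∣ q ^ 2 - 1 := by
  rw [sq_sub_eq q hq]
  exact Dvd.dvd.mul_right (gcd_dvd_sub_one q) _

theorem gcd_dvd_add_two (hq : 1 ≤ q) : Nat.gcd 3 (q - 1) ∣ q + 2 := by
  have h : q + 2 = (q - 1) + 3 := by omega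
  rw [h]
  exact Dvd.dvd.add (gcd_dvd_sub_one q) (Nat.gcd_dvd_left 3 (q - 1))

/-- `(q² - 1) ∣ ((q² - 1)/d) * (q + 2)` -/
theorem sq_sub_dvd (hq : 1 ≤ q) :
    q ^ 2 - 1 ∣ (q ^ 2 - 1) / Nat.gcd 3 (q - 1) * (q + 2) := by
  obtain ⟨t, ht⟩ := gcd_dvd_add_two q hq
  obtain ⟨s, hs⟩ := gcd_dvd_sq_sub q hq
  have h1 : (q ^ 2 - 1) / Nat.gcd 3 (q - 1) = s := Nat.div_eq_of_eq_mul_right (gcd_pos q) hs
  rw [h1]
  refine ⟨t, ?_⟩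
  calc s * (q + 2) = s * (Nat.gcd 3 (q - 1) * t) := by rw [← ht]
    _ = (Nat.gcd 3 (q - 1) * s) * t := by ring
    _ = (q ^ 2 - 1) * t := by rw [← hs]

/-- `(q - 1) ∣ 3 * (p * (q - 1) / d)` -/
theorem sub_one_dvd_three_mul (p : ℕ) : q - 1 ∣ 3 * (p * (q - 1) / Nat.gcd 3 (q - 1)) := by
  obtain ⟨t, ht⟩ := Nat.gcd_dvd_left 3 (q - 1)
  obtain ⟨s, hs⟩ := gcd_dvd_sub_one q
  have h1 : p * (q - 1) / Nat.gcd 3 (q - 1) = p * s := by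
    apply Nat.div_eq_of_eq_mul_right (gcd_pos q)
    calc p * (q - 1) = p * (Nat.gcd 3 (q - 1) * s) := by rw [← hs]
      _ = Nat.gcd 3 (q - 1) * (p * s) := by ring
  rw [h1]
  refine ⟨t * p, ?_⟩
  calc 3 * (p * s) = (Nat.gcd 3 (q - 1) * t) * (p * s) := by rw [← ht]
    _ = (Nat.gcd 3 (q - 1) * s) * (t * p) := by ring
    _ = (q - 1) * (t * p) := by rw [← hs]

theorem mul_div_gcd (p : ℕ) :
    p * (q - 1) / Nat.gcd 3 (q - 1) = p * ((q - 1) / Nat.gcd 3 (q - 1)) :=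
  Nat.mul_div_assoc p (gcd_dvd_sub_one q)

/-- `(q - 1) ∣ 3 j → (q - 1)/d ∣ j` -/
theorem div_gcd_dvd_of_dvd_three_mul (j : ℕ) (h : q - 1 ∣ 3 * j) :
    (q - 1) / Nat.gcd 3 (q - 1) ∣ j := by
  have hcop : Nat.Coprime ((q - 1) / Nat.gcd 3 (q - 1)) (3 / Nat.gcd 3 (q - 1)) := by
    have := Nat.coprime_div_gcd_div_gcd (gcd_pos q)
    exact this.symm
  obtain ⟨t, ht⟩ := Nat.gcd_dvd_left 3 (q - 1)
  obtain ⟨s, hs⟩ := gcd_dvd_sub_one q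
  have h3 : 3 / Nat.gcd 3 (q - 1) = t := Nat.div_eq_of_eq_mul_right (gcd_pos q) ht
  have hq' : (q - 1) / Nat.gcd 3 (q - 1) = s := Nat.div_eq_of_eq_mul_right (gcd_pos q) hs
  rw [h3, hq'] at hcop
  rw [hq']
  have h1 : Nat.gcd 3 (q - 1) * s ∣ Nat.gcd 3 (q - 1) * (t * j) := by
    have : Nat.gcd 3 (q - 1) * (t * j) = 3 * j := by
      calc Nat.gcd 3 (q - 1) * (t * j) = (Nat.gcd 3 (q - 1) * t) * j := by ring
        _ = 3 * j := by rw [← ht]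
    rw [this, ← hs]; exact h
  have h2 : s ∣ t * j := (Nat.mul_dvd_mul_iff_left (gcd_pos q)).1 h1
  exact hcop.dvd_of_dvd_mul_left h2

/-- `gcd (q² + q + 1) (q - 1) = gcd 3 (q - 1)` -/
theorem gcd_sq_add (hq : 1 ≤ q) : Nat.gcd (q ^ 2 + q + 1) (q - 1) = Nat.gcd 3 (q - 1) := by
  apply Nat.dvd_antisymm
  · apply Nat.dvd_gcd _ (Nat.gcd_dvd_right _ _)
    have h1 : Nat.gcd (q ^ 2 + q + 1) (q - 1) ∣ (q - 1) * (q + 2) + 3 := by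
      rw [← sq_add_eq q hq]; exact Nat.gcd_dvd_left _ _
    have h2 : Nat.gcd (q ^ 2 + q + 1) (q - 1) ∣ (q - 1) * (q + 2) :=
      Dvd.dvd.mul_right (Nat.gcd_dvd_right _ _) _
    exact (Nat.dvd_add_right h2).1 h1
  · exact Nat.dvd_gcd (gcd_dvd_sq_add q hq) (gcd_dvd_sub_one q)

/-- `(q² + q + 1) ∣ j (q - 1) → (q² + q + 1)/d ∣ j` -/
theorem div_gcd_dvd_of_dvd_mul (hq : 1 ≤ q) (j : ℕ) (h : q ^ 2 + q + 1 ∣ j * (q - 1)) :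
    (q ^ 2 + q + 1) / Nat.gcd 3 (q - 1) ∣ j := by
  have hg := gcd_sq_add q hq
  have hgpos : 0 < Nat.gcd (q ^ 2 + q + 1) (q - 1) := by rw [hg]; exact gcd_pos q
  have hcop := Nat.coprime_div_gcd_div_gcd hgpos
  rw [hg] at hcop
  obtain ⟨t, ht⟩ := gcd_dvd_sq_add q hq
  obtain ⟨s, hs⟩ := gcd_dvd_sub_one q
  have h3 : (q ^ 2 + q + 1) / Nat.gcd 3 (q - 1) = t :=
    Nat.div_eq_of_eq_mul_right (gcd_pos q) ht
  have hq' : (q - 1) / Nat.gcd 3 (q - 1) = s := Nat.div_eq_of_eq_mul_right (gcd_pos q) hs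
  rw [h3, hq'] at hcop
  rw [h3]
  have h1 : Nat.gcd 3 (q - 1) * t ∣ Nat.gcd 3 (q - 1) * (j * s) := by
    have : Nat.gcd 3 (q - 1) * (j * s) = j * (q - 1) := by
      calc Nat.gcd 3 (q - 1) * (j * s) = j * (Nat.gcd 3 (q - 1) * s) := by ring
        _ = j * (q - 1) := by rw [← hs]
    rw [this, ← ht]; exact h
  have h2 : t ∣ j * s := (Nat.mul_dvd_mul_iff_left (gcd_pos q)).1 h1
  exact hcop.dvd_of_dvd_mul_right h2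

end num

end Cfsg.Agent.Lib.Helper40.PSL3
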