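import Cfsg.Agent.Lib.Helper40.PSL3Num
import Cfsg.Agent.Lib.Helper40.PGUnip5
import Cfsg.Agent.Lib.Helper40.PSpRoot
set_option autoImplicit false
open Polynomial

namespace Cfsg.Agent.Lib.Helper40.PSL3

open Cfsg.Agent.Lib.Helper40.PG Cfsg.Agent.Lib.Helper40.PSp Cfsg.Agent.Lib.Helper40.PrimeOrder

section sub
variable {F : Type*} [Field F] [Fintype F]

omit [Fintype F] in
/-- if the characteristic polynomial divides `X ^ N - ω`, the `N`-th power is central -/
theorem orderOf_mk_dvd_of_charpoly_dvd (g : Matrix.SpecialLinearGroup (Fin 3) F) (N : ℕ) (ω : F)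
    (h : (g : Matrix (Fin 3) (Fin 3) F).charpoly ∣ X ^ N - C ω) :
    orderOf (QuotientGroup.mk g : Matrix.ProjectiveSpecialLinearGroup (Fin 3) F) ∣ N := by
  set A : Matrix (Fin 3) (Fin 3) F := (g : Matrix (Fin 3) (Fin 3) F) with hA
  have h1 : aeval A (X ^ N - C ω : F[X]) = 0 := by
    obtain ⟨c, hc⟩ := h
    rw [hc, map_mul, Matrix.aeval_self_charpoly, zero_mul]
  rw [map_sub, map_pow, aeval_X, aeval_C, sub_eq_zero] at h1
  have h2 : g ^ N ∈ Subgroup.center (Matrix.SpecialLinearGroup (Fin 3) F) := by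
    apply mem_center_of_eq_scalar 3 (g ^ N) ω
    rw [Matrix.SpecialLinearGroup.coe_pow, ← hA, h1, Matrix.scalar_apply,
      Algebra.algebraMap_eq_smul_one, Matrix.smul_one_eq_diagonal]
  apply orderOf_dvd_of_pow_eq_one
  rw [← QuotientGroup.mk_pow, QuotientGroup.eq_one_iff]
  exact h2

/-- an element of a field extension whose `gcd(3, q-1)`-th power is one lies in `F` -/
theorem exists_algebraMap_eq_of_pow_gcd {E : Type*} [Field E] [Algebra F E] (z : E)
    (hz : z ^ Nat.gcd 3 (Fintype.card F - 1) = 1) : ∃ ω : F, z = algebraMap F E ω := by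
  rcases gcd_eq_one_or_three (Fintype.card F) with h | h
  · rw [h, pow_one] at hz
    exact ⟨1, by rw [hz, map_one]⟩
  · rw [h] at hz
    have h3 : 3 ∣ Fintype.card F - 1 := by rw [← h]; exact gcd_dvd_sub_one _
    obtain ⟨ν, hν0, hν⟩ := exists_orderOf_eq_of_dvd (F := F) 3 h3
    have hν3 : ν ^ 3 = 1 := by rw [← hν]; exact pow_orderOf_eq_one ν
    have hν1 : ν ≠ 1 := by
      intro h1
      rw [h1, orderOf_one] at hν
      omega
    have hS : 1 + ν + ν ^ 2 = 0 := by
      have : (ν - 1) * (1 + ν + ν ^ 2) = 0 := by linear_combination hν3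
      rcases mul_eq_zero.1 this with h | h
      · exact absurd (sub_eq_zero.1 h) hν1
      · exact h
    set n := algebraMap F E ν with hn
    have hS' : 1 + n + n ^ 2 = 0 := by
      have := congrArg (algebraMap F E) hS
      simpa using this
    have hn3 : n ^ 3 = 1 := by rw [hn, ← map_pow, hν3, map_one]
    have hfac : (z - 1) * (z - n) * (z - n ^ 2) = 0 := by
      linear_combination hz + (-z ^ 2 + z) * hS' + (z - 1) * hn3
    rcases mul_eq_zero.1 hfac with h1 | h1
    · rcases mul_eq_zero.1 h1 with h2 | h2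
      · exact ⟨1, by rw [map_one]; exact sub_eq_zero.1 h2⟩
      · exact ⟨ν, sub_eq_zero.1 h2⟩
    · exact ⟨ν ^ 2, by rw [map_pow]; exact sub_eq_zero.1 h1⟩

/-- the norm of the root of an irreducible polynomial, as a power -/
theorem root_pow_sum (π : F[X]) (hm : π.Monic) (hi : Irreducible π) :
    haveI : Fact (Irreducible π) := ⟨hi⟩
    (AdjoinRoot.root π) ^ (∑ i ∈ Finset.range π.natDegree, Fintype.card F ^ i) =
      algebraMap F (AdjoinRoot π) ((-1) ^ π.natDegree * π.coeff 0) := by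
  haveI : Fact (Irreducible π) := ⟨hi⟩
  set pb := AdjoinRoot.powerBasis hm.ne_zero with hpb
  have : Module.Finite F (AdjoinRoot π) := pb.finite
  have : Finite (AdjoinRoot π) := Module.finite_of_finite F
  have hfr : Module.finrank F (AdjoinRoot π) = π.natDegree := by
    rw [pb.finrank, AdjoinRoot.powerBasis_dim]
  have h1 := Algebra.PowerBasis.norm_gen_eq_coeff_zero_minpoly pb
  rw [AdjoinRoot.powerBasis_gen, AdjoinRoot.powerBasis_dim, AdjoinRoot.minpoly_root hm.ne_zero,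
    hm.leadingCoeff, inv_one, C_1, mul_one] at h1
  have h2 := FiniteField.algebraMap_norm_eq_pow_sum F (AdjoinRoot π) (AdjoinRoot.root π)
  rw [h1, hfr, Nat.card_eq_fintype_card] at h2
  exact h2.symm

omit [Fintype F] in
theorem dvd_X_pow_sub_C_iff (π : F[X]) (hi : Irreducible π) (N : ℕ) (ω : F) :
    haveI : Fact (Irreducible π) := ⟨hi⟩
    π ∣ X ^ N - C ω ↔ (AdjoinRoot.root π) ^ N = algebraMap F (AdjoinRoot π) ω := by
  haveI : Fact (Irreducible π) := ⟨hi⟩
  rw [← AdjoinRoot.mk_eq_zero, map_sub, map_pow, AdjoinRoot.mk_X, AdjoinRoot.mk_C, sub_eq_zero]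
  rfl

theorem case_irred (χ : F[X]) (hm : χ.Monic) (hi : Irreducible χ) (hd : χ.natDegree = 3)
    (h0 : χ.coeff 0 = -1) :
    ∃ ω : F, χ ∣ X ^ ((Fintype.card F ^ 2 + Fintype.card F + 1) /
      Nat.gcd 3 (Fintype.card F - 1)) - C ω := by
  haveI : Fact (Irreducible χ) := ⟨hi⟩
  have h1 := root_pow_sum χ hm hi
  rw [hd, h0] at h1
  have h2 : ∑ i ∈ Finset.range 3, Fintype.card F ^ i =
      Fintype.card F ^ 2 + Fintype.card F + 1 := by
    rw [Finset.sum_range_succ, Finset.sum_range_succ, Finset.sum_range_one]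
    ring
  rw [h2] at h1
  have h3 : ((-1 : F) ^ 3 * -1) = 1 := by norm_num
  rw [h3, map_one] at h1
  have hq1 : 1 ≤ Fintype.card F := Fintype.card_pos
  have h4 : ((AdjoinRoot.root χ) ^ ((Fintype.card F ^ 2 + Fintype.card F + 1) /
      Nat.gcd 3 (Fintype.card F - 1))) ^ Nat.gcd 3 (Fintype.card F - 1) = 1 := by
    rw [← pow_mul, Nat.div_mul_cancel (gcd_dvd_sq_add _ hq1), h1]
  obtain ⟨ω, hω⟩ := exists_algebraMap_eq_of_pow_gcd _ h4
  exact ⟨ω, (dvd_X_pow_sub_C_iff χ hi _ ω).2 hω⟩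

theorem case_lin_quad (a : F) (ψ : F[X]) (hm : ψ.Monic) (hi : Irreducible ψ)
    (hd : ψ.natDegree = 2) (ha : a * ψ.coeff 0 = 1) :
    (X - C a) * ψ ∣ X ^ ((Fintype.card F ^ 2 - 1) / Nat.gcd 3 (Fintype.card F - 1)) -
      C (a ^ ((Fintype.card F ^ 2 - 1) / Nat.gcd 3 (Fintype.card F - 1))) := by
  haveI : Fact (Irreducible ψ) := ⟨hi⟩
  have hq1 : 1 ≤ Fintype.card F := Fintype.card_pos
  set N := (Fintype.card F ^ 2 - 1) / Nat.gcd 3 (Fintype.card F - 1) with hN
  have hψ0 : ψ.coeff 0 ≠ 0 := by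
    intro h
    rw [h, mul_zero] at ha
    exact zero_ne_one ha
  have h1 := root_pow_sum ψ hm hi
  rw [hd] at h1
  have h2 : ∑ i ∈ Finset.range 2, Fintype.card F ^ i = Fintype.card F + 1 := by
    rw [Finset.sum_range_succ, Finset.sum_range_one]
    ring
  rw [h2, neg_one_sq, one_mul] at h1
  have hcard := root_pow_card ψ hm hi hψ0
  rw [hd] at hcard
  set y := AdjoinRoot.root ψ with hy
  have h3 : y ^ N * (algebraMap F (AdjoinRoot ψ) (ψ.coeff 0)) ^ N = 1 := by
    rw [← h1, ← pow_mul, ← pow_add]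
    obtain ⟨t, ht⟩ := sq_sub_dvd (Fintype.card F) hq1
    have h4 : N + (Fintype.card F + 1) * N = (Fintype.card F ^ 2 - 1) * t := by
      rw [← ht, hN]; ring
    rw [h4, pow_mul, hcard, one_pow]
  have h5 : (algebraMap F (AdjoinRoot ψ) (ψ.coeff 0)) ^ N * algebraMap F (AdjoinRoot ψ) (a ^ N)
      = 1 := by
    rw [← map_pow, ← map_mul, ← mul_pow, mul_comm, ha, one_pow, map_one]
  have h6 : y ^ N = algebraMap F (AdjoinRoot ψ) (a ^ N) := by
    calc y ^ N = y ^ N * ((algebraMap F (AdjoinRoot ψ) (ψ.coeff 0)) ^ N *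
          algebraMap F (AdjoinRoot ψ) (a ^ N)) := by rw [h5, mul_one]
      _ = algebraMap F (AdjoinRoot ψ) (a ^ N) := by rw [← mul_assoc, h3, one_mul]
  have h7 : ψ ∣ X ^ N - C (a ^ N) := (dvd_X_pow_sub_C_iff ψ hi N _).2 h6
  have h8 : (X - C a) ∣ X ^ N - C (a ^ N) := by
    rw [dvd_iff_isRoot, IsRoot, eval_sub, eval_pow, eval_X, eval_C, sub_self]
  have hcop : IsCoprime (X - C a) ψ := by
    apply IsCoprime.symm
    rw [Irreducible.coprime_iff_not_dvd hi]
    intro hdv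
    have := natDegree_le_of_dvd hdv (X_sub_C_ne_zero a)
    rw [hd, natDegree_X_sub_C] at this
    omega
  exact hcop.mul_dvd h8 h7

end sub

end Cfsg.Agent.Lib.Helper40.PSL3
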