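import Cfsg.Agent.Lib.Helper40.PSL3Sub
set_option autoImplicit false
open Polynomial

namespace Cfsg.Agent.Lib.Helper40.PSL3

open Cfsg.Agent.Lib.Helper40.PG Cfsg.Agent.Lib.Helper40.PSp Cfsg.Agent.Lib.Helper40.PrimeOrder

/-- the set of divisors of the maximal element orders of `PSL(3, q)` -/
def inT (F : Type*) [Fintype F] (p N : ℕ) : Prop :=
  N ∣ (Fintype.card F ^ 2 + Fintype.card F + 1) / Nat.gcd 3 (Fintype.card F - 1) ∨
    N ∣ (Fintype.card F ^ 2 - 1) / Nat.gcd 3 (Fintype.card F - 1) ∨ N ∣ Fintype.card F - 1 ∨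
    N ∣ p * (Fintype.card F - 1) / Nat.gcd 3 (Fintype.card F - 1) ∨ (p = 2 ∧ N ∣ 4)

section split
variable {F : Type*} [Field F] [Fintype F]

omit [Fintype F] in
theorem X_sub_C_dvd_X_pow_sub_C (u : F) (N : ℕ) : (X - C u) ∣ X ^ N - C (u ^ N) := by
  rw [dvd_iff_isRoot, IsRoot, eval_sub, eval_pow, eval_X, eval_C, sub_self]

theorem case_double (p : ℕ) [Fact p.Prime] [CharP F p] (u v : F) (huv : u * u * v = 1)
    (hne : u ≠ v) :
    (X - C u) ^ 2 * (X - C v) ∣ X ^ (p * (Fintype.card F - 1) / Nat.gcd 3 (Fintype.card F - 1)) -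
      C (u ^ (p * (Fintype.card F - 1) / Nat.gcd 3 (Fintype.card F - 1))) := by
  have hp : p.Prime := Fact.out
  set m₀ := (Fintype.card F - 1) / Nat.gcd 3 (Fintype.card F - 1) with hm₀
  set N := p * (Fintype.card F - 1) / Nat.gcd 3 (Fintype.card F - 1) with hN
  have hNm : N = m₀ * p := by rw [hN, mul_div_gcd, mul_comm]
  have hu0 : u ≠ 0 := by
    intro h
    rw [h, zero_mul, zero_mul] at huv
    exact zero_ne_one huv
  have h1 : (X : F[X]) ^ N - C (u ^ N) = (X ^ m₀ - C (u ^ m₀)) ^ p := by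
    rw [sub_pow_char, ← pow_mul, ← C_pow, ← pow_mul, hNm]
  have h2 : (X - C u) ^ 2 ∣ X ^ N - C (u ^ N) := by
    rw [h1]
    exact (pow_dvd_pow _ hp.two_le).trans (pow_dvd_pow_of_dvd (X_sub_C_dvd_X_pow_sub_C u m₀) p)
  have hu3 : u ^ (3 * N) = 1 := by
    obtain ⟨t, ht⟩ := sub_one_dvd_three_mul (Fintype.card F) p
    rw [← hN] at ht
    rw [ht, pow_mul, FiniteField.pow_card_sub_one_eq_one u hu0, one_pow]
  have hvu : v ^ N = u ^ N := by
    have h3 : v ^ N * u ^ (2 * N) = 1 := by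
      rw [pow_mul, ← mul_pow]
      have : v * u ^ 2 = 1 := by rw [← huv]; ring
      rw [this, one_pow]
    calc v ^ N = v ^ N * u ^ (3 * N) := by rw [hu3, mul_one]
      _ = (v ^ N * u ^ (2 * N)) * u ^ N := by rw [mul_assoc, ← pow_add]; congr 2; ring
      _ = u ^ N := by rw [h3, one_mul]
  have h4 : (X - C v) ∣ X ^ N - C (u ^ N) := by
    rw [← hvu]; exact X_sub_C_dvd_X_pow_sub_C v N
  have hcop : IsCoprime ((X - C u) ^ 2) (X - C v) := by
    apply IsCoprime.pow_left
    apply isCoprime_X_sub_C_of_isUnit_sub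
    exact (sub_ne_zero.2 hne).isUnit
  exact hcop.mul_dvd h2 h4

theorem case_triple (p : ℕ) [Fact p.Prime] [CharP F p] (u : F) :
    ∃ N : ℕ, inT F p N ∧ (X - C u) ^ 3 ∣ X ^ N - C (u ^ N) := by
  have hp : p.Prime := Fact.out
  by_cases hp2 : p = 2
  · refine ⟨4, Or.inr (Or.inr (Or.inr (Or.inr ⟨hp2, dvd_rfl⟩))), ?_⟩
    subst hp2
    have h1 : (X : F[X]) ^ 4 - C (u ^ 4) = (X - C u) ^ 4 := by
      have := sub_pow_char_pow (R := F[X]) (p := 2) (n := 2) (X : F[X]) (C u)
      rw [show (2 : ℕ) ^ 2 = 4 from rfl, ← C_pow] at this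
      exact this.symm
    rw [h1]
    exact pow_dvd_pow _ (by norm_num)
  · refine ⟨p, Or.inr (Or.inr (Or.inr (Or.inl ?_))), ?_⟩
    · rw [mul_div_gcd]; exact Dvd.intro _ rfl
    · have h1 : (X : F[X]) ^ p - C (u ^ p) = (X - C u) ^ p := by
        rw [sub_pow_char, C_pow]
      rw [h1]
      apply pow_dvd_pow
      have := hp.two_le
      omega

theorem case_split (p : ℕ) [Fact p.Prime] [CharP F p] (a b c : F) (habc : a * b * c = 1) :
    ∃ N : ℕ, inT F p N ∧ ∃ ω : F, (X - C a) * ((X - C b) * (X - C c)) ∣ X ^ N - C ω := by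
  have dbl : ∀ u v : F, u * u * v = 1 → u ≠ v →
      ∃ N : ℕ, inT F p N ∧ ∃ ω : F, (X - C u) ^ 2 * (X - C v) ∣ X ^ N - C ω := by
    intro u v huv hne
    exact ⟨_, Or.inr (Or.inr (Or.inr (Or.inl dvd_rfl))), _, case_double p u v huv hne⟩
  by_cases hab : a = b
  · subst hab
    by_cases hac : a = c
    · subst hac
      obtain ⟨N, hN, hd⟩ := case_triple p a
      refine ⟨N, hN, a ^ N, ?_⟩
      have : (X - C a) * ((X - C a) * (X - C a)) = (X - C a) ^ 3 := by ring
      rw [this]; exact hd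
    · obtain ⟨N, hN, ω, hd⟩ := dbl a c habc hac
      refine ⟨N, hN, ω, ?_⟩
      have : (X - C a) * ((X - C a) * (X - C c)) = (X - C a) ^ 2 * (X - C c) := by ring
      rw [this]; exact hd
  · by_cases hac : a = c
    · subst hac
      obtain ⟨N, hN, ω, hd⟩ := dbl a b (by rw [← habc]; ring) hab
      refine ⟨N, hN, ω, ?_⟩
      have : (X - C a) * ((X - C b) * (X - C a)) = (X - C a) ^ 2 * (X - C b) := by ring
      rw [this]; exact hd
    · by_cases hbc : b = c
      · subst hbc
        obtain ⟨N, hN, ω, hd⟩ := dbl b a (by rw [← habc]; ring) (Ne.symm hab)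
        refine ⟨N, hN, ω, ?_⟩
        have : (X - C a) * ((X - C b) * (X - C b)) = (X - C b) ^ 2 * (X - C a) := by ring
        rw [this]; exact hd
      · refine ⟨Fintype.card F - 1, Or.inr (Or.inr (Or.inl dvd_rfl)), 1, ?_⟩
        have hne0 : ∀ t : F, (t = a ∨ t = b ∨ t = c) → t ≠ 0 := by
          intro t ht h0
          rcases ht with rfl | rfl | rfl <;> simp [h0] at habc
        have hdv : ∀ t : F, t ≠ 0 → (X - C t) ∣ X ^ (Fintype.card F - 1) - C 1 := by
          intro t ht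
          have := X_sub_C_dvd_X_pow_sub_C t (Fintype.card F - 1)
          rwa [FiniteField.pow_card_sub_one_eq_one t ht] at this
        have hcop : ∀ s t : F, s ≠ t → IsCoprime (X - C s) (X - C t) := by
          intro s t hst
          apply isCoprime_X_sub_C_of_isUnit_sub
          exact (sub_ne_zero.2 hst).isUnit
        apply IsCoprime.mul_dvd ((hcop a b hab).mul_right (hcop a c hac))
          (hdv a (hne0 a (Or.inl rfl)))
        exact IsCoprime.mul_dvd (hcop b c hbc) (hdv b (hne0 b (Or.inr (Or.inl rfl))))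
          (hdv c (hne0 c (Or.inr (Or.inr rfl))))

/-- every monic cubic with constant term `-1` divides some `X ^ N - ω` with `N` in the list -/
theorem exists_dvd (p : ℕ) [Fact p.Prime] [CharP F p] (χ : F[X]) (hm : χ.Monic)
    (hd : χ.natDegree = 3) (h0 : χ.coeff 0 = -1) :
    ∃ N : ℕ, inT F p N ∧ ∃ ω : F, χ ∣ X ^ N - C ω := by
  by_cases hirr : Irreducible χ
  · obtain ⟨ω, hω⟩ := case_irred χ hm hirr hd h0
    exact ⟨_, Or.inl dvd_rfl, ω, hω⟩
  · have hroots : χ.roots ≠ 0 := fun h => hirr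
      ((hm.irreducible_iff_roots_eq_zero_of_degree_le_three (by omega) (by omega)).2 h)
    obtain ⟨a, ha⟩ := Multiset.exists_mem_of_ne_zero hroots
    have haroot : IsRoot χ a := (mem_roots hm.ne_zero).1 ha
    obtain ⟨ψ, hψ⟩ := dvd_iff_isRoot.2 haroot
    have hψm : ψ.Monic := (monic_X_sub_C a).of_mul_monic_left (hψ ▸ hm)
    have hψd : ψ.natDegree = 2 := by
      have := congrArg natDegree hψ
      rw [(monic_X_sub_C a).natDegree_mul hψm, natDegree_X_sub_C, hd] at this
      omega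
    have haψ : a * ψ.coeff 0 = 1 := by
      have := congrArg (fun f : F[X] => f.coeff 0) hψ
      simp only [mul_coeff_zero, coeff_sub, coeff_X_zero, coeff_C_zero, zero_sub] at this
      rw [h0] at this
      linear_combination this
    by_cases hirr2 : Irreducible ψ
    · refine ⟨_, Or.inr (Or.inl dvd_rfl),
        a ^ ((Fintype.card F ^ 2 - 1) / Nat.gcd 3 (Fintype.card F - 1)), ?_⟩
      rw [hψ]
      exact case_lin_quad a ψ hψm hirr2 hψd haψ
    · have hroots2 : ψ.roots ≠ 0 := fun h => hirr2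
        ((hψm.irreducible_iff_roots_eq_zero_of_degree_le_three (by omega) (by omega)).2 h)
      obtain ⟨b, hb⟩ := Multiset.exists_mem_of_ne_zero hroots2
      have hbroot : IsRoot ψ b := (mem_roots hψm.ne_zero).1 hb
      obtain ⟨φ, hφ⟩ := dvd_iff_isRoot.2 hbroot
      have hφm : φ.Monic := (monic_X_sub_C b).of_mul_monic_left (hφ ▸ hψm)
      have hφd : φ.natDegree = 1 := by
        have := congrArg natDegree hφ
        rw [(monic_X_sub_C b).natDegree_mul hφm, natDegree_X_sub_C, hψd] at this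
        omega
      have hφeq : φ = X - C (-(φ.coeff 0)) := by
        conv_lhs => rw [hφm.eq_X_add_C hφd]
        rw [C_neg, sub_neg_eq_add]
      have hbφ : ψ.coeff 0 = b * (φ.coeff 0) * (-1) := by
        have := congrArg (fun f : F[X] => f.coeff 0) hφ
        simp only [mul_coeff_zero, coeff_sub, coeff_X_zero, coeff_C_zero, zero_sub] at this
        rw [this]; ring
      obtain ⟨N, hN, ω, hdv⟩ := case_split p a b (-(φ.coeff 0)) (by rw [← haψ, hbφ]; ring)
      refine ⟨N, hN, ω, ?_⟩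
      rw [hψ, hφ]
      conv_lhs => rw [hφeq]
      exact hdv

/-- every element order of `PSL(3, q)` lies in the list -/
theorem orderOf_mem (p : ℕ) [Fact p.Prime] [CharP F p]
    (x : Matrix.ProjectiveSpecialLinearGroup (Fin 3) F) : inT F p (orderOf x) := by
  obtain ⟨g, rfl⟩ := QuotientGroup.mk_surjective x
  set A : Matrix (Fin 3) (Fin 3) F := (g : Matrix (Fin 3) (Fin 3) F) with hA
  have hdeg : A.charpoly.natDegree = 3 := by
    rw [Matrix.charpoly_natDegree_eq_dim, Fintype.card_fin]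
  have h0 : A.charpoly.coeff 0 = -1 := by
    have h1 := Matrix.det_eq_sign_charpoly_coeff A
    have hdet : A.det = 1 := g.2
    rw [Fintype.card_fin, hdet] at h1
    linear_combination h1
  obtain ⟨N, hN, ω, hdv⟩ := exists_dvd p A.charpoly (Matrix.charpoly_monic A) hdeg h0
  have h2 := orderOf_mk_dvd_of_charpoly_dvd g N ω hdv
  rcases hN with h | h | h | h | ⟨h, h'⟩
  · exact Or.inl (h2.trans h)
  · exact Or.inr (Or.inl (h2.trans h))
  · exact Or.inr (Or.inr (Or.inl (h2.trans h)))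
  · exact Or.inr (Or.inr (Or.inr (Or.inl (h2.trans h))))
  · exact Or.inr (Or.inr (Or.inr (Or.inr ⟨h, h2.trans h'⟩)))

end split

end Cfsg.Agent.Lib.Helper40.PSL3
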