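import Cfsg.Agent.Lib.Helper40.PSL3Ex2
set_option autoImplicit false
open Polynomial

namespace Cfsg.Agent.Lib.Helper40.PSLn

open Cfsg.Agent.Lib.Helper40.PG Cfsg.Agent.Lib.Helper40.PSp Cfsg.Agent.Lib.Helper40.PSL3

section gen
variable {F : Type*} [Field F]

/-- the order of the image in `PSL` from the set of exponents with central power -/
theorem orderOf_mk_eq (n : ℕ) (g : Matrix.SpecialLinearGroup (Fin n) F) (L : ℕ)
    (h : ∀ j : ℕ, g ^ j ∈ Subgroup.center (Matrix.SpecialLinearGroup (Fin n) F) ↔ L ∣ j) :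
    orderOf (QuotientGroup.mk g : Matrix.ProjectiveSpecialLinearGroup (Fin n) F) = L := by
  apply Nat.dvd_antisymm
  · apply orderOf_dvd_of_pow_eq_one
    rw [← QuotientGroup.mk_pow, QuotientGroup.eq_one_iff]
    exact (h L).2 dvd_rfl
  · rw [← h, ← QuotientGroup.eq_one_iff, QuotientGroup.mk_pow]
    exact pow_orderOf_eq_one _

theorem mem_center_iff_exists_scalar (n : ℕ) (g : Matrix.SpecialLinearGroup (Fin n) F) :
    g ∈ Subgroup.center (Matrix.SpecialLinearGroup (Fin n) F) ↔
      ∃ c : F, Matrix.scalar (Fin n) c = (g : Matrix (Fin n) (Fin n) F) := by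
  constructor
  · intro h
    rw [Matrix.SpecialLinearGroup.mem_center_iff] at h
    obtain ⟨c, -, hc⟩ := h
    exact ⟨c, hc⟩
  · rintro ⟨c, hc⟩
    exact mem_center_of_eq_scalar n g c hc

/-- an endomorphism of determinant one of an `n`-dimensional space as an element of `SLₙ` -/
theorem exists_SLn_of_linear {V : Type*} [AddCommGroup V] [Module F V] (n : ℕ) (hn : 0 < n)
    (hV : Module.finrank F V = n) (f : V →ₗ[F] V) (hdet : LinearMap.det f = 1) :
    ∃ g : Matrix.SpecialLinearGroup (Fin n) F, ∀ j : ℕ,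
      g ^ j ∈ Subgroup.center (Matrix.SpecialLinearGroup (Fin n) F) ↔
        ∃ c : F, f ^ j = c • (1 : V →ₗ[F] V) := by
  have : Module.Finite F V := Module.finite_of_finrank_pos (by rw [hV]; exact hn)
  set b : Module.Basis (Fin n) F V := Module.finBasisOfFinrankEq F V hV with hb
  set A : Matrix (Fin n) (Fin n) F := LinearMap.toMatrix b b f with hA
  have hAdet : A.det = 1 := by rw [hA, LinearMap.det_toMatrix, hdet]
  obtain ⟨g, hg⟩ : ∃ g : Matrix.SpecialLinearGroup (Fin n) F,
      (g : Matrix (Fin n) (Fin n) F) = A := ⟨⟨A, hAdet⟩, rfl⟩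
  refine ⟨g, fun j => ?_⟩
  rw [mem_center_iff_exists_scalar]
  have hpow : ((g ^ j : Matrix.SpecialLinearGroup (Fin n) F) : Matrix (Fin n) (Fin n) F) =
      LinearMap.toMatrix b b (f ^ j) := by
    rw [Matrix.SpecialLinearGroup.coe_pow, hg, hA, LinearMap.toMatrix_pow]
  have hsc : ∀ c : F, Matrix.scalar (Fin n) c = LinearMap.toMatrix b b (c • (1 : V →ₗ[F] V)) := by
    intro c
    rw [map_smul, LinearMap.toMatrix_one, Matrix.scalar_apply, Matrix.smul_one_eq_diagonal]
  constructor
  · rintro ⟨c, hc⟩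
    refine ⟨c, ?_⟩
    rw [hpow, hsc] at hc
    exact ((LinearMap.toMatrix b b).injective hc).symm
  · rintro ⟨c, hc⟩
    refine ⟨c, ?_⟩
    rw [hpow, hsc, hc]

/-- if the characteristic polynomial divides `X ^ N - ω`, the `N`-th power is central -/
theorem orderOf_mk_dvd_of_charpoly_dvd (n : ℕ) (g : Matrix.SpecialLinearGroup (Fin n) F) (N : ℕ)
    (ω : F) (h : (g : Matrix (Fin n) (Fin n) F).charpoly ∣ X ^ N - C ω) :
    orderOf (QuotientGroup.mk g : Matrix.ProjectiveSpecialLinearGroup (Fin n) F) ∣ N := by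
  set A : Matrix (Fin n) (Fin n) F := (g : Matrix (Fin n) (Fin n) F) with hA
  have h1 : aeval A (X ^ N - C ω : F[X]) = 0 := by
    obtain ⟨c, hc⟩ := h
    rw [hc, map_mul, Matrix.aeval_self_charpoly, zero_mul]
  rw [map_sub, map_pow, aeval_X, aeval_C, sub_eq_zero] at h1
  have h2 : g ^ N ∈ Subgroup.center (Matrix.SpecialLinearGroup (Fin n) F) := by
    apply mem_center_of_eq_scalar n (g ^ N) ω
    rw [Matrix.SpecialLinearGroup.coe_pow, ← hA, h1, Matrix.scalar_apply,
      Algebra.algebraMap_eq_smul_one, Matrix.smul_one_eq_diagonal]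
  apply orderOf_dvd_of_pow_eq_one
  rw [← QuotientGroup.mk_pow, QuotientGroup.eq_one_iff]
  exact h2

end gen

section fin
variable {F : Type*} [Field F] [Fintype F]

/-- the elements of an extension with `z ^ (q - 1) = 1` lie in the base field -/
theorem exists_algebraMap_eq_of_pow_card_sub_one {E : Type*} [Field E] [Algebra F E] (z : E)
    (hz : z ^ (Fintype.card F - 1) = 1) : ∃ c : F, z = algebraMap F E c := by
  classical
  have hq2 : 2 ≤ Fintype.card F := Fintype.one_lt_card
  have hzq : z ^ Fintype.card F = z := by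
    have : Fintype.card F = (Fintype.card F - 1) + 1 := by omega
    rw [this, pow_succ, hz, one_mul]
  set P : E[X] := X ^ Fintype.card F - X with hP
  have hP0 : P ≠ 0 := FiniteField.X_pow_card_sub_X_ne_zero E Fintype.one_lt_card
  have hPdeg : P.natDegree = Fintype.card F :=
    FiniteField.X_pow_card_sub_X_natDegree_eq E Fintype.one_lt_card
  set S : Finset E := P.roots.toFinset with hS
  set T : Finset E := Finset.univ.image (algebraMap F E) with hT
  have hTS : T ⊆ S := by
    intro y hy
    rw [hT, Finset.mem_image] at hy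
    obtain ⟨c, -, rfl⟩ := hy
    rw [hS, Multiset.mem_toFinset, mem_roots hP0, IsRoot, hP, eval_sub, eval_pow, eval_X,
      ← map_pow, FiniteField.pow_card, sub_self]
  have hTcard : T.card = Fintype.card F := by
    rw [hT, Finset.card_image_of_injective _ (algebraMap F E).injective, Finset.card_univ]
  have hScard : S.card ≤ Fintype.card F := by
    rw [← hPdeg]
    exact (Multiset.toFinset_card_le _).trans (card_roots' P)
  have hST : T = S := Finset.eq_of_subset_of_card_le hTS (by rw [hTcard]; exact hScard)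
  have hzS : z ∈ S := by
    rw [hS, Multiset.mem_toFinset, mem_roots hP0, IsRoot, hP, eval_sub, eval_pow, eval_X, hzq,
      sub_self]
  rw [← hST, hT, Finset.mem_image] at hzS
  obtain ⟨c, -, hc⟩ := hzS
  exact ⟨c, hc.symm⟩

/-- a power of a nonzero element of an extension lies in the base field exactly when its order
divides the exponent times `q - 1` -/
theorem pow_mem_range_iff {E : Type*} [Field E] [Algebra F E] (y : E) (hy : y ≠ 0) (j : ℕ) :
    (∃ c : F, y ^ j = algebraMap F E c) ↔ orderOf y ∣ j * (Fintype.card F - 1) := by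
  rw [orderOf_dvd_iff_pow_eq_one, pow_mul]
  constructor
  · rintro ⟨c, hc⟩
    have hc0 : c ≠ 0 := by
      rintro rfl
      rw [map_zero] at hc
      exact pow_ne_zero j hy hc
    rw [hc, ← map_pow, FiniteField.pow_card_sub_one_eq_one c hc0, map_one]
  · intro h
    exact exists_algebraMap_eq_of_pow_card_sub_one _ h

end fin

end Cfsg.Agent.Lib.Helper40.PSLn
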