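import Mathlib
set_option autoImplicit false

namespace Cfsg.Agent.Lib.Helper40.PSLn

/-- the geometric sum `1 + q + ⋯ + q ^ (k - 1)` -/
def gs (q k : ℕ) : ℕ := ∑ i ∈ Finset.range k, q ^ i

theorem gs_mul (q k : ℕ) (hq : 1 ≤ q) : gs q k * (q - 1) = q ^ k - 1 :=
  geom_sum_mul_of_one_le hq k

theorem gs_pos (q k : ℕ) (hk : 1 ≤ k) : 0 < gs q k := by
  unfold gs
  obtain ⟨t, rfl⟩ : ∃ t, k = t + 1 := ⟨k - 1, by omega⟩
  rw [Finset.sum_range_succ']
  simp

theorem gs_add (q m : ℕ) : gs q (m + m) = (q ^ m + 1) * gs q m := by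
  unfold gs
  rw [Finset.sum_range_add, add_mul, one_mul, Finset.mul_sum, add_comm]
  congr 1
  apply Finset.sum_congr rfl
  intro i _
  rw [pow_add]

theorem modEq_one (q d : ℕ) (hq : 1 ≤ q) (hd : d ∣ q - 1) : q ≡ 1 [MOD d] := by
  have h : (q - 1) + 1 ≡ 0 + 1 [MOD d] := Nat.ModEq.add_right 1 ((Nat.modEq_zero_iff_dvd).2 hd)
  rwa [Nat.sub_add_cancel hq, zero_add] at h

theorem gs_modEq (q d m : ℕ) (hq : 1 ≤ q) (hd : d ∣ q - 1) : gs q m ≡ m [MOD d] := by
  have hq1 := modEq_one q d hq hd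
  induction m with
  | zero =>
    unfold gs
    rw [Finset.sum_range_zero]
  | succ k ih =>
    unfold gs at ih ⊢
    rw [Finset.sum_range_succ]
    have h := hq1.pow k
    rw [one_pow] at h
    exact ih.add h

theorem gcd_pow_add_one (q m : ℕ) (hq : 1 ≤ q) : Nat.gcd (q ^ m + 1) (q - 1) ∣ 2 := by
  have h1 : q ^ m + 1 ≡ 1 + 1 [MOD (q - 1)] := by
    have h := (modEq_one q (q - 1) hq dvd_rfl).pow m
    rw [one_pow] at h
    exact h.add_right 1
  have hg1 := Nat.gcd_dvd_left (q ^ m + 1) (q - 1)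
  have hg2 := Nat.gcd_dvd_right (q ^ m + 1) (q - 1)
  have h2 := h1.of_dvd hg2
  exact (Nat.modEq_zero_iff_dvd).1 (h2.symm.trans ((Nat.modEq_zero_iff_dvd).2 hg1))

theorem even_pow_add_one (q m : ℕ) (hodd : Odd q) : 2 ∣ q ^ m + 1 := by
  have : Odd (q ^ m) := hodd.pow
  exact even_iff_two_dvd.1 (this.add_one)

theorem padicValNat_add_self (m : ℕ) (hm : 1 ≤ m) :
    padicValNat 2 (m + m) = padicValNat 2 m + 1 := by
  have : Fact (Nat.Prime 2) := ⟨Nat.prime_two⟩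
  rw [← two_mul, padicValNat.mul (by norm_num) (by omega), padicValNat.self (by norm_num), add_comm]

/-- the arithmetic behind the necessity of the two-adic condition -/
theorem two_adic_of_order (q m o : ℕ) (hq : 3 ≤ q) (hodd : Odd q) (hm : 1 ≤ m)
    (ho : o ∣ gs q (m + m)) (h : ∀ j, o ∣ j * (q - 1) → (q ^ m + 1) ∣ j) :
    padicValNat 2 (q - 1) < padicValNat 2 (m + m) := by
  have : Fact (Nat.Prime 2) := ⟨Nat.prime_two⟩
  have hgpos : 0 < gs q (m + m) := gs_pos q (m + m) (by omega)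
  have ho0 : 0 < o := Nat.pos_of_dvd_of_pos ho hgpos
  obtain ⟨e, he⟩ : ∃ e, e = Nat.gcd o (q - 1) := ⟨_, rfl⟩
  have hepos : 0 < e := by rw [he]; exact Nat.gcd_pos_of_pos_left _ ho0
  obtain ⟨o', ho'⟩ : e ∣ o := by rw [he]; exact Nat.gcd_dvd_left o (q - 1)
  obtain ⟨c, hc⟩ : e ∣ q - 1 := by rw [he]; exact Nat.gcd_dvd_right o (q - 1)
  have hcop : Nat.Coprime o' c := by
    have h1 := Nat.coprime_div_gcd_div_gcd (m := o) (n := q - 1) (by rw [← he]; exact hepos)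
    rw [← he] at h1
    have e1 : o / e = o' := Nat.div_eq_of_eq_mul_right hepos ho'
    have e2 : (q - 1) / e = c := Nat.div_eq_of_eq_mul_right hepos hc
    rwa [e1, e2] at h1
  have hN : q ^ m + 1 ∣ o' := by
    apply h
    refine ⟨c, ?_⟩
    calc o' * (q - 1) = o' * (e * c) := by rw [← hc]
      _ = (e * o') * c := by ring
      _ = o * c := by rw [← ho']
  have h2o' : 2 ∣ o' := (even_pow_add_one q m hodd).trans hN
  have hcodd : Nat.Coprime 2 c := by
    rw [Nat.Prime.coprime_iff_not_dvd Nat.prime_two]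
    intro h2c
    have := Nat.dvd_gcd h2o' h2c
    rw [hcop] at this
    omega
  have hb : 2 ^ padicValNat 2 (q - 1) ∣ e := by
    have h1 : 2 ^ padicValNat 2 (q - 1) ∣ e * c := by
      rw [← hc]; exact pow_padicValNat_dvd
    exact (Nat.Coprime.pow_left _ hcodd).dvd_of_dvd_mul_right h1
  have he' : e ∣ gs q m := by
    obtain ⟨t, ht⟩ := hN
    have h1 : (q ^ m + 1) * e ∣ (q ^ m + 1) * gs q m := by
      rw [← gs_add]
      refine Dvd.dvd.trans ?_ ho
      refine ⟨t, ?_⟩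
      rw [ho', ht]; ring
    exact Nat.dvd_of_mul_dvd_mul_left (by positivity) h1
  have hbm : 2 ^ padicValNat 2 (q - 1) ∣ m := by
    have h1 := gs_modEq q (2 ^ padicValNat 2 (q - 1)) m (by omega) pow_padicValNat_dvd
    have h2 : 2 ^ padicValNat 2 (q - 1) ∣ gs q m := hb.trans he'
    exact (Nat.modEq_zero_iff_dvd).1 (h1.symm.trans ((Nat.modEq_zero_iff_dvd).2 h2))
  rw [padicValNat_add_self m hm]
  have := (padicValNat_dvd_iff_le (p := 2) (a := m) (by omega)).1 hbm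
  omega

/-- the arithmetic behind the sufficiency of the two-adic condition -/
theorem order_of_two_adic (q m : ℕ) (hq : 3 ≤ q) (hm : 1 ≤ m)
    (h : padicValNat 2 (q - 1) < padicValNat 2 (m + m)) :
    ∃ o, 0 < o ∧ o ∣ gs q (m + m) ∧ ∀ j, o ∣ j * (q - 1) ↔ (q ^ m + 1) ∣ j := by
  have : Fact (Nat.Prime 2) := ⟨Nat.prime_two⟩
  obtain ⟨b, hb⟩ : ∃ b, b = padicValNat 2 (q - 1) := ⟨_, rfl⟩
  rw [← hb] at h
  have hbq : 2 ^ b ∣ q - 1 := by rw [hb]; exact pow_padicValNat_dvd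
  obtain ⟨c, hc⟩ := hbq
  have hcodd : Nat.Coprime 2 c := by
    rw [Nat.Prime.coprime_iff_not_dvd Nat.prime_two]
    rintro ⟨c', rfl⟩
    have h1 : 2 ^ (b + 1) ∣ q - 1 := ⟨c', by rw [hc, pow_succ]; ring⟩
    have := (padicValNat_dvd_iff_le (p := 2) (a := q - 1) (by omega)).1 h1
    omega
  rw [padicValNat_add_self m hm] at h
  have hbm : 2 ^ b ∣ m := (padicValNat_dvd_iff_le (p := 2) (a := m) (by omega)).2 (by omega)
  have hbg : 2 ^ b ∣ gs q m := by
    have h1 := gs_modEq q (2 ^ b) m (by omega) ⟨c, hc⟩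
    exact (Nat.modEq_zero_iff_dvd).1 (h1.trans ((Nat.modEq_zero_iff_dvd).2 hbm))
  have hNc : Nat.Coprime (q ^ m + 1) c := by
    have h1 : Nat.gcd (q ^ m + 1) c ∣ 2 :=
      (Nat.gcd_dvd_gcd_of_dvd_right _ ⟨2 ^ b, by rw [hc]; ring⟩).trans
        (gcd_pow_add_one q m (by omega))
    rcases (Nat.dvd_prime Nat.prime_two).1 h1 with h2 | h2
    · exact h2
    · exfalso
      have h3 : 2 ∣ c := by rw [← h2]; exact Nat.gcd_dvd_right _ _
      have := Nat.dvd_gcd (dvd_refl 2) h3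
      rw [hcodd] at this
      omega
  refine ⟨(q ^ m + 1) * 2 ^ b, by positivity, ?_, fun j => ?_⟩
  · rw [gs_add]
    exact Nat.mul_dvd_mul_left _ hbg
  · constructor
    · intro h1
      have h2 : 2 ^ b * (q ^ m + 1) ∣ 2 ^ b * (j * c) := by
        have : 2 ^ b * (j * c) = j * (q - 1) := by rw [hc]; ring
        rw [this, mul_comm]; exact h1
      have h3 : q ^ m + 1 ∣ j * c := Nat.dvd_of_mul_dvd_mul_left (by positivity) h2
      exact hNc.dvd_of_dvd_mul_right h3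
    · intro h1
      exact Nat.mul_dvd_mul h1 ⟨c, hc⟩

end Cfsg.Agent.Lib.Helper40.PSLn
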