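import Cfsg.Agent.Lib.Helper40.PSLnGen
import Cfsg.Agent.Lib.Helper40.PSLnNum
import Cfsg.Agent.S2904
set_option autoImplicit false
open Polynomial

namespace Cfsg.Agent.Lib.Helper40.PSLn

open Cfsg.Agent.Lib.Helper40.PG Cfsg.Agent.Lib.Helper40.PSp Cfsg.Agent.Lib.Helper40.PSL3
  Cfsg.Agent.Lib.Helper40.PrimeOrder

/-- a Zsigmondy prime for `q ^ (2 m) - 1` -/
theorem exists_zsig (q m : ℕ) (hq : 3 ≤ q) (hm : 2 ≤ m) :
    ∃ r : ℕ, r.Prime ∧ r ∣ q ^ m + 1 ∧ orderOf ((q : ℕ) : ZMod r) = m + m ∧ ¬ r ∣ q - 1 := by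
  obtain ⟨r, hr, hrd, hprim⟩ := Cfsg.Agent.S2904.result q (m + m) (by omega) (by omega)
    (fun h => by have := h.1; omega) (fun h => by have := h.1; omega)
  refine ⟨r, hr, ?_, ?_, ?_⟩
  · have h1 : q ^ (m + m) - 1 = (q ^ m - 1) * (q ^ m + 1) := by
      have h0 : 1 ≤ q ^ m := Nat.one_le_pow _ _ (by omega)
      rw [pow_add]
      obtain ⟨a, ha⟩ : ∃ a, q ^ m = a + 1 := ⟨q ^ m - 1, by omega⟩
      rw [ha, Nat.add_sub_cancel]
      have : (a + 1) * (a + 1) = a * (a + 1 + 1) + 1 := by ring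
      rw [this, Nat.add_sub_cancel]
    rw [h1] at hrd
    rcases (Nat.Prime.dvd_mul hr).1 hrd with h | h
    · exact absurd h (hprim m (by omega) (by omega))
    · exact h
  · rw [orderOf_eq_iff (by omega)]
    constructor
    · rw [pow_eq_one_zmod_iff q r _ (by omega)]; exact hrd
    · intro k hk hk0
      rw [Ne, pow_eq_one_zmod_iff q r _ (by omega)]
      exact hprim k hk0 hk
  · have := hprim 1 (by omega) (by omega)
    rwa [pow_one] at this

section fin
variable {F : Type*} [Field F] [Fintype F]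

/-- an element of `SL(2m, q)` of projective order `q ^ m + 1` has irreducible characteristic
polynomial -/
theorem charpoly_irreducible (m : ℕ) (hm : 2 ≤ m) (hodd : Odd (Fintype.card F))
    (g : Matrix.SpecialLinearGroup (Fin (m + m)) F)
    (hord : orderOf (QuotientGroup.mk g : Matrix.ProjectiveSpecialLinearGroup (Fin (m + m)) F) =
      Fintype.card F ^ m + 1) :
    Irreducible (g : Matrix (Fin (m + m)) (Fin (m + m)) F).charpoly := by
  classical
  have hq2 : 2 ≤ Fintype.card F := Fintype.one_lt_card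
  have hq3 : 3 ≤ Fintype.card F := by
    rcases hodd with ⟨t, ht⟩
    omega
  obtain ⟨r, hr, hrN, hordr, hrq⟩ := exists_zsig (Fintype.card F) m hq3 hm
  obtain ⟨N₁, hN₁⟩ := hrN
  have hN₁pos : 0 < N₁ := by
    rcases Nat.eq_zero_or_pos N₁ with h | h
    · rw [h, mul_zero] at hN₁; omega
    · exact h
  set A : Matrix (Fin (m + m)) (Fin (m + m)) F := (g : Matrix (Fin (m + m)) (Fin (m + m)) F)
    with hA
  have hgN : g ^ (Fintype.card F ^ m + 1) ∈
      Subgroup.center (Matrix.SpecialLinearGroup (Fin (m + m)) F) := by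
    rw [← QuotientGroup.eq_one_iff, QuotientGroup.mk_pow, ← hord]
    exact pow_orderOf_eq_one _
  have hg1 : g ^ ((Fintype.card F ^ m + 1) * (Fintype.card F - 1)) = 1 := by
    rw [pow_mul]; exact center_SL_pow _ _ hgN
  have hA1 : A ^ ((Fintype.card F ^ m + 1) * (Fintype.card F - 1)) = 1 := by
    rw [hA, ← Matrix.SpecialLinearGroup.coe_pow, hg1]; rfl
  have hA2 : A ^ (N₁ * (Fintype.card F - 1)) ≠ 1 := by
    intro h
    have h1 : g ^ (N₁ * (Fintype.card F - 1)) = 1 := by
      apply Subtype.ext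
      rw [Matrix.SpecialLinearGroup.coe_pow]; exact h
    have h2 : (QuotientGroup.mk g : Matrix.ProjectiveSpecialLinearGroup (Fin (m + m)) F) ^
        (N₁ * (Fintype.card F - 1)) = 1 := by
      rw [← QuotientGroup.mk_pow, h1]; rfl
    have h3 := orderOf_dvd_of_pow_eq_one h2
    rw [hord, hN₁, mul_comm r N₁] at h3
    exact hrq (Nat.dvd_of_mul_dvd_mul_left hN₁pos h3)
  have hNF : (((Fintype.card F ^ m + 1) * (Fintype.card F - 1) : ℕ) : F) ≠ 0 := by
    rw [Nat.cast_mul, Nat.cast_add, Nat.cast_pow, Nat.cast_one, Nat.cast_sub (by omega),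
      Nat.cast_one, FiniteField.cast_card_eq_zero, zero_pow (by omega), zero_add, one_mul, zero_sub]
    exact neg_ne_zero.2 one_ne_zero
  obtain ⟨π, hπm, hπi, hπd, hπN, hπk⟩ := exists_factor_not_dvd A _ hNF hA1 _ hA2
  have hdeg1 := order_dvd_natDegree r (N₁ * (Fintype.card F - 1)) hr
    (Nat.mul_pos hN₁pos (by omega)) π hπm hπi (by rw [← mul_assoc, ← hN₁]; exact hπN) hπk
  rw [hordr] at hdeg1
  have hχdeg : A.charpoly.natDegree = m + m := by
    rw [Matrix.charpoly_natDegree_eq_dim, Fintype.card_fin]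
  have hdeg2 : π.natDegree ≤ m + m := by
    have := Polynomial.natDegree_le_of_dvd hπd (Matrix.charpoly_monic A).ne_zero
    rwa [hχdeg] at this
  have hdeg3 : 0 < π.natDegree := hπi.natDegree_pos
  have hdeg : m + m ≤ π.natDegree := Nat.le_of_dvd hdeg3 hdeg1
  have hχ : A.charpoly = π :=
    Polynomial.eq_of_monic_of_dvd_of_natDegree_le hπm (Matrix.charpoly_monic A) hπd
      (by rw [hχdeg]; exact hdeg)
  rw [hχ]; exact hπi

/-- necessity of the two-adic condition -/
theorem two_adic_of_exists (m : ℕ) (hm : 2 ≤ m) (hodd : Odd (Fintype.card F))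
    (x : Matrix.ProjectiveSpecialLinearGroup (Fin (m + m)) F)
    (hx : orderOf x = Fintype.card F ^ m + 1) :
    padicValNat 2 (Fintype.card F - 1) < padicValNat 2 (m + m) := by
  classical
  have hq2 : 2 ≤ Fintype.card F := Fintype.one_lt_card
  have hq3 : 3 ≤ Fintype.card F := by
    rcases hodd with ⟨t, ht⟩
    omega
  obtain ⟨g, rfl⟩ := QuotientGroup.mk_surjective x
  have hirr := charpoly_irreducible m hm hodd g hx
  set A : Matrix (Fin (m + m)) (Fin (m + m)) F := (g : Matrix (Fin (m + m)) (Fin (m + m)) F)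
    with hA
  obtain ⟨π, hπ⟩ : ∃ π, π = A.charpoly := ⟨_, rfl⟩
  rw [← hπ] at hirr
  have hπm : π.Monic := by rw [hπ]; exact Matrix.charpoly_monic A
  have hdeg : π.natDegree = m + m := by
    rw [hπ, Matrix.charpoly_natDegree_eq_dim, Fintype.card_fin]
  have hc0 : (-1) ^ (m + m) * π.coeff 0 = 1 := by
    have h1 := Matrix.det_eq_sign_charpoly_coeff A
    have hdet : A.det = 1 := g.2
    rw [Fintype.card_fin, hdet, ← hπ] at h1
    exact h1.symm
  have hc0' : π.coeff 0 ≠ 0 := by
    intro h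
    rw [h, mul_zero] at hc0
    exact zero_ne_one hc0
  haveI : Fact (Irreducible π) := ⟨hirr⟩
  have hρ0 : AdjoinRoot.root π ≠ 0 := root_ne_zero π hπm hirr hc0'
  have hsum := root_pow_sum π hπm hirr
  rw [hdeg, hc0, map_one] at hsum
  apply two_adic_of_order (Fintype.card F) m (orderOf (AdjoinRoot.root π)) hq3 hodd (by omega)
    (orderOf_dvd_of_pow_eq_one hsum)
  intro j hj
  rw [← pow_mem_range_iff (AdjoinRoot.root π) hρ0 j] at hj
  obtain ⟨c, hc⟩ := hj
  have h1 : π ∣ X ^ j - C c := (dvd_X_pow_sub_C_iff π hirr j c).2 hc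
  rw [hπ] at h1
  have := orderOf_mk_dvd_of_charpoly_dvd (m + m) g j c h1
  rwa [hx] at this

/-- sufficiency of the two-adic condition -/
theorem exists_of_two_adic (p : ℕ) [Fact p.Prime] [CharP F p] (m : ℕ) (hm : 2 ≤ m)
    (hodd : Odd (Fintype.card F))
    (h : padicValNat 2 (Fintype.card F - 1) < padicValNat 2 (m + m)) :
    ∃ x : Matrix.ProjectiveSpecialLinearGroup (Fin (m + m)) F,
      orderOf x = Fintype.card F ^ m + 1 := by
  classical
  have hq2 : 2 ≤ Fintype.card F := Fintype.one_lt_card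
  have hq3 : 3 ≤ Fintype.card F := by
    rcases hodd with ⟨t, ht⟩
    omega
  have : NeZero (m + m) := ⟨by omega⟩
  letI := Fintype.ofFinite (FiniteField.Extension F p (m + m))
  have hE : Module.finrank F (FiniteField.Extension F p (m + m)) = m + m :=
    FiniteField.finrank_extension F p (m + m)
  have hcE : Fintype.card (FiniteField.Extension F p (m + m)) = Fintype.card F ^ (m + m) := by
    rw [Module.card_eq_pow_finrank (K := F), hE]
  obtain ⟨o, ho0, hog, hoj⟩ := order_of_two_adic (Fintype.card F) m hq3 (by omega) h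
  have hoE : o ∣ Fintype.card (FiniteField.Extension F p (m + m)) - 1 := by
    rw [hcE, ← gs_mul (Fintype.card F) (m + m) (by omega)]
    exact Dvd.dvd.mul_right hog _
  obtain ⟨y, hy0, hy⟩ := exists_orderOf_eq_of_dvd (F := FiniteField.Extension F p (m + m)) o hoE
  have hyg : y ^ gs (Fintype.card F) (m + m) = 1 := by
    rw [← orderOf_dvd_iff_pow_eq_one, hy]; exact hog
  have hnorm : Algebra.norm F y = 1 := by
    apply (algebraMap F (FiniteField.Extension F p (m + m))).injective
    rw [FiniteField.algebraMap_norm_eq_pow_sum, hE, map_one, Nat.card_eq_fintype_card]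
    exact hyg
  have hdet : LinearMap.det (Algebra.lmul F (FiniteField.Extension F p (m + m)) y) = 1 := by
    rw [← Algebra.norm_apply]; exact hnorm
  obtain ⟨g, hg⟩ := exists_SLn_of_linear (m + m) (by omega) hE
    (Algebra.lmul F (FiniteField.Extension F p (m + m)) y) hdet
  refine ⟨QuotientGroup.mk g, orderOf_mk_eq (m + m) g _ fun j => ?_⟩
  rw [hg j, ← hoj j, ← hy, ← pow_mem_range_iff y hy0 j]
  constructor
  · rintro ⟨c, hc⟩
    exact ⟨c, (lmul_pow_eq_smul_iff y j c).1 hc⟩
  · rintro ⟨c, hc⟩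
    exact ⟨c, (lmul_pow_eq_smul_iff y j c).2 hc⟩

end fin

end Cfsg.Agent.Lib.Helper40.PSLn
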