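import Cfsg.Agent.Lib.Helper40.PSLnNum
set_option autoImplicit false

namespace Cfsg.Agent.Lib.Helper40.PSLr

open Cfsg.Agent.Lib.Helper40.PSLn

theorem gs_mul_mul (q d k : ℕ) (hq : 2 ≤ q) : gs q (d * k) = gs (q ^ d) k * gs q d := by
  have h1 := gs_mul q (d * k) (by omega)
  have h2 := gs_mul (q ^ d) k (Nat.one_le_pow _ _ (by omega))
  have h3 := gs_mul q d (by omega)
  have : gs q (d * k) * (q - 1) = gs (q ^ d) k * gs q d * (q - 1) := by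
    rw [h1, mul_assoc, h3, h2, pow_mul]
  exact Nat.eq_of_mul_eq_mul_right (by omega) this

theorem gcd_dvd_gs (q n : ℕ) (hq : 2 ≤ q) : Nat.gcd n (q - 1) ∣ gs q n := by
  have h := gs_modEq q (Nat.gcd n (q - 1)) n (by omega) (Nat.gcd_dvd_right _ _)
  exact (Nat.ModEq.dvd_iff h dvd_rfl).2 (Nat.gcd_dvd_left _ _)

theorem order_dvd (q d k o N : ℕ) (hq : 2 ≤ q)
    (h1 : o ∣ q ^ d - 1) (h2 : o ∣ gs q d * k)
    (hN : N * Nat.gcd (d * k) (q - 1) = gs q (d * k)) :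
    o ∣ N * (q - 1) := by
  have h3 : o ∣ gs q d * (q - 1) := by rw [gs_mul q d (by omega)]; exact h1
  have h4 : o ∣ gs q d * Nat.gcd (q - 1) k := by
    rw [← Nat.gcd_mul_left]; exact Nat.dvd_gcd h3 h2
  have hh1 : Nat.gcd (q - 1) k ∣ q ^ d - 1 :=
    (Nat.gcd_dvd_left _ _).trans (by simpa using Nat.sub_one_dvd_pow_sub_one q d)
  have hR : Nat.gcd (q - 1) k ∣ gs (q ^ d) k := by
    have h := gs_modEq (q ^ d) (Nat.gcd (q - 1) k) k (Nat.one_le_pow _ _ (by omega)) hh1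
    exact (Nat.ModEq.dvd_iff h dvd_rfl).2 (Nat.gcd_dvd_right _ _)
  obtain ⟨R', hR'⟩ := hR
  obtain ⟨g', hg'⟩ := Nat.gcd_dvd_right (d * k) (q - 1)
  refine h4.trans ⟨R' * g', ?_⟩
  calc N * (q - 1) = N * Nat.gcd (d * k) (q - 1) * g' := by
        rw [mul_assoc, ← hg']
    _ = gs (q ^ d) k * gs q d * g' := by rw [hN, gs_mul_mul q d k hq]
    _ = gs q d * Nat.gcd (q - 1) k * (R' * g') := by rw [hR']; ring

theorem singer_dvd_iff (q n N j : ℕ) (hq : 2 ≤ q)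
    (hN : N * Nat.gcd n (q - 1) = gs q n) :
    gs q n ∣ j * (q - 1) ↔ N ∣ j := by
  have hg : Nat.gcd (gs q n) (q - 1) = Nat.gcd n (q - 1) :=
    Nat.ModEq.gcd_eq (gs_modEq q (q - 1) n (by omega) dvd_rfl)
  obtain ⟨Q, hQ⟩ : ∃ Q, Q = q - 1 := ⟨_, rfl⟩
  obtain ⟨S, hS⟩ : ∃ S, S = gs q n := ⟨_, rfl⟩
  rw [← hQ, ← hS] at hg hN ⊢
  have hQpos : 0 < Q := by omega
  obtain ⟨G, hG⟩ : ∃ G, G = Nat.gcd n Q := ⟨_, rfl⟩
  rw [← hG] at hg hN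
  have hgpos : 0 < Nat.gcd S Q := Nat.gcd_pos_of_pos_right _ hQpos
  have hcop := Nat.coprime_div_gcd_div_gcd hgpos
  have hGpos : 0 < G := by rw [← hg]; exact hgpos
  obtain ⟨g', hg'⟩ : G ∣ Q := by rw [← hg]; exact Nat.gcd_dvd_right _ _
  have h1 : S / Nat.gcd S Q = N := by
    rw [hg, ← hN]; exact Nat.mul_div_cancel _ hGpos
  have h2 : Q / Nat.gcd S Q = g' := by
    rw [hg, hg']
    exact Nat.mul_div_cancel_left _ hGpos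
  rw [h1, h2] at hcop
  constructor
  · intro h
    rw [← hN, hg'] at h
    have h3 : N * G ∣ (j * g') * G := by
      have : j * (G * g') = (j * g') * G := by ring
      rwa [this] at h
    have h4 : N ∣ j * g' := Nat.dvd_of_mul_dvd_mul_right hGpos h3
    exact hcop.dvd_of_dvd_mul_right h4
  · rintro ⟨t, rfl⟩
    rw [← hN, hg']
    exact ⟨t * g', by ring⟩

theorem lcm_prime_mul (r x Y : ℕ) (hr : r.Prime) (h : ¬ r ∣ x) :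
    Nat.lcm (r * x) Y = Nat.lcm (Nat.lcm x Y) r := by
  have : r * x = Nat.lcm r x := by
    rw [Nat.Coprime.lcm_eq_mul ((Nat.Prime.coprime_iff_not_dvd hr).2 h)]
  rw [this, Nat.lcm_assoc, Nat.lcm_comm]

theorem prime_pow_dvd_lcm (p v x y : ℕ) (hp : p.Prime) (h : p ^ v ∣ Nat.lcm x y) :
    p ^ v ∣ x ∨ p ^ v ∣ y := by
  rcases Nat.eq_zero_or_pos x with hx | hx
  · left; rw [hx]; exact dvd_zero _
  rcases Nat.eq_zero_or_pos y with hy | hy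
  · right; rw [hy]; exact dvd_zero _
  have hl : Nat.lcm x y ≠ 0 := Nat.lcm_ne_zero hx.ne' hy.ne'
  rw [hp.pow_dvd_iff_le_factorization hl, Nat.factorization_lcm hx.ne' hy.ne'] at h
  rw [hp.pow_dvd_iff_le_factorization hx.ne', hp.pow_dvd_iff_le_factorization hy.ne']
  simpa using h

/-- the common part of the two combinatorial statements -/
theorem split_special (p r N ℓ E : ℕ) (hp : p.Prime) (hr : r.Prime) (hpr : p ≠ r)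
    (hℓ0 : ℓ ≠ 0) (hℓ : ℓ ∣ p ^ E * N) (hrl : ¬ r ∣ ℓ) :
    ∃ v M : ℕ, ℓ = p ^ v * M ∧ M ∣ N ∧ ¬ r ∣ M ∧ Nat.lcm (r * p ^ v) M = Nat.lcm ℓ r ∧
      Nat.lcm (p ^ v) (Nat.lcm M r) = Nat.lcm ℓ r := by
  obtain ⟨v, M, hpM, hvM⟩ := Nat.exists_eq_pow_mul_and_not_dvd hℓ0 p hp.ne_one
  have hMl : M ∣ ℓ := ⟨p ^ v, by rw [hvM]; ring⟩
  have hcop : Nat.Coprime M (p ^ E) :=
    Nat.Coprime.pow_right _ ((Nat.Prime.coprime_iff_not_dvd hp).2 hpM).symm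
  have hMN : M ∣ N := by
    apply hcop.dvd_of_dvd_mul_left
    exact hMl.trans hℓ
  have hrM : ¬ r ∣ M := fun h => hrl (h.trans hMl)
  have hc1 : Nat.Coprime (p ^ v) M :=
    Nat.Coprime.pow_left _ ((Nat.Prime.coprime_iff_not_dvd hp).2 hpM)
  have hc2 : Nat.Coprime (p ^ v) r :=
    Nat.Coprime.pow_left _ ((Nat.coprime_primes hp hr).2 hpr)
  have hc3 : Nat.Coprime M r := ((Nat.Prime.coprime_iff_not_dvd hr).2 hrM).symm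
  have hc4 : Nat.Coprime ℓ r := ((Nat.Prime.coprime_iff_not_dvd hr).2 hrl).symm
  refine ⟨v, M, hvM, hMN, hrM, ?_, ?_⟩
  · rw [hc4.lcm_eq_mul, Nat.Coprime.lcm_eq_mul, hvM]
    · ring
    · exact Nat.Coprime.mul_left hc3.symm hc1
  · rw [hc4.lcm_eq_mul, hc3.lcm_eq_mul, Nat.Coprime.lcm_eq_mul, hvM]
    · ring
    · exact Nat.Coprime.mul_right hc1 hc2

theorem three (Ω : Set ℕ) (p r N : ℕ) (hp : p.Prime) (hr : r.Prime) (hpr : p ≠ r)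
    (hpos : ∀ a ∈ Ω, 0 < a) (hdiv : ∀ a ∈ Ω, ∀ b, b ∣ a → b ∈ Ω)
    (hdich : ∀ a ∈ Ω, ¬ r ∣ a → r * a ∈ Ω ∨ ∃ e, a ∣ p ^ e * N)
    (hN : N ∈ Ω) (hrΩ : r ∈ Ω) (a b c : ℕ) (ha : a ∈ Ω) (hb : b ∈ Ω) (hc : c ∈ Ω) :
    ∃ a' ∈ Ω, ∃ b' ∈ Ω, ∃ c' ∈ Ω,
      Nat.lcm a' (Nat.lcm b' c') = Nat.lcm (Nat.lcm a (Nat.lcm b c)) r := by
  by_cases hrl : r ∣ Nat.lcm a (Nat.lcm b c)
  · exact ⟨a, ha, b, hb, c, hc, (Nat.lcm_eq_left hrl).symm⟩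
  have hra : ¬ r ∣ a := fun h => hrl (h.trans (Nat.dvd_lcm_left _ _))
  have hrb : ¬ r ∣ b := fun h =>
    hrl ((h.trans (Nat.dvd_lcm_left _ _)).trans (Nat.dvd_lcm_right _ _))
  have hrc : ¬ r ∣ c := fun h =>
    hrl ((h.trans (Nat.dvd_lcm_right _ _)).trans (Nat.dvd_lcm_right _ _))
  rcases hdich a ha hra with h1 | ⟨e1, h1⟩
  · exact ⟨r * a, h1, b, hb, c, hc, lcm_prime_mul r a _ hr hra⟩
  rcases hdich b hb hrb with h2 | ⟨e2, h2⟩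
  · refine ⟨a, ha, r * b, h2, c, hc, ?_⟩
    rw [lcm_prime_mul r b c hr hrb, ← Nat.lcm_assoc]
  rcases hdich c hc hrc with h3 | ⟨e3, h3⟩
  · refine ⟨a, ha, b, hb, r * c, h3, ?_⟩
    rw [Nat.lcm_comm b (r * c), lcm_prime_mul r c b hr hrc, Nat.lcm_comm c b, ← Nat.lcm_assoc]
  have hℓ0 : Nat.lcm a (Nat.lcm b c) ≠ 0 :=
    Nat.lcm_ne_zero (hpos a ha).ne' (Nat.lcm_ne_zero (hpos b hb).ne' (hpos c hc).ne')
  have hE : ∀ e, e ≤ e1 + e2 + e3 → p ^ e * N ∣ p ^ (e1 + e2 + e3) * N := fun e he =>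
    Nat.mul_dvd_mul_right (pow_dvd_pow p he) N
  have hℓ : Nat.lcm a (Nat.lcm b c) ∣ p ^ (e1 + e2 + e3) * N :=
    Nat.lcm_dvd (h1.trans (hE e1 (by omega)))
      (Nat.lcm_dvd (h2.trans (hE e2 (by omega))) (h3.trans (hE e3 (by omega))))
  obtain ⟨v, M, hvM, hMN, -, -, hlcm⟩ := split_special p r N _ _ hp hr hpr hℓ0 hℓ hrl
  have hpv : p ^ v ∈ Ω := by
    have h : p ^ v ∣ Nat.lcm a (Nat.lcm b c) := ⟨M, hvM⟩
    rcases prime_pow_dvd_lcm p v _ _ hp h with h | h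
    · exact hdiv a ha _ h
    · rcases prime_pow_dvd_lcm p v _ _ hp h with h | h
      · exact hdiv b hb _ h
      · exact hdiv c hc _ h
  exact ⟨p ^ v, hpv, M, hdiv N hN M hMN, r, hrΩ, hlcm⟩

theorem two (Ω : Set ℕ) (p r N : ℕ) (hp : p.Prime) (hr : r.Prime) (hpr : p ≠ r)
    (hpos : ∀ a ∈ Ω, 0 < a) (hdiv : ∀ a ∈ Ω, ∀ b, b ∣ a → b ∈ Ω)
    (hdich : ∀ a ∈ Ω, ¬ r ∣ a → r * a ∈ Ω ∨ ∃ e, a ∣ p ^ e * N)
    (hN : N ∈ Ω) (hP : ∀ a ∈ Ω, ∀ e, p ^ e ∣ a → r * p ^ e ∈ Ω)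
    (a b : ℕ) (ha : a ∈ Ω) (hb : b ∈ Ω) :
    ∃ a' ∈ Ω, ∃ b' ∈ Ω, Nat.lcm a' b' = Nat.lcm (Nat.lcm a b) r := by
  by_cases hrl : r ∣ Nat.lcm a b
  · exact ⟨a, ha, b, hb, (Nat.lcm_eq_left hrl).symm⟩
  have hra : ¬ r ∣ a := fun h => hrl (h.trans (Nat.dvd_lcm_left _ _))
  have hrb : ¬ r ∣ b := fun h => hrl (h.trans (Nat.dvd_lcm_right _ _))
  rcases hdich a ha hra with h1 | ⟨e1, h1⟩
  · exact ⟨r * a, h1, b, hb, lcm_prime_mul r a _ hr hra⟩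
  rcases hdich b hb hrb with h2 | ⟨e2, h2⟩
  · refine ⟨a, ha, r * b, h2, ?_⟩
    rw [Nat.lcm_comm a (r * b), lcm_prime_mul r b a hr hrb, Nat.lcm_comm b a]
  have hℓ0 : Nat.lcm a b ≠ 0 := Nat.lcm_ne_zero (hpos a ha).ne' (hpos b hb).ne'
  have hE : ∀ e, e ≤ e1 + e2 → p ^ e * N ∣ p ^ (e1 + e2) * N := fun e he =>
    Nat.mul_dvd_mul_right (pow_dvd_pow p he) N
  have hℓ : Nat.lcm a b ∣ p ^ (e1 + e2) * N :=
    Nat.lcm_dvd (h1.trans (hE e1 (by omega))) (h2.trans (hE e2 (by omega)))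
  obtain ⟨v, M, hvM, hMN, -, hlcm, -⟩ := split_special p r N _ _ hp hr hpr hℓ0 hℓ hrl
  have hpv : r * p ^ v ∈ Ω := by
    have h : p ^ v ∣ Nat.lcm a b := ⟨M, hvM⟩
    rcases prime_pow_dvd_lcm p v _ _ hp h with h | h
    · exact hP a ha _ h
    · exact hP b hb _ h
  exact ⟨r * p ^ v, hpv, M, hdiv N hN M hMN, hlcm⟩

end Cfsg.Agent.Lib.Helper40.PSLr
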