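import Cfsg.Agent.Lib.Helper40.PSLnIrr
import Cfsg.Agent.Lib.Helper40.PSLrNum
set_option autoImplicit false
open Polynomial

namespace Cfsg.Agent.Lib.Helper40.PSLr

open Cfsg.Agent.Lib.Helper40.PG Cfsg.Agent.Lib.Helper40.PSLn

section
variable {F : Type*} [Field F] [Fintype F]

theorem expand_card_pow (f : F[X]) (j : ℕ) :
    expand F (Fintype.card F ^ j) f = f ^ (Fintype.card F ^ j) := by
  induction j with
  | zero => simp
  | succ k ih =>
    rw [pow_succ, Polynomial.expand_mul, FiniteField.expand_card, map_pow, ih, ← pow_mul]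

theorem aeval_pow_card (n : ℕ) (A : Matrix (Fin n) (Fin n) F) (f : F[X]) (j : ℕ) :
    aeval (A ^ (Fintype.card F ^ j)) f = aeval A (f ^ (Fintype.card F ^ j)) := by
  rw [← expand_card_pow, Polynomial.expand_aeval]

/-- if a power of an irreducible polynomial kills a matrix of determinant one, then a
`q`-power times the Singer order takes the matrix into the scalars -/
theorem pow_scalar_of_single (n : ℕ) (hn : 0 < n)
    (A : Matrix (Fin n) (Fin n) F) (hdet : A.det = 1) (f : F[X]) (hf : Irreducible f)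
    (a : ℕ) (hfa : aeval A (f ^ a) = 0) (N : ℕ)
    (hN : N * Nat.gcd n (Fintype.card F - 1) = gs (Fintype.card F) n) :
    ∃ j : ℕ, ∃ c : F, A ^ (Fintype.card F ^ j * N) = Matrix.scalar (Fin n) c := by
  classical
  have hq2 : 2 ≤ Fintype.card F := Fintype.one_lt_card
  obtain ⟨q, hq⟩ : ∃ q, q = Fintype.card F := ⟨_, rfl⟩
  have haq : a < Fintype.card F ^ a := Nat.lt_pow_self (by omega)
  obtain ⟨s, hs⟩ : ∃ s, s = A ^ (Fintype.card F ^ a) := ⟨_, rfl⟩
  have hsf : aeval s f = 0 := by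
    rw [hs, aeval_pow_card]
    have : Fintype.card F ^ a = a + (Fintype.card F ^ a - a) := by omega
    rw [this, pow_add, map_mul, hfa, zero_mul]
  have hsdet : s.det = 1 := by rw [hs, Matrix.det_pow, hdet, one_pow]
  haveI : Fact (Irreducible f) := ⟨hf⟩
  have hf0 : f ≠ 0 := hf.ne_zero
  have hI : ∀ g : F[X], g ∈ (Ideal.span {f} : Ideal F[X]) → aeval s g = 0 := by
    intro g hg
    rw [Ideal.mem_span_singleton] at hg
    obtain ⟨c, rfl⟩ := hg
    rw [map_mul, hsf, zero_mul]
  obtain ⟨φ, hφmk⟩ : ∃ φ : AdjoinRoot f →ₐ[F] Matrix (Fin n) (Fin n) F,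
      ∀ g : F[X], φ (AdjoinRoot.mk f g) = aeval s g :=
    ⟨Ideal.Quotient.liftₐ (Ideal.span {f}) (aeval s) hI, fun g => rfl⟩
  have hφ : φ (AdjoinRoot.root f) = s := by
    have := hφmk X
    rwa [aeval_X] at this
  set ψ : AdjoinRoot f →+* Module.End F (Fin n → F) :=
    ((Matrix.toLinAlgEquiv' : Matrix (Fin n) (Fin n) F ≃ₐ[F] _).toAlgHom.comp φ).toRingHom
    with hψdef
  letI : Module (AdjoinRoot f) (Fin n → F) := Module.compHom (Fin n → F) ψ
  have hsmul : ∀ (x : AdjoinRoot f) (v : Fin n → F), x • v = Matrix.toLin' (φ x) v := by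
    intro x v; rfl
  haveI : IsScalarTower F (AdjoinRoot f) (Fin n → F) := by
    apply IsScalarTower.of_algebraMap_smul
    intro c v
    rw [hsmul, AlgHom.commutes, Algebra.algebraMap_eq_smul_one, map_smul, Matrix.toLin'_one]
    rfl
  haveI : Module.Finite F (AdjoinRoot f) := (AdjoinRoot.powerBasis hf0).finite
  haveI : Module.Finite (AdjoinRoot f) (Fin n → F) :=
    Module.Finite.of_restrictScalars_finite F (AdjoinRoot f) (Fin n → F)
  haveI : Finite (AdjoinRoot f) := Module.finite_of_finite F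
  letI : Fintype (AdjoinRoot f) := Fintype.ofFinite _
  obtain ⟨d, hd⟩ : ∃ d, d = Module.finrank F (AdjoinRoot f) := ⟨_, rfl⟩
  obtain ⟨k, hk⟩ : ∃ k, k = Module.finrank (AdjoinRoot f) (Fin n → F) := ⟨_, rfl⟩
  have hdk : n = d * k := by
    have h1 := Module.finrank_mul_finrank F (AdjoinRoot f) (Fin n → F)
    rw [Module.finrank_fin_fun, ← hd, ← hk] at h1
    exact h1.symm
  obtain ⟨θ, hθ⟩ : ∃ θ, θ = AdjoinRoot.root f := ⟨_, rfl⟩
  rw [← hθ] at hφ
  -- the determinant
  have hL : ((θ • (LinearMap.id : (Fin n → F) →ₗ[AdjoinRoot f] (Fin n → F))).restrictScalars F) =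
      Matrix.toLin' s := by
    apply LinearMap.ext
    intro v
    show θ • v = _
    rw [hsmul, hφ]
  have hnorm : (Algebra.norm F θ) ^ k = 1 := by
    have h1 := LinearMap.det_restrictScalars (R := F) (S := AdjoinRoot f) (A := Fin n → F)
      (f := θ • (LinearMap.id : (Fin n → F) →ₗ[AdjoinRoot f] (Fin n → F)))
    rw [hL, LinearMap.det_toLin', hsdet, LinearMap.det_smul, LinearMap.det_id, mul_one, ← hk,
      map_pow] at h1
    exact h1.symm
  have hθ1 : θ ^ (gs (Fintype.card F) d * k) = 1 := by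
    have h1 := congrArg (algebraMap F (AdjoinRoot f)) hnorm
    rw [map_pow, map_one, FiniteField.algebraMap_norm_eq_pow_sum, ← hd, Nat.card_eq_fintype_card,
      ← pow_mul] at h1
    exact h1
  have hθ0 : θ ≠ 0 := by
    intro h
    rw [h, map_zero] at hφ
    rw [← hφ] at hsdet
    haveI : Nonempty (Fin n) := ⟨⟨0, hn⟩⟩
    rw [Matrix.det_zero] at hsdet
    exact zero_ne_one hsdet
  have hcard : Fintype.card (AdjoinRoot f) = Fintype.card F ^ d := by
    rw [Module.card_eq_pow_finrank (K := F), ← hd]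
  have hθ2 : θ ^ (Fintype.card F ^ d - 1) = 1 := by
    rw [← hcard]; exact FiniteField.pow_card_sub_one_eq_one θ hθ0
  have hord : orderOf θ ∣ N * (Fintype.card F - 1) := by
    apply order_dvd (Fintype.card F) d k (orderOf θ) N hq2 (orderOf_dvd_of_pow_eq_one hθ2)
      (orderOf_dvd_of_pow_eq_one hθ1)
    rw [← hdk]; exact hN
  have hθN : (θ ^ N) ^ (Fintype.card F - 1) = 1 := by
    rw [← pow_mul]; exact orderOf_dvd_iff_pow_eq_one.1 hord
  obtain ⟨c, hc⟩ := exists_algebraMap_eq_of_pow_card_sub_one (F := F) (θ ^ N) hθN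
  refine ⟨a, c, ?_⟩
  rw [pow_mul, ← hs, ← hφ, ← map_pow, hc, AlgHom.commutes, Matrix.scalar_apply,
    Algebra.algebraMap_eq_smul_one, Matrix.smul_one_eq_diagonal]

end

end Cfsg.Agent.Lib.Helper40.PSLr
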