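import Cfsg.Agent.Lib.Helper40.PSLnIrr
set_option autoImplicit false
open Polynomial

namespace Cfsg.Agent.Lib.Helper40.PSLr

open Cfsg.Agent.Lib.Helper40.PG Cfsg.Agent.Lib.Helper40.PSLn

section
variable {F : Type*} [Field F] [Fintype F]

/-- when the minimal polynomial has two coprime proper factors, there is a non-scalar element
of order `r` and determinant one commuting with the matrix -/
theorem exists_commuting_of_coprime (n r : ℕ) (hr : r.Prime) (hrq : r ∣ Fintype.card F - 1)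
    (hrn : ¬ r ∣ n) (A : Matrix (Fin n) (Fin n) F) (P Q : F[X]) (hPQ : minpoly F A = P * Q)
    (hcop : IsCoprime P Q) (hP : ¬ IsUnit P) (hQ : ¬ IsUnit Q) :
    ∃ T : Matrix (Fin n) (Fin n) F, T.det = 1 ∧ Commute A T ∧ T ^ r = 1 ∧
      ∀ c : F, Matrix.scalar (Fin n) c ≠ T := by
  classical
  obtain ⟨a, b, hab⟩ := hcop
  obtain ⟨ζ, hζ0, hζ⟩ := exists_orderOf_eq_of_dvd (F := F) r hrq
  have hζr : ζ ^ r = 1 := by rw [← hζ]; exact pow_orderOf_eq_one ζ
  have hmin0 : minpoly F A ≠ 0 := minpoly.ne_zero (Matrix.isIntegral A)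
  have hQ0 : Q ≠ 0 := by
    rintro rfl
    rw [mul_zero] at hPQ
    exact hmin0 hPQ
  have hP0 : P ≠ 0 := by
    rintro rfl
    rw [zero_mul] at hPQ
    exact hmin0 hPQ
  obtain ⟨e1, he1⟩ : ∃ e1, e1 = aeval A (b * Q) := ⟨_, rfl⟩
  obtain ⟨e2, he2⟩ : ∃ e2, e2 = aeval A (a * P) := ⟨_, rfl⟩
  have h12 : e1 + e2 = 1 := by
    rw [he1, he2, ← map_add, add_comm, hab, map_one]
  have hz12 : e1 * e2 = 0 := by
    rw [he1, he2, ← map_mul]
    have : b * Q * (a * P) = a * b * minpoly F A := by rw [hPQ]; ring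
    rw [this, map_mul, minpoly.aeval, mul_zero]
  have hz21 : e2 * e1 = 0 := by
    rw [he1, he2, ← map_mul, mul_comm, map_mul, ← he1, ← he2, hz12]
  have h11 : e1 * e1 = e1 := by
    have : e1 * (e1 + e2) = e1 := by rw [h12, mul_one]
    rwa [mul_add, hz12, add_zero] at this
  have h22 : e2 * e2 = e2 := by
    have : e2 * (e1 + e2) = e2 := by rw [h12, mul_one]
    rwa [mul_add, hz21, zero_add] at this
  have hne1 : e1 ≠ 0 := by
    intro h
    rw [he1] at h
    have h1 := minpoly.dvd F A h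
    rw [hPQ] at h1
    have h2 : P ∣ b := (mul_dvd_mul_iff_right hQ0).1 h1
    have h3 : P ∣ a * P + b * Q := dvd_add (dvd_mul_left _ _) (h2.mul_right _)
    rw [hab] at h3
    exact hP (isUnit_of_dvd_one h3)
  have hne2 : e2 ≠ 0 := by
    intro h
    rw [he2] at h
    have h1 := minpoly.dvd F A h
    rw [hPQ, mul_comm P Q] at h1
    have h2 : Q ∣ a := (mul_dvd_mul_iff_right hP0).1 h1
    have h3 : Q ∣ a * P + b * Q := dvd_add (h2.mul_right _) (dvd_mul_left _ _)
    rw [hab] at h3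
    exact hQ (isUnit_of_dvd_one h3)
  have hcA : ∀ p : F[X], Commute A (aeval A p) := fun p => by
    have := (Polynomial.commute_X p).map (aeval A)
    rwa [aeval_X] at this
  have hcA1 : Commute A e1 := by rw [he1]; exact hcA _
  have hcA2 : Commute A e2 := by rw [he2]; exact hcA _
  obtain ⟨T, hT⟩ : ∃ T : ℕ → ℕ → Matrix (Fin n) (Fin n) F,
      ∀ x y, T x y = ζ ^ x • e1 + ζ ^ y • e2 := ⟨_, fun _ _ => rfl⟩
  have hTmul : ∀ x y x' y', T x y * T x' y' = T (x + x') (y + y') := by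
    intro x y x' y'
    rw [hT, hT, hT]
    simp only [add_mul, mul_add, smul_mul_assoc, mul_smul_comm, smul_smul, h11, h22, hz12, hz21,
      smul_zero, add_zero, zero_add, pow_add]
    rw [mul_comm (ζ ^ x') (ζ ^ x), mul_comm (ζ ^ y') (ζ ^ y)]
  have hT0 : T 0 0 = 1 := by rw [hT, pow_zero, one_smul, one_smul, h12]
  have hTpow : ∀ x y j, T x y ^ j = T (j * x) (j * y) := by
    intro x y j
    induction j with
    | zero => rw [pow_zero, zero_mul, zero_mul, hT0]
    | succ k ih => rw [pow_succ, ih, hTmul, Nat.succ_mul, Nat.succ_mul]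
  have hTr : ∀ x y, T (r * x) (r * y) = 1 := by
    intro x y
    rw [hT, pow_mul, pow_mul, hζr, one_pow, one_pow, one_smul, one_smul, h12]
  have hTcomm : ∀ x y, Commute A (T x y) := by
    intro x y
    rw [hT]
    exact (hcA1.smul_right _).add_right (hcA2.smul_right _)
  -- determinants
  have hprim : IsPrimitiveRoot ζ r := by rw [← hζ]; exact IsPrimitiveRoot.orderOf ζ
  haveI : NeZero r := ⟨hr.ne_zero⟩
  have hdetpow : ∀ x y, (T x y).det ^ r = 1 := by
    intro x y
    rw [← Matrix.det_pow, hTpow, hTr, Matrix.det_one]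
  obtain ⟨c1, -, hc1⟩ := hprim.eq_pow_of_pow_eq_one (hdetpow 1 0)
  obtain ⟨c2, -, hc2⟩ := hprim.eq_pow_of_pow_eq_one (hdetpow 0 1)
  have hdet : ∀ x y, (T x y).det = ζ ^ (c1 * x + c2 * y) := by
    intro x y
    have h1 : T x y = T 1 0 ^ x * T 0 1 ^ y := by
      rw [hTpow, hTpow, hTmul]
      simp
    rw [h1, Matrix.det_mul, Matrix.det_pow, Matrix.det_pow, ← hc1, ← hc2, ← pow_mul, ← pow_mul,
      ← pow_add]
  -- the non-scalar criterion
  have hscal : ∀ x y, (T x y).det = 1 → (∃ c : F, Matrix.scalar (Fin n) c = T x y) →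
      r ∣ x ∧ r ∣ y := by
    intro x y hd ⟨c, hc⟩
    have hc' : c • (1 : Matrix (Fin n) (Fin n) F) = T x y := by
      rw [← hc, Matrix.scalar_apply, Matrix.smul_one_eq_diagonal]
    have hx : c = ζ ^ x := by
      have h1 : (c • (1 : Matrix (Fin n) (Fin n) F)) * e1 = T x y * e1 := by rw [hc']
      rw [hT, add_mul, smul_mul_assoc, smul_mul_assoc, smul_mul_assoc, one_mul, h11, hz21,
        smul_zero, add_zero] at h1
      have h2 : (c - ζ ^ x) • e1 = 0 := by rw [sub_smul, h1, sub_self]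
      rcases smul_eq_zero.1 h2 with h3 | h3
      · exact sub_eq_zero.1 h3
      · exact absurd h3 hne1
    have hy : c = ζ ^ y := by
      have h1 : (c • (1 : Matrix (Fin n) (Fin n) F)) * e2 = T x y * e2 := by rw [hc']
      rw [hT, add_mul, smul_mul_assoc, smul_mul_assoc, smul_mul_assoc, one_mul, h22, hz12,
        smul_zero, zero_add] at h1
      have h2 : (c - ζ ^ y) • e2 = 0 := by rw [sub_smul, h1, sub_self]
      rcases smul_eq_zero.1 h2 with h3 | h3
      · exact sub_eq_zero.1 h3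
      · exact absurd h3 hne2
    have hdc : c ^ n = 1 := by
      rw [← hd, ← hc', Matrix.det_smul, Matrix.det_one, mul_one, Fintype.card_fin]
    constructor
    · rw [hx, ← pow_mul, ← orderOf_dvd_iff_pow_eq_one, hζ] at hdc
      rcases (Nat.Prime.dvd_mul hr).1 hdc with h | h
      · exact h
      · exact absurd h hrn
    · rw [hy, ← pow_mul, ← orderOf_dvd_iff_pow_eq_one, hζ] at hdc
      rcases (Nat.Prime.dvd_mul hr).1 hdc with h | h
      · exact h
      · exact absurd h hrn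
  by_cases hrc1 : r ∣ c1
  · have hd : (T 1 0).det = 1 := by
      rw [hdet, mul_one, mul_zero, add_zero, ← orderOf_dvd_iff_pow_eq_one, hζ]; exact hrc1
    refine ⟨T 1 0, hd, hTcomm 1 0, ?_, ?_⟩
    · rw [hTpow, hTr]
    · intro c hc
      have := (hscal 1 0 hd ⟨c, hc⟩).1
      exact hr.one_lt.ne' (Nat.dvd_one.1 this)
  · have hd : (T c2 ((r - 1) * c1)).det = 1 := by
      rw [hdet, ← orderOf_dvd_iff_pow_eq_one, hζ]
      refine ⟨c1 * c2, ?_⟩
      have h1 : 1 ≤ r := hr.one_lt.le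
      obtain ⟨s, hs⟩ : ∃ s, r = s + 1 := ⟨r - 1, by omega⟩
      rw [hs, Nat.add_sub_cancel]
      ring
    refine ⟨T c2 ((r - 1) * c1), hd, hTcomm _ _, ?_, ?_⟩
    · rw [hTpow, hTr]
    · intro c hc
      have := (hscal _ _ hd ⟨c, hc⟩).2
      rcases (Nat.Prime.dvd_mul hr).1 this with h | h
      · have h2 := Nat.le_of_dvd (by have := hr.two_le; omega) h
        have := hr.two_le
        omega
      · exact hrc1 h

end

end Cfsg.Agent.Lib.Helper40.PSLr
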