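import Cfsg.Agent.Lib.Helper40.PSL2kMat
import Cfsg.Agent.Lib.Helper40.PSLrNum
set_option autoImplicit false
open Polynomial

namespace Cfsg.Agent.Lib.Helper40.PSLr

open Cfsg.Agent.Lib.Helper40.PG Cfsg.Agent.Lib.Helper40.PSp Cfsg.Agent.Lib.Helper40.PSL3
  Cfsg.Agent.Lib.Helper40.PrimeOrder Cfsg.Agent.Lib.Helper40.PSLn Cfsg.Agent.Lib.Helper40.PSL2k

section
variable {F : Type*} [Field F] [Fintype F]

/-- the Singer element of `PSL(n, q)` -/
theorem exists_singer (p : ℕ) [Fact p.Prime] [CharP F p] (n : ℕ) (hn : 0 < n) (N : ℕ)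
    (hN : N * Nat.gcd n (Fintype.card F - 1) = gs (Fintype.card F) n) :
    ∃ x : Matrix.ProjectiveSpecialLinearGroup (Fin n) F, orderOf x = N := by
  classical
  have hq2 : 2 ≤ Fintype.card F := Fintype.one_lt_card
  have : NeZero n := ⟨by omega⟩
  letI := Fintype.ofFinite (FiniteField.Extension F p n)
  have hE : Module.finrank F (FiniteField.Extension F p n) = n :=
    FiniteField.finrank_extension F p n
  have hcE : Fintype.card (FiniteField.Extension F p n) = Fintype.card F ^ n := by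
    rw [Module.card_eq_pow_finrank (K := F), hE]
  have hoE : gs (Fintype.card F) n ∣ Fintype.card (FiniteField.Extension F p n) - 1 := by
    rw [hcE, ← gs_mul (Fintype.card F) n (by omega)]
    exact Dvd.intro _ rfl
  obtain ⟨y, hy0, hy⟩ := exists_orderOf_eq_of_dvd (F := FiniteField.Extension F p n) _ hoE
  have hyg : y ^ gs (Fintype.card F) n = 1 := by
    rw [← orderOf_dvd_iff_pow_eq_one, hy]
  have hnorm : Algebra.norm F y = 1 := by
    apply (algebraMap F (FiniteField.Extension F p n)).injective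
    rw [FiniteField.algebraMap_norm_eq_pow_sum, hE, map_one, Nat.card_eq_fintype_card]
    exact hyg
  have hdet : LinearMap.det (Algebra.lmul F (FiniteField.Extension F p n) y) = 1 := by
    rw [← Algebra.norm_apply]; exact hnorm
  obtain ⟨g, hg⟩ := exists_SLn_of_linear n hn hE
    (Algebra.lmul F (FiniteField.Extension F p n) y) hdet
  refine ⟨QuotientGroup.mk g, orderOf_mk_eq n g _ fun j => ?_⟩
  rw [hg j, ← singer_dvd_iff (Fintype.card F) n N j hq2 hN, ← hy, ← pow_mem_range_iff y hy0 j]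
  constructor
  · rintro ⟨c, hc⟩
    exact ⟨c, (lmul_pow_eq_smul_iff y j c).1 hc⟩
  · rintro ⟨c, hc⟩
    exact ⟨c, (lmul_pow_eq_smul_iff y j c).2 hc⟩

/-- a matrix of `p`-power order is killed by any `p`-power exponent at least `n` -/
theorem pow_p_pow_eq_one (p : ℕ) [Fact p.Prime] [CharP F p] {n : ℕ} (hn : 0 < n)
    (A : Matrix (Fin n) (Fin n) F) (e : ℕ) (h1 : A ^ (p ^ e) = 1) (b : ℕ) (hb : n ≤ p ^ b) :
    A ^ (p ^ b) = 1 := by
  classical
  haveI : Nonempty (Fin n) := ⟨⟨0, hn⟩⟩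
  have hc : Commute A (1 : Matrix (Fin n) (Fin n) F) := Commute.one_right A
  have h2 : (A - 1) ^ (p ^ e) = 0 := by
    rw [sub_pow_char_pow_of_commute p e hc, h1, one_pow, sub_self]
  set φ : Module.End F (Fin n → F) := Matrix.toLin' (A - 1) with hφ
  have hnil : IsNilpotent φ := ⟨p ^ e, by rw [hφ, ← Matrix.toLin'_pow, h2, map_zero]⟩
  have hch := (LinearMap.isNilpotent_iff_charpoly φ).1 hnil
  have h3 : φ ^ n = 0 := by
    have h4 := LinearMap.aeval_self_charpoly φ
    rw [hch, Module.finrank_pi, Fintype.card_fin, map_pow, aeval_X] at h4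
    exact h4
  have h5 : (A - 1) ^ n = 0 := by
    apply Matrix.toLin'.injective
    rw [Matrix.toLin'_pow, ← hφ, h3, map_zero]
  have h6 : (A - 1) ^ (p ^ b) = 0 := by
    obtain ⟨t, ht⟩ := Nat.exists_eq_add_of_le hb
    rw [ht, pow_add, h5, zero_mul]
  rw [sub_pow_char_pow_of_commute p b hc, one_pow, sub_eq_zero] at h6
  exact h6

/-- the `p`-part of an element order of `PSL(n, q)` is at most the least `p`-power `≥ n` -/
theorem p_part_dvd (p : ℕ) [Fact p.Prime] [CharP F p] {n : ℕ} (hn : 0 < n)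
    (x : Matrix.ProjectiveSpecialLinearGroup (Fin n) F) (e b : ℕ) (he : p ^ e ∣ orderOf x)
    (hb : n ≤ p ^ b) : e ≤ b := by
  classical
  have hp : p.Prime := Fact.out
  have hq2 : 2 ≤ Fintype.card F := Fintype.one_lt_card
  obtain ⟨g, rfl⟩ := QuotientGroup.mk_surjective x
  obtain ⟨o, ho⟩ : ∃ o, o = orderOf (QuotientGroup.mk g :
      Matrix.ProjectiveSpecialLinearGroup (Fin n) F) := ⟨_, rfl⟩
  rw [← ho] at he
  have hopos : 0 < o := by rw [ho]; exact orderOf_pos _
  obtain ⟨v, M, hpM, hvM⟩ := Nat.exists_eq_pow_mul_and_not_dvd hopos.ne' p hp.ne_one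
  have hgo : g ^ o ∈ Subgroup.center (Matrix.SpecialLinearGroup (Fin n) F) := by
    rw [← QuotientGroup.eq_one_iff, QuotientGroup.mk_pow, ho]
    exact pow_orderOf_eq_one _
  have hg1 : g ^ (o * (Fintype.card F - 1)) = 1 := by
    rw [pow_mul]; exact center_SL_pow _ _ hgo
  set A : Matrix (Fin n) (Fin n) F := (g : Matrix (Fin n) (Fin n) F) with hA
  have hA1 : (A ^ (M * (Fintype.card F - 1))) ^ (p ^ v) = 1 := by
    rw [← pow_mul, hA, ← Matrix.SpecialLinearGroup.coe_pow]
    have : M * (Fintype.card F - 1) * p ^ v = o * (Fintype.card F - 1) := by rw [hvM]; ring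
    rw [this, hg1]; rfl
  have hA2 := pow_p_pow_eq_one p hn (A ^ (M * (Fintype.card F - 1))) v hA1 b hb
  have hg2 : g ^ (M * (Fintype.card F - 1) * p ^ b) = 1 := by
    apply Subtype.ext
    rw [Matrix.SpecialLinearGroup.coe_pow, pow_mul]; exact hA2
  have h3 : o ∣ M * (Fintype.card F - 1) * p ^ b := by
    rw [ho]
    apply orderOf_dvd_of_pow_eq_one
    rw [← QuotientGroup.mk_pow, hg2]; rfl
  -- p ^ v ∣ (q - 1) * p ^ b
  have h4 : p ^ v ∣ (Fintype.card F - 1) * p ^ b := by
    rw [hvM] at h3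
    have h5 : M * p ^ v ∣ M * ((Fintype.card F - 1) * p ^ b) := by
      have : M * (Fintype.card F - 1) * p ^ b = M * ((Fintype.card F - 1) * p ^ b) := by ring
      rw [mul_comm (p ^ v) M, this] at h3; exact h3
    have hMpos : 0 < M := by
      rcases Nat.eq_zero_or_pos M with h | h
      · rw [h, mul_zero] at hvM; omega
      · exact h
    exact Nat.dvd_of_mul_dvd_mul_left hMpos h5
  have hpq : ¬ p ∣ Fintype.card F - 1 := by
    intro h
    have h6 : p ∣ Fintype.card F := by
      have := FiniteField.cast_card_eq_zero F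
      exact (CharP.cast_eq_zero_iff F p _).1 this
    have h7 : p ∣ 1 := by
      have h8 : p ∣ Fintype.card F - (Fintype.card F - 1) := Nat.dvd_sub h6 h
      have h9 : Fintype.card F - (Fintype.card F - 1) = 1 := by omega
      rwa [h9] at h8
    exact hp.one_lt.ne' (Nat.dvd_one.1 h7)
  have hcop : Nat.Coprime (p ^ v) (Fintype.card F - 1) :=
    Nat.Coprime.pow_left _ ((Nat.Prime.coprime_iff_not_dvd hp).2 hpq)
  have h10 : p ^ v ∣ p ^ b := hcop.dvd_of_dvd_mul_left h4
  have h11 : v ≤ b := (Nat.pow_dvd_pow_iff_le_right hp.one_lt).1 h10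
  have h12 : e ≤ v := by
    rw [hvM] at he
    have hcop2 : Nat.Coprime (p ^ e) M :=
      Nat.Coprime.pow_left _ ((Nat.Prime.coprime_iff_not_dvd hp).2 hpM)
    have := hcop2.dvd_of_dvd_mul_right he
    exact (Nat.pow_dvd_pow_iff_le_right hp.one_lt).1 this
  omega

end

end Cfsg.Agent.Lib.Helper40.PSLr
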