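import Cfsg.Agent.Lib.Helper40.PSLrW
import Cfsg.Agent.Lib.Helper40.PSLrC1
import Cfsg.Agent.Lib.Helper40.PSLrC2
set_option autoImplicit false
open Polynomial

namespace Cfsg.Agent.Lib.Helper40.PSLr

open Cfsg.Agent.Lib.Helper40.PG Cfsg.Agent.Lib.Helper40.PSp Cfsg.Agent.Lib.Helper40.PSL3
  Cfsg.Agent.Lib.Helper40.PrimeOrder Cfsg.Agent.Lib.Helper40.PSLn Cfsg.Agent.Lib.Helper40.PSL2k

section grp

theorem mem_range_of_dvd {G : Type*} [Group G] [Finite G] (a b : ℕ)
    (ha : a ∈ Set.range (orderOf : G → ℕ)) (hb : b ∣ a) : b ∈ Set.range (orderOf : G → ℕ) := by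
  obtain ⟨x, rfl⟩ := ha
  have hpos : 0 < orderOf x := orderOf_pos x
  obtain ⟨c, hc⟩ := hb
  have hc0 : c ≠ 0 := by
    rintro rfl
    rw [mul_zero] at hc; omega
  refine ⟨x ^ c, ?_⟩
  rw [orderOf_pow_of_dvd hc0 ⟨b, by rw [hc, mul_comm]⟩, hc]
  exact Nat.mul_div_cancel _ (Nat.pos_of_ne_zero hc0)

theorem orderOf_zmod_pi (r m : ℕ) (hr : r.Prime) (w : Multiplicative (Fin m → ZMod r)) :
    orderOf w = 1 ∨ orderOf w = r := by
  have h : w ^ r = 1 := by
    apply Multiplicative.toAdd.injective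
    rw [toAdd_pow, toAdd_one]
    funext i
    rw [Pi.smul_apply, nsmul_eq_mul, ZMod.natCast_self, zero_mul, Pi.zero_apply]
  exact (Nat.dvd_prime hr).1 (orderOf_dvd_of_pow_eq_one h)

end grp

section
variable {F : Type*} [Field F] [Fintype F]

/-- the dichotomy for element orders of `PSL(n, q)` prime to `r` -/
theorem dichotomy (p a : ℕ) (hF : Fintype.card F = p ^ a) (n r : ℕ) (hn : 0 < n)
    (hr : r.Prime) (hrq : r ∣ Fintype.card F - 1) (hrn : ¬ r ∣ n) (N : ℕ)
    (hN : N * Nat.gcd n (Fintype.card F - 1) = gs (Fintype.card F) n)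
    (x : Matrix.ProjectiveSpecialLinearGroup (Fin n) F) (hx : ¬ r ∣ orderOf x) :
    r * orderOf x ∈ Set.range (orderOf : Matrix.ProjectiveSpecialLinearGroup (Fin n) F → ℕ) ∨
      ∃ e, orderOf x ∣ p ^ e * N := by
  classical
  haveI : Nonempty (Fin n) := ⟨⟨0, hn⟩⟩
  obtain ⟨g, rfl⟩ := QuotientGroup.mk_surjective x
  obtain ⟨A, hA⟩ : ∃ A : Matrix (Fin n) (Fin n) F, A = (g : Matrix (Fin n) (Fin n) F) := ⟨_, rfl⟩
  have hAdet : A.det = 1 := by rw [hA]; exact g.2
  have hμ0 : minpoly F A ≠ 0 := minpoly.ne_zero (Matrix.isIntegral A)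
  have hμu : ¬ IsUnit (minpoly F A) := minpoly.not_isUnit F A
  obtain ⟨f, hfm, hfi, hfd⟩ := Polynomial.exists_monic_irreducible_factor _ hμu
  have hfin : FiniteMultiplicity f (minpoly F A) :=
    FiniteMultiplicity.of_not_isUnit hfi.not_isUnit hμ0
  obtain ⟨Q, hμ, hQ⟩ := hfin.exists_eq_pow_mul_and_not_dvd
  obtain ⟨k, hk⟩ : ∃ k, k = multiplicity f (minpoly F A) := ⟨_, rfl⟩
  rw [← hk] at hμ
  by_cases hQu : IsUnit Q
  · right
    obtain ⟨Q', hQ'⟩ := hQu.exists_right_inv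
    have hfa : aeval A (f ^ k) = 0 := by
      have h1 : f ^ k = minpoly F A * Q' := by rw [hμ, mul_assoc, hQ', mul_one]
      rw [h1, map_mul, minpoly.aeval, zero_mul]
    obtain ⟨j, c, hjc⟩ := pow_scalar_of_single n hn A hAdet f hfi k hfa N hN
    refine ⟨a * j, ?_⟩
    apply orderOf_dvd_of_pow_eq_one
    rw [← QuotientGroup.mk_pow, QuotientGroup.eq_one_iff]
    apply mem_center_of_eq_scalar n _ c
    rw [Matrix.SpecialLinearGroup.coe_pow, ← hA, pow_mul p, ← hF, hjc]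
  · left
    have hk0 : k ≠ 0 := by
      rintro rfl
      rw [pow_zero, one_mul] at hμ
      rw [hμ] at hfd
      exact hQ hfd
    have hPu : ¬ IsUnit (f ^ k) := by
      rw [isUnit_pow_iff hk0]; exact hfi.not_isUnit
    have hcop : IsCoprime (f ^ k) Q := (hfi.coprime_iff_not_dvd.2 hQ).pow_left
    obtain ⟨T, hTdet, hTc, hTr, hTs⟩ :=
      exists_commuting_of_coprime n r hr hrq hrn A (f ^ k) Q hμ hcop hPu hQu
    obtain ⟨t, ht⟩ : ∃ t : Matrix.SpecialLinearGroup (Fin n) F,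
        (t : Matrix (Fin n) (Fin n) F) = T := ⟨⟨T, hTdet⟩, rfl⟩
    have htr : t ^ r = 1 := by
      apply Subtype.ext
      rw [Matrix.SpecialLinearGroup.coe_pow, ht, hTr]; rfl
    have hcomm : Commute g t := by
      apply Subtype.ext
      rw [Matrix.SpecialLinearGroup.coe_mul, Matrix.SpecialLinearGroup.coe_mul, ht, ← hA]
      exact hTc
    haveI : Fact r.Prime := ⟨hr⟩
    have hord : orderOf (QuotientGroup.mk t : Matrix.ProjectiveSpecialLinearGroup (Fin n) F) = r := by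
      apply orderOf_eq_prime
      · rw [← QuotientGroup.mk_pow, htr]; rfl
      · intro h
        rw [QuotientGroup.eq_one_iff, PSLn.mem_center_iff_exists_scalar] at h
        obtain ⟨c, hc⟩ := h
        rw [ht] at hc
        exact hTs c hc
    have hcomm' : Commute (QuotientGroup.mk g : Matrix.ProjectiveSpecialLinearGroup (Fin n) F)
        (QuotientGroup.mk t) := by
      rw [Commute, SemiconjBy, ← QuotientGroup.mk_mul, ← QuotientGroup.mk_mul, hcomm.eq]
    have hco : (orderOf (QuotientGroup.mk g : Matrix.ProjectiveSpecialLinearGroup (Fin n) F)).Coprime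
        (orderOf (QuotientGroup.mk t : Matrix.ProjectiveSpecialLinearGroup (Fin n) F)) := by
      rw [hord]
      exact ((Nat.Prime.coprime_iff_not_dvd hr).2 hx).symm
    refine ⟨QuotientGroup.mk g * QuotientGroup.mk t, ?_⟩
    rw [hcomm'.orderOf_mul_eq_mul_orderOf_of_coprime hco, hord, mul_comm]

end

end Cfsg.Agent.Lib.Helper40.PSLr
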