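import Cfsg.Agent.Lib.Helper40.PSLrEx
set_option autoImplicit false
open Polynomial

namespace Cfsg.Agent.Lib.Helper40.PSLr

open Cfsg.Agent.Lib.Helper40.PG Cfsg.Agent.Lib.Helper40.PSp Cfsg.Agent.Lib.Helper40.PSL3
  Cfsg.Agent.Lib.Helper40.PrimeOrder Cfsg.Agent.Lib.Helper40.PSLn Cfsg.Agent.Lib.Helper40.PSL2k

section
variable {F : Type*} [Field F] [Fintype F]

omit [Fintype F] in
theorem prodMap_toLin_pow_apply (m : ℕ) (B : Matrix (Fin m) (Fin m) F) (η : F) (j : ℕ)
    (x : Fin m → F) (t : F) :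
    ((LinearMap.prodMap (Matrix.toLin' B) (η • (LinearMap.id : F →ₗ[F] F))) ^ j) (x, t) =
      (Matrix.toLin' (B ^ j) x, η ^ j * t) := by
  induction j generalizing x t with
  | zero => simp
  | succ k ih =>
    rw [pow_succ, Module.End.mul_apply, LinearMap.prodMap_apply, ih, pow_succ, Matrix.toLin'_mul]
    simp only [LinearMap.smul_apply, LinearMap.id_coe, id_eq, smul_eq_mul, LinearMap.comp_apply]
    rw [pow_succ, mul_assoc]

/-- an element of order `r p ^ e` in `PSL(m + 1, q)`, where `p ^ e` is the least power of `p`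
with `m ≤ p ^ e` -/
theorem exists_unip_torus (p : ℕ) [Fact p.Prime] [CharP F p] (m r : ℕ) (hm : 1 ≤ m)
    (hr : r.Prime) (hrq : r ∣ Fintype.card F - 1) (hrn : ¬ r ∣ m + 1) (hrp : r ≠ p) (e : ℕ)
    (he : m ≤ p ^ e) (hmin : ∀ e', m ≤ p ^ e' → e ≤ e') :
    ∃ w : Matrix.ProjectiveSpecialLinearGroup (Fin (m + 1)) F, orderOf w = r * p ^ e := by
  classical
  have hp : p.Prime := Fact.out
  haveI : Nonempty (Fin m) := ⟨⟨0, hm⟩⟩
  obtain ⟨ζ, hζ0, hζ⟩ := exists_orderOf_eq_of_dvd (F := F) r hrq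
  obtain ⟨U, hU⟩ : ∃ U : Matrix (Fin m) (Fin m) F, U = 1 + shiftMat m F := ⟨_, rfl⟩
  have hpow : ∀ t : ℕ, U ^ (p ^ t) = 1 + shiftMat m F ^ (p ^ t) := by
    intro t
    rw [hU, add_pow_char_pow_of_commute p t (Commute.one_left _), one_pow]
  have hJ : ∀ t : ℕ, U ^ (p ^ t) = 1 ↔ m ≤ p ^ t := by
    intro t
    rw [hpow, ← shiftMat_pow_eq_zero_iff (F := F) m (p ^ t) hm]
    constructor
    · intro h
      have := congrArg (fun M => M - 1) h
      simpa using this
    · intro h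
      rw [h, add_zero]
  have hUe : U ^ (p ^ e) = 1 := (hJ e).2 he
  have hUdet : U.det = 1 := by
    have h1 : U.det ^ (p ^ e) = 1 := by rw [← Matrix.det_pow, hUe, Matrix.det_one]
    have h2 : (U.det - 1) ^ (p ^ e) = 0 := by
      rw [sub_pow_char_pow, h1, one_pow, sub_self]
    exact sub_eq_zero.1 (pow_eq_zero_iff (pow_ne_zero _ hp.ne_zero) |>.1 h2)
  obtain ⟨η, hη⟩ : ∃ η : F, η = (ζ ^ m)⁻¹ := ⟨_, rfl⟩
  have hηζ : η * ζ ^ m = 1 := by rw [hη]; exact inv_mul_cancel₀ (pow_ne_zero _ hζ0)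
  set f : ((Fin m → F) × F) →ₗ[F] ((Fin m → F) × F) :=
    LinearMap.prodMap (Matrix.toLin' (ζ • U)) (η • (LinearMap.id : F →ₗ[F] F)) with hf
  have hdet : LinearMap.det f = 1 := by
    rw [hf, LinearMap.det_prodMap, LinearMap.det_toLin', Matrix.det_smul, hUdet, mul_one,
      Fintype.card_fin, LinearMap.det_smul, Module.finrank_self, pow_one, LinearMap.det_id, mul_one,
      mul_comm]
    exact hηζ
  have hV : Module.finrank F ((Fin m → F) × F) = m + 1 := by
    rw [Module.finrank_prod, Module.finrank_fin_fun, Module.finrank_self]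
  obtain ⟨g, hg⟩ := exists_SLn_of_linear (m + 1) (by omega) hV f hdet
  refine ⟨QuotientGroup.mk g, orderOf_mk_eq (m + 1) g _ fun j => ?_⟩
  rw [hg j]
  have hfpow : ∀ (x : Fin m → F) (t : F),
      (f ^ j) (x, t) = (Matrix.toLin' ((ζ • U) ^ j) x, η ^ j * t) := fun x t =>
    prodMap_toLin_pow_apply m (ζ • U) η j x t
  have hcop : Nat.Coprime r (p ^ e) :=
    Nat.Coprime.pow_right _ ((Nat.coprime_primes hr hp).2 hrp)
  constructor
  · rintro ⟨c, hc⟩
    have h1 : η ^ j = c := by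
      have := congrArg Prod.snd (LinearMap.congr_fun hc ((0 : Fin m → F), (1 : F)))
      rw [hfpow] at this
      simpa using this
    have h2 : (ζ • U) ^ j = c • (1 : Matrix (Fin m) (Fin m) F) := by
      apply Matrix.toLin'.injective
      apply LinearMap.ext
      intro x
      have := congrArg Prod.fst (LinearMap.congr_fun hc (x, (0 : F)))
      rw [hfpow] at this
      simpa using this
    rw [_root_.smul_pow] at h2
    -- `U ^ j` is a scalar, hence one
    obtain ⟨l, hl⟩ : ∃ l : F, l = c * (ζ ^ j)⁻¹ := ⟨_, rfl⟩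
    have hζj0 : ζ ^ j ≠ 0 := pow_ne_zero _ hζ0
    have h3 : U ^ j = l • (1 : Matrix (Fin m) (Fin m) F) := by
      have := congrArg (fun M => (ζ ^ j)⁻¹ • M) h2
      simp only [smul_smul, inv_mul_cancel₀ hζj0, one_smul] at this
      rw [this, hl, mul_comm]
    have h4 : (U ^ j - 1) ^ (p ^ e) = 0 := by
      rw [sub_pow_char_pow_of_commute p e (Commute.one_right _), ← pow_mul, mul_comm, pow_mul, hUe,
        one_pow, one_pow, sub_self]
    have h5 : l = 1 := by
      rw [h3] at h4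
      have h6 : l • (1 : Matrix (Fin m) (Fin m) F) - 1 = (l - 1) • (1 : Matrix (Fin m) (Fin m) F) := by
        rw [sub_smul, one_smul]
      rw [h6, _root_.smul_pow, one_pow] at h4
      rcases smul_eq_zero.1 h4 with h7 | h7
      · exact sub_eq_zero.1 (pow_eq_zero_iff (pow_ne_zero _ hp.ne_zero) |>.1 h7)
      · exact absurd h7 one_ne_zero
    have hUj : U ^ j = 1 := by rw [h3, h5, one_smul]
    have hcζ : c = ζ ^ j := by
      have : c * (ζ ^ j)⁻¹ = 1 := by rw [← hl, h5]
      field_simp at this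
      exact this
    -- `r ∣ j`
    have hrj : r ∣ j := by
      have h8 : ζ ^ ((m + 1) * j) = 1 := by
        have h9 : (η * ζ ^ m) ^ j = 1 := by rw [hηζ, one_pow]
        rw [mul_pow, h1, hcζ, ← pow_mul, ← pow_add] at h9
        have : (m + 1) * j = j + m * j := by ring
        rw [this]; exact h9
      rw [← orderOf_dvd_iff_pow_eq_one, hζ] at h8
      rcases (Nat.Prime.dvd_mul hr).1 h8 with h | h
      · exact absurd h hrn
      · exact h
    -- `p ^ e ∣ j`
    have hpj : p ^ e ∣ j := by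
      have h10 : orderOf U ∣ p ^ e := orderOf_dvd_of_pow_eq_one hUe
      obtain ⟨b, hb, hob⟩ := (Nat.dvd_prime_pow hp).1 h10
      have h11 : U ^ (p ^ b) = 1 := by rw [← hob]; exact pow_orderOf_eq_one U
      have h12 : e ≤ b := hmin b ((hJ b).1 h11)
      have h13 : b = e := le_antisymm hb h12
      rw [← h13, ← hob]
      exact orderOf_dvd_of_pow_eq_one hUj
    exact hcop.mul_dvd_of_dvd_of_dvd hrj hpj
  · rintro ⟨t, rfl⟩
    refine ⟨1, ?_⟩
    rw [one_smul]
    apply LinearMap.ext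
    rintro ⟨x, s⟩
    rw [hfpow]
    have hζ1 : ζ ^ (r * p ^ e * t) = 1 := by
      rw [mul_assoc, pow_mul, ← hζ, pow_orderOf_eq_one, one_pow]
    have hU1 : U ^ (r * p ^ e * t) = 1 := by
      have : r * p ^ e * t = p ^ e * (r * t) := by ring
      rw [this, pow_mul, hUe, one_pow]
    have hη1 : η ^ (r * p ^ e * t) = 1 := by
      have h9 : (η * ζ ^ m) ^ (r * p ^ e * t) = 1 := by rw [hηζ, one_pow]
      rw [mul_pow, ← pow_mul ζ m, mul_comm m, pow_mul ζ _ m, hζ1, one_pow, mul_one] at h9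
      exact h9
    rw [_root_.smul_pow, hζ1, hU1, one_smul, hη1, one_mul, Matrix.toLin'_one]
    rfl

end

end Cfsg.Agent.Lib.Helper40.PSLr
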