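import Cfsg.Agent.Lib.Helper40.PSUnGen
set_option autoImplicit false
open Polynomial

namespace Cfsg.Agent.Lib.Helper40.PSUn

open Cfsg.Agent.Lib.Helper40.PG Cfsg.Agent.Lib.Helper40.PSp Cfsg.Agent.Lib.Helper40.PSL3
  Cfsg.Agent.Lib.Helper40.PrimeOrder Cfsg.Agent.Lib.Helper40.Herm Cfsg.Agent.Lib.Helper40.PSLn
  Cfsg.Agent.Lib.Helper40 Cfsg.Agent.Lib.Helper40.SemisimpleConj
  Cfsg.Agent.Lib.Helper99.SURoot

section twtw
variable {F : Type*} [Field F] [Fintype F] {q : ℕ}

omit [Fintype F] in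
theorem recip_map (τ : F →+* F) (f : F[X]) : (recip f).map τ = recip (f.map τ) := by
  unfold recip
  rw [Polynomial.map_mul, map_C, map_inv₀, coeff_map]
  congr 1
  unfold reverse
  rw [natDegree_map, reflect_map]

theorem tw_tw (hF : Fintype.card F = q ^ 2) (f : F[X]) (hm : f.Monic) (h0 : f.coeff 0 ≠ 0) :
    tw hF (tw hF f) = f := by
  unfold tw
  rw [recip_map, Polynomial.map_map]
  have : (tauHom hF).comp (tauHom hF) = RingHom.id F := RingHom.ext (tauHom_tauHom hF)
  rw [this, Polynomial.map_id, recip_recip f hm h0]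

theorem tw_coeff_zero_ne (hF : Fintype.card F = q ^ 2) (f : F[X]) (hm : f.Monic)
    (h0 : f.coeff 0 ≠ 0) : (tw hF f).coeff 0 ≠ 0 := by
  rw [tw_coeff_zero hF f hm]
  exact inv_ne_zero ((_root_.map_ne_zero _).2 h0)

/-- the product of a polynomial and its twisted reciprocal is twisted-palindromic -/
theorem reverse_map_mul_tw (hF : Fintype.card F = q ^ 2) (f : F[X]) (hm : f.Monic)
    (h0 : f.coeff 0 ≠ 0) :
    ((f * tw hF f).map (tauHom hF)).reverse =
      C (tauHom hF ((f * tw hF f).coeff 0)) * (f * tw hF f) := by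
  rw [Polynomial.map_mul, reverse_mul_of_domain, reverse_map_eq hF f h0,
    reverse_map_eq hF (tw hF f) (tw_coeff_zero_ne hF f hm h0), tw_tw hF f hm h0, mul_coeff_zero,
    map_mul, C_mul]
  ring

/-- the norm of the root, the constant coefficient and the torus of norm one -/
theorem root_pow_eq_one_iff_coeff (hF : Fintype.card F = q ^ 2) (hodd : Odd q) (π : F[X])
    (hm : π.Monic) (hi : Irreducible π) (h0 : π.coeff 0 ≠ 0) :
    haveI : Fact (Irreducible π) := ⟨hi⟩
    (AdjoinRoot.root π) ^ ((q - 1) * gs (q ^ 2) π.natDegree) = 1 ↔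
      π.coeff 0 ^ q = π.coeff 0 := by
  haveI : Fact (Irreducible π) := ⟨hi⟩
  have hq2 : 2 ≤ q := Cfsg.Agent.Lib.Helper44.two_le_q_of_card hF
  have hsum := root_pow_sum π hm hi
  rw [hF] at hsum
  have hev : Even (q - 1) := by
    obtain ⟨t, ht⟩ := hodd
    exact ⟨t, by omega⟩
  have h1 : ((-1 : F) ^ π.natDegree * π.coeff 0) ^ (q - 1) = π.coeff 0 ^ (q - 1) := by
    rw [mul_pow, ← pow_mul, mul_comm π.natDegree, pow_mul, hev.neg_one_pow, one_pow, one_mul]
  have h2 : (AdjoinRoot.root π) ^ ((q - 1) * gs (q ^ 2) π.natDegree) =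
      algebraMap F (AdjoinRoot π) (π.coeff 0 ^ (q - 1)) := by
    rw [mul_comm, pow_mul]
    unfold gs
    rw [hsum, ← map_pow, h1]
  rw [h2]
  have h3 : π.coeff 0 ^ q = π.coeff 0 ^ (q - 1) * π.coeff 0 := by
    rw [← pow_succ, Nat.sub_add_cancel (by omega)]
  constructor
  · intro h
    have h4 : π.coeff 0 ^ (q - 1) = 1 := by
      apply (algebraMap F (AdjoinRoot π)).injective
      rw [h, map_one]
    rw [h3, h4, one_mul]
  · intro h
    rw [h3] at h
    have h4 : π.coeff 0 ^ (q - 1) = 1 := by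
      have := mul_right_cancel₀ h0 (h.trans (one_mul _).symm)
      exact this
    rw [h4, map_one]

end twtw

section main
variable {F : Type*} [Field F] [Fintype F] {q : ℕ}

theorem natCast_q_eq_zero (hF : Fintype.card F = q ^ 2) : ((q : ℕ) : F) = 0 := by
  have h := FiniteField.cast_card_eq_zero F
  rw [hF] at h
  push_cast at h
  exact (pow_eq_zero_iff (by norm_num)).1 h

theorem natCast_NU_ne_zero (hF : Fintype.card F = q ^ 2) (m : ℕ) (hm : 1 ≤ m) :
    ((NU q m * (Fintype.card F - 1) : ℕ) : F) ≠ 0 := by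
  have hq2 : 2 ≤ q := Cfsg.Agent.Lib.Helper44.two_le_q_of_card hF
  have hqF := natCast_q_eq_zero hF
  have hqm : 1 ≤ q ^ m := Nat.one_le_pow _ _ (by omega)
  rw [Nat.cast_mul, Nat.cast_sub Fintype.card_pos, FiniteField.cast_card_eq_zero, Nat.cast_one,
    zero_sub]
  apply mul_ne_zero
  · unfold NU
    split_ifs
    · rw [Nat.cast_add, Nat.cast_pow, hqF, zero_pow (by omega), Nat.cast_one, zero_add]
      exact one_ne_zero
    · rw [Nat.cast_sub hqm, Nat.cast_pow, hqF, zero_pow (by omega), Nat.cast_one, zero_sub]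
      exact neg_ne_zero.2 one_ne_zero
  · exact neg_ne_zero.2 one_ne_zero

/-- necessity of the two-adic condition -/
theorem two_adic_of_existsU (hF : Fintype.card F = q ^ 2) (hodd : Odd q) (m : ℕ) (hm : 2 ≤ m)
    (x : Cfsg.PSU (m + m) F q) (hx : orderOf x = NU q m) :
    padicValNat 2 (q + 1) < padicValNat 2 (m + m) := by
  classical
  have hq2 : 2 ≤ q := Cfsg.Agent.Lib.Helper44.two_le_q_of_card hF
  have hq3 : 3 ≤ q := by
    rcases hodd with ⟨t, ht⟩
    omega
  obtain ⟨g, rfl⟩ := QuotientGroup.mk_surjective x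
  obtain ⟨A, hAdef⟩ : ∃ A, A = mat (m + m) g := ⟨_, rfl⟩
  obtain ⟨r, hr, hrN, hordr, hrQ, hno⟩ := exists_zsigU q m hq3 hodd hm
  obtain ⟨N₁, hN₁⟩ := hrN
  have hNpos : 0 < NU q m := NU_pos q m hq3 (by omega)
  have hN₁pos : 0 < N₁ := by
    rcases Nat.eq_zero_or_pos N₁ with h | h
    · rw [h, mul_zero] at hN₁; omega
    · exact h
  have hcen : ∀ j, NU q m ∣ j ↔
      ∃ ν : F, ν * ν ^ q = 1 ∧ A ^ j = ν • (1 : Matrix (Fin (m + m)) (Fin (m + m)) F) := by
    intro j
    rw [← hx, orderOf_mk_dvd_iff, pow_mem_center_iff hF _ (by omega), hAdef]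
  obtain ⟨ν, hν, hAN⟩ := (hcen (NU q m)).1 dvd_rfl
  have hν0 : ν ≠ 0 := by
    rintro rfl
    rw [zero_mul] at hν
    exact zero_ne_one hν
  have hA1 : A ^ (NU q m * (Fintype.card F - 1)) = 1 := by
    rw [pow_mul, hAN, _root_.smul_pow, one_pow, FiniteField.pow_card_sub_one_eq_one ν hν0, one_smul]
  have hA2 : A ^ (N₁ * (Fintype.card F - 1)) ≠ 1 := by
    intro h
    have h1 := (hcen _).2 ⟨1, by simp, by rw [h, one_smul]⟩
    rw [hN₁, mul_comm r N₁, hF] at h1
    exact hrQ (Nat.dvd_of_mul_dvd_mul_left hN₁pos h1)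
  have hNF := natCast_NU_ne_zero hF m (by omega)
  obtain ⟨π, hπm, hπi, hπd, hπN, hπk⟩ := exists_factor_not_dvd A _ hNF hA1 _ hA2
  have hspos : 0 < N₁ * (Fintype.card F - 1) :=
    Nat.mul_pos hN₁pos (by have := Fintype.one_lt_card (α := F); omega)
  have hπN' : π ∣ X ^ (r * (N₁ * (Fintype.card F - 1))) - 1 := by
    rw [← mul_assoc, ← hN₁]; exact hπN
  have hdeg1 := order_dvd_natDegree r (N₁ * (Fintype.card F - 1)) hr hspos π hπm hπi hπN' hπk
  rw [hF, hordr] at hdeg1
  haveI : Fact (Irreducible π) := ⟨hπi⟩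
  have hro : r ∣ orderOf (AdjoinRoot.root π) :=
    prime_dvd_orderOf_root r (N₁ * (Fintype.card F - 1)) hr π hπi hπN' hπk
  have h0 : π.coeff 0 ≠ 0 := by
    apply coeff_zero_ne_zero_of_dvd (r * (N₁ * (Fintype.card F - 1))) (Nat.mul_pos hr.pos hspos) π 1
    rw [pow_one]; exact hπN'
  have hne : tw hF π ≠ π := tw_ne_self hF π hπm hπi h0 r hro hno
  -- the characteristic polynomial is twisted-palindromic
  have hpres : ∀ u v, Cfsg.hermForm (m + m) F q (A.mulVec u) (A.mulVec v) =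
      Cfsg.hermForm (m + m) F q u v := by
    intro u v
    rw [hAdef]
    exact g.2 u v
  have hχrev := reverse_charpoly_map_of_unitary hF (m + m) A hpres
  have hχ0 : A.charpoly.coeff 0 = 1 := by
    have h1 := Matrix.det_eq_sign_charpoly_coeff A
    have hdet : A.det = 1 := by rw [hAdef]; exact (g : Matrix.SpecialLinearGroup (Fin (m + m)) F).2
    rw [Fintype.card_fin, hdet, Even.neg_one_pow ⟨m, rfl⟩, one_mul] at h1
    exact h1.symm
  have htd : tw hF π ∣ A.charpoly :=
    tw_dvd hF π _ h0 (tauHom hF (A.charpoly.coeff 0))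
      (by rw [hχ0, map_one]; exact one_ne_zero) hχrev hπd
  have htm : (tw hF π).Monic := tw_monic hF π h0
  have hcop : IsCoprime π (tw hF π) :=
    isCoprime_of_monic_irreducible_ne π (tw hF π) hπm hπi htm (by rw [tw_natDegree hF π h0]) hne
  have hmul : π * tw hF π ∣ A.charpoly := hcop.mul_dvd hπd htd
  have hχdeg : A.charpoly.natDegree = m + m := by
    rw [Matrix.charpoly_natDegree_eq_dim, Fintype.card_fin]
  have hPdeg : (π * tw hF π).natDegree = π.natDegree + π.natDegree := by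
    rw [hπm.natDegree_mul htm, tw_natDegree hF π h0]
  have hle : π.natDegree + π.natDegree ≤ m + m := by
    rw [← hPdeg, ← hχdeg]
    exact Polynomial.natDegree_le_of_dvd hmul (Matrix.charpoly_monic A).ne_zero
  have hdeg : π.natDegree = m := by
    have h3 : 0 < π.natDegree := hπi.natDegree_pos
    have := Nat.le_of_dvd h3 hdeg1
    omega
  have hχ : A.charpoly = π * tw hF π :=
    Polynomial.eq_of_monic_of_dvd_of_natDegree_le (hπm.mul htm) (Matrix.charpoly_monic A) hmul
      (by rw [hχdeg, hPdeg, hdeg])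
  -- the constant coefficient
  have hπ0 : π.coeff 0 ^ q = π.coeff 0 := by
    have h1 : (π * tw hF π).coeff 0 = 1 := by rw [← hχ]; exact hχ0
    rw [mul_coeff_zero, tw_coeff_zero hF π hπm] at h1
    have h2 : tauHom hF (π.coeff 0) ≠ 0 := (_root_.map_ne_zero _).2 h0
    have h3 : π.coeff 0 = tauHom hF (π.coeff 0) := by
      field_simp at h1
      exact h1
    rw [← tauHom_apply hF]; exact h3.symm
  have ho : orderOf (AdjoinRoot.root π) ∣ (q - 1) * gs (q ^ 2) m := by
    apply orderOf_dvd_of_pow_eq_one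
    rw [← hdeg]
    exact (root_pow_eq_one_iff_coeff hF hodd π hπm hπi h0).2 hπ0
  apply two_adic_of_orderU q m (orderOf (AdjoinRoot.root π)) hq3 hodd hm ho
  intro j hj
  rw [← pow_eq_smul_iff hF (by omega) A π hπm hπi h0 hne hχ j] at hj
  exact (hcen j).2 hj

/-- sufficiency of the two-adic condition -/
theorem exists_of_two_adicU (hF : Fintype.card F = q ^ 2) (hodd : Odd q) (m : ℕ) (hm : 2 ≤ m)
    (h : padicValNat 2 (q + 1) < padicValNat 2 (m + m)) :
    ∃ x : Cfsg.PSU (m + m) F q, orderOf x = NU q m := by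
  classical
  have hq2 : 2 ≤ q := Cfsg.Agent.Lib.Helper44.two_le_q_of_card hF
  have hq3 : 3 ≤ q := by
    rcases hodd with ⟨t, ht⟩
    omega
  obtain ⟨p, hp⟩ := CharP.exists F
  have hpp : p.Prime := CharP.char_is_prime F p
  haveI : Fact p.Prime := ⟨hpp⟩
  obtain ⟨o, ho0, hNo, hoX, hoj⟩ := order_of_two_adicU q m hq3 hodd hm h
  obtain ⟨r, hr, hrN, hordr, hrQ, hno⟩ := exists_zsigU q m hq3 hodd hm
  have : NeZero m := ⟨by omega⟩
  letI := Fintype.ofFinite (FiniteField.Extension F p m)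
  have hE : Module.finrank F (FiniteField.Extension F p m) = m :=
    FiniteField.finrank_extension F p m
  have hcE : Fintype.card (FiniteField.Extension F p m) = (q ^ 2) ^ m := by
    rw [Module.card_eq_pow_finrank (K := F), hE, hF]
  have hoE : o ∣ Fintype.card (FiniteField.Extension F p m) - 1 := by
    rw [hcE, ← gs_mul (q ^ 2) m (Nat.one_le_pow _ _ (by omega)), sq_sub_one_eq q (by omega)]
    obtain ⟨t, ht⟩ := hoX
    refine ⟨t * (q + 1), ?_⟩
    calc gs (q ^ 2) m * ((q - 1) * (q + 1)) = ((q - 1) * gs (q ^ 2) m) * (q + 1) := by ring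
      _ = o * (t * (q + 1)) := by rw [ht]; ring
  obtain ⟨y, hy0, hy⟩ := exists_orderOf_eq_of_dvd (F := FiniteField.Extension F p m) o hoE
  have hint : IsIntegral F y := Algebra.IsIntegral.isIntegral y
  obtain ⟨π, hπdef⟩ : ∃ π, π = minpoly F y := ⟨_, rfl⟩
  have hπi : Irreducible π := by rw [hπdef]; exact minpoly.irreducible hint
  have hπm : π.Monic := by rw [hπdef]; exact minpoly.monic hint
  have h0 : π.coeff 0 ≠ 0 := by rw [hπdef]; exact minpoly.coeff_zero_ne_zero hint hy0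
  haveI : Fact (Irreducible π) := ⟨hπi⟩
  have hev : eval₂ (↑(Algebra.ofId F (FiniteField.Extension F p m)) :
      F →+* FiniteField.Extension F p m) y π = 0 := by
    show eval₂ (algebraMap F (FiniteField.Extension F p m)) y π = 0
    rw [hπdef, ← aeval_def]; exact minpoly.aeval F y
  set φ : AdjoinRoot π →ₐ[F] FiniteField.Extension F p m :=
    AdjoinRoot.liftAlgHom π (Algebra.ofId F (FiniteField.Extension F p m)) y hev with hφ
  have hφρ : φ (AdjoinRoot.root π) = y :=
    AdjoinRoot.liftAlgHom_root π (Algebra.ofId F (FiniteField.Extension F p m)) y hev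
  have hρo : orderOf (AdjoinRoot.root π) = o := by
    rw [← hy, ← hφρ]
    exact (orderOf_injective (φ : AdjoinRoot π →* FiniteField.Extension F p m)
      (φ : AdjoinRoot π →+* FiniteField.Extension F p m).injective (AdjoinRoot.root π)).symm
  have hro : r ∣ orderOf (AdjoinRoot.root π) := by rw [hρo]; exact hrN.trans hNo
  -- the degree
  obtain ⟨s, hs⟩ : r ∣ o := hrN.trans hNo
  have hspos : 0 < s := by
    rcases Nat.eq_zero_or_pos s with h1 | h1
    · rw [h1, mul_zero] at hs; omega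
    · exact h1
  have hd1 : π ∣ X ^ (r * s) - 1 := by
    rw [← root_pow_eq_one_iff π hπi, ← hs, ← hρo]; exact pow_orderOf_eq_one _
  have hd2 : ¬ π ∣ X ^ s - 1 := by
    rw [← root_pow_eq_one_iff π hπi]
    intro h1
    have h2 := orderOf_dvd_of_pow_eq_one h1
    rw [hρo, hs] at h2
    have h3 := Nat.le_of_dvd hspos h2
    have := hr.two_le
    nlinarith
  have hdeg1 := order_dvd_natDegree r s hr hspos π hπm hπi hd1 hd2
  rw [hF, hordr] at hdeg1
  have hdeg2 : π.natDegree ≤ m := by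
    rw [hπdef]
    exact (minpoly.natDegree_le y).trans hE.le
  have hdeg : π.natDegree = m := by
    have h3 : 0 < π.natDegree := hπi.natDegree_pos
    have := Nat.le_of_dvd h3 hdeg1
    omega
  have hne : tw hF π ≠ π := tw_ne_self hF π hπm hπi h0 r hro hno
  have htm : (tw hF π).Monic := tw_monic hF π h0
  -- the constant coefficient
  have hπ0 : π.coeff 0 ^ q = π.coeff 0 := by
    apply (root_pow_eq_one_iff_coeff hF hodd π hπm hπi h0).1
    rw [hdeg, ← orderOf_dvd_iff_pow_eq_one, hρo]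
    exact hoX
  have hP0 : (π * tw hF π).coeff 0 = 1 := by
    rw [mul_coeff_zero, tw_coeff_zero hF π hπm, tauHom_apply, hπ0, mul_inv_cancel₀ h0]
  have hPdeg : (π * tw hF π).natDegree = m + m := by
    rw [hπm.natDegree_mul htm, tw_natDegree hF π h0, hdeg]
  obtain ⟨g, hg⟩ := exists_SU_of_poly hF p (m + m) (π * tw hF π) (hπm.mul htm) hPdeg
    (by rw [hP0, Even.neg_one_pow ⟨m, rfl⟩, one_mul]) (reverse_map_mul_tw hF π hπm h0)
  refine ⟨QuotientGroup.mk g, ?_⟩
  apply Nat.dvd_antisymm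
  · rw [orderOf_mk_dvd_iff, pow_mem_center_iff hF _ (by omega),
      pow_eq_smul_iff hF (by omega) (mat (m + m) g) π hπm hπi h0 hne hg, hρo, hoj]
  · rw [← hoj, ← hρo, ← pow_eq_smul_iff hF (by omega) (mat (m + m) g) π hπm hπi h0 hne hg,
      ← pow_mem_center_iff hF _ (by omega), ← orderOf_mk_dvd_iff]

end main

end Cfsg.Agent.Lib.Helper40.PSUn
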