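import Cfsg.Agent.Lib.Helper40.PSLrNum
set_option autoImplicit false

namespace Cfsg.Agent.Lib.Helper40.PSUr

open Cfsg.Agent.Lib.Helper40.PSLn

/-- the integer geometric sum -/
def gsZ (x : ℤ) (n : ℕ) : ℤ := ∑ i ∈ Finset.range n, x ^ i

theorem gsZ_mul (x : ℤ) (n : ℕ) : gsZ x n * (x - 1) = x ^ n - 1 := geom_sum_mul x n

theorem gsZ_mul_mul (x : ℤ) (d k : ℕ) (hx : x - 1 ≠ 0) :
    gsZ x (d * k) = gsZ (x ^ d) k * gsZ x d := by
  have h1 := gsZ_mul x (d * k)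
  have h2 := gsZ_mul (x ^ d) k
  have h3 := gsZ_mul x d
  have : gsZ x (d * k) * (x - 1) = gsZ (x ^ d) k * gsZ x d * (x - 1) := by
    rw [h1, mul_assoc, h3, h2, pow_mul]
  exact mul_right_cancel₀ hx this

theorem dvd_gsZ_sub (x g : ℤ) (n : ℕ) (hg : g ∣ x - 1) : g ∣ gsZ x n - n := by
  induction n with
  | zero => simp [gsZ]
  | succ k ih =>
    have h1 : g ∣ x ^ k - 1 := hg.trans ⟨gsZ x k, by rw [← gsZ_mul, mul_comm]⟩
    have h2 : gsZ x (k + 1) - ((k + 1 : ℕ) : ℤ) = (gsZ x k - k) + (x ^ k - 1) := by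
      unfold gsZ
      rw [Finset.sum_range_succ]
      push_cast
      ring
    rw [h2]
    exact dvd_add ih h1

theorem order_dvdZ (x : ℤ) (d k : ℕ) (o N : ℤ) (hx : x - 1 ≠ 0)
    (h1 : o ∣ x ^ d - 1) (h2 : o ∣ gsZ x d * k)
    (hN : N * (Int.gcd ((d * k : ℕ) : ℤ) (x - 1) : ℤ) = gsZ x (d * k)) :
    o ∣ N * (x - 1) := by
  have h3 : o ∣ gsZ x d * (x - 1) := by rw [gsZ_mul]; exact h1
  have h4 : o ∣ gsZ x d * (Int.gcd (x - 1) k : ℤ) := by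
    have h5 := Int.dvd_coe_gcd h3 h2
    rw [Int.gcd_mul_left] at h5
    push_cast at h5
    exact h5.trans (mul_dvd_mul ((abs_dvd _ _).2 dvd_rfl) dvd_rfl)
  have hg1 : (Int.gcd (x - 1) k : ℤ) ∣ x ^ d - 1 :=
    (Int.gcd_dvd_left _ _).trans ⟨gsZ x d, by rw [← gsZ_mul, mul_comm]⟩
  have hR : (Int.gcd (x - 1) k : ℤ) ∣ gsZ (x ^ d) k := by
    have h6 := dvd_gsZ_sub (x ^ d) _ k hg1
    have h7 : (Int.gcd (x - 1) k : ℤ) ∣ (k : ℤ) := Int.gcd_dvd_right _ _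
    have := dvd_add h6 h7
    rwa [sub_add_cancel] at this
  obtain ⟨R', hR'⟩ := hR
  obtain ⟨g', hg'⟩ : (Int.gcd ((d * k : ℕ) : ℤ) (x - 1) : ℤ) ∣ x - 1 := Int.gcd_dvd_right _ _
  refine h4.trans ⟨R' * g', ?_⟩
  calc N * (x - 1) = N * (Int.gcd ((d * k : ℕ) : ℤ) (x - 1) : ℤ) * g' := by
        rw [mul_assoc, ← hg']
    _ = gsZ (x ^ d) k * gsZ x d * g' := by rw [hN, gsZ_mul_mul x d k hx]
    _ = gsZ x d * (Int.gcd (x - 1) k : ℤ) * (R' * g') := by rw [hR']; ring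

theorem gcd_gsZ (x : ℤ) (n : ℕ) : Int.gcd (gsZ x n) (x - 1) = Int.gcd (n : ℤ) (x - 1) := by
  have h0 := dvd_gsZ_sub x (x - 1) n dvd_rfl
  apply Nat.dvd_antisymm
  · apply Int.natCast_dvd_natCast.1
    apply Int.dvd_coe_gcd
    · have h1 : (Int.gcd (gsZ x n) (x - 1) : ℤ) ∣ gsZ x n - n := (Int.gcd_dvd_right _ _).trans h0
      have h2 : (Int.gcd (gsZ x n) (x - 1) : ℤ) ∣ gsZ x n := Int.gcd_dvd_left _ _
      have := dvd_sub h2 h1
      rwa [sub_sub_cancel] at this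
    · exact Int.gcd_dvd_right _ _
  · apply Int.natCast_dvd_natCast.1
    apply Int.dvd_coe_gcd
    · have h1 : (Int.gcd (n : ℤ) (x - 1) : ℤ) ∣ gsZ x n - n := (Int.gcd_dvd_right _ _).trans h0
      have h2 : (Int.gcd (n : ℤ) (x - 1) : ℤ) ∣ (n : ℤ) := Int.gcd_dvd_left _ _
      have := dvd_add h1 h2
      rwa [sub_add_cancel] at this
    · exact Int.gcd_dvd_right _ _

theorem singer_dvd_iffZ (x : ℤ) (n : ℕ) (N j : ℤ) (hx : x - 1 ≠ 0)
    (hN : N * (Int.gcd (n : ℤ) (x - 1) : ℤ) = gsZ x n) :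
    gsZ x n ∣ j * (x - 1) ↔ N ∣ j := by
  obtain ⟨G, hG⟩ : ∃ G : ℕ, G = Int.gcd (n : ℤ) (x - 1) := ⟨_, rfl⟩
  have hg := gcd_gsZ x n
  rw [← hG] at hN hg
  have hG0 : (G : ℤ) ≠ 0 := by
    intro h
    have h1 : G = 0 := by exact_mod_cast h
    rw [hG, Int.gcd_eq_zero_iff] at h1
    exact hx h1.2
  obtain ⟨g', hg'⟩ : (G : ℤ) ∣ x - 1 := by rw [hG]; exact Int.gcd_dvd_right _ _
  have hcop : Int.gcd N g' = 1 := by
    have h1 : Int.gcd (N * G) (g' * G) = Int.gcd N g' * G := by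
      rw [Int.gcd_mul_right, Int.natAbs_natCast]
    rw [hN, mul_comm g' (G : ℤ), ← hg', hg] at h1
    have hGpos : 0 < G := Nat.pos_of_ne_zero (by exact_mod_cast hG0)
    have h2 : 1 * G = Int.gcd N g' * G := by rw [one_mul]; exact h1
    exact (Nat.eq_of_mul_eq_mul_right hGpos h2).symm
  constructor
  · intro h
    rw [← hN, hg'] at h
    have h3 : N * (G : ℤ) ∣ (j * g') * (G : ℤ) := by
      have : j * ((G : ℤ) * g') = (j * g') * (G : ℤ) := by ring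
      rwa [this] at h
    have h4 : N ∣ j * g' := (mul_dvd_mul_iff_right hG0).1 h3
    exact Int.dvd_of_dvd_mul_left_of_gcd_one h4 hcop
  · rintro ⟨t, rfl⟩
    rw [← hN, hg']
    exact ⟨t * g', by ring⟩

/-- the number `(q ^ n - (-1) ^ n) / (q + 1)` -/
def gu (q n : ℕ) : ℕ := (gsZ (-(q : ℤ)) n).natAbs

theorem gu_mul_int (q n : ℕ) :
    gsZ (-(q : ℤ)) n * ((q : ℤ) + 1) = 1 - (-(q : ℤ)) ^ n := by
  have h := gsZ_mul (-(q : ℤ)) n
  linear_combination -h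

theorem gu_odd (q n : ℕ) (hn : Odd n) : gu q n * (q + 1) = q ^ n + 1 := by
  have h := gu_mul_int q n
  rw [hn.neg_pow] at h
  have h2 : gsZ (-(q : ℤ)) n * ((q : ℤ) + 1) = ((q ^ n + 1 : ℕ) : ℤ) := by
    rw [h]; push_cast; ring
  have h3 := congrArg Int.natAbs h2
  rw [Int.natAbs_mul, Int.natAbs_natCast] at h3
  have h4 : ((q : ℤ) + 1).natAbs = q + 1 := by
    have : ((q : ℤ) + 1) = ((q + 1 : ℕ) : ℤ) := by push_cast; ring
    rw [this, Int.natAbs_natCast]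
  rw [h4] at h3
  exact h3

theorem gu_even (q n : ℕ) (hq : 1 ≤ q) (hn : Even n) : gu q n * (q + 1) = q ^ n - 1 := by
  have h := gu_mul_int q n
  rw [hn.neg_pow] at h
  have h1 : 1 ≤ q ^ n := Nat.one_le_pow _ _ hq
  have h2 : gsZ (-(q : ℤ)) n * ((q : ℤ) + 1) = -((q ^ n - 1 : ℕ) : ℤ) := by
    rw [h, Nat.cast_sub h1]; push_cast; ring
  have h3 := congrArg Int.natAbs h2
  rw [Int.natAbs_mul, Int.natAbs_neg, Int.natAbs_natCast] at h3
  have h4 : ((q : ℤ) + 1).natAbs = q + 1 := by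
    have : ((q : ℤ) + 1) = ((q + 1 : ℕ) : ℤ) := by push_cast; ring
    rw [this, Int.natAbs_natCast]
  rw [h4] at h3
  exact h3

theorem gu_pos (q n : ℕ) (hq : 2 ≤ q) (hn : 1 ≤ n) : 0 < gu q n := by
  rcases Nat.eq_zero_or_pos (gu q n) with h | h
  · exfalso
    rcases Nat.even_or_odd n with he | ho
    · have h1 := gu_even q n (by omega) he
      rw [h, zero_mul] at h1
      have h2 : 2 ≤ q ^ n := by
        calc 2 ≤ q := hq
          _ = q ^ 1 := (pow_one q).symm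
          _ ≤ q ^ n := Nat.pow_le_pow_right (by omega) hn
      omega
    · have h1 := gu_odd q n ho
      rw [h, zero_mul] at h1
      omega
  · exact h

theorem gcd_int_eq (q n : ℕ) :
    Int.gcd (n : ℤ) (-(q : ℤ) - 1) = Nat.gcd n (q + 1) := by
  have : (-(q : ℤ) - 1) = -((q + 1 : ℕ) : ℤ) := by push_cast; ring
  rw [this, Int.gcd_neg, Int.gcd_natCast_natCast]

theorem gcd_dvd_gu (q n : ℕ) : Nat.gcd n (q + 1) ∣ gu q n := by
  have h1 := dvd_gsZ_sub (-(q : ℤ)) ((Nat.gcd n (q + 1) : ℕ) : ℤ) n (by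
    have : (-(q : ℤ) - 1) = -((q + 1 : ℕ) : ℤ) := by push_cast; ring
    rw [this, dvd_neg]
    exact Int.natCast_dvd_natCast.2 (Nat.gcd_dvd_right _ _))
  have h2 : ((Nat.gcd n (q + 1) : ℕ) : ℤ) ∣ (n : ℤ) := Int.natCast_dvd_natCast.2 (Nat.gcd_dvd_left _ _)
  have h3 := dvd_add h1 h2
  rw [sub_add_cancel] at h3
  unfold gu
  exact Int.natCast_dvd_natCast.1 ((Int.dvd_natAbs).2 h3)

theorem exists_sign (q n : ℕ) : ∃ ε : ℤ, (ε = 1 ∨ ε = -1) ∧ gsZ (-(q : ℤ)) n = ε * (gu q n : ℤ) := by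
  unfold gu
  rcases Int.natAbs_eq (gsZ (-(q : ℤ)) n) with h | h
  · exact ⟨1, Or.inl rfl, by rw [one_mul]; exact h⟩
  · exact ⟨-1, Or.inr rfl, by rw [neg_one_mul]; exact h⟩

theorem neg_q_sub_one_ne (q : ℕ) : (-(q : ℤ) - 1) ≠ 0 := by
  have : (0 : ℤ) ≤ (q : ℤ) := Int.natCast_nonneg q
  omega

/-- orders of the relevant field elements divide `N (q + 1)` -/
theorem orderU_dvd (q d k o N : ℕ) (h1 : o ∣ gu q d * (q + 1)) (h2 : o ∣ gu q d * k)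
    (hN : N * Nat.gcd (d * k) (q + 1) = gu q (d * k)) : o ∣ N * (q + 1) := by
  obtain ⟨ε, hε, hεd⟩ := exists_sign q d
  obtain ⟨ε', hε', hεn⟩ := exists_sign q (d * k)
  have hx := neg_q_sub_one_ne q
  have hN' : (ε' * (N : ℤ)) * (Int.gcd ((d * k : ℕ) : ℤ) (-(q : ℤ) - 1) : ℤ) =
      gsZ (-(q : ℤ)) (d * k) := by
    rw [gcd_int_eq, hεn, ← hN]
    push_cast
    ring
  have h1' : (o : ℤ) ∣ (-(q : ℤ)) ^ d - 1 := by
    rw [← gsZ_mul, hεd]
    have h3 : (o : ℤ) ∣ ((gu q d * (q + 1) : ℕ) : ℤ) := Int.natCast_dvd_natCast.2 h1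
    have h4 : ε * (gu q d : ℤ) * (-(q : ℤ) - 1) = (-ε) * ((gu q d * (q + 1) : ℕ) : ℤ) := by
      push_cast; ring
    rw [h4]
    exact Dvd.dvd.mul_left h3 _
  have h2' : (o : ℤ) ∣ gsZ (-(q : ℤ)) d * (k : ℤ) := by
    rw [hεd]
    have h3 : (o : ℤ) ∣ ((gu q d * k : ℕ) : ℤ) := Int.natCast_dvd_natCast.2 h2
    have h4 : ε * (gu q d : ℤ) * (k : ℤ) = ε * ((gu q d * k : ℕ) : ℤ) := by
      push_cast; ring
    rw [h4]
    exact Dvd.dvd.mul_left h3 _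
  have h5 := order_dvdZ (-(q : ℤ)) d k (o : ℤ) (ε' * (N : ℤ)) hx h1' h2' hN'
  have h6 : ε' * (N : ℤ) * (-(q : ℤ) - 1) = (-ε') * ((N * (q + 1) : ℕ) : ℤ) := by
    push_cast; ring
  rw [h6] at h5
  have h7 : (o : ℤ) ∣ ((N * (q + 1) : ℕ) : ℤ) := by
    rcases hε' with h | h
    · rw [h] at h5
      have := (dvd_neg (a := (o : ℤ))).1 (by simpa using h5)
      exact this
    · rw [h] at h5
      simpa using h5
  exact Int.natCast_dvd_natCast.1 h7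

theorem singerU_dvd_iff (q n N j : ℕ) (hN : N * Nat.gcd n (q + 1) = gu q n) :
    gu q n ∣ j * (q + 1) ↔ N ∣ j := by
  obtain ⟨ε', hε', hεn⟩ := exists_sign q n
  have hx := neg_q_sub_one_ne q
  have hN' : (ε' * (N : ℤ)) * (Int.gcd (n : ℤ) (-(q : ℤ) - 1) : ℤ) = gsZ (-(q : ℤ)) n := by
    rw [gcd_int_eq, hεn, ← hN]
    push_cast
    ring
  have h := singer_dvd_iffZ (-(q : ℤ)) n (ε' * (N : ℤ)) (j : ℤ) hx hN'
  have hunit : IsUnit ε' := by
    rcases hε' with h1 | h1 <;> rw [h1] <;> simp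
  have e1 : gsZ (-(q : ℤ)) n ∣ (j : ℤ) * (-(q : ℤ) - 1) ↔ gu q n ∣ j * (q + 1) := by
    rw [hεn, hunit.mul_left_dvd]
    have h4 : (j : ℤ) * (-(q : ℤ) - 1) = -((j * (q + 1) : ℕ) : ℤ) := by push_cast; ring
    rw [h4, dvd_neg, Int.natCast_dvd_natCast]
  have e2 : ε' * (N : ℤ) ∣ (j : ℤ) ↔ N ∣ j := by
    rw [hunit.mul_left_dvd, Int.natCast_dvd_natCast]
  rw [← e1, ← e2]
  exact h

theorem gs_sq_eq_of_odd (q d : ℕ) (hq : 2 ≤ q) (hd : Odd d) :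
    gs (q ^ 2) d = gu q d * gs q d := by
  have h1 := gs_mul (q ^ 2) d (Nat.one_le_pow _ _ (by omega))
  have h2 := gu_odd q d hd
  have h3 := gs_mul q d (by omega)
  have hq1 : 1 ≤ q ^ d := Nat.one_le_pow _ _ (by omega)
  have h4 : q ^ 2 - 1 = (q - 1) * (q + 1) := by
    obtain ⟨t, rfl⟩ : ∃ t, q = t + 1 := ⟨q - 1, by omega⟩
    simp only [Nat.add_sub_cancel]
    have : (t + 1) ^ 2 = t * (t + 1 + 1) + 1 := by ring
    omega
  have h5 : (q ^ 2) ^ d - 1 = (q ^ d + 1) * (q ^ d - 1) := by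
    obtain ⟨t, ht⟩ : ∃ t, q ^ d = t + 1 := ⟨q ^ d - 1, by omega⟩
    rw [← pow_mul, mul_comm, pow_mul, ht]
    simp only [Nat.add_sub_cancel]
    have : (t + 1) ^ 2 = (t + 1 + 1) * t + 1 := by ring
    omega
  have h6 : gs (q ^ 2) d * ((q - 1) * (q + 1)) = gu q d * gs q d * ((q - 1) * (q + 1)) := by
    calc gs (q ^ 2) d * ((q - 1) * (q + 1)) = (q ^ 2) ^ d - 1 := by rw [← h4, h1]
      _ = (gu q d * (q + 1)) * (gs q d * (q - 1)) := by rw [h5, h2, h3]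
      _ = gu q d * gs q d * ((q - 1) * (q + 1)) := by ring
  exact Nat.eq_of_mul_eq_mul_right (Nat.mul_pos (by omega) (by omega)) h6

theorem gu_two_mul (q d : ℕ) (hq : 2 ≤ q) : gu q (2 * d) = gs (q ^ 2) d * (q - 1) := by
  have h1 := gs_mul (q ^ 2) d (Nat.one_le_pow _ _ (by omega))
  have h2 := gu_even q (2 * d) (by omega) ⟨d, by ring⟩
  have h4 : q ^ 2 - 1 = (q - 1) * (q + 1) := by
    obtain ⟨t, rfl⟩ : ∃ t, q = t + 1 := ⟨q - 1, by omega⟩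
    simp only [Nat.add_sub_cancel]
    have : (t + 1) ^ 2 = t * (t + 1 + 1) + 1 := by ring
    omega
  have h6 : gu q (2 * d) * (q + 1) = gs (q ^ 2) d * (q - 1) * (q + 1) := by
    rw [h2, pow_mul, ← h1, h4]; ring
  exact Nat.eq_of_mul_eq_mul_right (by omega) h6

theorem gs_odd_mod (q u : ℕ) : ∃ t, gs q (2 * u + 1) = 1 + (q + 1) * t := by
  induction u with
  | zero => exact ⟨0, by simp [gs]⟩
  | succ k ih =>
    obtain ⟨t, ht⟩ := ih
    refine ⟨t + q ^ (2 * k + 1), ?_⟩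
    have : 2 * (k + 1) + 1 = (2 * k + 1) + 1 + 1 := by ring
    unfold gs at ht ⊢
    rw [this, Finset.sum_range_succ, Finset.sum_range_succ, ht]
    ring

/-- the reduction used for the polynomials fixed by the twist -/
theorem dvd_gu_mul_of_odd (q d k o : ℕ) (hd : Odd d) (h1 : o ∣ gu q d * (q + 1))
    (h2 : o ∣ gu q d * (gs q d * k)) : o ∣ gu q d * k := by
  obtain ⟨u, hu⟩ := hd
  obtain ⟨t, ht⟩ := gs_odd_mod q u
  rw [← hu] at ht
  have h3 : o ∣ gu q d * Nat.gcd (q + 1) (gs q d * k) := by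
    rw [← Nat.gcd_mul_left]; exact Nat.dvd_gcd h1 h2
  have hcop : Nat.Coprime (q + 1) (gs q d) := by
    rw [ht]
    have : Nat.Coprime (q + 1) (1 + (q + 1) * t) := by
      rw [Nat.coprime_add_mul_left_right]
      exact Nat.coprime_one_right _
    exact this
  have h4 : Nat.gcd (q + 1) (gs q d * k) ∣ k := by
    rw [hcop.symm.gcd_mul_left_cancel_right]
    exact Nat.gcd_dvd_right _ _
  exact h3.trans (Nat.mul_dvd_mul_left _ h4)

end Cfsg.Agent.Lib.Helper40.PSUr
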