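import Cfsg.Agent.Lib.Helper40.PSUnMain
import Cfsg.Agent.Lib.Helper40.PSLrMain
import Cfsg.Agent.Lib.Helper40.PSUrNum
set_option autoImplicit false
open Polynomial

namespace Cfsg.Agent.Lib.Helper40.PSUr

open Cfsg.Agent.Lib.Helper40.PG Cfsg.Agent.Lib.Helper40.PSLn Cfsg.Agent.Lib.Helper43.HermSqrt

section idem
variable {F : Type*} [Field F]

/-- from a pair of complementary non-zero idempotents, a non-scalar element of order `r` and
determinant one in the span -/
theorem exists_T_of_idem (n r : ℕ) (hr : r.Prime) (ζ : F) (hζ : orderOf ζ = r) (hrn : ¬ r ∣ n)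
    (e1 e2 : Matrix (Fin n) (Fin n) F) (h12 : e1 + e2 = 1) (hz12 : e1 * e2 = 0)
    (hne1 : e1 ≠ 0) (hne2 : e2 ≠ 0) :
    ∃ x y : ℕ, (ζ ^ x • e1 + ζ ^ y • e2).det = 1 ∧ (ζ ^ x • e1 + ζ ^ y • e2) ^ r = 1 ∧
      ∀ c : F, Matrix.scalar (Fin n) c ≠ ζ ^ x • e1 + ζ ^ y • e2 := by
  classical
  have hζr : ζ ^ r = 1 := by rw [← hζ]; exact pow_orderOf_eq_one ζ
  have h11 : e1 * e1 = e1 := by
    have : e1 * (e1 + e2) = e1 := by rw [h12, mul_one]
    rwa [mul_add, hz12, add_zero] at this
  have hz21 : e2 * e1 = 0 := by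
    have : (e1 + e2) * e1 = e1 := by rw [h12, one_mul]
    rw [add_mul, h11] at this
    exact left_eq_add.1 this.symm
  have h22 : e2 * e2 = e2 := by
    have : e2 * (e1 + e2) = e2 := by rw [h12, mul_one]
    rwa [mul_add, hz21, zero_add] at this
  obtain ⟨T, hT⟩ : ∃ T : ℕ → ℕ → Matrix (Fin n) (Fin n) F,
      ∀ x y, T x y = ζ ^ x • e1 + ζ ^ y • e2 := ⟨_, fun _ _ => rfl⟩
  have hTmul : ∀ x y x' y', T x y * T x' y' = T (x + x') (y + y') := by
    intro x y x' y'
    rw [hT, hT, hT]
    simp only [add_mul, mul_add, smul_mul_assoc, mul_smul_comm, smul_smul, h11, h22, hz12, hz21,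
      smul_zero, add_zero, zero_add, pow_add]
    rw [mul_comm (ζ ^ x') (ζ ^ x), mul_comm (ζ ^ y') (ζ ^ y)]
  have hT0 : T 0 0 = 1 := by rw [hT, pow_zero, one_smul, one_smul, h12]
  have hTpow : ∀ x y j, T x y ^ j = T (j * x) (j * y) := by
    intro x y j
    induction j with
    | zero => rw [pow_zero, zero_mul, zero_mul, hT0]
    | succ k ih => rw [pow_succ, ih, hTmul, Nat.succ_mul, Nat.succ_mul]
  have hTr : ∀ x y, T (r * x) (r * y) = 1 := by
    intro x y
    rw [hT, pow_mul, pow_mul, hζr, one_pow, one_pow, one_smul, one_smul, h12]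
  have hprim : IsPrimitiveRoot ζ r := by rw [← hζ]; exact IsPrimitiveRoot.orderOf ζ
  haveI : NeZero r := ⟨hr.ne_zero⟩
  have hdetpow : ∀ x y, (T x y).det ^ r = 1 := by
    intro x y
    rw [← Matrix.det_pow, hTpow, hTr, Matrix.det_one]
  obtain ⟨c1, -, hc1⟩ := hprim.eq_pow_of_pow_eq_one (hdetpow 1 0)
  obtain ⟨c2, -, hc2⟩ := hprim.eq_pow_of_pow_eq_one (hdetpow 0 1)
  have hdet : ∀ x y, (T x y).det = ζ ^ (c1 * x + c2 * y) := by
    intro x y
    have h1 : T x y = T 1 0 ^ x * T 0 1 ^ y := by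
      rw [hTpow, hTpow, hTmul]
      simp
    rw [h1, Matrix.det_mul, Matrix.det_pow, Matrix.det_pow, ← hc1, ← hc2, ← pow_mul, ← pow_mul,
      ← pow_add]
  have hscal : ∀ x y, (T x y).det = 1 → (∃ c : F, Matrix.scalar (Fin n) c = T x y) →
      r ∣ x ∧ r ∣ y := by
    intro x y hd ⟨c, hc⟩
    have hc' : c • (1 : Matrix (Fin n) (Fin n) F) = T x y := by
      rw [← hc, Matrix.scalar_apply, Matrix.smul_one_eq_diagonal]
    have hx : c = ζ ^ x := by
      have h1 : (c • (1 : Matrix (Fin n) (Fin n) F)) * e1 = T x y * e1 := by rw [hc']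
      rw [hT, add_mul, smul_mul_assoc, smul_mul_assoc, smul_mul_assoc, one_mul, h11, hz21,
        smul_zero, add_zero] at h1
      have h2 : (c - ζ ^ x) • e1 = 0 := by rw [sub_smul, h1, sub_self]
      rcases smul_eq_zero.1 h2 with h3 | h3
      · exact sub_eq_zero.1 h3
      · exact absurd h3 hne1
    have hy : c = ζ ^ y := by
      have h1 : (c • (1 : Matrix (Fin n) (Fin n) F)) * e2 = T x y * e2 := by rw [hc']
      rw [hT, add_mul, smul_mul_assoc, smul_mul_assoc, smul_mul_assoc, one_mul, h22, hz12,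
        smul_zero, zero_add] at h1
      have h2 : (c - ζ ^ y) • e2 = 0 := by rw [sub_smul, h1, sub_self]
      rcases smul_eq_zero.1 h2 with h3 | h3
      · exact sub_eq_zero.1 h3
      · exact absurd h3 hne2
    have hdc : c ^ n = 1 := by
      rw [← hd, ← hc', Matrix.det_smul, Matrix.det_one, mul_one, Fintype.card_fin]
    constructor
    · rw [hx, ← pow_mul, ← orderOf_dvd_iff_pow_eq_one, hζ] at hdc
      rcases (Nat.Prime.dvd_mul hr).1 hdc with h | h
      · exact h
      · exact absurd h hrn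
    · rw [hy, ← pow_mul, ← orderOf_dvd_iff_pow_eq_one, hζ] at hdc
      rcases (Nat.Prime.dvd_mul hr).1 hdc with h | h
      · exact h
      · exact absurd h hrn
  by_cases hrc1 : r ∣ c1
  · have hd : (T 1 0).det = 1 := by
      rw [hdet, mul_one, mul_zero, add_zero, ← orderOf_dvd_iff_pow_eq_one, hζ]; exact hrc1
    refine ⟨1, 0, ?_, ?_, ?_⟩
    · rw [← hT]; exact hd
    · rw [← hT, hTpow, hTr]
    · intro c hc
      rw [← hT] at hc
      have := (hscal 1 0 hd ⟨c, hc⟩).1
      exact hr.one_lt.ne' (Nat.dvd_one.1 this)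
  · have hd : (T c2 ((r - 1) * c1)).det = 1 := by
      rw [hdet, ← orderOf_dvd_iff_pow_eq_one, hζ]
      refine ⟨c1 * c2, ?_⟩
      have h1 : 1 ≤ r := hr.one_lt.le
      obtain ⟨s, hs⟩ : ∃ s, r = s + 1 := ⟨r - 1, by omega⟩
      rw [hs, Nat.add_sub_cancel]
      ring
    refine ⟨c2, (r - 1) * c1, ?_, ?_, ?_⟩
    · rw [← hT]; exact hd
    · rw [← hT, hTpow, hTr]
    · intro c hc
      rw [← hT] at hc
      have := (hscal _ _ hd ⟨c, hc⟩).2
      rcases (Nat.Prime.dvd_mul hr).1 this with h | h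
      · have h2 := Nat.le_of_dvd (by have := hr.two_le; omega) h
        have := hr.two_le
        omega
      · exact hrc1 h

end idem

section rank
variable {F : Type*} [Field F] [Fintype F]

theorem card_range_map_le (τ : F →+* F) {n : ℕ} (M : Matrix (Fin n) (Fin n) F) :
    Nat.card (LinearMap.range (M.map τ).mulVecLin) ≤
      Nat.card (LinearMap.range ((M.map τ).map τ).mulVecLin) := by
  have hmem : ∀ w : LinearMap.range (M.map τ).mulVecLin,
      (fun i => τ ((w : Fin n → F) i)) ∈ LinearMap.range ((M.map τ).map τ).mulVecLin := by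
    rintro ⟨w, v, rfl⟩
    refine ⟨τ ∘ v, ?_⟩
    funext i
    show ((M.map τ).map τ).mulVec (τ ∘ v) i = τ ((M.map τ).mulVec v i)
    exact (RingHom.map_mulVec τ (M.map τ) v i).symm
  apply Nat.card_le_card_of_injective (fun w => (⟨_, hmem w⟩ : LinearMap.range _))
  intro w w' h
  apply Subtype.ext
  funext i
  have h1 := congrFun (congrArg Subtype.val h) i
  exact τ.injective h1

theorem rank_map_eq (τ : F →+* F) (hτ : ∀ a, τ (τ a) = a) {n : ℕ}
    (M : Matrix (Fin n) (Fin n) F) : (M.map τ).rank = M.rank := by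
  have hMM : ∀ M : Matrix (Fin n) (Fin n) F, (M.map τ).map τ = M := by
    intro M
    ext i j
    simp only [Matrix.map_apply, hτ]
  have hle : ∀ M : Matrix (Fin n) (Fin n) F, (M.map τ).rank ≤ M.rank := by
    intro M
    have h1 := card_range_map_le τ M
    rw [hMM] at h1
    letI := Fintype.ofFinite (LinearMap.range (M.map τ).mulVecLin)
    letI := Fintype.ofFinite (LinearMap.range M.mulVecLin)
    have h2 : Fintype.card (LinearMap.range (M.map τ).mulVecLin) =
        Fintype.card F ^ Module.finrank F (LinearMap.range (M.map τ).mulVecLin) :=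
      Module.card_eq_pow_finrank
    have h3 : Fintype.card (LinearMap.range M.mulVecLin) =
        Fintype.card F ^ Module.finrank F (LinearMap.range M.mulVecLin) :=
      Module.card_eq_pow_finrank
    rw [Nat.card_eq_fintype_card, Nat.card_eq_fintype_card, h2, h3] at h1
    exact (Nat.pow_le_pow_iff_right Fintype.one_lt_card).1 h1
  apply le_antisymm (hle M)
  have := hle (M.map τ)
  rwa [hMM] at this

theorem rank_cT (τ : F →+* F) (hτ : ∀ a, τ (τ a) = a) {n : ℕ}
    (M : Matrix (Fin n) (Fin n) F) : (cT τ M).rank = M.rank := by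
  unfold cT
  rw [Matrix.rank_transpose, rank_map_eq τ hτ]

end rank

end Cfsg.Agent.Lib.Helper40.PSUr
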