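import Cfsg.Agent.Lib.Helper40.PSUrGrp
set_option autoImplicit false
open Polynomial

namespace Cfsg.Agent.Lib.Helper40.PSUr

open Cfsg.Agent.Lib.Helper40.PG Cfsg.Agent.Lib.Helper40.PSp Cfsg.Agent.Lib.Helper40.PSL3
  Cfsg.Agent.Lib.Helper40.PrimeOrder Cfsg.Agent.Lib.Helper40.Herm Cfsg.Agent.Lib.Helper40.PSLn
  Cfsg.Agent.Lib.Helper40.PSUn Cfsg.Agent.Lib.Helper43.HermSqrt Cfsg.Agent.Lib.Helper40.PSLr
  Cfsg.Agent.Lib.Helper99.SURoot

section
variable {F : Type*} [Field F] [Fintype F] {q : ℕ}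

/-- the exponents with scalar power, for a matrix with irreducible characteristic polynomial -/
theorem pow_eq_smul_iff_irr (hF : Fintype.card F = q ^ 2) {n : ℕ} (hn : 0 < n)
    (A : Matrix (Fin n) (Fin n) F) (π : F[X]) (hi : Irreducible π) (hχ : A.charpoly = π) (j : ℕ) :
    haveI : Fact (Irreducible π) := ⟨hi⟩
    (∃ ν : F, ν * ν ^ q = 1 ∧ A ^ j = ν • (1 : Matrix (Fin n) (Fin n) F)) ↔
      orderOf (AdjoinRoot.root π) ∣ j * (q + 1) := by
  haveI : Fact (Irreducible π) := ⟨hi⟩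
  have hq2 : 2 ≤ q := Cfsg.Agent.Lib.Helper44.two_le_q_of_card hF
  constructor
  · rintro ⟨ν, hν, hA⟩
    have h1 := root_pow_eq_of_pow_eq_smul hn A π hi (by rw [hχ]) j ν hA
    rw [orderOf_dvd_iff_pow_eq_one, pow_mul, h1, ← map_pow, pow_succ', hν, map_one]
  · intro h
    rw [orderOf_dvd_iff_pow_eq_one, pow_mul] at h
    have h1 : (AdjoinRoot.root π ^ j) ^ (Fintype.card F - 1) = 1 := by
      rw [hF, sq_sub_one_eq q (by omega), mul_comm, pow_mul, h, one_pow]
    obtain ⟨c₀, hc₀⟩ := exists_algebraMap_eq_of_pow_card_sub_one (AdjoinRoot.root π ^ j) h1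
    have hc1 : c₀ ^ (q + 1) = 1 := by
      apply (algebraMap F (AdjoinRoot π)).injective
      rw [map_pow, ← hc₀, h, map_one]
    have hπd : π ∣ X ^ j - C c₀ := (dvd_X_pow_sub_C_iff π hi j c₀).2 hc₀
    have h2 : aeval A (X ^ j - C c₀ : F[X]) = 0 := by
      obtain ⟨c, hc⟩ := hπd
      rw [hc, ← hχ, map_mul, Matrix.aeval_self_charpoly, zero_mul]
    rw [map_sub, map_pow, aeval_X, aeval_C, sub_eq_zero, Algebra.algebraMap_eq_smul_one] at h2
    exact ⟨c₀, by rw [← pow_succ']; exact hc1, h2⟩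

/-- transferring an element of an extension to the root of its minimal polynomial -/
theorem exists_minpoly_data (p : ℕ) [Fact p.Prime] [CharP F p] (m : ℕ) [NeZero m]
    (y : FiniteField.Extension F p m) (hy0 : y ≠ 0) :
    ∃ π : F[X], ∃ hi : Irreducible π, π.Monic ∧ π.coeff 0 ≠ 0 ∧ π.natDegree ∣ m ∧
      (haveI : Fact (Irreducible π) := ⟨hi⟩; orderOf (AdjoinRoot.root π) = orderOf y) := by
  have hE : Module.finrank F (FiniteField.Extension F p m) = m :=
    FiniteField.finrank_extension F p m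
  have hint : IsIntegral F y := Algebra.IsIntegral.isIntegral y
  obtain ⟨π, hπdef⟩ : ∃ π, π = minpoly F y := ⟨_, rfl⟩
  have hπi : Irreducible π := by rw [hπdef]; exact minpoly.irreducible hint
  have hπm : π.Monic := by rw [hπdef]; exact minpoly.monic hint
  have h0 : π.coeff 0 ≠ 0 := by rw [hπdef]; exact minpoly.coeff_zero_ne_zero hint hy0
  haveI : Fact (Irreducible π) := ⟨hπi⟩
  have hev : eval₂ (↑(Algebra.ofId F (FiniteField.Extension F p m)) :
      F →+* FiniteField.Extension F p m) y π = 0 := by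
    show eval₂ (algebraMap F (FiniteField.Extension F p m)) y π = 0
    rw [hπdef, ← aeval_def]; exact minpoly.aeval F y
  set φ : AdjoinRoot π →ₐ[F] FiniteField.Extension F p m :=
    AdjoinRoot.liftAlgHom π (Algebra.ofId F (FiniteField.Extension F p m)) y hev with hφ
  have hφρ : φ (AdjoinRoot.root π) = y :=
    AdjoinRoot.liftAlgHom_root π (Algebra.ofId F (FiniteField.Extension F p m)) y hev
  have hρo : orderOf (AdjoinRoot.root π) = orderOf y := by
    rw [← hφρ]
    exact (orderOf_injective (φ : AdjoinRoot π →* FiniteField.Extension F p m)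
      (φ : AdjoinRoot π →+* FiniteField.Extension F p m).injective (AdjoinRoot.root π)).symm
  refine ⟨π, hπi, hπm, h0, ?_, hρo⟩
  have hdd := minpoly.degree_dvd hint
  rw [hE] at hdd
  rw [hπdef]; exact hdd

theorem tau_neg_one_pow (hF : Fintype.card F = q ^ 2) (m : ℕ) :
    tauHom hF ((-1 : F) ^ m) = (-1) ^ m := by
  rw [map_pow, map_neg, map_one]

/-- the Coxeter element in odd dimension -/
theorem exists_coxeter_odd (hF : Fintype.card F = q ^ 2) (p : ℕ) [Fact p.Prime] [CharP F p]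
    (n : ℕ) (hn : 3 ≤ n) (hodd : Odd n) (hn3 : ¬ (n = 3 ∧ q = 2)) (N : ℕ)
    (hN : N * Nat.gcd n (q + 1) = gu q n) :
    ∃ x : Cfsg.PSU n F q, orderOf x = N := by
  classical
  have hq2 : 2 ≤ q := Cfsg.Agent.Lib.Helper44.two_le_q_of_card hF
  have : NeZero n := ⟨by omega⟩
  letI := Fintype.ofFinite (FiniteField.Extension F p n)
  have hE : Module.finrank F (FiniteField.Extension F p n) = n :=
    FiniteField.finrank_extension F p n
  have hcE : Fintype.card (FiniteField.Extension F p n) = (q ^ 2) ^ n := by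
    rw [Module.card_eq_pow_finrank (K := F), hE, hF]
  obtain ⟨o, ho⟩ : ∃ o, o = gu q n := ⟨_, rfl⟩
  have hoq : o * (q + 1) = q ^ n + 1 := by rw [ho]; exact gu_odd q n hodd
  have hqn1 : 1 ≤ q ^ n := Nat.one_le_pow _ _ (by omega)
  have hoE : o ∣ Fintype.card (FiniteField.Extension F p n) - 1 := by
    rw [hcE]
    have h1 : (q ^ 2) ^ n - 1 = (q ^ n + 1) * (q ^ n - 1) := by
      obtain ⟨t, ht⟩ : ∃ t, q ^ n = t + 1 := ⟨q ^ n - 1, by omega⟩
      rw [← pow_mul, mul_comm, pow_mul, ht]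
      simp only [Nat.add_sub_cancel]
      have : (t + 1) ^ 2 = (t + 1 + 1) * t + 1 := by ring
      omega
    rw [h1, ← hoq, mul_assoc]
    exact Dvd.intro _ rfl
  obtain ⟨y, hy0, hy⟩ := exists_orderOf_eq_of_dvd (F := FiniteField.Extension F p n) o hoE
  obtain ⟨π, hπi, hπm, h0, hdvd, hρo⟩ := exists_minpoly_data p n y hy0
  haveI : Fact (Irreducible π) := ⟨hπi⟩
  rw [hy] at hρo
  have hopos : 0 < o := by rw [ho]; exact gu_pos q n hq2 (by omega)
  -- the degree
  have hdeg : π.natDegree = n := by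
    by_contra hne
    obtain ⟨t, ht⟩ := hdvd
    have hdpos : 0 < π.natDegree := hπi.natDegree_pos
    have ht2 : 3 ≤ t := by
      have htodd : Odd t := by
        rw [ht] at hodd
        exact (Nat.odd_mul.1 hodd).2
      rcases htodd with ⟨u, hu⟩
      rcases Nat.eq_zero_or_pos u with h | h
      · exfalso
        have ht1 : t = 1 := by omega
        rw [ht1, mul_one] at ht
        exact hne ht.symm
      · omega
    have h3d : 3 * π.natDegree ≤ n := by
      rw [ht]; nlinarith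
    have hod : o ∣ q ^ (2 * π.natDegree) - 1 := by
      rw [← hρo]
      exact orderOf_dvd_of_pow_eq_one (root_pow_card_sub_one hF π hπm hπi h0)
    have hqd : 2 ≤ q ^ (2 * π.natDegree) := by
      calc 2 ≤ q := hq2
        _ = q ^ 1 := (pow_one q).symm
        _ ≤ q ^ (2 * π.natDegree) := Nat.pow_le_pow_right (by omega) (by omega)
    have hole : o ≤ q ^ (2 * π.natDegree) - 1 := Nat.le_of_dvd (by omega) hod
    rcases Nat.lt_or_ge n 5 with hn5 | hn5
    · -- `n = 3`
      have hn3' : n = 3 := by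
        rcases hodd with ⟨u, hu⟩
        omega
      have hd1 : π.natDegree = 1 := by omega
      rw [hd1, mul_one] at hod
      rw [hn3'] at hoq
      obtain ⟨s, rfl⟩ : ∃ s, q = s + 2 := ⟨q - 2, by omega⟩
      have ho' : o = s ^ 2 + 3 * s + 3 := by
        have h5 : o * (s + 2 + 1) = (s ^ 2 + 3 * s + 3) * (s + 2 + 1) := by
          rw [hoq]; ring
        exact Nat.eq_of_mul_eq_mul_right (by omega) h5
      have h6 : (s + 2) ^ 2 - 1 = o + s := by
        have : (s + 2) ^ 2 = s ^ 2 + 4 * s + 4 := by ring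
        omega
      rw [h6] at hod
      have h7 : o ∣ s := (Nat.dvd_add_right (dvd_refl o)).1 hod
      have h8 : s = 0 := Nat.eq_zero_of_dvd_of_lt h7 (by rw [ho']; nlinarith)
      exact hn3 ⟨hn3', by omega⟩
    · have h2d : 2 * π.natDegree + 2 ≤ n := by omega
      have h9 : q ^ (2 * π.natDegree) * q ^ 2 ≤ q ^ n := by
        rw [← pow_add]; exact Nat.pow_le_pow_right (by omega) h2d
      have h10 : o * (q + 1) ≤ (q ^ (2 * π.natDegree) - 1) * (q + 1) :=
        Nat.mul_le_mul_right _ hole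
      have h11 : (q ^ (2 * π.natDegree) - 1) * (q + 1) < q ^ (2 * π.natDegree) * q ^ 2 := by
        have h12 : q + 1 ≤ q ^ 2 := by nlinarith
        calc (q ^ (2 * π.natDegree) - 1) * (q + 1) < q ^ (2 * π.natDegree) * (q + 1) :=
              Nat.mul_lt_mul_of_pos_right (by omega) (by omega)
          _ ≤ q ^ (2 * π.natDegree) * q ^ 2 := Nat.mul_le_mul_left _ h12
      omega
  -- the twist
  have hpow : (AdjoinRoot.root π) ^ (q ^ n + 1) = 1 := by
    rw [← orderOf_dvd_iff_pow_eq_one, hρo, ← hoq]; exact Dvd.intro _ rfl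
  have htw : tw hF π = π := tw_eq_self_of_pow hF π hπm hπi h0 n hodd hpow
  have hP0 : (-1) ^ n * π.coeff 0 = 1 := by
    have hsum := root_pow_sum π hπm hπi
    rw [hdeg, hF] at hsum
    have h1 : (AdjoinRoot.root π) ^ (gs (q ^ 2) n) = 1 := by
      rw [gs_sq_eq_of_odd q n hq2 hodd, ← ho, ← hρo, pow_mul, pow_orderOf_eq_one, one_pow]
    have h2 : algebraMap F (AdjoinRoot π) ((-1) ^ n * π.coeff 0) = 1 := by
      rw [← hsum]; exact h1
    apply (algebraMap F (AdjoinRoot π)).injective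
    rw [h2, map_one]
  have hPrev : (π.map (tauHom hF)).reverse = C (tauHom hF (π.coeff 0)) * π := by
    rw [reverse_map_eq hF π h0, htw]
  obtain ⟨g, hg⟩ := exists_SU_of_poly hF p n π hπm hdeg hP0 hPrev
  refine ⟨QuotientGroup.mk g, ?_⟩
  apply Nat.dvd_antisymm
  · rw [orderOf_mk_dvd_iff, pow_mem_center_iff hF _ hn,
      pow_eq_smul_iff_irr hF (by omega) (mat n g) π hπi hg, hρo, ho, singerU_dvd_iff q n N _ hN]
  · rw [← singerU_dvd_iff q n N _ hN, ← ho, ← hρo,
      ← pow_eq_smul_iff_irr hF (by omega) (mat n g) π hπi hg,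
      ← pow_mem_center_iff hF _ hn, ← orderOf_mk_dvd_iff]

end

end Cfsg.Agent.Lib.Helper40.PSUr
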