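import Cfsg.Agent.Lib.Helper40.PSUrCox
set_option autoImplicit false
open Polynomial

namespace Cfsg.Agent.Lib.Helper40.PSUr

open Cfsg.Agent.Lib.Helper40.PG Cfsg.Agent.Lib.Helper40.PSp Cfsg.Agent.Lib.Helper40.PSL3
  Cfsg.Agent.Lib.Helper40.PrimeOrder Cfsg.Agent.Lib.Helper40.Herm Cfsg.Agent.Lib.Helper40.PSLn
  Cfsg.Agent.Lib.Helper40.PSUn Cfsg.Agent.Lib.Helper43.HermSqrt Cfsg.Agent.Lib.Helper40.PSLr
  Cfsg.Agent.Lib.Helper99.SURoot

section
variable {F : Type*} [Field F] [Fintype F] {q : ℕ}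

/-- the Coxeter element in even dimension -/
theorem exists_coxeter_even (hF : Fintype.card F = q ^ 2) (p : ℕ) [Fact p.Prime] [CharP F p]
    (m : ℕ) (hm : 2 ≤ m) (N : ℕ)
    (hN : N * Nat.gcd (2 * m) (q + 1) = gu q (2 * m)) :
    ∃ x : Cfsg.PSU (2 * m) F q, orderOf x = N := by
  classical
  have hq2 : 2 ≤ q := Cfsg.Agent.Lib.Helper44.two_le_q_of_card hF
  have : NeZero m := ⟨by omega⟩
  letI := Fintype.ofFinite (FiniteField.Extension F p m)
  have hE : Module.finrank F (FiniteField.Extension F p m) = m :=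
    FiniteField.finrank_extension F p m
  have hcE : Fintype.card (FiniteField.Extension F p m) = q ^ (2 * m) := by
    rw [Module.card_eq_pow_finrank (K := F), hE, hF, pow_mul]
  obtain ⟨o, ho⟩ : ∃ o, o = gu q (2 * m) := ⟨_, rfl⟩
  have hoq : o * (q + 1) = q ^ (2 * m) - 1 := by
    rw [ho]; exact gu_even q (2 * m) (by omega) ⟨m, by ring⟩
  have hoE : o ∣ Fintype.card (FiniteField.Extension F p m) - 1 := by
    rw [hcE, ← hoq]; exact Dvd.intro _ rfl
  obtain ⟨y, hy0, hy⟩ := exists_orderOf_eq_of_dvd (F := FiniteField.Extension F p m) o hoE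
  obtain ⟨π, hπi, hπm, h0, hdvd, hρo⟩ := exists_minpoly_data p m y hy0
  haveI : Fact (Irreducible π) := ⟨hπi⟩
  rw [hy] at hρo
  have hopos : 0 < o := by rw [ho]; exact gu_pos q (2 * m) hq2 (by omega)
  have hqm : q ^ 2 ≤ q ^ m := Nat.pow_le_pow_right (by omega) hm
  have hq4 : 4 ≤ q ^ 2 := by nlinarith
  have hfac : q ^ (2 * m) - 1 = (q ^ m - 1) * (q ^ m + 1) := by
    obtain ⟨t, ht⟩ : ∃ t, q ^ m = t + 1 := ⟨q ^ m - 1, by omega⟩
    rw [mul_comm 2 m, pow_mul, ht]
    simp only [Nat.add_sub_cancel]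
    have : (t + 1) ^ 2 = t * (t + 1 + 1) + 1 := by ring
    omega
  -- the degree
  have hdeg : π.natDegree = m := by
    by_contra hne
    obtain ⟨t, ht⟩ := hdvd
    have hdpos : 0 < π.natDegree := hπi.natDegree_pos
    have ht2 : 2 ≤ t := by
      rcases Nat.lt_or_ge t 2 with h | h
      · exfalso
        interval_cases t
        · omega
        · rw [mul_one] at ht; exact hne ht.symm
      · exact h
    have h2d : 2 * π.natDegree ≤ m := by rw [ht]; nlinarith
    have hod : o ∣ q ^ (2 * π.natDegree) - 1 := by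
      rw [← hρo]
      exact orderOf_dvd_of_pow_eq_one (root_pow_card_sub_one hF π hπm hπi h0)
    have hqd : 2 ≤ q ^ (2 * π.natDegree) := by
      calc 2 ≤ q := hq2
        _ = q ^ 1 := (pow_one q).symm
        _ ≤ q ^ (2 * π.natDegree) := Nat.pow_le_pow_right (by omega) (by omega)
    have hole : o ≤ q ^ (2 * π.natDegree) - 1 := Nat.le_of_dvd (by omega) hod
    have h9 : q ^ (2 * π.natDegree) ≤ q ^ m := Nat.pow_le_pow_right (by omega) h2d
    have h10 : o * (q + 1) ≤ (q ^ m - 1) * (q + 1) :=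
      Nat.mul_le_mul_right _ (hole.trans (by omega))
    have h11 : (q ^ m - 1) * (q + 1) < (q ^ m - 1) * (q ^ m + 1) :=
      Nat.mul_lt_mul_of_pos_left (by nlinarith) (by omega)
    rw [hoq, hfac] at h10
    omega
  -- the twist
  have hne : tw hF π ≠ π := by
    intro htw
    obtain ⟨hdodd, hpow⟩ := tw_eq_self_imp hF π hπm hπi h0 htw
    rw [hdeg] at hdodd hpow
    have h1 : o ∣ q ^ m + 1 := by rw [← hρo]; exact orderOf_dvd_of_pow_eq_one hpow
    have h2 : o ≤ q ^ m + 1 := Nat.le_of_dvd (by omega) h1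
    have h3 : 3 ≤ m := by
      rcases hdodd with ⟨u, hu⟩
      omega
    have h4 : q ^ 3 ≤ q ^ m := Nat.pow_le_pow_right (by omega) h3
    have h5 : o * (q + 1) ≤ (q ^ m + 1) * (q + 1) := Nat.mul_le_mul_right _ h2
    rw [hoq, hfac, mul_comm (q ^ m - 1)] at h5
    have h6 : q ^ m - 1 ≤ q + 1 := Nat.le_of_mul_le_mul_left h5 (by omega)
    have h7 : q ^ 3 = q * q ^ 2 := by ring
    have h8 : q * 4 ≤ q * q ^ 2 := Nat.mul_le_mul_left q hq4
    have h9 : 1 ≤ q ^ m := Nat.one_le_pow _ _ (by omega)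
    omega
  have htm : (tw hF π).Monic := tw_monic hF π h0
  -- the constant coefficient
  have hπ0 : π.coeff 0 ^ q = π.coeff 0 := by
    have hsum := root_pow_sum π hπm hπi
    rw [hdeg, hF] at hsum
    have h1 : (AdjoinRoot.root π) ^ (gs (q ^ 2) m * (q - 1)) = 1 := by
      rw [← gu_two_mul q m hq2, ← ho, ← hρo]; exact pow_orderOf_eq_one _
    obtain ⟨c', hc'⟩ : ∃ c' : F, c' = (-1) ^ m * π.coeff 0 := ⟨_, rfl⟩
    rw [← hc'] at hsum
    have h2 : c' ^ (q - 1) = 1 := by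
      apply (algebraMap F (AdjoinRoot π)).injective
      rw [map_pow, ← hsum, map_one, ← pow_mul]
      exact h1
    have h3 : tauHom hF c' = c' := by
      rw [tauHom_apply]
      have : c' ^ q = c' ^ (q - 1) * c' := by rw [← pow_succ, Nat.sub_add_cancel (by omega)]
      rw [this, h2, one_mul]
    rw [hc', map_mul, tau_neg_one_pow hF m] at h3
    have h4 : (-1 : F) ^ m ≠ 0 := pow_ne_zero _ (neg_ne_zero.2 one_ne_zero)
    have h5 := mul_left_cancel₀ h4 h3
    rw [← tauHom_apply hF]; exact h5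
  have hP0 : (π * tw hF π).coeff 0 = 1 := by
    rw [mul_coeff_zero, tw_coeff_zero hF π hπm, tauHom_apply, hπ0, mul_inv_cancel₀ h0]
  have hPdeg : (π * tw hF π).natDegree = 2 * m := by
    rw [hπm.natDegree_mul htm, tw_natDegree hF π h0, hdeg]; ring
  obtain ⟨g, hg⟩ := exists_SU_of_poly hF p (2 * m) (π * tw hF π) (hπm.mul htm) hPdeg
    (by rw [hP0, Even.neg_one_pow ⟨m, by ring⟩, one_mul]) (reverse_map_mul_tw hF π hπm h0)
  refine ⟨QuotientGroup.mk g, ?_⟩
  apply Nat.dvd_antisymm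
  · rw [orderOf_mk_dvd_iff, pow_mem_center_iff hF _ (by omega),
      pow_eq_smul_iff hF (by omega) (mat (2 * m) g) π hπm hπi h0 hne hg, hρo, ho,
      singerU_dvd_iff q (2 * m) N _ hN]
  · rw [← singerU_dvd_iff q (2 * m) N _ hN, ← ho, ← hρo,
      ← pow_eq_smul_iff hF (by omega) (mat (2 * m) g) π hπm hπi h0 hne hg,
      ← pow_mem_center_iff hF _ (by omega), ← orderOf_mk_dvd_iff]

/-- the Coxeter element -/
theorem exists_coxeter (hF : Fintype.card F = q ^ 2) (p : ℕ) [Fact p.Prime] [CharP F p]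
    (n : ℕ) (hn : 3 ≤ n) (hn3 : ¬ (n = 3 ∧ q = 2)) (N : ℕ)
    (hN : N * Nat.gcd n (q + 1) = gu q n) :
    N ∈ Set.range (orderOf : Cfsg.PSU n F q → ℕ) := by
  rcases Nat.even_or_odd n with he | ho
  · obtain ⟨m, hm⟩ := he
    have hm' : n = 2 * m := by omega
    subst hm'
    exact exists_coxeter_even hF p m (by omega) N hN
  · exact exists_coxeter_odd hF p n hn ho hn3 N hN

end

end Cfsg.Agent.Lib.Helper40.PSUr
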