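import Cfsg.Agent.Lib.Helper40.PSUrAlg
set_option autoImplicit false
open Polynomial

namespace Cfsg.Agent.Lib.Helper40.PSUr

section det
variable {F : Type*} [Field F]

/-- the determinant of an operator killed by an irreducible polynomial is a power of the norm
of the root -/
theorem det_eq_norm_pow {W : Type*} [AddCommGroup W] [Module F W] [FiniteDimensional F W]
    (g : Module.End F W) (f : F[X]) (hf : Irreducible f) (h : aeval g f = 0) :
    haveI : Fact (Irreducible f) := ⟨hf⟩
    ∃ k : ℕ, Module.finrank F W = f.natDegree * k ∧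
      LinearMap.det g = (Algebra.norm F (AdjoinRoot.root f)) ^ k := by
  classical
  haveI : Fact (Irreducible f) := ⟨hf⟩
  have hf0 : f ≠ 0 := hf.ne_zero
  have hI : ∀ b : F[X], b ∈ (Ideal.span {f} : Ideal F[X]) → aeval g b = 0 := by
    intro b hb
    rw [Ideal.mem_span_singleton] at hb
    obtain ⟨c, rfl⟩ := hb
    rw [map_mul, h, zero_mul]
  obtain ⟨φ, hφmk⟩ : ∃ φ : AdjoinRoot f →ₐ[F] Module.End F W,
      ∀ b : F[X], φ (AdjoinRoot.mk f b) = aeval g b :=
    ⟨Ideal.Quotient.liftₐ (Ideal.span {f}) (aeval g) hI, fun b => rfl⟩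
  have hφ : φ (AdjoinRoot.root f) = g := by
    have := hφmk X
    rwa [aeval_X] at this
  letI : Module (AdjoinRoot f) W := Module.compHom W φ.toRingHom
  have hsmul : ∀ (x : AdjoinRoot f) (v : W), x • v = φ x v := by
    intro x v; rfl
  haveI : IsScalarTower F (AdjoinRoot f) W := by
    apply IsScalarTower.of_algebraMap_smul
    intro c v
    rw [hsmul, AlgHom.commutes]
    rfl
  haveI : Module.Finite F (AdjoinRoot f) := (AdjoinRoot.powerBasis hf0).finite
  haveI : Module.Finite (AdjoinRoot f) W :=
    Module.Finite.of_restrictScalars_finite F (AdjoinRoot f) W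
  refine ⟨Module.finrank (AdjoinRoot f) W, ?_, ?_⟩
  · have h1 := Module.finrank_mul_finrank F (AdjoinRoot f) W
    rw [← h1, (AdjoinRoot.powerBasis hf0).finrank, AdjoinRoot.powerBasis_dim]
  · have hL : (((AdjoinRoot.root f) •
        (LinearMap.id : W →ₗ[AdjoinRoot f] W)).restrictScalars F) = g := by
      apply LinearMap.ext
      intro v
      show (AdjoinRoot.root f) • v = _
      rw [hsmul, hφ]
    have h1 := LinearMap.det_restrictScalars (R := F) (S := AdjoinRoot f) (A := W)
      (f := (AdjoinRoot.root f) • (LinearMap.id : W →ₗ[AdjoinRoot f] W))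
    rw [hL, LinearMap.det_smul, LinearMap.det_id, mul_one, map_pow] at h1
    exact h1

theorem aeval_restrict_apply' {V : Type*} [AddCommGroup V] [Module F V] (g : Module.End F V)
    (W : Submodule F V) (hW : ∀ x ∈ W, g x ∈ W) (b : F[X]) (x : W) :
    ((aeval (g.restrict hW) b x : W) : V) = aeval g b (x : V) := by
  induction b using Polynomial.induction_on' with
  | add p q hp hq =>
    simp only [map_add, LinearMap.add_apply, Submodule.coe_add, hp, hq]
  | monomial n a =>
    simp only [aeval_monomial, Module.algebraMap_end_apply, Module.End.mul_apply,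
      Submodule.coe_smul]
    rw [Module.End.pow_restrict n hW]
    rfl

/-- the determinant of an operator acting through an idempotent, with irreducible annihilator -/
theorem det_add_compl {V : Type*} [AddCommGroup V] [Module F V] [FiniteDimensional F V]
    (g e : Module.End F V) (he : e * e = e) (hc : g * e = e * g) (f : F[X]) (hf : Irreducible f)
    (h : aeval g f * e = 0) :
    haveI : Fact (Irreducible f) := ⟨hf⟩
    ∃ k : ℕ, Module.finrank F (LinearMap.range e) = f.natDegree * k ∧
      LinearMap.det (g * e + (1 - e)) = (Algebra.norm F (AdjoinRoot.root f)) ^ k := by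
  classical
  haveI : Fact (Irreducible f) := ⟨hf⟩
  have hidem : IsIdempotentElem e := he
  have hcompl : IsCompl (LinearMap.range e) (LinearMap.ker e) :=
    LinearMap.IsIdempotentElem.isCompl hidem
  have hfix : ∀ x ∈ LinearMap.range e, e x = x := by
    rintro x ⟨y, rfl⟩
    have := LinearMap.congr_fun he y
    exact this
  have hP : ∀ x ∈ LinearMap.range e, g x ∈ LinearMap.range e := by
    rintro x ⟨y, rfl⟩
    refine ⟨g y, ?_⟩
    have := LinearMap.congr_fun hc y
    exact this.symm
  have hres : aeval (g.restrict hP) f = 0 := by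
    apply LinearMap.ext
    intro x
    apply Subtype.ext
    rw [aeval_restrict_apply']
    obtain ⟨y, hy⟩ := x.2
    rw [← hy]
    have := LinearMap.congr_fun h y
    exact this
  obtain ⟨k, hk1, hk2⟩ := det_eq_norm_pow (g.restrict hP) f hf hres
  refine ⟨k, hk1, ?_⟩
  rw [← hk2]
  set Φ := Submodule.prodEquivOfIsCompl (LinearMap.range e) (LinearMap.ker e) hcompl with hΦ
  have hconj : (Φ : (LinearMap.range e × LinearMap.ker e) →ₗ[F] V) ∘ₗ
      (LinearMap.prodMap (g.restrict hP) LinearMap.id) ∘ₗ
      (Φ.symm : V →ₗ[F] (LinearMap.range e × LinearMap.ker e)) = g * e + (1 - e) := by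
    apply LinearMap.ext
    intro v
    obtain ⟨⟨x, y⟩, rfl⟩ := Φ.surjective v
    simp only [LinearMap.coe_comp, LinearEquiv.coe_coe, Function.comp_apply,
      LinearEquiv.symm_apply_apply, LinearMap.prodMap_apply, LinearMap.id_apply]
    rw [hΦ, Submodule.coe_prodEquivOfIsCompl', Submodule.coe_prodEquivOfIsCompl']
    have hy : e (y : V) = 0 := y.2
    have hx : e (x : V) = x := hfix _ x.2
    simp only [LinearMap.add_apply, Module.End.mul_apply, LinearMap.sub_apply, Module.End.one_apply,
      map_add, hx, hy, map_zero, LinearMap.restrict_coe_apply]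
    abel
  rw [← hconj, LinearMap.det_conj, LinearMap.det_prodMap, LinearMap.det_id, mul_one]

end det

end Cfsg.Agent.Lib.Helper40.PSUr
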