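import Cfsg.Agent.Lib.Helper40.PSUrMat3
set_option autoImplicit false
open Polynomial

namespace Cfsg.Agent.Lib.Helper40.PSUr

open Cfsg.Agent.Lib.Helper40.PG Cfsg.Agent.Lib.Helper40.PSp Cfsg.Agent.Lib.Helper40.PSL3
  Cfsg.Agent.Lib.Helper40.PrimeOrder Cfsg.Agent.Lib.Helper40.Herm Cfsg.Agent.Lib.Helper40.PSLn
  Cfsg.Agent.Lib.Helper40.PSUn Cfsg.Agent.Lib.Helper43.HermSqrt Cfsg.Agent.Lib.Helper40.PSLr
  Cfsg.Agent.Lib.Helper99.SURoot

section
variable {F : Type*} [Field F] [Fintype F] {q : ℕ}

/-- the dichotomy for unitary matrices of determinant one -/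
theorem mat_dichotomy (hF : Fintype.card F = q ^ 2) (n r : ℕ) (hn : 0 < n) (hr : r.Prime)
    (hrq : r ∣ q + 1) (hrn : ¬ r ∣ n) (N : ℕ) (hN : N * Nat.gcd n (q + 1) = gu q n)
    (A : Matrix (Fin n) (Fin n) F)
    (hpres : ∀ u v, Cfsg.hermForm n F q (A.mulVec u) (A.mulVec v) = Cfsg.hermForm n F q u v)
    (hAdet : A.det = 1) :
    (∃ T : Matrix (Fin n) (Fin n) F, cT (tauHom hF) T * T = 1 ∧ T.det = 1 ∧ Commute A T ∧
      T ^ r = 1 ∧ ∀ c : F, Matrix.scalar (Fin n) c ≠ T) ∨
    (∃ j : ℕ, ∃ c : F, c ^ (q + 1) = 1 ∧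
      A ^ (Fintype.card F ^ j * N) = c • (1 : Matrix (Fin n) (Fin n) F)) := by
  classical
  haveI : Nonempty (Fin n) := ⟨⟨0, hn⟩⟩
  obtain ⟨τ, hτdef⟩ : ∃ τ, τ = tauHom hF := ⟨_, rfl⟩
  have hτ : ∀ a, τ (τ a) = a := by rw [hτdef]; exact tauHom_tauHom hF
  have hAu : cT τ A * A = 1 := by
    have h1 := transpose_mul_map_of_unitary hF n A hpres
    have h2 := congrArg Matrix.transpose h1
    rw [Matrix.transpose_mul, Matrix.transpose_transpose, Matrix.transpose_one] at h2
    rw [hτdef]; exact h2
  have hAu' : A * cT τ A = 1 := mul_eq_one_comm.1 hAu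
  have hcomm : Commute A (cT τ A) := by rw [Commute, SemiconjBy, hAu, hAu']
  have hμ0 : minpoly F A ≠ 0 := minpoly.ne_zero (Matrix.isIntegral A)
  have hμu : ¬ IsUnit (minpoly F A) := minpoly.not_isUnit F A
  obtain ⟨f, hfm, hfi, hfd⟩ := Polynomial.exists_monic_irreducible_factor _ hμu
  have hfin : FiniteMultiplicity f (minpoly F A) :=
    FiniteMultiplicity.of_not_isUnit hfi.not_isUnit hμ0
  obtain ⟨Q, hμ, hQ⟩ := hfin.exists_eq_pow_mul_and_not_dvd
  obtain ⟨k, hk⟩ : ∃ k, k = multiplicity f (minpoly F A) := ⟨_, rfl⟩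
  rw [← hk] at hμ
  have hfχ : f ∣ A.charpoly := hfd.trans (Matrix.minpoly_dvd_charpoly A)
  have hχ0 : A.charpoly.coeff 0 ≠ 0 := by
    intro h
    have h1 := Matrix.det_eq_sign_charpoly_coeff A
    rw [h, mul_zero, hAdet] at h1
    exact one_ne_zero h1
  have hf0 : f.coeff 0 ≠ 0 := by
    intro h
    obtain ⟨c, hc⟩ := hfχ
    rw [hc, mul_coeff_zero, h, zero_mul] at hχ0
    exact hχ0 rfl
  by_cases hQu : IsUnit Q
  · right
    obtain ⟨Q', hQ'⟩ := hQu.exists_right_inv
    have hfa : aeval A (f ^ k) = 0 := by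
      have h1 : f ^ k = minpoly F A * Q' := by rw [hμ, mul_assoc, hQ', mul_one]
      rw [h1, map_mul, minpoly.aeval, zero_mul]
    -- the twisted reciprocal
    have hχrev := reverse_charpoly_map_of_unitary hF n A hpres
    have htd : tw hF f ∣ A.charpoly :=
      tw_dvd hF f _ hf0 (tauHom hF (A.charpoly.coeff 0))
        ((_root_.map_ne_zero _).2 hχ0) hχrev hfχ
    have htm : (tw hF f).Monic := tw_monic hF f hf0
    have htu : ¬ IsUnit (tw hF f) := by
      intro h
      have h1 := natDegree_eq_zero_of_isUnit h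
      rw [tw_natDegree hF f hf0] at h1
      exact hfi.natDegree_pos.ne' h1
    obtain ⟨π, hπm, hπi, hπd⟩ := Polynomial.exists_monic_irreducible_factor _ htu
    have hπf : π ∣ f ^ k :=
      dvd_of_dvd_charpoly_of_aeval_eq_zero hn A π hπi (hπd.trans htd) (f ^ k) hfa
    have hπf' : π ∣ f := hπi.prime.dvd_of_dvd_pow hπf
    have hπeq : π = f := by
      have hass : Associated π f := hπi.associated_of_dvd hfi hπf'
      exact eq_of_monic_of_associated hπm hfm hass
    have htw : tw hF f = f := by
      rw [hπeq] at hπd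
      exact Polynomial.eq_of_monic_of_dvd_of_natDegree_le hfm htm hπd
        (by rw [tw_natDegree hF f hf0])
    exact typeI_scalar hF n N hN A hAdet f hfm hfi hf0 htw k hfa
  · have hk0 : k ≠ 0 := by
      rintro rfl
      rw [pow_zero, one_mul] at hμ
      rw [hμ] at hfd
      exact hQ hfd
    have hPu : ¬ IsUnit (f ^ k) := by
      rw [isUnit_pow_iff hk0]; exact hfi.not_isUnit
    have hcop : IsCoprime (f ^ k) Q := (hfi.coprime_iff_not_dvd.2 hQ).pow_left
    obtain ⟨a, b, hab⟩ := hcop
    have hQ0 : Q ≠ 0 := by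
      rintro rfl
      rw [mul_zero] at hμ
      exact hμ0 hμ
    have hP0 : f ^ k ≠ 0 := pow_ne_zero _ hfi.ne_zero
    obtain ⟨e, he⟩ : ∃ e, e = aeval A (b * Q) := ⟨_, rfl⟩
    obtain ⟨e2, he2⟩ : ∃ e2, e2 = aeval A (a * f ^ k) := ⟨_, rfl⟩
    have h12 : e + e2 = 1 := by
      rw [he, he2, ← map_add, add_comm, hab, map_one]
    have hz12 : e * e2 = 0 := by
      rw [he, he2, ← map_mul]
      have : b * Q * (a * f ^ k) = a * b * minpoly F A := by rw [hμ]; ring
      rw [this, map_mul, minpoly.aeval, mul_zero]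
    have h11 : e * e = e := by
      have : e * (e + e2) = e := by rw [h12, mul_one]
      rwa [mul_add, hz12, add_zero] at this
    have hne1 : e ≠ 0 := by
      intro h
      rw [he] at h
      have h1 := minpoly.dvd F A h
      rw [hμ] at h1
      have h2 : f ^ k ∣ b := (mul_dvd_mul_iff_right hQ0).1 h1
      have h3 : f ^ k ∣ a * f ^ k + b * Q := dvd_add (dvd_mul_left _ _) (h2.mul_right _)
      rw [hab] at h3
      exact hPu (isUnit_of_dvd_one h3)
    have hne2 : e2 ≠ 0 := by
      intro h
      rw [he2] at h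
      have h1 := minpoly.dvd F A h
      rw [hμ, mul_comm (f ^ k) Q] at h1
      have h2 : Q ∣ a := (mul_dvd_mul_iff_right hP0).1 h1
      have h3 : Q ∣ a * f ^ k + b * Q := dvd_add (h2.mul_right _) (dvd_mul_left _ _)
      rw [hab] at h3
      exact hQu (isUnit_of_dvd_one h3)
    have hne1' : e ≠ 1 := by
      intro h
      rw [h] at h12
      exact hne2 (by simpa using h12)
    have hfe : aeval A (f ^ k) * e = 0 := by
      rw [he, ← map_mul]
      have : f ^ k * (b * Q) = b * minpoly F A := by rw [hμ]; ring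
      rw [this, map_mul, minpoly.aeval, mul_zero]
    have hAe : Commute A e := by
      rw [he]; exact commute_aeval_of_commute A A (Commute.refl A) _
    -- the adjoint idempotent
    obtain ⟨e', he'⟩ : ∃ e', e' = cT τ e := ⟨_, rfl⟩
    have he'A : e' = aeval (cT τ A) ((b * Q).map τ) := by rw [he', he, cT_aeval]
    have hAe' : Commute A e' := by
      rw [he'A]; exact commute_aeval_of_commute A _ hcomm _
    have hee' : Commute e e' := by
      have h1 : Commute (cT τ A) e := by
        rw [he]; exact commute_aeval_of_commute _ A hcomm.symm _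
      rw [he'A]
      exact commute_aeval_of_commute e _ h1.symm _
    have h11' : e' * e' = e' := by rw [he', ← cT_mul, h11]
    have hcTe' : cT τ e' = e := by rw [he', cT_cT τ hτ]
    by_cases hε0 : e * e' = 0
    · -- the sum
      have hε0' : e' * e = 0 := by rw [← hee'.eq]; exact hε0
      have hsum : (e + e') * (e + e') = e + e' := by
        rw [add_mul, mul_add, mul_add, h11, h11', hε0, hε0', add_zero, zero_add]
      have hsums : cT τ (e + e') = e + e' := by
        rw [cT_add, hcTe', ← he', add_comm]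
      have hsum0 : e + e' ≠ 0 := by
        intro h
        have : e * (e + e') = e := by rw [mul_add, h11, hε0, add_zero]
        rw [h, mul_zero] at this
        exact hne1 this.symm
      by_cases hε1 : e + e' = 1
      · right
        have hes : cT (tauHom hF) e = 1 - e := by
          rw [← hτdef, ← he', ← hε1]; abel
        have hAu2 : cT (tauHom hF) A * A = 1 := by rw [← hτdef]; exact hAu
        exact typeII_scalar hF n N hN A hAu2 hAdet f hfm hfi hf0 k e h11 hAe hes hfe
      · left
        rw [hτdef] at hsums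
        exact exists_T_unitary hF n r hr hrq hrn A (e + e') hsum hsums hsum0 hε1
          (hAe.add_right hAe')
    · left
      have hprod : (e * e') * (e * e') = e * e' := by
        rw [mul_assoc, ← mul_assoc e' e e', ← hee'.eq, mul_assoc, h11', ← mul_assoc, h11]
      have hprods : cT τ (e * e') = e * e' := by
        rw [cT_mul, hcTe', ← he', hee'.eq]
      have hprod1 : e * e' ≠ 1 := by
        intro h
        apply hne1'
        calc e = e * 1 := (mul_one e).symm
          _ = e * (e * e') := by rw [h]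
          _ = e * e' := by rw [← mul_assoc, h11]
          _ = 1 := h
      rw [hτdef] at hprods
      exact exists_T_unitary hF n r hr hrq hrn A (e * e') hprod hprods hε0 hprod1
        (hAe.mul_right hAe')

end

end Cfsg.Agent.Lib.Helper40.PSUr
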