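import Cfsg.Agent.Lib.Helper40.PSUrUnip3
import Cfsg.Agent.Lib.Helper40.PSLrFinal
set_option autoImplicit false
open Polynomial

namespace Cfsg.Agent.Lib.Helper40.PSUr

open Cfsg.Agent.Lib.Helper40.PG Cfsg.Agent.Lib.Helper40.PSp Cfsg.Agent.Lib.Helper40.PSL3
  Cfsg.Agent.Lib.Helper40.PrimeOrder Cfsg.Agent.Lib.Helper40.Herm Cfsg.Agent.Lib.Helper40.PSLn
  Cfsg.Agent.Lib.Helper40.PSUn Cfsg.Agent.Lib.Helper43.HermSqrt Cfsg.Agent.Lib.Helper40.PSLr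
  Cfsg.Agent.Lib.Helper99.SURoot Cfsg.Agent.Lib.Helper40.PSL2k

section
variable {F : Type*} [Field F] [Fintype F] {q : ℕ}

theorem p_dvd_q (hF : Fintype.card F = q ^ 2) (p : ℕ) [CharP F p] : p ∣ q :=
  (CharP.cast_eq_zero_iff F p q).1 (natCast_q_eq_zero hF)

/-- the `p`-part of an element order of `PSU(n, q)` is at most the least `p`-power `≥ n` -/
theorem p_part_dvdU (hF : Fintype.card F = q ^ 2) (p : ℕ) [Fact p.Prime] [CharP F p] {n : ℕ}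
    (hn : 3 ≤ n) (x : Cfsg.PSU n F q) (e b : ℕ) (he : p ^ e ∣ orderOf x) (hb : n ≤ p ^ b) :
    e ≤ b := by
  classical
  have hp : p.Prime := Fact.out
  obtain ⟨g, rfl⟩ := QuotientGroup.mk_surjective x
  obtain ⟨o, ho⟩ : ∃ o, o = orderOf (QuotientGroup.mk g : Cfsg.PSU n F q) := ⟨_, rfl⟩
  rw [← ho] at he
  have hopos : 0 < o := by rw [ho]; exact orderOf_pos _
  obtain ⟨v, M, hpM, hvM⟩ := Nat.exists_eq_pow_mul_and_not_dvd hopos.ne' p hp.ne_one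
  have hgo : g ^ o ∈ Subgroup.center ↥(Cfsg.SU n F q) := by
    rw [← orderOf_mk_dvd_iff, ho]
  obtain ⟨ν, hν, hA⟩ := (pow_mem_center_iff hF n hn g o).1 hgo
  obtain ⟨A, hAdef⟩ : ∃ A, A = mat n g := ⟨_, rfl⟩
  rw [← hAdef] at hA
  have hA1 : (A ^ (M * (q + 1))) ^ (p ^ v) = 1 := by
    rw [← pow_mul]
    have : M * (q + 1) * p ^ v = o * (q + 1) := by rw [hvM]; ring
    rw [this, pow_mul, hA, _root_.smul_pow, one_pow, pow_succ', hν, one_smul]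
  have hA2 := pow_p_pow_eq_one p (by omega) (A ^ (M * (q + 1))) v hA1 b hb
  have hg2 : g ^ (M * (q + 1) * p ^ b) = 1 := by
    apply mat_injective
    rw [mat_pow, ← hAdef, pow_mul, hA2, mat_one']
  have h3 : o ∣ M * (q + 1) * p ^ b := by
    rw [ho]
    apply orderOf_dvd_of_pow_eq_one
    rw [← QuotientGroup.mk_pow, hg2]; rfl
  have h4 : p ^ v ∣ (q + 1) * p ^ b := by
    rw [hvM] at h3
    have h5 : M * p ^ v ∣ M * ((q + 1) * p ^ b) := by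
      have : M * (q + 1) * p ^ b = M * ((q + 1) * p ^ b) := by ring
      rw [mul_comm (p ^ v) M, this] at h3; exact h3
    have hMpos : 0 < M := by
      rcases Nat.eq_zero_or_pos M with h | h
      · rw [h, mul_zero] at hvM; omega
      · exact h
    exact Nat.dvd_of_mul_dvd_mul_left hMpos h5
  have hpq : ¬ p ∣ q + 1 := by
    intro h
    have h6 : p ∣ q := p_dvd_q hF p
    have h7 : p ∣ 1 := (Nat.dvd_add_right h6).1 h
    exact hp.one_lt.ne' (Nat.dvd_one.1 h7)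
  have hcop : Nat.Coprime (p ^ v) (q + 1) :=
    Nat.Coprime.pow_left _ ((Nat.Prime.coprime_iff_not_dvd hp).2 hpq)
  have h10 : p ^ v ∣ p ^ b := hcop.dvd_of_dvd_mul_left h4
  have h11 : v ≤ b := (Nat.pow_dvd_pow_iff_le_right hp.one_lt).1 h10
  have h12 : e ≤ v := by
    rw [hvM] at he
    have hcop2 : Nat.Coprime (p ^ e) M :=
      Nat.Coprime.pow_left _ ((Nat.Prime.coprime_iff_not_dvd hp).2 hpM)
    have := hcop2.dvd_of_dvd_mul_right he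
    exact (Nat.pow_dvd_pow_iff_le_right hp.one_lt).1 this
  omega

/-- the facts about the set of element orders of `PSU(n, q)` needed below -/
theorem omega_factsU (p a n r : ℕ) (hp : p.Prime) (hq : q = p ^ a)
    (hF : Fintype.card F = q ^ 2) (hn : 3 ≤ n) (hn3 : ¬ (n = 3 ∧ q = 2)) (hr : r.Prime)
    (hrq : r ∣ q + 1) (hrn : ¬ r ∣ n) :
    ∃ N : ℕ, p ≠ r ∧
      (∀ a ∈ Set.range (orderOf : Cfsg.PSU n F q → ℕ), 0 < a) ∧
      (∀ a ∈ Set.range (orderOf : Cfsg.PSU n F q → ℕ), ∀ b, b ∣ a →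
        b ∈ Set.range (orderOf : Cfsg.PSU n F q → ℕ)) ∧
      (∀ a ∈ Set.range (orderOf : Cfsg.PSU n F q → ℕ), ¬ r ∣ a →
        r * a ∈ Set.range (orderOf : Cfsg.PSU n F q → ℕ) ∨ ∃ e, a ∣ p ^ e * N) ∧
      N ∈ Set.range (orderOf : Cfsg.PSU n F q → ℕ) ∧
      r ∈ Set.range (orderOf : Cfsg.PSU n F q → ℕ) ∧
      ((¬ ∃ j : ℕ, n - 1 = p ^ j) →
        ∀ a ∈ Set.range (orderOf : Cfsg.PSU n F q → ℕ), ∀ e, p ^ e ∣ a →
          r * p ^ e ∈ Set.range (orderOf : Cfsg.PSU n F q → ℕ)) := by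
  classical
  haveI : Fact p.Prime := ⟨hp⟩
  haveI : CharP F p := charP_of_card p (2 * a) hp (by rw [hF, hq, ← pow_mul, mul_comm])
  have hq2 : 2 ≤ q := Cfsg.Agent.Lib.Helper44.two_le_q_of_card hF
  have hpr : p ≠ r := by
    rintro rfl
    have h6 : p ∣ q := p_dvd_q hF p
    have h7 : p ∣ 1 := (Nat.dvd_add_right h6).1 hrq
    exact hp.one_lt.ne' (Nat.dvd_one.1 h7)
  obtain ⟨N, hN⟩ : ∃ N, N * Nat.gcd n (q + 1) = gu q n :=
    ⟨_, Nat.div_mul_cancel (gcd_dvd_gu q n)⟩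
  have hcox := exists_coxeter hF p n hn hn3 N hN
  obtain ⟨m, rfl⟩ : ∃ m, n = m + 1 := ⟨n - 1, by omega⟩
  have hm : 2 ≤ m := by omega
  have hex : ∃ e, m ≤ p ^ e := ⟨m, (Nat.lt_pow_self hp.one_lt).le⟩
  obtain ⟨w, hw⟩ := exists_unip_torusU hF p m r hm hr hrq hrn hpr.symm (Nat.find hex)
    (Nat.find_spec hex) (fun e' h => Nat.find_min' hex h)
  refine ⟨N, hpr, ?_, ?_, ?_, hcox, ?_, ?_⟩
  · rintro _ ⟨x, rfl⟩
    exact orderOf_pos x
  · intro a ha b hb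
    exact mem_range_of_dvd a b ha hb
  · rintro _ ⟨x, rfl⟩ hx
    exact dichotomyU p a hq hF (m + 1) r hn hr hrq hrn N hN x hx
  · exact mem_range_of_dvd _ r ⟨w, rfl⟩ (by rw [hw]; exact Dvd.intro _ rfl)
  · intro hnp
    rintro _ ⟨x, rfl⟩ e he
    have hne : m + 1 ≤ p ^ Nat.find hex := by
      have h1 := Nat.find_spec hex
      have h2 : m ≠ p ^ Nat.find hex := fun h => hnp ⟨_, by rw [Nat.add_sub_cancel]; exact h⟩
      omega
    have hle := p_part_dvdU hF p hn x e (Nat.find hex) he hne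
    apply mem_range_of_dvd _ _ ⟨w, rfl⟩
    rw [hw]
    exact Nat.mul_dvd_mul_left r (pow_dvd_pow p hle)

theorem spectrum_threeU (p a n r m : ℕ) (hp : p.Prime) (hq : q = p ^ a)
    (hF : Fintype.card F = q ^ 2) (hn : 3 ≤ n) (hn3 : ¬ (n = 3 ∧ q = 2)) (hr : r.Prime)
    (hrq : r ∣ q + 1) (hrn : ¬ r ∣ n) :
    Set.range (orderOf : Cfsg.PSU n F q × Cfsg.PSU n F q × Cfsg.PSU n F q ×
        Multiplicative (Fin m → ZMod r) → ℕ) =
      Set.range (orderOf : Cfsg.PSU n F q × Cfsg.PSU n F q × Cfsg.PSU n F q → ℕ) := by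
  classical
  obtain ⟨N, hpr, hpos, hdiv, hdich, hN, hrΩ, -⟩ :=
    omega_factsU (F := F) p a n r hp hq hF hn hn3 hr hrq hrn
  ext o
  constructor
  · rintro ⟨⟨x, y, z, w⟩, rfl⟩
    rw [Prod.orderOf, Prod.orderOf, Prod.orderOf]
    rcases orderOf_zmod_pi r m hr w with hw | hw
    · refine ⟨(x, y, z), ?_⟩
      rw [Prod.orderOf, Prod.orderOf, hw, Nat.lcm_one_right]
    · rw [hw]
      obtain ⟨a', ⟨x', hx'⟩, b', ⟨y', hy'⟩, c', ⟨z', hz'⟩, hl⟩ :=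
        three _ p r N hp hr hpr hpos hdiv hdich hN hrΩ (orderOf x) (orderOf y) (orderOf z)
          ⟨x, rfl⟩ ⟨y, rfl⟩ ⟨z, rfl⟩
      refine ⟨(x', y', z'), ?_⟩
      rw [Prod.orderOf, Prod.orderOf, hx', hy', hz', hl, Nat.lcm_assoc, Nat.lcm_assoc]
  · rintro ⟨⟨x, y, z⟩, rfl⟩
    refine ⟨(x, y, z, 1), ?_⟩
    rw [Prod.orderOf, Prod.orderOf, Prod.orderOf, Prod.orderOf, Prod.orderOf, orderOf_one,
      Nat.lcm_one_right]

theorem spectrum_twoU (p a n r m : ℕ) (hp : p.Prime) (hq : q = p ^ a)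
    (hF : Fintype.card F = q ^ 2) (hn : 3 ≤ n) (hn3 : ¬ (n = 3 ∧ q = 2)) (hr : r.Prime)
    (hrq : r ∣ q + 1) (hrn : ¬ r ∣ n) (hnp : ¬ ∃ j : ℕ, n - 1 = p ^ j) :
    Set.range (orderOf : Cfsg.PSU n F q × Cfsg.PSU n F q ×
        Multiplicative (Fin m → ZMod r) → ℕ) =
      Set.range (orderOf : Cfsg.PSU n F q × Cfsg.PSU n F q → ℕ) := by
  classical
  obtain ⟨N, hpr, hpos, hdiv, hdich, hN, hrΩ, hP⟩ :=
    omega_factsU (F := F) p a n r hp hq hF hn hn3 hr hrq hrn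
  ext o
  constructor
  · rintro ⟨⟨x, y, w⟩, rfl⟩
    rw [Prod.orderOf, Prod.orderOf]
    rcases orderOf_zmod_pi r m hr w with hw | hw
    · refine ⟨(x, y), ?_⟩
      rw [Prod.orderOf, hw, Nat.lcm_one_right]
    · rw [hw]
      obtain ⟨a', ⟨x', hx'⟩, b', ⟨y', hy'⟩, hl⟩ :=
        two _ p r N hp hr hpr hpos hdiv hdich hN (hP hnp) (orderOf x) (orderOf y)
          ⟨x, rfl⟩ ⟨y, rfl⟩
      refine ⟨(x', y'), ?_⟩
      rw [Prod.orderOf, hx', hy', hl, Nat.lcm_assoc]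
  · rintro ⟨⟨x, y⟩, rfl⟩
    refine ⟨(x, y, 1), ?_⟩
    rw [Prod.orderOf, Prod.orderOf, Prod.orderOf, orderOf_one, Nat.lcm_one_right]

end

end Cfsg.Agent.Lib.Helper40.PSUr
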