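import Cfsg.Agent.Lib.Helper40.PSUrDich
set_option autoImplicit false
open Polynomial

namespace Cfsg.Agent.Lib.Helper40.PSUr

open Cfsg.Agent.Lib.Helper40.PG Cfsg.Agent.Lib.Helper40.PSp Cfsg.Agent.Lib.Helper40.PSL3
  Cfsg.Agent.Lib.Helper40.PrimeOrder Cfsg.Agent.Lib.Helper40.Herm Cfsg.Agent.Lib.Helper40.PSLn
  Cfsg.Agent.Lib.Helper40.PSUn Cfsg.Agent.Lib.Helper43.HermSqrt Cfsg.Agent.Lib.Helper40.PSLr
  Cfsg.Agent.Lib.Helper99.SURoot

section
variable {F : Type*} [Field F] [Fintype F] {q : ℕ}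

/-- a unitary matrix of determinant one as an element of `SU` -/
theorem exists_SU_of_matrix (hF : Fintype.card F = q ^ 2) (n : ℕ)
    (T : Matrix (Fin n) (Fin n) F) (hTu : cT (tauHom hF) T * T = 1) (hTdet : T.det = 1) :
    ∃ t : ↥(Cfsg.SU n F q), mat n t = T := by
  have hq2 : 2 ≤ q := Cfsg.Agent.Lib.Helper44.two_le_q_of_card hF
  have hTu' : T * cT (tauHom hF) T = 1 := mul_eq_one_comm.1 hTu
  set G : GL (Fin n) F := ⟨T, cT (tauHom hF) T, hTu', hTu⟩ with hG
  have hGU : G ∈ Cfsg.GU n F q :=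
    (mem_GU_iff_cT (by omega) (tauHom hF) (tauHom_apply hF) G).2 hTu
  set g : Matrix.SpecialLinearGroup (Fin n) F := ⟨T, hTdet⟩ with hg
  have hgSU : g ∈ Cfsg.SU n F q := by
    intro u v
    exact hGU u v
  exact ⟨⟨g, hgSU⟩, rfl⟩

theorem mat_one' (n : ℕ) : mat n (1 : ↥(Cfsg.SU n F q)) = 1 := rfl

theorem mat_mul' (n : ℕ) (g h : ↥(Cfsg.SU n F q)) : mat n (g * h) = mat n g * mat n h := by
  unfold mat
  rw [Subgroup.coe_mul, Matrix.SpecialLinearGroup.coe_mul]

theorem mat_injective (n : ℕ) (g h : ↥(Cfsg.SU n F q)) (H : mat n g = mat n h) : g = h := by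
  apply su_ext
  intro v
  rw [H]

/-- the dichotomy for element orders of `PSU(n, q)` prime to `r` -/
theorem dichotomyU (p a : ℕ) (hq : q = p ^ a) (hF : Fintype.card F = q ^ 2)
    (n r : ℕ) (hn : 3 ≤ n) (hr : r.Prime) (hrq : r ∣ q + 1) (hrn : ¬ r ∣ n) (N : ℕ)
    (hN : N * Nat.gcd n (q + 1) = gu q n)
    (x : Cfsg.PSU n F q) (hx : ¬ r ∣ orderOf x) :
    r * orderOf x ∈ Set.range (orderOf : Cfsg.PSU n F q → ℕ) ∨ ∃ e, orderOf x ∣ p ^ e * N := by
  classical
  obtain ⟨g, rfl⟩ := QuotientGroup.mk_surjective x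
  obtain ⟨A, hA⟩ : ∃ A : Matrix (Fin n) (Fin n) F, A = mat n g := ⟨_, rfl⟩
  have hAdet : A.det = 1 := by rw [hA]; exact (g : Matrix.SpecialLinearGroup (Fin n) F).2
  have hpres : ∀ u v, Cfsg.hermForm n F q (A.mulVec u) (A.mulVec v) =
      Cfsg.hermForm n F q u v := by
    intro u v
    rw [hA]
    exact g.2 u v
  rcases mat_dichotomy hF n r (by omega) hr hrq hrn N hN A hpres hAdet with
    ⟨T, hTu, hTdet, hTc, hTr, hTs⟩ | ⟨j, c, hc1, hjc⟩
  · left
    obtain ⟨t, ht⟩ := exists_SU_of_matrix hF n T hTu hTdet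
    have htr : t ^ r = 1 := by
      apply mat_injective
      rw [mat_pow, ht, hTr, mat_one']
    have hcomm : Commute g t := by
      apply mat_injective
      rw [mat_mul', mat_mul', ht, ← hA]
      exact hTc
    haveI : Fact r.Prime := ⟨hr⟩
    have hord : orderOf (QuotientGroup.mk t : Cfsg.PSU n F q) = r := by
      apply orderOf_eq_prime
      · rw [← QuotientGroup.mk_pow, htr]; rfl
      · intro h
        rw [QuotientGroup.eq_one_iff] at h
        obtain ⟨ν, -, hν⟩ := Cfsg.Agent.Lib.Helper5.AutPSU.exists_scalar_of_mem_center hF hn h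
        apply hTs ν
        rw [← ht]
        apply Matrix.ext_iff_mulVec.mpr
        intro v
        rw [hν v, Matrix.scalar_apply, ← Matrix.smul_one_eq_diagonal, Matrix.smul_mulVec,
          Matrix.one_mulVec]
    have hcomm' : Commute (QuotientGroup.mk g : Cfsg.PSU n F q) (QuotientGroup.mk t) := by
      rw [Commute, SemiconjBy, ← QuotientGroup.mk_mul, ← QuotientGroup.mk_mul, hcomm.eq]
    have hco : (orderOf (QuotientGroup.mk g : Cfsg.PSU n F q)).Coprime
        (orderOf (QuotientGroup.mk t : Cfsg.PSU n F q)) := by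
      rw [hord]
      exact ((Nat.Prime.coprime_iff_not_dvd hr).2 hx).symm
    refine ⟨QuotientGroup.mk g * QuotientGroup.mk t, ?_⟩
    rw [hcomm'.orderOf_mul_eq_mul_orderOf_of_coprime hco, hord, mul_comm]
  · right
    refine ⟨2 * a * j, ?_⟩
    have hpow : p ^ (2 * a * j) = Fintype.card F ^ j := by
      rw [hF, hq, ← pow_mul, ← pow_mul]
      congr 1
      ring
    rw [hpow, orderOf_mk_dvd_iff, pow_mem_center_iff hF n hn]
    refine ⟨c, by rw [← pow_succ']; exact hc1, ?_⟩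
    rw [← hA]; exact hjc

end

end Cfsg.Agent.Lib.Helper40.PSUr
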