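import Cfsg.Agent.Lib.Helper40.PSUrTw
set_option autoImplicit false
open Polynomial

namespace Cfsg.Agent.Lib.Helper40.PSUr

open Cfsg.Agent.Lib.Helper40.PG Cfsg.Agent.Lib.Helper40.PSp Cfsg.Agent.Lib.Helper40.PSL3
  Cfsg.Agent.Lib.Helper40.PrimeOrder Cfsg.Agent.Lib.Helper40.Herm Cfsg.Agent.Lib.Helper40.PSLn
  Cfsg.Agent.Lib.Helper40.PSUn Cfsg.Agent.Lib.Helper43.HermSqrt Cfsg.Agent.Lib.Helper40.PSLr

section ct
variable {F : Type*} [Field F] {n : ℕ}

theorem cT_zero (τ : F →+* F) : cT τ (0 : Matrix (Fin n) (Fin n) F) = 0 := by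
  ext i j
  rw [cT_apply, Matrix.zero_apply, Matrix.zero_apply, map_zero]

theorem cT_sub (τ : F →+* F) (X Y : Matrix (Fin n) (Fin n) F) :
    cT τ (X - Y) = cT τ X - cT τ Y := by
  ext i j
  rw [cT_apply, Matrix.sub_apply, Matrix.sub_apply, map_sub, cT_apply, cT_apply]

theorem cT_pow (τ : F →+* F) (X : Matrix (Fin n) (Fin n) F) (j : ℕ) :
    cT τ (X ^ j) = (cT τ X) ^ j := by
  induction j with
  | zero => rw [pow_zero, pow_zero, cT_one]
  | succ k ih => rw [pow_succ, cT_mul, ih, pow_succ']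

theorem cT_aeval (τ : F →+* F) (A : Matrix (Fin n) (Fin n) F) (b : F[X]) :
    cT τ (aeval A b) = aeval (cT τ A) (b.map τ) := by
  induction b using Polynomial.induction_on' with
  | add p q hp hq => rw [map_add, cT_add, hp, hq, Polynomial.map_add, map_add]
  | monomial m a =>
    rw [Polynomial.map_monomial, aeval_monomial, aeval_monomial, Algebra.algebraMap_eq_smul_one,
      Algebra.algebraMap_eq_smul_one, smul_mul_assoc, smul_mul_assoc, one_mul, one_mul, cT_smul,
      cT_pow]

theorem commute_aeval_of_commute (M A : Matrix (Fin n) (Fin n) F) (h : Commute M A) (b : F[X]) :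
    Commute M (aeval A b) := by
  induction b using Polynomial.induction_on' with
  | add p q hp hq => rw [map_add]; exact hp.add_right hq
  | monomial m a =>
    rw [aeval_monomial]
    exact (Algebra.commute_algebraMap_right a M).mul_right (h.pow_right m)

end ct

section spec
variable {F : Type*} [Field F]

/-- an irreducible factor of the characteristic polynomial divides every annihilating polynomial -/
theorem dvd_of_dvd_charpoly_of_aeval_eq_zero {n : ℕ} (hn : 0 < n)
    (A : Matrix (Fin n) (Fin n) F) (π : F[X]) (hi : Irreducible π) (hd : π ∣ A.charpoly)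
    (b : F[X]) (hb : aeval A b = 0) : π ∣ b := by
  haveI : Fact (Irreducible π) := ⟨hi⟩
  haveI : Nonempty (Fin n) := ⟨⟨0, hn⟩⟩
  set φ : Matrix (Fin n) (Fin n) F →ₐ[F] Matrix (Fin n) (Fin n) (AdjoinRoot π) :=
    (Algebra.ofId F (AdjoinRoot π)).mapMatrix with hφ
  set AE : Matrix (Fin n) (Fin n) (AdjoinRoot π) := φ A with hAE
  have hroot : AE.charpoly.IsRoot (AdjoinRoot.root π) := by
    have : AE = A.map (algebraMap F (AdjoinRoot π)) := rfl
    rw [this, Matrix.charpoly_map, IsRoot, eval_map]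
    obtain ⟨s, hs⟩ := hd
    rw [hs, eval₂_mul]
    have : eval₂ (algebraMap F (AdjoinRoot π)) (AdjoinRoot.root π) π = 0 := AdjoinRoot.eval₂_root π
    rw [this, zero_mul]
  have hspec : AdjoinRoot.root π ∈ spectrum (AdjoinRoot π) AE :=
    Matrix.mem_spectrum_iff_isRoot_charpoly.2 hroot
  have h2 := spectrum.subset_polynomial_aeval AE (b.map (algebraMap F (AdjoinRoot π)))
    ⟨AdjoinRoot.root π, hspec, rfl⟩
  have h3 : aeval AE (b.map (algebraMap F (AdjoinRoot π))) = 0 := by
    rw [aeval_map_algebraMap, hAE, Polynomial.aeval_algHom_apply, hb, map_zero]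
  rw [h3, spectrum.zero_eq, Set.mem_singleton_iff] at h2
  have h4 : eval (AdjoinRoot.root π) (b.map (algebraMap F (AdjoinRoot π))) = 0 := h2
  rw [eval_map] at h4
  rw [← AdjoinRoot.mk_eq_zero, ← AdjoinRoot.aeval_eq, aeval_def]
  exact h4

end spec

end Cfsg.Agent.Lib.Helper40.PSUr
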