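import Cfsg.Agent.Lib.Helper40.PSUrMat
set_option autoImplicit false
open Polynomial

namespace Cfsg.Agent.Lib.Helper40.PSUr

open Cfsg.Agent.Lib.Helper40.PG Cfsg.Agent.Lib.Helper40.PSp Cfsg.Agent.Lib.Helper40.PSL3
  Cfsg.Agent.Lib.Helper40.PrimeOrder Cfsg.Agent.Lib.Helper40.Herm Cfsg.Agent.Lib.Helper40.PSLn
  Cfsg.Agent.Lib.Helper40.PSUn Cfsg.Agent.Lib.Helper43.HermSqrt Cfsg.Agent.Lib.Helper40.PSLr

section
variable {F : Type*} [Field F] [Fintype F] {q : ℕ}

theorem card_sub_one_eq (hF : Fintype.card F = q ^ 2) : Fintype.card F - 1 = (q - 1) * (q + 1) := by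
  have hq2 : 2 ≤ q := Cfsg.Agent.Lib.Helper44.two_le_q_of_card hF
  rw [hF]
  exact sq_sub_one_eq q (by omega)

/-- from a self-adjoint non-trivial idempotent commuting with `A`, a unitary non-scalar element
of order `r` and determinant one commuting with `A` -/
theorem exists_T_unitary (hF : Fintype.card F = q ^ 2) (n r : ℕ) (hr : r.Prime)
    (hrq : r ∣ q + 1) (hrn : ¬ r ∣ n) (A ε : Matrix (Fin n) (Fin n) F) (hε : ε * ε = ε)
    (hεs : cT (tauHom hF) ε = ε) (h0 : ε ≠ 0) (h1 : ε ≠ 1) (hc : Commute A ε) :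
    ∃ T : Matrix (Fin n) (Fin n) F, cT (tauHom hF) T * T = 1 ∧ T.det = 1 ∧ Commute A T ∧
      T ^ r = 1 ∧ ∀ c : F, Matrix.scalar (Fin n) c ≠ T := by
  classical
  have hrq' : r ∣ Fintype.card F - 1 := by
    rw [card_sub_one_eq hF]; exact Dvd.dvd.mul_left hrq _
  obtain ⟨ζ, hζ0, hζ⟩ := exists_orderOf_eq_of_dvd (F := F) r hrq'
  have hζq : ζ ^ (q + 1) = 1 := by
    rw [← orderOf_dvd_iff_pow_eq_one, hζ]; exact hrq
  have h12 : ε + (1 - ε) = 1 := by abel
  have hz12 : ε * (1 - ε) = 0 := by rw [mul_sub, mul_one, hε, sub_self]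
  have hz21 : (1 - ε) * ε = 0 := by rw [sub_mul, one_mul, hε, sub_self]
  have h22 : (1 - ε) * (1 - ε) = 1 - ε := by
    rw [mul_sub, mul_one, hz21, sub_zero]
  have hne2 : (1 - ε) ≠ 0 := fun h => h1 (sub_eq_zero.1 h).symm
  obtain ⟨x, y, hdet, hTr, hTs⟩ := exists_T_of_idem n r hr ζ hζ hrn ε (1 - ε) h12 hz12 h0 hne2
  refine ⟨ζ ^ x • ε + ζ ^ y • (1 - ε), ?_, hdet, ?_, hTr, hTs⟩
  · rw [cT_add, cT_smul, cT_smul, cT_sub, cT_one, hεs]
    have hnorm : ∀ z : ℕ, ζ ^ z * tauHom hF (ζ ^ z) = 1 := by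
      intro z
      rw [tauHom_apply, ← pow_mul, ← pow_add]
      have : z + z * q = (q + 1) * z := by ring
      rw [this, pow_mul, hζq, one_pow]
    simp only [add_mul, mul_add, smul_mul_assoc, mul_smul_comm, smul_smul, hε, h22, hz12, hz21,
      smul_zero, add_zero, zero_add, hnorm, one_smul]
    exact h12
  · exact (hc.smul_right _).add_right (((Commute.one_right A).sub_right hc).smul_right _)

/-- the final step: a power of `s` acts as a scalar on the range of the idempotent -/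
theorem pow_mul_idem_eq_smul (hF : Fintype.card F = q ^ 2) {n : ℕ}
    (s e : Matrix (Fin n) (Fin n) F) (f : F[X]) (hf : Irreducible f)
    (hfe : aeval s f * e = 0) (N : ℕ)
    (hθ : haveI : Fact (Irreducible f) := ⟨hf⟩; (AdjoinRoot.root f) ^ (N * (q + 1)) = 1) :
    ∃ c : F, c ^ (q + 1) = 1 ∧ s ^ N * e = c • e := by
  haveI : Fact (Irreducible f) := ⟨hf⟩
  have h1 : (AdjoinRoot.root f ^ N) ^ (Fintype.card F - 1) = 1 := by
    rw [card_sub_one_eq hF, mul_comm (q - 1), pow_mul (AdjoinRoot.root f ^ N),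
      ← pow_mul (AdjoinRoot.root f) N, hθ, one_pow]
  obtain ⟨c, hc⟩ := exists_algebraMap_eq_of_pow_card_sub_one (AdjoinRoot.root f ^ N) h1
  have hc1 : c ^ (q + 1) = 1 := by
    apply (algebraMap F (AdjoinRoot f)).injective
    rw [map_pow, ← hc, ← pow_mul, hθ, map_one]
  refine ⟨c, hc1, ?_⟩
  obtain ⟨h', hh'⟩ := (dvd_X_pow_sub_C_iff f hf N c).2 hc
  have h2 : aeval s (X ^ N - C c : F[X]) * e = 0 := by
    rw [hh', mul_comm f h', map_mul, mul_assoc, hfe, mul_zero]
  rw [map_sub, map_pow, aeval_X, aeval_C, sub_mul, sub_eq_zero,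
    Algebra.algebraMap_eq_smul_one, smul_mul_assoc, one_mul] at h2
  exact h2

theorem algebraMap_norm_root (f : F[X]) (hfm : f.Monic) (hf : Irreducible f) :
    haveI : Fact (Irreducible f) := ⟨hf⟩
    algebraMap F (AdjoinRoot f) (Algebra.norm F (AdjoinRoot.root f)) =
      (AdjoinRoot.root f) ^ gs (Fintype.card F) f.natDegree := by
  haveI : Fact (Irreducible f) := ⟨hf⟩
  set pb := AdjoinRoot.powerBasis hfm.ne_zero with hpb
  haveI : Module.Finite F (AdjoinRoot f) := pb.finite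
  haveI : Finite (AdjoinRoot f) := Module.finite_of_finite F
  have hfr : Module.finrank F (AdjoinRoot f) = f.natDegree := by
    rw [pb.finrank, hpb, AdjoinRoot.powerBasis_dim]
  rw [FiniteField.algebraMap_norm_eq_pow_sum, hfr, Nat.card_eq_fintype_card]
  rfl

theorem root_pow_card_sub_one (hF : Fintype.card F = q ^ 2) (f : F[X]) (hfm : f.Monic)
    (hf : Irreducible f) (hf0 : f.coeff 0 ≠ 0) :
    haveI : Fact (Irreducible f) := ⟨hf⟩
    (AdjoinRoot.root f) ^ (q ^ (2 * f.natDegree) - 1) = 1 := by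
  haveI : Fact (Irreducible f) := ⟨hf⟩
  set pb := AdjoinRoot.powerBasis hfm.ne_zero with hpb
  haveI : Module.Finite F (AdjoinRoot f) := pb.finite
  haveI : Finite (AdjoinRoot f) := Module.finite_of_finite F
  letI : Fintype (AdjoinRoot f) := Fintype.ofFinite _
  have hfr : Module.finrank F (AdjoinRoot f) = f.natDegree := by
    rw [pb.finrank, hpb, AdjoinRoot.powerBasis_dim]
  have hcard : Fintype.card (AdjoinRoot f) = q ^ (2 * f.natDegree) := by
    rw [Module.card_eq_pow_finrank (K := F), hfr, hF, pow_mul]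
  rw [← hcard]
  exact FiniteField.pow_card_sub_one_eq_one _ (root_ne_zero f hfm hf hf0)

/-- the order of the root in the self-twisted case -/
theorem order_typeI (hF : Fintype.card F = q ^ 2) (f : F[X]) (hfm : f.Monic)
    (hf : Irreducible f) (hf0 : f.coeff 0 ≠ 0) (htw : tw hF f = f) (k n N : ℕ)
    (hn : n = f.natDegree * k) (hN : N * Nat.gcd n (q + 1) = gu q n)
    (hnorm : haveI : Fact (Irreducible f) := ⟨hf⟩;
      (Algebra.norm F (AdjoinRoot.root f)) ^ k = 1) :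
    haveI : Fact (Irreducible f) := ⟨hf⟩
    (AdjoinRoot.root f) ^ (N * (q + 1)) = 1 := by
  haveI : Fact (Irreducible f) := ⟨hf⟩
  have hq2 : 2 ≤ q := Cfsg.Agent.Lib.Helper44.two_le_q_of_card hF
  obtain ⟨hodd, hpow⟩ := tw_eq_self_imp hF f hfm hf hf0 htw
  have h1 : (AdjoinRoot.root f) ^ (gs (q ^ 2) f.natDegree * k) = 1 := by
    have := congrArg (algebraMap F (AdjoinRoot f)) hnorm
    rw [map_pow, map_one, algebraMap_norm_root f hfm hf, ← pow_mul, hF] at this
    exact this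
  have ho1 : orderOf (AdjoinRoot.root f) ∣ gu q f.natDegree * (q + 1) := by
    rw [gu_odd q _ hodd]; exact orderOf_dvd_of_pow_eq_one hpow
  have ho2 : orderOf (AdjoinRoot.root f) ∣ gu q f.natDegree * (gs q f.natDegree * k) := by
    rw [← mul_assoc, ← gs_sq_eq_of_odd q _ hq2 hodd]; exact orderOf_dvd_of_pow_eq_one h1
  have ho3 := dvd_gu_mul_of_odd q _ k _ hodd ho1 ho2
  rw [hn] at hN
  exact orderOf_dvd_iff_pow_eq_one.1 (orderU_dvd q _ k _ N ho1 ho3 hN)

/-- the order of the root in the hyperbolic case -/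
theorem order_typeII (hF : Fintype.card F = q ^ 2) (f : F[X]) (hfm : f.Monic)
    (hf : Irreducible f) (hf0 : f.coeff 0 ≠ 0) (k n N : ℕ)
    (hn : n = 2 * f.natDegree * k) (hN : N * Nat.gcd n (q + 1) = gu q n)
    (hδ : haveI : Fact (Irreducible f) := ⟨hf⟩;
      ((Algebra.norm F (AdjoinRoot.root f)) ^ k) ^ q = (Algebra.norm F (AdjoinRoot.root f)) ^ k) :
    haveI : Fact (Irreducible f) := ⟨hf⟩
    (AdjoinRoot.root f) ^ (N * (q + 1)) = 1 := by
  haveI : Fact (Irreducible f) := ⟨hf⟩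
  have hq2 : 2 ≤ q := Cfsg.Agent.Lib.Helper44.two_le_q_of_card hF
  have hρ0 : AdjoinRoot.root f ≠ 0 := root_ne_zero f hfm hf hf0
  have hnr := algebraMap_norm_root f hfm hf
  have hν0 : Algebra.norm F (AdjoinRoot.root f) ≠ 0 := by
    intro h
    rw [h, map_zero] at hnr
    exact pow_ne_zero _ hρ0 hnr.symm
  have hδ0 : (Algebra.norm F (AdjoinRoot.root f)) ^ k ≠ 0 := pow_ne_zero _ hν0
  have hδ1 : ((Algebra.norm F (AdjoinRoot.root f)) ^ k) ^ (q - 1) = 1 := by
    have h2 : ((Algebra.norm F (AdjoinRoot.root f)) ^ k) ^ (q - 1) *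
        (Algebra.norm F (AdjoinRoot.root f)) ^ k = 1 * (Algebra.norm F (AdjoinRoot.root f)) ^ k := by
      rw [← pow_succ, Nat.sub_add_cancel (by omega), hδ, one_mul]
    exact mul_right_cancel₀ hδ0 h2
  have h1 : (AdjoinRoot.root f) ^ (gs (q ^ 2) f.natDegree * (q - 1) * k) = 1 := by
    have := congrArg (algebraMap F (AdjoinRoot f)) hδ1
    rw [map_pow, map_pow, map_one, hnr, ← pow_mul, ← pow_mul, hF] at this
    have h3 : gs (q ^ 2) f.natDegree * (q - 1) * k = gs (q ^ 2) f.natDegree * (k * (q - 1)) := by ring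
    rw [h3]; exact this
  have ho1 : orderOf (AdjoinRoot.root f) ∣ gu q (2 * f.natDegree) * (q + 1) := by
    rw [gu_even q _ (by omega) ⟨f.natDegree, by ring⟩]
    exact orderOf_dvd_of_pow_eq_one (root_pow_card_sub_one hF f hfm hf hf0)
  have ho2 : orderOf (AdjoinRoot.root f) ∣ gu q (2 * f.natDegree) * k := by
    rw [gu_two_mul q _ hq2]; exact orderOf_dvd_of_pow_eq_one h1
  rw [hn] at hN
  exact orderOf_dvd_iff_pow_eq_one.1 (orderU_dvd q _ k _ N ho1 ho2 hN)

end

end Cfsg.Agent.Lib.Helper40.PSUr
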