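import Cfsg.Agent.Lib.Helper40.PSUrMat2
set_option autoImplicit false
open Polynomial

namespace Cfsg.Agent.Lib.Helper40.PSUr

open Cfsg.Agent.Lib.Helper40.PG Cfsg.Agent.Lib.Helper40.PSp Cfsg.Agent.Lib.Helper40.PSL3
  Cfsg.Agent.Lib.Helper40.PrimeOrder Cfsg.Agent.Lib.Helper40.Herm Cfsg.Agent.Lib.Helper40.PSLn
  Cfsg.Agent.Lib.Helper40.PSUn Cfsg.Agent.Lib.Helper43.HermSqrt Cfsg.Agent.Lib.Helper40.PSLr

section
variable {F : Type*} [Field F] [Fintype F] {q : ℕ}

theorem aeval_pow_card_mul {n : ℕ} (A : Matrix (Fin n) (Fin n) F) (f : F[X]) (k : ℕ) :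
    ∃ h : F[X], aeval (A ^ (Fintype.card F ^ k)) f = aeval A (h * f ^ k) := by
  have hq2 : 2 ≤ Fintype.card F := Fintype.one_lt_card
  have hkq : k < Fintype.card F ^ k := Nat.lt_pow_self (by omega)
  refine ⟨f ^ (Fintype.card F ^ k - k), ?_⟩
  rw [aeval_pow_card, ← pow_add, Nat.sub_add_cancel hkq.le]

theorem toLin'_mul_end {n : ℕ} (M N : Matrix (Fin n) (Fin n) F) :
    Matrix.toLin' (M * N) = Matrix.toLin' M * Matrix.toLin' N := Matrix.toLin'_mul M N

theorem aeval_toLin' {n : ℕ} (s : Matrix (Fin n) (Fin n) F) (f : F[X]) :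
    aeval (Matrix.toLin' s) f = Matrix.toLin' (aeval s f) := by
  have := Polynomial.aeval_algHom_apply
    ((Matrix.toLinAlgEquiv' : Matrix (Fin n) (Fin n) F ≃ₐ[F] _).toAlgHom) s f
  exact this

/-- the self-twisted case -/
theorem typeI_scalar (hF : Fintype.card F = q ^ 2) (n : ℕ) (N : ℕ)
    (hN : N * Nat.gcd n (q + 1) = gu q n) (A : Matrix (Fin n) (Fin n) F) (hAdet : A.det = 1)
    (f : F[X]) (hfm : f.Monic) (hf : Irreducible f) (hf0 : f.coeff 0 ≠ 0)
    (htw : tw hF f = f) (k : ℕ) (hfa : aeval A (f ^ k) = 0) :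
    ∃ j : ℕ, ∃ c : F, c ^ (q + 1) = 1 ∧
      A ^ (Fintype.card F ^ j * N) = c • (1 : Matrix (Fin n) (Fin n) F) := by
  classical
  haveI : Fact (Irreducible f) := ⟨hf⟩
  obtain ⟨s, hs⟩ : ∃ s, s = A ^ (Fintype.card F ^ k) := ⟨_, rfl⟩
  have hsf : aeval s f = 0 := by
    obtain ⟨h, hh⟩ := aeval_pow_card_mul A f k
    rw [hs, hh, map_mul, hfa, mul_zero]
  have hsdet : s.det = 1 := by rw [hs, Matrix.det_pow, hAdet, one_pow]
  have hg : aeval (Matrix.toLin' s) f = 0 := by rw [aeval_toLin', hsf, map_zero]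
  obtain ⟨k', hk1, hk2⟩ := det_eq_norm_pow (Matrix.toLin' s) f hf hg
  rw [Module.finrank_fin_fun, ] at hk1
  rw [LinearMap.det_toLin', hsdet] at hk2
  have hθ := order_typeI hF f hfm hf hf0 htw k' n N hk1 hN hk2.symm
  obtain ⟨c, hc1, hc2⟩ := pow_mul_idem_eq_smul hF s 1 f hf (by rw [mul_one]; exact hsf) N hθ
  refine ⟨k, c, hc1, ?_⟩
  rw [pow_mul, ← hs]
  rw [mul_one] at hc2
  exact hc2

/-- the hyperbolic case -/
theorem typeII_scalar (hF : Fintype.card F = q ^ 2) (n : ℕ) (N : ℕ)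
    (hN : N * Nat.gcd n (q + 1) = gu q n) (A : Matrix (Fin n) (Fin n) F)
    (hAu : cT (tauHom hF) A * A = 1) (hAdet : A.det = 1)
    (f : F[X]) (hfm : f.Monic) (hf : Irreducible f) (hf0 : f.coeff 0 ≠ 0) (k : ℕ)
    (e : Matrix (Fin n) (Fin n) F) (he : e * e = e) (hAe : Commute A e)
    (hes : cT (tauHom hF) e = 1 - e) (hfe : aeval A (f ^ k) * e = 0) :
    ∃ j : ℕ, ∃ c : F, c ^ (q + 1) = 1 ∧
      A ^ (Fintype.card F ^ j * N) = c • (1 : Matrix (Fin n) (Fin n) F) := by
  classical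
  haveI : Fact (Irreducible f) := ⟨hf⟩
  obtain ⟨τ, hτdef⟩ : ∃ τ, τ = tauHom hF := ⟨_, rfl⟩
  rw [← hτdef] at hAu hes
  have hτ : ∀ a, τ (τ a) = a := by rw [hτdef]; exact tauHom_tauHom hF
  obtain ⟨s, hs⟩ : ∃ s, s = A ^ (Fintype.card F ^ k) := ⟨_, rfl⟩
  have hse : Commute s e := by rw [hs]; exact hAe.pow_left _
  have hsf : aeval s f * e = 0 := by
    obtain ⟨h, hh⟩ := aeval_pow_card_mul A f k
    rw [hs, hh, map_mul, mul_assoc, hfe, mul_zero]
  have hsdet : s.det = 1 := by rw [hs, Matrix.det_pow, hAdet, one_pow]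
  have hAu' : A * cT τ A = 1 := mul_eq_one_comm.1 hAu
  have hcomm : Commute (cT τ A) A := by rw [Commute, SemiconjBy, hAu, hAu']
  have hsu : cT τ s * s = 1 := by
    rw [hs, cT_pow, ← hcomm.mul_pow, hAu, one_pow]
  have hsu' : s * cT τ s = 1 := mul_eq_one_comm.1 hsu
  have hse' : Commute s (1 - e) := (Commute.one_right s).sub_right hse
  -- the auxiliary operator
  obtain ⟨y, hy⟩ : ∃ y, y = s * e + (1 - e) := ⟨_, rfl⟩
  have hkey : s * cT τ y = y := by
    rw [hy, cT_add, cT_mul, cT_sub, cT_one, hes, sub_sub_cancel, mul_add, ← mul_assoc,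
      hse'.eq, mul_assoc, hsu', mul_one, add_comm]
  have hdety : τ y.det = y.det := by
    have := congrArg Matrix.det hkey
    rw [Matrix.det_mul, hsdet, one_mul, det_cT] at this
    exact this
  -- the determinant of `y`
  have hg : aeval (Matrix.toLin' s) f * Matrix.toLin' e = 0 := by
    rw [aeval_toLin', ← toLin'_mul_end, hsf, map_zero]
  have he' : Matrix.toLin' e * Matrix.toLin' e = Matrix.toLin' e := by
    rw [← toLin'_mul_end, he]
  have hc' : Matrix.toLin' s * Matrix.toLin' e = Matrix.toLin' e * Matrix.toLin' s := by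
    rw [← toLin'_mul_end, ← toLin'_mul_end, hse.eq]
  obtain ⟨k', hk1, hk2⟩ := det_add_compl (Matrix.toLin' s) (Matrix.toLin' e) he' hc' f hf hg
  have hy' : Matrix.toLin' s * Matrix.toLin' e + (1 - Matrix.toLin' e) = Matrix.toLin' y := by
    rw [hy, map_add, map_sub, toLin'_mul_end, Matrix.toLin'_one]
    rfl
  rw [hy', LinearMap.det_toLin'] at hk2
  -- the rank
  have hr1 : e.rank = f.natDegree * k' := by
    rw [← hk1]; rfl
  have hr2 : (1 - e).rank = e.rank := by rw [← hes, rank_cT τ hτ]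
  have hr3 : (1 - e).rank + e.rank = n := by
    have h1 := LinearMap.finrank_range_add_finrank_ker (Matrix.toLin' e)
    rw [Module.finrank_fin_fun] at h1
    have h2 : LinearMap.ker (Matrix.toLin' e) = LinearMap.range (Matrix.toLin' (1 - e)) := by
      ext v
      rw [LinearMap.mem_ker, LinearMap.mem_range]
      constructor
      · intro hv
        refine ⟨v, ?_⟩
        rw [map_sub, Matrix.toLin'_one, LinearMap.sub_apply, hv, sub_zero]
        rfl
      · rintro ⟨w, rfl⟩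
        rw [← Module.End.mul_apply, ← toLin'_mul_end, mul_sub, mul_one, he, sub_self, map_zero]
        rfl
    rw [h2] at h1
    rw [add_comm]
    exact h1
  have hn : n = 2 * f.natDegree * k' := by
    rw [hr2, hr1] at hr3
    rw [← hr3]; ring
  have hδ : ((Algebra.norm F (AdjoinRoot.root f)) ^ k') ^ q =
      (Algebra.norm F (AdjoinRoot.root f)) ^ k' := by
    rw [← hk2, ← tauHom_apply hF, ← hτdef]; exact hdety
  have hθ := order_typeII hF f hfm hf hf0 k' n N hn hN hδ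
  obtain ⟨c, hc1, hc2⟩ := pow_mul_idem_eq_smul hF s e f hf hsf N hθ
  -- the other half
  have hc0 : c ≠ 0 := by
    rintro rfl
    rw [zero_pow (by omega)] at hc1
    exact zero_ne_one hc1
  have h3 : (1 - e) * (cT τ s) ^ N = (c ^ q) • (1 - e) := by
    have := congrArg (cT τ) hc2
    have hτq : ∀ a, τ a = a ^ q := by rw [hτdef]; exact tauHom_apply hF
    rw [cT_mul, cT_smul, cT_pow, hes, hτq] at this
    exact this
  have hcs : Commute (cT τ s) s := by rw [Commute, SemiconjBy, hsu, hsu']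
  have h4 : (cT τ s) ^ N * s ^ N = 1 := by rw [← hcs.mul_pow, hsu, one_pow]
  have h5 : (1 - e) = (c ^ q) • ((1 - e) * s ^ N) := by
    have := congrArg (fun M => M * s ^ N) h3
    simp only [mul_assoc, h4, mul_one, smul_mul_assoc] at this
    exact this
  have h6 : s ^ N * (1 - e) = c • (1 - e) := by
    rw [(hse'.pow_left N).eq]
    have := congrArg (fun M => c • M) h5
    simp only [smul_smul] at this
    rw [← pow_succ', hc1, one_smul] at this
    exact this.symm
  refine ⟨k, c, hc1, ?_⟩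
  rw [pow_mul, ← hs]
  have h7 : s ^ N = s ^ N * e + s ^ N * (1 - e) := by
    rw [← mul_add, add_sub_cancel, mul_one]
  rw [h7, hc2, h6, ← smul_add, add_sub_cancel]

end

end Cfsg.Agent.Lib.Helper40.PSUr
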