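import Cfsg.Agent.Lib.Helper40.PSUrDet
set_option autoImplicit false
open Polynomial

namespace Cfsg.Agent.Lib.Helper40.PSUr

open Cfsg.Agent.Lib.Helper40.PG Cfsg.Agent.Lib.Helper40.PSp Cfsg.Agent.Lib.Helper40.PSL3
  Cfsg.Agent.Lib.Helper40.PrimeOrder Cfsg.Agent.Lib.Helper40.Herm Cfsg.Agent.Lib.Helper40.PSLn
  Cfsg.Agent.Lib.Helper40.PSUn

section frob
variable {F : Type*} [Field F] [Fintype F] {q : ℕ}

/-- an irreducible polynomial fixed by the twist has odd degree `d` and its roots have order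
dividing `q ^ d + 1` -/
theorem tw_eq_self_imp (hF : Fintype.card F = q ^ 2) (π : F[X]) (hm : π.Monic)
    (hi : Irreducible π) (h0 : π.coeff 0 ≠ 0) (htw : tw hF π = π) :
    haveI : Fact (Irreducible π) := ⟨hi⟩
    Odd π.natDegree ∧ (AdjoinRoot.root π) ^ (q ^ π.natDegree + 1) = 1 := by
  haveI : Fact (Irreducible π) := ⟨hi⟩
  have hq2 : 2 ≤ q := Cfsg.Agent.Lib.Helper44.two_le_q_of_card hF
  have hρ0 : AdjoinRoot.root π ≠ 0 := root_ne_zero π hm hi h0
  set pb := AdjoinRoot.powerBasis hm.ne_zero with hpb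
  have : Module.Finite F (AdjoinRoot π) := pb.finite
  have : Finite (AdjoinRoot π) := Module.finite_of_finite F
  letI : Fintype (AdjoinRoot π) := Fintype.ofFinite _
  obtain ⟨ψ, hψ⟩ := exists_frobE hF (AdjoinRoot π)
  obtain ⟨d, hd⟩ : ∃ d, d = π.natDegree := ⟨_, rfl⟩
  have hfr : Module.finrank F (AdjoinRoot π) = d := by
    rw [pb.finrank, hpb, AdjoinRoot.powerBasis_dim, hd]
  have hcard : Fintype.card (AdjoinRoot π) = (q ^ 2) ^ d := by
    rw [Module.card_eq_pow_finrank (K := F), hfr, hF]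
  have h1 : eval₂ (algebraMap F (AdjoinRoot π)) (AdjoinRoot.root π ^ q) (π.map (tauHom hF)) = 0 := by
    have h2 : eval₂ (algebraMap F (AdjoinRoot π)) (AdjoinRoot.root π) π = 0 :=
      AdjoinRoot.eval₂_root π
    have h3 := congrArg ψ h2
    rw [hom_eval₂, map_zero, hψ] at h3
    rw [eval₂_map]
    have h4 : ψ.comp (algebraMap F (AdjoinRoot π)) =
        (algebraMap F (AdjoinRoot π)).comp (tauHom hF) := by
      ext c
      simp only [RingHom.comp_apply, hψ, tauHom_apply, map_pow]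
    rw [← h4]; exact h3
  have hx0 : AdjoinRoot.root π ^ q ≠ 0 := pow_ne_zero q hρ0
  have h5 : eval₂ (algebraMap F (AdjoinRoot π)) ((AdjoinRoot.root π ^ q)⁻¹)
      (π.map (tauHom hF)).reverse = 0 := by
    letI : Invertible (AdjoinRoot.root π ^ q) := invertibleOfNonzero hx0
    have h6 := eval₂_reverse_mul_pow (algebraMap F (AdjoinRoot π)) (AdjoinRoot.root π ^ q)
      (π.map (tauHom hF))
    rw [h1, invOf_eq_inv] at h6
    rcases mul_eq_zero.1 h6 with h7 | h7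
    · exact h7
    · exact absurd h7 (pow_ne_zero _ hx0)
  have h8 : eval₂ (↑(Algebra.ofId F (AdjoinRoot π)) : F →+* AdjoinRoot π)
      ((AdjoinRoot.root π ^ q)⁻¹) π = 0 := by
    show eval₂ (algebraMap F (AdjoinRoot π)) ((AdjoinRoot.root π ^ q)⁻¹) π = 0
    rw [reverse_map_eq hF π h0, htw, eval₂_mul, eval₂_C] at h5
    rcases mul_eq_zero.1 h5 with h9 | h9
    · exfalso
      have : tauHom hF (π.coeff 0) ≠ 0 := (_root_.map_ne_zero _).2 h0
      exact this ((map_eq_zero _).1 h9)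
    · exact h9
  set φ : AdjoinRoot π →ₐ[F] AdjoinRoot π :=
    AdjoinRoot.liftAlgHom π (Algebra.ofId F (AdjoinRoot π)) ((AdjoinRoot.root π ^ q)⁻¹) h8 with hφ
  have hφρ : φ (AdjoinRoot.root π) = (AdjoinRoot.root π ^ q)⁻¹ :=
    AdjoinRoot.liftAlgHom_root π (Algebra.ofId F (AdjoinRoot π)) _ h8
  obtain ⟨i, hi'⟩ := (FiniteField.bijective_frobeniusAlgHom_pow F (AdjoinRoot π)).2 φ
  have h10 : (AdjoinRoot.root π) ^ ((q ^ 2) ^ (i : ℕ)) = (AdjoinRoot.root π ^ q)⁻¹ := by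
    rw [← hφρ, ← hi', ← hF]
    simp only [AlgHom.coe_pow, FiniteField.coe_frobeniusAlgHom, pow_iterate]
  obtain ⟨θ, hθ⟩ : ∃ θ, θ = AdjoinRoot.root π := ⟨_, rfl⟩
  rw [← hθ] at h10 hx0 hρ0 ⊢
  have hθK : ∀ u : ℕ, θ ^ (((q ^ 2) ^ d) ^ u) = θ := by
    intro u
    rw [← hcard]
    exact FiniteField.pow_card_pow u θ
  -- pass to a positive exponent
  obtain ⟨j, hj⟩ : ∃ j : ℕ, j = (i : ℕ) + d := ⟨_, rfl⟩
  have hd1 : 1 ≤ d := by rw [hd]; exact hi.natDegree_pos
  have h11 : θ ^ ((q ^ 2) ^ j) = (θ ^ q)⁻¹ := by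
    rw [hj, pow_add, mul_comm, pow_mul, ← pow_one ((q ^ 2) ^ d), hθK 1, h10]
  obtain ⟨E, hE⟩ : ∃ E, E = q ^ (2 * j - 1) := ⟨_, rfl⟩
  have hEq : E * q = (q ^ 2) ^ j := by
    rw [hE, ← pow_succ, ← pow_mul]
    congr 1
    omega
  have h12 : θ ^ E * θ = 1 := by
    apply ψ.injective
    rw [map_mul, hψ, hψ, ← pow_mul, hEq, h11, map_one, inv_mul_cancel₀ hx0]
  have h13 : θ ^ E = θ⁻¹ := eq_inv_of_mul_eq_one_left h12
  have h14 : θ ^ (E * E) = θ := by
    rw [pow_mul, h13, inv_pow, h13, inv_inv]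
  have hEE : E * E = Fintype.card F ^ (2 * j - 1) := by
    rw [hE, hF, ← pow_mul, ← pow_add]
    congr 1
    omega
  have h15 : π ∣ X ^ (Nat.card F) ^ (2 * j - 1) - X := by
    rw [← AdjoinRoot.mk_eq_zero, map_sub, map_pow, AdjoinRoot.mk_X, Nat.card_eq_fintype_card,
      ← hEE, ← hθ, h14, sub_self]
  have h16 : d ∣ 2 * j - 1 := by
    rw [hd]; exact hi.natDegree_dvd_of_dvd_X_pow_card_pow_sub_X h15
  have hodd : Odd d := by
    have h17 : Odd (2 * j - 1) := by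
      have : 1 ≤ j := by omega
      exact ⟨j - 1, by omega⟩
    exact Odd.of_dvd_nat h17 h16
  refine ⟨by rw [← hd]; exact hodd, ?_⟩
  obtain ⟨t, ht⟩ := h16
  have htodd : Odd t := by
    have h17 : Odd (2 * j - 1) := by
      have : 1 ≤ j := by omega
      exact ⟨j - 1, by omega⟩
    rw [ht] at h17
    exact (Nat.odd_mul.1 h17).2
  obtain ⟨u, hu⟩ := htodd
  have h18 : E = ((q ^ 2) ^ d) ^ u * q ^ d := by
    rw [hE, ht, hu, ← pow_mul, ← pow_mul, ← pow_add]
    congr 1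
    ring
  have h19 : θ ^ (q ^ d) = θ⁻¹ := by
    rw [← h13, h18, pow_mul, hθK u]
  rw [← hd, pow_succ, h19, inv_mul_cancel₀ hρ0]

/-- conversely, if a root has order dividing `q ^ m + 1` with `m` odd then the polynomial is
fixed by the twist -/
theorem tw_eq_self_of_pow (hF : Fintype.card F = q ^ 2) (π : F[X]) (hm : π.Monic)
    (hi : Irreducible π) (h0 : π.coeff 0 ≠ 0) (m : ℕ) (hmodd : Odd m)
    (h : haveI : Fact (Irreducible π) := ⟨hi⟩; (AdjoinRoot.root π) ^ (q ^ m + 1) = 1) :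
    tw hF π = π := by
  haveI : Fact (Irreducible π) := ⟨hi⟩
  have hρ0 : AdjoinRoot.root π ≠ 0 := root_ne_zero π hm hi h0
  set pb := AdjoinRoot.powerBasis hm.ne_zero with hpb
  have : Module.Finite F (AdjoinRoot π) := pb.finite
  have : Finite (AdjoinRoot π) := Module.finite_of_finite F
  obtain ⟨ψ, hψ⟩ := exists_frobE hF (AdjoinRoot π)
  obtain ⟨u, hu⟩ := hmodd
  obtain ⟨θ, hθ⟩ : ∃ θ, θ = AdjoinRoot.root π := ⟨_, rfl⟩
  rw [← hθ] at h hρ0
  obtain ⟨y, hy⟩ : ∃ y, y = θ ^ (Fintype.card F ^ u) := ⟨_, rfl⟩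
  have hyroot : eval₂ (algebraMap F (AdjoinRoot π)) y π = 0 := by
    have h2 : aeval (AdjoinRoot.root π) π = 0 := by
      rw [aeval_def]; exact AdjoinRoot.eval₂_root π
    have h3 : y = ((FiniteField.frobeniusAlgHom F (AdjoinRoot π)) ^ u) (AdjoinRoot.root π) := by
      rw [hy, hθ]
      simp only [AlgHom.coe_pow, FiniteField.coe_frobeniusAlgHom, pow_iterate]
    rw [← aeval_def, h3, Polynomial.aeval_algHom_apply, h2, map_zero]
  have hψy : ψ y = θ⁻¹ := by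
    rw [hψ, hy, ← pow_mul, hF, ← pow_mul]
    have h4 : θ ^ (q ^ m) * θ = 1 := by rw [← pow_succ]; exact h
    have h5 : q ^ (2 * u) * q = q ^ m := by rw [← pow_succ, hu]
    rw [h5]
    exact eq_inv_of_mul_eq_one_left h4
  have h1 : eval₂ (algebraMap F (AdjoinRoot π)) (θ⁻¹) (π.map (tauHom hF)) = 0 := by
    have h3 := congrArg ψ hyroot
    rw [hom_eval₂, map_zero, hψy] at h3
    rw [eval₂_map]
    have h4 : ψ.comp (algebraMap F (AdjoinRoot π)) =
        (algebraMap F (AdjoinRoot π)).comp (tauHom hF) := by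
      ext c
      simp only [RingHom.comp_apply, hψ, tauHom_apply, map_pow]
    rw [← h4]; exact h3
  have hx0 : θ⁻¹ ≠ 0 := inv_ne_zero hρ0
  have h5 : eval₂ (algebraMap F (AdjoinRoot π)) θ (π.map (tauHom hF)).reverse = 0 := by
    letI : Invertible (θ⁻¹) := invertibleOfNonzero hx0
    have h6 := eval₂_reverse_mul_pow (algebraMap F (AdjoinRoot π)) (θ⁻¹) (π.map (tauHom hF))
    rw [h1, invOf_eq_inv, inv_inv] at h6
    rcases mul_eq_zero.1 h6 with h7 | h7
    · exact h7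
    · exact absurd h7 (pow_ne_zero _ hx0)
  rw [reverse_map_eq hF π h0, eval₂_mul, eval₂_C] at h5
  have h6 : eval₂ (algebraMap F (AdjoinRoot π)) θ (tw hF π) = 0 := by
    rcases mul_eq_zero.1 h5 with h9 | h9
    · exfalso
      have : tauHom hF (π.coeff 0) ≠ 0 := (_root_.map_ne_zero _).2 h0
      exact this ((map_eq_zero _).1 h9)
    · exact h9
  have h7 : π ∣ tw hF π := by
    rw [← AdjoinRoot.mk_eq_zero, ← AdjoinRoot.aeval_eq, aeval_def, ← hθ]
    exact h6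
  exact Polynomial.eq_of_monic_of_dvd_of_natDegree_le hm (tw_monic hF π h0) h7
    (by rw [tw_natDegree hF π h0])

end frob

end Cfsg.Agent.Lib.Helper40.PSUr
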