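import Cfsg.Agent.Lib.Helper40.PSUrCox2
set_option autoImplicit false
open Polynomial

namespace Cfsg.Agent.Lib.Helper40.PSUr

open Cfsg.Agent.Lib.Helper40.PG Cfsg.Agent.Lib.Helper40.PSp Cfsg.Agent.Lib.Helper40.PSL3
  Cfsg.Agent.Lib.Helper40.PrimeOrder Cfsg.Agent.Lib.Helper40.Herm Cfsg.Agent.Lib.Helper40.PSLn
  Cfsg.Agent.Lib.Helper40.PSUn Cfsg.Agent.Lib.Helper43.HermSqrt Cfsg.Agent.Lib.Helper40.PSLr
  Cfsg.Agent.Lib.Helper99.SURoot Cfsg.Agent.Lib.Helper40.PSL2k

section shift
variable {F : Type*} [Field F]

open Matrix in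
/-- a nilpotent matrix of maximal index is conjugate to the shift matrix -/
theorem exists_conj_shift (m : ℕ) (N : Matrix (Fin m) (Fin m) F)
    (h0 : N ^ m = 0) (h1 : N ^ (m - 1) ≠ 0) :
    ∃ C : Matrix (Fin m) (Fin m) F, IsUnit C ∧ N * C = C * shiftMat m F := by
  classical
  obtain ⟨v, hv⟩ : ∃ v : Fin m → F, (N ^ (m - 1)) *ᵥ v ≠ 0 := by
    by_contra hcon
    push Not at hcon
    apply h1
    ext a b
    have := congrFun (hcon (Pi.single b 1)) a
    rw [Matrix.mulVec_single_one] at this
    exact this
  obtain ⟨w, hw⟩ : ∃ w : ℕ → (Fin m → F), ∀ j, w j = (N ^ j) *ᵥ v := ⟨_, fun _ => rfl⟩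
  have hwN : ∀ j, N *ᵥ w j = w (j + 1) := by
    intro j; rw [hw, hw, Matrix.mulVec_mulVec, ← pow_succ']
  have hwpow : ∀ t j, (N ^ t) *ᵥ w j = w (t + j) := by
    intro t j; rw [hw, hw, Matrix.mulVec_mulVec, ← pow_add]
  have hw0 : ∀ j, m ≤ j → w j = 0 := by
    intro j hj
    obtain ⟨t, rfl⟩ := Nat.exists_eq_add_of_le hj
    rw [hw, pow_add, h0, zero_mul, Matrix.zero_mulVec]
  have hwm : w (m - 1) ≠ 0 := by rw [hw]; exact hv
  obtain ⟨C, hC⟩ : ∃ C : Matrix (Fin m) (Fin m) F, ∀ a i, C a i = w (m - 1 - i.val) a :=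
    ⟨Matrix.of (fun a (i : Fin m) => w (m - 1 - i.val) a), fun _ _ => rfl⟩
  have hCcol : ∀ c : Fin m → F, C *ᵥ c = ∑ i, c i • w (m - 1 - i.val) := by
    intro c
    funext a
    rw [Matrix.mulVec, dotProduct, Finset.sum_apply]
    apply Finset.sum_congr rfl
    intro i _
    rw [hC, Pi.smul_apply, smul_eq_mul, mul_comm]
  have hker : ∀ c : Fin m → F, C *ᵥ c = 0 → c = 0 := by
    intro c hc
    rw [hCcol] at hc
    have hclaim : ∀ t, t ≤ m → ∀ i : Fin m, m - t ≤ i.val → c i = 0 := by
      intro t
      induction t with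
      | zero =>
        intro _ i hi
        have := i.2
        omega
      | succ t ih =>
        intro ht i hi
        by_cases hi' : m - t ≤ i.val
        · exact ih (by omega) i hi'
        · have hival : i.val = m - t - 1 := by omega
          have h2 : (N ^ (m - 1 - t)).mulVecLin (∑ i, c i • w (m - 1 - i.val)) = 0 := by
            rw [hc, map_zero]
          rw [map_sum] at h2
          simp only [map_smul, Matrix.mulVecLin_apply, hwpow] at h2
          rw [Finset.sum_eq_single i] at h2
          · have h3 : m - 1 - t + (m - 1 - i.val) = m - 1 := by omega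
            rw [h3] at h2
            rcases smul_eq_zero.1 h2 with h4 | h4
            · exact h4
            · exact absurd h4 hwm
          · intro k _ hk
            rcases Nat.lt_or_ge k.val i.val with hlt | hge
            · rw [hw0 _ (by omega), smul_zero]
            · have hne : k.val ≠ i.val := fun h => hk (Fin.ext h)
              rw [ih (by omega) k (by omega), zero_smul]
          · intro h; exact absurd (Finset.mem_univ i) h
    funext i
    exact hclaim m le_rfl i (by omega)
  refine ⟨C, ?_, ?_⟩
  · rw [← Matrix.mulVec_injective_iff_isUnit]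
    intro c c' h
    have h2 : C *ᵥ (c - c') = 0 := by rw [Matrix.mulVec_sub, h, sub_self]
    exact sub_eq_zero.1 (hker _ h2)
  · ext a i
    have hL : (N * C) a i = w (m - i.val) a := by
      rw [Matrix.mul_apply]
      have h3 : N *ᵥ w (m - 1 - i.val) = w (m - i.val) := by
        rw [hwN]
        congr 1
        have := i.2
        omega
      rw [← h3, Matrix.mulVec, dotProduct]
      apply Finset.sum_congr rfl
      intro b _
      rw [hC]
    rw [hL, Matrix.mul_apply]
    by_cases hi0 : i.val = 0
    · rw [hi0, Nat.sub_zero, hw0 m le_rfl]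
      symm
      apply Finset.sum_eq_zero
      intro k _
      unfold shiftMat
      rw [if_neg (by omega), mul_zero]
    · have hk0 : i.val - 1 < m := by have := i.2; omega
      rw [Finset.sum_eq_single (⟨i.val - 1, hk0⟩ : Fin m)]
      · unfold shiftMat
        rw [if_pos (by simp only; omega), mul_one, hC]
        have h5 : m - 1 - (⟨i.val - 1, hk0⟩ : Fin m).val = m - i.val := by
          show m - 1 - (i.val - 1) = m - i.val
          have := i.2
          omega
        rw [h5]
      · intro k _ hk
        unfold shiftMat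
        rw [if_neg, mul_zero]
        intro h
        apply hk
        apply Fin.ext
        simp only
        omega
      · intro h; exact absurd (Finset.mem_univ _) h

end shift

end Cfsg.Agent.Lib.Helper40.PSUr
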