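import Cfsg.Agent.Lib.Helper40.PSUrUnip
set_option autoImplicit false
open Polynomial

namespace Cfsg.Agent.Lib.Helper40.PSUr

open Cfsg.Agent.Lib.Helper40.PG Cfsg.Agent.Lib.Helper40.PSp Cfsg.Agent.Lib.Helper40.PSL3
  Cfsg.Agent.Lib.Helper40.PrimeOrder Cfsg.Agent.Lib.Helper40.Herm Cfsg.Agent.Lib.Helper40.PSLn
  Cfsg.Agent.Lib.Helper40.PSUn Cfsg.Agent.Lib.Helper43.HermSqrt Cfsg.Agent.Lib.Helper40.PSLr
  Cfsg.Agent.Lib.Helper99.SURoot Cfsg.Agent.Lib.Helper40.PSL2k

section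
variable {F : Type*} [Field F] [Fintype F] {q : ℕ}

/-- a regular unipotent element of `GU(m, q)` -/
theorem exists_unipotent_GU (hF : Fintype.card F = q ^ 2) (p : ℕ) [Fact p.Prime] [CharP F p]
    (m : ℕ) (hm : 0 < m) :
    ∃ B : Matrix (Fin m) (Fin m) F, cT (tauHom hF) B * B = 1 ∧
      ∀ j : ℕ, B ^ j = 1 ↔ (1 + shiftMat m F) ^ j = 1 := by
  classical
  have hp : p.Prime := Fact.out
  have hq2 : 2 ≤ q := Cfsg.Agent.Lib.Helper44.two_le_q_of_card hF
  haveI : Nonempty (Fin m) := ⟨⟨0, hm⟩⟩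
  obtain ⟨S, hS⟩ : ∃ S : Matrix (Fin m) (Fin m) F, S = shiftMat m F := ⟨_, rfl⟩
  obtain ⟨U, hU⟩ : ∃ U : Matrix (Fin m) (Fin m) F, U = 1 + S := ⟨_, rfl⟩
  rw [← hS, ← hU]
  have hSm : S ^ m = 0 := by rw [hS]; exact (shiftMat_pow_eq_zero_iff m m hm).2 le_rfl
  have hSm1 : S ^ (m - 1) ≠ 0 := by
    rw [hS]
    intro h
    have := (shiftMat_pow_eq_zero_iff (F := F) m (m - 1) hm).1 h
    omega
  -- `U` is invertible
  obtain ⟨t, ht⟩ : ∃ t, m ≤ p ^ t := ⟨m, (Nat.lt_pow_self hp.one_lt).le⟩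
  have hUt : U ^ (p ^ t) = 1 := by
    rw [hU, add_pow_char_pow_of_commute p t (Commute.one_left _), one_pow]
    obtain ⟨s, hs⟩ := Nat.exists_eq_add_of_le ht
    rw [hs, pow_add, hSm, zero_mul, add_zero]
  have hpt : 0 < p ^ t := pow_pos hp.pos t
  have hUU : U * U ^ (p ^ t - 1) = 1 := by
    rw [← pow_succ', Nat.sub_add_cancel hpt, hUt]
  have hUU' : U ^ (p ^ t - 1) * U = 1 := by
    rw [← pow_succ, Nat.sub_add_cancel hpt, hUt]
  set UG : GL (Fin m) F := ⟨U, U ^ (p ^ t - 1), hUU, hUU'⟩ with hUG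
  -- the adjoint
  have hSτ : S.map (fun x : F => x ^ q) = S := by
    ext i j
    rw [Matrix.map_apply, hS]
    unfold shiftMat
    split_ifs
    · rw [one_pow]
    · rw [zero_pow (by omega)]
  have hUτ : U.map (fun x : F => x ^ q) = U := by
    have h1 : U.map (fun x : F => x ^ q) = (tauHom hF).mapMatrix U := rfl
    rw [h1, hU, map_add, map_one]
    have h2 : (tauHom hF).mapMatrix S = S.map (fun x : F => x ^ q) := rfl
    rw [h2, hSτ]
  -- the inverse transpose
  obtain ⟨V, hV⟩ : ∃ V : Matrix (Fin m) (Fin m) F, V = (U ^ (p ^ t - 1)).transpose := ⟨_, rfl⟩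
  have hVU : V * U.transpose = 1 := by
    rw [hV, ← Matrix.transpose_mul, hUU, Matrix.transpose_one]
  have hUV : U.transpose * V = 1 := mul_eq_one_comm.1 hVU
  have hVinv : (U.transpose)⁻¹ = V := Matrix.inv_eq_right_inv hUV
  obtain ⟨N', hN'⟩ : ∃ N' : Matrix (Fin m) (Fin m) F, N' = V - 1 := ⟨_, rfl⟩
  have hUT : U.transpose = 1 + S.transpose := by
    rw [hU, Matrix.transpose_add, Matrix.transpose_one]
  have hN'eq : N' = -(V * S.transpose) := by
    have h1 : V * (1 + S.transpose) = 1 := by rw [← hUT]; exact hVU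
    rw [mul_add, mul_one] at h1
    rw [hN', ← h1]
    abel
  have hcVS : Commute V S.transpose := by
    have h1 : Commute V U.transpose := by rw [Commute, SemiconjBy, hVU, hUV]
    rw [hUT] at h1
    have h2 : Commute V (1 + S.transpose - 1) := h1.sub_right (Commute.one_right V)
    rwa [add_sub_cancel_left] at h2
  have hN'pow : ∀ j, N' ^ j = (-1 : F) ^ j • (V ^ j * S.transpose ^ j) := by
    intro j
    have h1 : N' = (-1 : F) • (V * S.transpose) := by rw [hN'eq, neg_one_smul]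
    rw [h1, _root_.smul_pow, hcVS.mul_pow]
  have hN'm : N' ^ m = 0 := by
    rw [hN'pow, ← Matrix.transpose_pow, hSm, Matrix.transpose_zero, mul_zero, smul_zero]
  have hN'm1 : N' ^ (m - 1) ≠ 0 := by
    intro h
    rw [hN'pow] at h
    have h2 : V ^ (m - 1) * S.transpose ^ (m - 1) = 0 := by
      rcases smul_eq_zero.1 h with h3 | h3
      · exact absurd h3 (pow_ne_zero _ (neg_ne_zero.2 one_ne_zero))
      · exact h3
    have hcUV : Commute U.transpose V := by rw [Commute, SemiconjBy, hVU, hUV]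
    have h4 : U.transpose ^ (m - 1) * V ^ (m - 1) = 1 := by
      rw [← hcUV.mul_pow, hUV, one_pow]
    have h5 : S.transpose ^ (m - 1) = 0 := by
      have := congrArg (fun M => U.transpose ^ (m - 1) * M) h2
      simp only [← mul_assoc, h4, one_mul, mul_zero] at this
      exact this
    apply hSm1
    rw [← Matrix.transpose_pow] at h5
    have := congrArg Matrix.transpose h5
    rwa [Matrix.transpose_transpose, Matrix.transpose_zero] at this
  obtain ⟨C, hCu, hNC⟩ := exists_conj_shift m N' hN'm hN'm1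
  rw [← hS] at hNC
  have hVC : C * U = V * C := by
    have hV1 : V = 1 + N' := by rw [hN']; abel
    rw [hV1, hU, mul_add, add_mul, mul_one, one_mul, hNC]
  obtain ⟨u, hu⟩ := hCu
  have hconj : IsConj (U : Matrix (Fin m) (Fin m) F) V := ⟨u, by
    rw [SemiconjBy, hu]; exact hVC⟩
  have hconj' : IsConj ((UG : GL (Fin m) F) : Matrix (Fin m) (Fin m) F)
      (((UG : GL (Fin m) F) : Matrix (Fin m) (Fin m) F).map (fun x : F => x ^ q)).transpose⁻¹ := by
    have h1 : ((UG : GL (Fin m) F) : Matrix (Fin m) (Fin m) F) = U := rfl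
    rw [h1, hUτ, hVinv]
    exact hconj
  obtain ⟨B, hB⟩ := (Cfsg.Agent.S2588.result hF UG).2 hconj'
  refine ⟨((B : GL (Fin m) F) : Matrix (Fin m) (Fin m) F), ?_, ?_⟩
  · exact (mem_GU_iff_cT (by omega) (tauHom hF) (tauHom_apply hF) (B : GL (Fin m) F)).1 B.2
  · intro j
    obtain ⟨c, hc⟩ := isConj_iff.1 hB
    have h1 : ((B : GL (Fin m) F)) ^ j = 1 ↔ UG ^ j = 1 := by
      rw [← hc, conj_pow, conj_eq_one_iff]
    have h2 : (((B : GL (Fin m) F)) ^ j = 1) ↔
        ((B : GL (Fin m) F) : Matrix (Fin m) (Fin m) F) ^ j = 1 := by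
      rw [Units.ext_iff, Units.val_pow_eq_pow_val, Units.val_one]
    have h3 : (UG ^ j = 1) ↔ U ^ j = 1 := by
      rw [Units.ext_iff, Units.val_pow_eq_pow_val, Units.val_one]
    rw [← h2, h1, h3]

end

end Cfsg.Agent.Lib.Helper40.PSUr
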