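import Cfsg.Agent.Lib.Helper40.PSUrUnip2
set_option autoImplicit false
open Polynomial

namespace Cfsg.Agent.Lib.Helper40.PSUr

open Cfsg.Agent.Lib.Helper40.PG Cfsg.Agent.Lib.Helper40.PSp Cfsg.Agent.Lib.Helper40.PSL3
  Cfsg.Agent.Lib.Helper40.PrimeOrder Cfsg.Agent.Lib.Helper40.Herm Cfsg.Agent.Lib.Helper40.PSLn
  Cfsg.Agent.Lib.Helper40.PSUn Cfsg.Agent.Lib.Helper43.HermSqrt Cfsg.Agent.Lib.Helper40.PSLr
  Cfsg.Agent.Lib.Helper99.SURoot Cfsg.Agent.Lib.Helper40.PSL2k

section blocks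
variable {F : Type*} [Field F]

theorem cT_fromBlocks (τ : F →+* F) {m k : ℕ} (X : Matrix (Fin m) (Fin m) F)
    (Y : Matrix (Fin k) (Fin k) F) :
    cT τ (Matrix.fromBlocks X 0 0 Y) = Matrix.fromBlocks (cT τ X) 0 0 (cT τ Y) := by
  unfold cT
  rw [Matrix.fromBlocks_map, Matrix.fromBlocks_transpose]
  simp [Matrix.map_zero]

theorem cT_reindex (τ : F →+* F) {ι κ : Type*} [Fintype ι] [DecidableEq ι] [Fintype κ]
    [DecidableEq κ] (e : ι ≃ κ) (M : Matrix ι ι F) :
    cT τ (Matrix.reindexAlgEquiv F F e M) = Matrix.reindexAlgEquiv F F e (cT τ M) := by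
  ext i j
  simp [cT_apply, Matrix.reindexAlgEquiv_apply, Matrix.reindex_apply, Matrix.submatrix_apply]

theorem fromBlocks_diag_pow {m k : ℕ} (X : Matrix (Fin m) (Fin m) F)
    (Y : Matrix (Fin k) (Fin k) F) (j : ℕ) :
    (Matrix.fromBlocks X 0 0 Y) ^ j = Matrix.fromBlocks (X ^ j) 0 0 (Y ^ j) := by
  induction j with
  | zero => rw [pow_zero, pow_zero, pow_zero, Matrix.fromBlocks_one]
  | succ t ih =>
    rw [pow_succ, ih, Matrix.fromBlocks_multiply, pow_succ, pow_succ]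
    simp

end blocks

section
variable {F : Type*} [Field F] [Fintype F] {q : ℕ}

/-- an element of order `r p ^ e` in `PSU(m + 1, q)`, where `p ^ e` is the least power of `p`
with `m ≤ p ^ e` -/
theorem exists_unip_torusU (hF : Fintype.card F = q ^ 2) (p : ℕ) [Fact p.Prime] [CharP F p]
    (m r : ℕ) (hm : 2 ≤ m) (hr : r.Prime) (hrq : r ∣ q + 1) (hrn : ¬ r ∣ m + 1) (hrp : r ≠ p)
    (e : ℕ) (he : m ≤ p ^ e) (hmin : ∀ e', m ≤ p ^ e' → e ≤ e') :
    ∃ w : Cfsg.PSU (m + 1) F q, orderOf w = r * p ^ e := by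
  classical
  have hp : p.Prime := Fact.out
  have hq2 : 2 ≤ q := Cfsg.Agent.Lib.Helper44.two_le_q_of_card hF
  haveI : Nonempty (Fin m) := ⟨⟨0, by omega⟩⟩
  have hrq' : r ∣ Fintype.card F - 1 := by
    rw [card_sub_one_eq hF]; exact Dvd.dvd.mul_left hrq _
  obtain ⟨ζ, hζ0, hζ⟩ := exists_orderOf_eq_of_dvd (F := F) r hrq'
  have hζq : ζ ^ (q + 1) = 1 := by
    rw [← orderOf_dvd_iff_pow_eq_one, hζ]; exact hrq
  obtain ⟨B, hBu, hBiff⟩ := exists_unipotent_GU hF p m (by omega)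
  have hJ : ∀ t : ℕ, B ^ (p ^ t) = 1 ↔ m ≤ p ^ t := by
    intro t
    rw [hBiff, add_pow_char_pow_of_commute p t (Commute.one_left _), one_pow,
      ← shiftMat_pow_eq_zero_iff (F := F) m (p ^ t) (by omega)]
    constructor
    · intro h
      have := congrArg (fun M => M - 1) h
      simpa using this
    · intro h
      rw [h, add_zero]
  have hBe : B ^ (p ^ e) = 1 := (hJ e).2 he
  have hBdet : B.det = 1 := by
    have h1 : B.det ^ (p ^ e) = 1 := by rw [← Matrix.det_pow, hBe, Matrix.det_one]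
    have h2 : (B.det - 1) ^ (p ^ e) = 0 := by
      rw [sub_pow_char_pow, h1, one_pow, sub_self]
    exact sub_eq_zero.1 (pow_eq_zero_iff (pow_ne_zero _ hp.ne_zero) |>.1 h2)
  obtain ⟨η, hη⟩ : ∃ η : F, η = (ζ ^ m)⁻¹ := ⟨_, rfl⟩
  have hηζ : η * ζ ^ m = 1 := by rw [hη]; exact inv_mul_cancel₀ (pow_ne_zero _ hζ0)
  have hτζ : tauHom hF ζ * ζ = 1 := by rw [tauHom_apply, ← pow_succ]; exact hζq
  have hτη : tauHom hF η * η = 1 := by
    rw [hη, map_inv₀, map_pow, ← mul_inv, ← mul_pow, hτζ, one_pow, inv_one]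
  obtain ⟨X, hX⟩ : ∃ X : Matrix (Fin m) (Fin m) F, X = ζ • B := ⟨_, rfl⟩
  obtain ⟨Y, hY⟩ : ∃ Y : Matrix (Fin 1) (Fin 1) F, Y = η • 1 := ⟨_, rfl⟩
  obtain ⟨T, hT⟩ : ∃ T : Matrix (Fin (m + 1)) (Fin (m + 1)) F,
      T = Matrix.reindexAlgEquiv F F finSumFinEquiv (Matrix.fromBlocks X 0 0 Y) := ⟨_, rfl⟩
  have hXu : cT (tauHom hF) X * X = 1 := by
    rw [hX, cT_smul, smul_mul_assoc, mul_smul_comm, smul_smul, hBu, hτζ, one_smul]
  have hYu : cT (tauHom hF) Y * Y = 1 := by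
    rw [hY, cT_smul, cT_one, smul_mul_assoc, mul_smul_comm, smul_smul, one_mul, hτη, one_smul]
  have hTu : cT (tauHom hF) T * T = 1 := by
    rw [hT, cT_reindex, ← map_mul, cT_fromBlocks, Matrix.fromBlocks_multiply, hXu, hYu]
    simp [Matrix.fromBlocks_one]
  have hTdet : T.det = 1 := by
    rw [hT, Matrix.det_reindexAlgEquiv, Matrix.det_fromBlocks_zero₂₁, hX, hY, Matrix.det_smul,
      Matrix.det_smul, hBdet, Matrix.det_one, Fintype.card_fin, Fintype.card_fin, mul_one, mul_one,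
      pow_one, mul_comm]
    exact hηζ
  obtain ⟨t, ht⟩ := exists_SU_of_matrix hF (m + 1) T hTu hTdet
  have hcop : Nat.Coprime r (p ^ e) :=
    Nat.Coprime.pow_right _ ((Nat.coprime_primes hr hp).2 hrp)
  have hTpow : ∀ (j : ℕ) (ν : F), T ^ j = ν • (1 : Matrix (Fin (m + 1)) (Fin (m + 1)) F) ↔
      (X ^ j = ν • (1 : Matrix (Fin m) (Fin m) F) ∧
        Y ^ j = ν • (1 : Matrix (Fin 1) (Fin 1) F)) := by
    intro j ν
    have h1 : ν • (1 : Matrix (Fin (m + 1)) (Fin (m + 1)) F) =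
        Matrix.reindexAlgEquiv F F finSumFinEquiv (Matrix.fromBlocks
          (ν • (1 : Matrix (Fin m) (Fin m) F)) 0 0 (ν • (1 : Matrix (Fin 1) (Fin 1) F))) := by
      have h2 : Matrix.fromBlocks (ν • (1 : Matrix (Fin m) (Fin m) F)) 0 0
          (ν • (1 : Matrix (Fin 1) (Fin 1) F)) = ν • (1 : Matrix (Fin m ⊕ Fin 1) (Fin m ⊕ Fin 1) F) := by
        rw [← Matrix.fromBlocks_one, Matrix.fromBlocks_smul]
        simp only [smul_zero]
      rw [h2, map_smul, map_one]
    rw [hT, ← map_pow, fromBlocks_diag_pow, h1,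
      (Matrix.reindexAlgEquiv F F finSumFinEquiv).injective.eq_iff, Matrix.fromBlocks_inj]
    tauto
  have key : ∀ j : ℕ, (∃ ν : F, ν * ν ^ q = 1 ∧
      T ^ j = ν • (1 : Matrix (Fin (m + 1)) (Fin (m + 1)) F)) ↔ r * p ^ e ∣ j := by
    intro j
    constructor
    · rintro ⟨c, -, hc⟩
      obtain ⟨h2, h1'⟩ := (hTpow j c).1 hc
      have h1 : η ^ j = c := by
        rw [hY, _root_.smul_pow, one_pow] at h1'
        have := congrFun (congrFun h1' 0) 0
        simpa using this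
      rw [hX, _root_.smul_pow] at h2
      obtain ⟨l, hl⟩ : ∃ l : F, l = c * (ζ ^ j)⁻¹ := ⟨_, rfl⟩
      have hζj0 : ζ ^ j ≠ 0 := pow_ne_zero _ hζ0
      have h3 : B ^ j = l • (1 : Matrix (Fin m) (Fin m) F) := by
        have := congrArg (fun M => (ζ ^ j)⁻¹ • M) h2
        simp only [smul_smul, inv_mul_cancel₀ hζj0, one_smul] at this
        rw [this, hl, mul_comm]
      have h4 : (B ^ j - 1) ^ (p ^ e) = 0 := by
        rw [sub_pow_char_pow_of_commute p e (Commute.one_right _), ← pow_mul, mul_comm, pow_mul, hBe,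
          one_pow, one_pow, sub_self]
      have h5 : l = 1 := by
        rw [h3] at h4
        have h6 : l • (1 : Matrix (Fin m) (Fin m) F) - 1 =
            (l - 1) • (1 : Matrix (Fin m) (Fin m) F) := by
          rw [sub_smul, one_smul]
        rw [h6, _root_.smul_pow, one_pow] at h4
        rcases smul_eq_zero.1 h4 with h7 | h7
        · exact sub_eq_zero.1 (pow_eq_zero_iff (pow_ne_zero _ hp.ne_zero) |>.1 h7)
        · exact absurd h7 one_ne_zero
      have hBj : B ^ j = 1 := by rw [h3, h5, one_smul]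
      have hcζ : c = ζ ^ j := by
        have : c * (ζ ^ j)⁻¹ = 1 := by rw [← hl, h5]
        field_simp at this
        exact this
      have hrj : r ∣ j := by
        have h8 : ζ ^ ((m + 1) * j) = 1 := by
          have h9 : (η * ζ ^ m) ^ j = 1 := by rw [hηζ, one_pow]
          rw [mul_pow, h1, hcζ, ← pow_mul, ← pow_add] at h9
          have : (m + 1) * j = j + m * j := by ring
          rw [this]; exact h9
        rw [← orderOf_dvd_iff_pow_eq_one, hζ] at h8
        rcases (Nat.Prime.dvd_mul hr).1 h8 with h | h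
        · exact absurd h hrn
        · exact h
      have hpj : p ^ e ∣ j := by
        have h10 : orderOf B ∣ p ^ e := orderOf_dvd_of_pow_eq_one hBe
        obtain ⟨b, hb, hob⟩ := (Nat.dvd_prime_pow hp).1 h10
        have h11 : B ^ (p ^ b) = 1 := by rw [← hob]; exact pow_orderOf_eq_one B
        have h12 : e ≤ b := hmin b ((hJ b).1 h11)
        have h13 : b = e := le_antisymm hb h12
        rw [← h13, ← hob]
        exact orderOf_dvd_of_pow_eq_one hBj
      exact hcop.mul_dvd_of_dvd_of_dvd hrj hpj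
    · rintro ⟨s, rfl⟩
      refine ⟨1, by simp, ?_⟩
      rw [hTpow]
      have hζ1 : ζ ^ (r * p ^ e * s) = 1 := by
        rw [mul_assoc, pow_mul, ← hζ, pow_orderOf_eq_one, one_pow]
      have hB1 : B ^ (r * p ^ e * s) = 1 := by
        have : r * p ^ e * s = p ^ e * (r * s) := by ring
        rw [this, pow_mul, hBe, one_pow]
      have hη1 : η ^ (r * p ^ e * s) = 1 := by
        have h9 : (η * ζ ^ m) ^ (r * p ^ e * s) = 1 := by rw [hηζ, one_pow]
        rw [mul_pow, ← pow_mul ζ m, mul_comm m, pow_mul ζ _ m, hζ1, one_pow, mul_one] at h9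
        exact h9
      constructor
      · rw [hX, _root_.smul_pow, hζ1, hB1]
      · rw [hY, _root_.smul_pow, hη1, one_pow]
  refine ⟨QuotientGroup.mk t, ?_⟩
  apply Nat.dvd_antisymm
  · rw [orderOf_mk_dvd_iff, pow_mem_center_iff hF _ (by omega), ht, key]
  · rw [← key, ← ht, ← pow_mem_center_iff hF _ (by omega), ← orderOf_mk_dvd_iff]

end

end Cfsg.Agent.Lib.Helper40.PSUr
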