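import Cfsg.Agent.Lib.Helper40.PSpNon
import Cfsg.Agent.Lib.Helper40.PGUnip5
set_option autoImplicit false
open Polynomial UniqueFactorizationMonoid

namespace Cfsg.Agent.Lib.Helper40.PSp

open Cfsg.Agent.Lib.Helper40.PrimeOrder Cfsg.Agent.Lib.Helper40.Symp Cfsg.Agent.Lib.Helper40.PG

section ex
variable {F : Type*} [Field F] [Fintype F]

omit [Fintype F] in
theorem natDegree_X_sub_one : (X - 1 : F[X]).natDegree = 1 := by
  have := natDegree_X_sub_C (1 : F)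
  simpa using this

/-- an element of order `r * s` from a palindromic block -/
theorem exists_sp_order (p : ℕ) [Fact p.Prime] [CharP F p] (n e : ℕ) (he : e ≤ n) (r s : ℕ)
    (hr : r.Prime) (hs : s.Prime) (hrs : r ≠ s) (B : F[X]) (hBm : B.Monic)
    (hBd : B.natDegree = 2 * e) (hBr : B.reverse = B) (a : ℕ)
    (hBdvd : B ∣ (X ^ (r * s) - 1) ^ a) (π₁ π₂ : F[X]) (hi₁ : Irreducible π₁) (hd₁ : π₁ ∣ B)
    (hn₁ : ¬ π₁ ∣ X ^ s - 1) (hi₂ : Irreducible π₂) (hd₂ : π₂ ∣ B) (hn₂ : ¬ π₂ ∣ X ^ r - 1) :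
    ∃ g : ↥(Matrix.symplecticGroup (Fin n) F), orderOf g = r * s := by
  classical
  set P : F[X] := (X - 1) ^ (2 * (n - e)) * B with hP
  have hPm : P.Monic := (monic_X_sub_one.pow _).mul hBm
  have hPd : P.natDegree = 2 * n := by
    rw [hP, Monic.natDegree_mul (monic_X_sub_one.pow _) hBm, Monic.natDegree_pow monic_X_sub_one,
      natDegree_X_sub_one, hBd]
    omega
  have hPr : P.reverse = P := by
    rw [hP, reverse_mul_of_domain, reverse_X_sub_one_pow, hBr]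
  obtain ⟨g, hgp, hgχ⟩ := exists_symplectic_of_palindromic p n P hPm hPd hPr
  refine ⟨g, ?_⟩
  set A : Matrix (Fin n ⊕ Fin n) (Fin n ⊕ Fin n) F :=
    (g : Matrix (Fin n ⊕ Fin n) (Fin n ⊕ Fin n) F) with hA
  have hNF : ((orderOf g : ℕ) : F) ≠ 0 := natCast_ne_zero_of_coprime p _ hgp
  have hpow : ∀ j : ℕ, A ^ j = 1 ↔ g ^ j = 1 := by
    intro j
    rw [hA, ← coe_pow_symplectic]
    constructor
    · intro h; exact Subtype.ext h
    · intro h; rw [h]; rfl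
  have hAN : A ^ orderOf g = 1 := by rw [hpow]; exact pow_orderOf_eq_one g
  have hχdvd : A.charpoly ∣ (X ^ (r * s) - 1) ^ (2 * (n - e) + a) := by
    rw [hgχ, hP, pow_add]
    exact mul_dvd_mul (pow_dvd_pow_of_dvd (X_sub_one_dvd _) _) hBdvd
  have hArs : A ^ (r * s) = 1 := pow_eq_one_of_charpoly_dvd A _ hNF hAN _ _ hχdvd
  have hπ₁χ : π₁ ∣ A.charpoly := by
    rw [hgχ, hP]; exact hd₁.trans (Dvd.intro_left _ rfl)
  have hπ₂χ : π₂ ∣ A.charpoly := by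
    rw [hgχ, hP]; exact hd₂.trans (Dvd.intro_left _ rfl)
  have hAs : ¬ g ^ s = 1 := by
    rw [← hpow]
    intro h
    exact hn₁ (dvd_of_pow_eq_one A s h π₁ hi₁ hπ₁χ)
  have hAr : ¬ g ^ r = 1 := by
    rw [← hpow]
    intro h
    exact hn₂ (dvd_of_pow_eq_one A r h π₂ hi₂ hπ₂χ)
  have ho : orderOf g ∣ r * s := orderOf_dvd_of_pow_eq_one ((hpow _).1 hArs)
  have hro : r ∣ orderOf g := by
    by_contra hnd
    have h3 : (orderOf g).Coprime r := ((Nat.Prime.coprime_iff_not_dvd hr).2 hnd).symm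
    exact hAs (orderOf_dvd_iff_pow_eq_one.1 (h3.dvd_of_dvd_mul_left ho))
  have hso : s ∣ orderOf g := by
    by_contra hnd
    have h3 : (orderOf g).Coprime s := ((Nat.Prime.coprime_iff_not_dvd hs).2 hnd).symm
    exact hAr (orderOf_dvd_iff_pow_eq_one.1 (h3.dvd_of_dvd_mul_right ho))
  exact Nat.dvd_antisymm ho
    (((Nat.coprime_primes hr hs).2 hrs).mul_dvd_of_dvd_of_dvd hro hso)

/-- the palindromic block of degree `2η(k)` attached to a prime `r` -/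
theorem exists_pal_block (r : ℕ) [Fact r.Prime] (hr2 : r ≠ 2) (hrF : (r : F) ≠ 0) (k ηk : ℕ)
    (hk : k = orderOf ((Fintype.card F : ℕ) : ZMod r))
    (hηk : (Odd k ∧ ηk = k) ∨ (Even k ∧ 2 * ηk = k)) :
    ∃ B π : F[X], B.Monic ∧ B.natDegree = 2 * ηk ∧ B.reverse = B ∧ B ∣ (X ^ r - 1) ^ 2 ∧
      π ∈ Rset F r ∧ π ∣ B := by
  classical
  have hrp : r.Prime := Fact.out
  have hr0 : 0 < r := hrp.pos
  have hcard := card_Rset_mul (F := F) r hrF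
  have hne : (Rset F r).Nonempty := by
    rw [← Finset.card_pos]
    rcases Nat.eq_zero_or_pos (Rset F r).card with h0 | hpos
    · rw [h0, zero_mul] at hcard
      have := hrp.two_le
      omega
    · exact hpos
  obtain ⟨π, hπ⟩ := hne
  have h := (mem_Rset hr0).1 hπ
  have h0 := coeff_zero_ne_zero_of_mem_Rset hr0 hπ
  have hdeg : π.natDegree = k := by
    rw [hk]; exact natDegree_of_irreducible_dvd r π h.1 h.2.1 h.2.2.1 h.2.2.2
  rcases hηk with ⟨hodd, hη⟩ | ⟨hev, hη⟩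
  · refine ⟨π * recip π, π, h.1.mul (recip_monic π h0), ?_, reverse_mul_recip π h0, ?_, hπ,
      Dvd.intro _ rfl⟩
    · rw [Monic.natDegree_mul h.1 (recip_monic π h0), recip_natDegree π h0, hdeg, hη]
      ring
    · rw [pow_two]
      exact mul_dvd_mul h.2.2.1 ((mem_Rset hr0).1 (recip_mem_Rset r hπ)).2.2.1
  · have hrec : recip π = π := recip_eq_self_of_even r hπ (by rw [← hk]; exact hev)
    refine ⟨π, π, h.1, by rw [hdeg, hη], ?_, dvd_pow h.2.2.1 two_ne_zero, hπ, dvd_rfl⟩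
    exact reverse_eq_self_of_recip π h.1 h0 (eval_one_ne_zero_of_mem_Rset hr0 hπ) hrec

omit [Fintype F] in
theorem X_pow_sub_one_dvd_mul (r s : ℕ) : (X ^ r - 1 : F[X]) ∣ X ^ (r * s) - 1 := by
  have := sub_dvd_pow_sub_pow ((X : F[X]) ^ r) 1 s
  rwa [one_pow, ← pow_mul] at this

theorem not_dvd_of_mem_Rset (r s : ℕ) (hr : r.Prime) (hs : s.Prime) (hrs : r ≠ s) (π : F[X])
    (hπ : π ∈ Rset F r) : ¬ π ∣ X ^ s - 1 := by
  intro hd
  have h := (mem_Rset hr.pos).1 hπ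
  have hπ' : π ∈ Rset F s := (mem_Rset hs.pos).2 ⟨h.1, h.2.1, hd, h.2.2.2⟩
  have h1 := isCoprime_Rset r s hr hs hrs π π hπ hπ'
  exact h.2.1.not_isUnit (isCoprime_self.1 h1)

/-- existence when `η(k) + η(l) ≤ n` -/
theorem exists_sp_of_sum_le (p : ℕ) [Fact p.Prime] [CharP F p] (n : ℕ) (r s : ℕ)
    (hr : r.Prime) (hs : s.Prime) (hr2 : r ≠ 2) (hs2 : s ≠ 2) (hrp : r ≠ p) (hsp : s ≠ p)
    (hrs : r ≠ s) (k l ηk ηl : ℕ) (hk : k = orderOf ((Fintype.card F : ℕ) : ZMod r))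
    (hl : l = orderOf ((Fintype.card F : ℕ) : ZMod s))
    (hηk : (Odd k ∧ ηk = k) ∨ (Even k ∧ 2 * ηk = k))
    (hηl : (Odd l ∧ ηl = l) ∨ (Even l ∧ 2 * ηl = l)) (hn : ηk + ηl ≤ n) :
    ∃ g : ↥(Matrix.symplecticGroup (Fin n) F), orderOf g = r * s := by
  have : Fact r.Prime := ⟨hr⟩
  have : Fact s.Prime := ⟨hs⟩
  have hrF : (r : F) ≠ 0 := natCast_ne_zero_of_prime_ne p r hr hrp
  have hsF : (s : F) ≠ 0 := natCast_ne_zero_of_prime_ne p s hs hsp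
  obtain ⟨B₁, π₁, hm₁, hd₁, hr₁, hdv₁, hπ₁, hπB₁⟩ := exists_pal_block r hr2 hrF k ηk hk hηk
  obtain ⟨B₂, π₂, hm₂, hd₂, hr₂, hdv₂, hπ₂, hπB₂⟩ := exists_pal_block s hs2 hsF l ηl hl hηl
  refine exists_sp_order p n (ηk + ηl) hn r s hr hs hrs (B₁ * B₂) (hm₁.mul hm₂) ?_ ?_ (2 + 2) ?_
    π₁ π₂ ((mem_Rset hr.pos).1 hπ₁).2.1 (hπB₁.trans (Dvd.intro _ rfl))
    (not_dvd_of_mem_Rset r s hr hs hrs π₁ hπ₁) ((mem_Rset hs.pos).1 hπ₂).2.1
    (hπB₂.trans (Dvd.intro_left _ rfl)) (not_dvd_of_mem_Rset s r hs hr hrs.symm π₂ hπ₂)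
  · rw [Monic.natDegree_mul hm₁ hm₂, hd₁, hd₂]; ring
  · rw [reverse_mul_of_domain, hr₁, hr₂]
  · rw [pow_add]
    apply mul_dvd_mul
    · exact hdv₁.trans (pow_dvd_pow_of_dvd (X_pow_sub_one_dvd_mul r s) 2)
    · refine hdv₂.trans (pow_dvd_pow_of_dvd ?_ 2)
      rw [mul_comm]; exact X_pow_sub_one_dvd_mul s r

end ex

end Cfsg.Agent.Lib.Helper40.PSp
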