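import Cfsg.Agent.Lib.Helper40.PSpEx
set_option autoImplicit false
open Polynomial UniqueFactorizationMonoid

namespace Cfsg.Agent.Lib.Helper40.PSp

open Cfsg.Agent.Lib.Helper40.PrimeOrder Cfsg.Agent.Lib.Helper40.Symp Cfsg.Agent.Lib.Helper40.PG

section ex2
variable {F : Type*} [Field F] [Fintype F]

/-- the palindromic block of degree `2η(l)` with an irreducible factor of order `r * s`,
when `l = k * t` with `t` odd -/
theorem exists_pal_block_mul (r s : ℕ) (hr : r.Prime) (hs : s.Prime) (hr2 : r ≠ 2) (hs2 : s ≠ 2)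
    (hsF : (s : F) ≠ 0) (hrs : r ≠ s) (k l ηl : ℕ)
    (hk : k = orderOf ((Fintype.card F : ℕ) : ZMod r))
    (hl : l = orderOf ((Fintype.card F : ℕ) : ZMod s))
    (hηl : (Odd l ∧ ηl = l) ∨ (Even l ∧ 2 * ηl = l)) (t : ℕ) (ht : Odd t) (hlt : l = k * t) :
    ∃ B π : F[X], B.Monic ∧ B.natDegree = 2 * ηl ∧ B.reverse = B ∧
      B ∣ (X ^ (r * s) - 1) ^ 2 ∧ Irreducible π ∧ π ∣ B ∧ ¬ π ∣ X ^ r - 1 ∧ ¬ π ∣ X ^ s - 1 := by
  classical
  have : Fact r.Prime := ⟨hr⟩
  have : Fact s.Prime := ⟨hs⟩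
  have hq1 : 1 ≤ Fintype.card F := Fintype.card_pos
  -- the field `E` of degree `l`
  have hcard := card_Rset_mul (F := F) s hsF
  have hne : (Rset F s).Nonempty := by
    rw [← Finset.card_pos]
    rcases Nat.eq_zero_or_pos (Rset F s).card with h0 | hpos
    · rw [h0, zero_mul] at hcard
      have := hs.two_le
      omega
    · exact hpos
  obtain ⟨ρ, hρ⟩ := hne
  have hρ' := (mem_Rset hs.pos).1 hρ
  have hρdeg : ρ.natDegree = l := by
    rw [hl]; exact natDegree_of_irreducible_dvd s ρ hρ'.1 hρ'.2.1 hρ'.2.2.1 hρ'.2.2.2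
  have : Fact (Irreducible ρ) := ⟨hρ'.2.1⟩
  set pb := AdjoinRoot.powerBasis hρ'.1.ne_zero with hpb
  have : Module.Finite F (AdjoinRoot ρ) := pb.finite
  have : Finite (AdjoinRoot ρ) := Module.finite_of_finite F
  have : Fintype (AdjoinRoot ρ) := Fintype.ofFinite _
  have hfr : Module.finrank F (AdjoinRoot ρ) = l := by
    rw [pb.finrank, AdjoinRoot.powerBasis_dim, hρdeg]
  have hcardE : Fintype.card (AdjoinRoot ρ) = Fintype.card F ^ l := by
    rw [← hfr]; exact Module.card_eq_pow_finrank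
  have hl0 : 0 < l := by rw [← hρdeg]; exact Irreducible.natDegree_pos hρ'.2.1
  -- `r * s ∣ q ^ l - 1`
  have hsl : s ∣ Fintype.card F ^ l - 1 := by
    rw [← pow_eq_one_zmod_iff _ s l hq1, hl]; exact pow_orderOf_eq_one _
  have hrk : r ∣ Fintype.card F ^ k - 1 := by
    rw [← pow_eq_one_zmod_iff _ r k hq1, hk]; exact pow_orderOf_eq_one _
  have hrl : r ∣ Fintype.card F ^ l - 1 := by
    have h2 : Fintype.card F ^ k - 1 ∣ (Fintype.card F ^ k) ^ t - 1 ^ t :=
      Nat.sub_dvd_pow_sub_pow (Fintype.card F ^ k) 1 t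
    rw [one_pow, ← pow_mul, ← hlt] at h2
    exact hrk.trans h2
  have hcop : r.Coprime s := (Nat.coprime_primes hr hs).2 hrs
  have hrsl : r * s ∣ Fintype.card (AdjoinRoot ρ) - 1 := by
    rw [hcardE]; exact hcop.mul_dvd_of_dvd_of_dvd hrl hsl
  obtain ⟨ζ, hζ0, hζ⟩ := exists_orderOf_eq_of_dvd (F := AdjoinRoot ρ) (r * s) hrsl
  have hint : IsIntegral F ζ := Algebra.IsIntegral.isIntegral ζ
  set π := minpoly F ζ with hπ
  have hm : π.Monic := minpoly.monic hint
  have hi : Irreducible π := minpoly.irreducible hint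
  have hroot : ∀ j : ℕ, π ∣ X ^ j - 1 ↔ ζ ^ j = 1 := by
    intro j
    constructor
    · intro h
      have h1 : aeval ζ (X ^ j - 1 : F[X]) = 0 :=
        aeval_eq_zero_of_dvd_aeval_eq_zero h (minpoly.aeval F ζ)
      rw [map_sub, map_pow, aeval_X, map_one, sub_eq_zero] at h1
      exact h1
    · intro h
      apply minpoly.dvd
      rw [map_sub, map_pow, aeval_X, map_one, h, sub_self]
  have hd : π ∣ X ^ (r * s) - 1 := (hroot _).2 (by rw [← hζ]; exact pow_orderOf_eq_one ζ)
  have hnr : ¬ π ∣ X ^ r - 1 := by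
    rw [hroot]
    intro h
    have h1 := orderOf_dvd_of_pow_eq_one h
    rw [hζ] at h1
    have h2 := Nat.le_of_dvd hr.pos h1
    have h3 : r * 2 ≤ r * s := Nat.mul_le_mul_left r hs.two_le
    have h4 := hr.pos
    omega
  have hns : ¬ π ∣ X ^ s - 1 := by
    rw [hroot]
    intro h
    have h1 := orderOf_dvd_of_pow_eq_one h
    rw [hζ] at h1
    have h2 := Nat.le_of_dvd hs.pos h1
    have h3 : 2 * s ≤ r * s := Nat.mul_le_mul_right s hr.two_le
    have h4 := hs.pos
    omega
  have h0 : π.coeff 0 ≠ 0 := by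
    apply coeff_zero_ne_zero_of_dvd (r * s) (Nat.mul_pos hr.pos hs.pos) π 1
    rw [pow_one]; exact hd
  have hdeg : π.natDegree = l := by
    have h1 : l ∣ π.natDegree := by
      rw [hl]
      exact order_dvd_natDegree s r hs hr.pos π hm hi (by rwa [mul_comm]) hnr
    have h2 : π.natDegree ≤ l := by
      rw [← hfr]; exact minpoly.natDegree_le ζ
    have h3 : 0 < π.natDegree := Irreducible.natDegree_pos hi
    exact Nat.le_antisymm h2 (Nat.le_of_dvd h3 h1)
  have hrecd : recip π ∣ X ^ (r * s) - 1 :=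
    recip_dvd π _ h0 (reverse_X_pow_sub_one _ (Nat.mul_pos hr.pos hs.pos)) hd
  rcases hηl with ⟨hodd, hη⟩ | ⟨hev, hη⟩
  · refine ⟨π * recip π, π, hm.mul (recip_monic π h0), ?_, reverse_mul_recip π h0, ?_, hi,
      Dvd.intro _ rfl, hnr, hns⟩
    · rw [Monic.natDegree_mul hm (recip_monic π h0), recip_natDegree π h0, hdeg, hη]
      ring
    · rw [pow_two]
      exact mul_dvd_mul hd hrecd
  · -- `l` even: `π` is self-reciprocal
    obtain ⟨c, hc⟩ := hev
    have hc0 : 0 < c := by omega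
    have hsc : s ∣ Fintype.card F ^ c + 1 :=
      dvd_pow_half_add_one _ s hs hs2 c hc0 (by rw [← hl, hc]; ring)
    have hkev : Even k := by
      have h1 : Even (k * t) := by rw [← hlt, hc]; exact ⟨c, rfl⟩
      rcases Nat.even_mul.1 h1 with h | h
      · exact h
      · exact absurd h (Nat.not_even_iff_odd.2 ht)
    obtain ⟨c₀, hc₀⟩ := hkev
    have hk0 : 0 < k := by
      rcases Nat.eq_zero_or_pos k with h | h
      · rw [h, zero_mul] at hlt; omega
      · exact h
    have hrc₀ : r ∣ Fintype.card F ^ c₀ + 1 :=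
      dvd_pow_half_add_one _ r hr hr2 c₀ (by omega) (by rw [← hk, hc₀]; ring)
    have hcc : c = c₀ * t := by
      have : 2 * c = 2 * (c₀ * t) := by
        calc 2 * c = l := by omega
          _ = k * t := hlt
          _ = 2 * (c₀ * t) := by rw [hc₀]; ring
      omega
    have hrc : r ∣ Fintype.card F ^ c + 1 := by
      have h1 : Fintype.card F ^ c₀ + 1 ∣ (Fintype.card F ^ c₀) ^ t + 1 ^ t :=
        Odd.nat_add_dvd_pow_add_pow _ _ ht
      rw [one_pow, ← pow_mul, ← hcc] at h1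
      exact hrc₀.trans h1
    have hrsc : r * s ∣ Fintype.card F ^ c + 1 := hcop.mul_dvd_of_dvd_of_dvd hrc hsc
    have h6 : ζ ^ (Fintype.card F ^ c) = ζ⁻¹ := by
      have : ζ ^ (Fintype.card F ^ c) * ζ = 1 := by
        rw [← pow_succ, ← orderOf_dvd_iff_pow_eq_one, hζ]
        exact hrsc
      exact eq_inv_of_mul_eq_one_left this
    have h7 : ((FiniteField.frobeniusAlgHom F (AdjoinRoot ρ)) ^ c) ζ = ζ⁻¹ := by
      rw [AlgHom.coe_pow, FiniteField.coe_frobeniusAlgHom, pow_iterate]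
      exact h6
    have hz : aeval ζ⁻¹ π = 0 := by
      rw [← h7, aeval_algHom_apply, hπ, minpoly.aeval, map_zero]
    haveI : Invertible ζ⁻¹ := invertibleOfNonzero (inv_ne_zero hζ0)
    have hkey : aeval ζ π.reverse = 0 ↔ aeval ζ⁻¹ π = 0 := by
      have := eval₂_reverse_eq_zero_iff (algebraMap F (AdjoinRoot ρ)) ζ⁻¹ π
      rw [invOf_eq_inv, inv_inv] at this
      exact this
    have h8 : aeval ζ (recip π) = 0 := by
      rw [recip, map_mul, hkey.2 hz, mul_zero]
    have h9 : π ∣ recip π := minpoly.dvd F ζ h8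
    have hrec : recip π = π :=
      eq_of_monic_of_dvd_of_natDegree_le hm (recip_monic π h0) h9 (by rw [recip_natDegree π h0])
    have he1 : π.eval 1 ≠ 0 := by
      intro h1
      have h2 : (X - C (1 : F)) ∣ π := dvd_iff_isRoot.2 h1
      rw [C_1] at h2
      have h3 : Associated (X - 1 : F[X]) π :=
        Irreducible.associated_of_dvd irreducible_X_sub_one hi h2
      have h4 : (X - 1 : F[X]) = π := eq_of_monic_of_associated monic_X_sub_one hm h3
      apply hnr
      rw [← h4]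
      exact X_sub_one_dvd r
    refine ⟨π, π, hm, by rw [hdeg, ← hη], reverse_eq_self_of_recip π hm h0 he1 hrec,
      dvd_pow hd two_ne_zero, hi, dvd_rfl, hnr, hns⟩

end ex2

end Cfsg.Agent.Lib.Helper40.PSp
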