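import Mathlib
import Cfsg.Agent.Lib.Helper85.PSpDefs

set_option autoImplicit false

namespace Cfsg.Agent.Lib.Helper85.PSp

open Matrix Cfsg.Agent.Lib.Helper45.SpAut
open Cfsg.Agent.Lib.Helper5.AutPSLn (IsUni Uni)

variable {F : Type*} [Field F] [Fintype F] {m : ℕ}

/-- the block property describing `US` -/
def l1_P (M : Matrix (Fin m ⊕ Fin m) (Fin m ⊕ Fin m) F) : Prop :=
  M.toBlocks₂₁ = 0 ∧ IsUni M.toBlocks₁₁

theorem l1_P_one : l1_P (1 : Matrix (Fin m ⊕ Fin m) (Fin m ⊕ Fin m) F) := by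
  constructor
  · ext i j; simp [toBlocks₂₁]
  · intro i j _
    simp [toBlocks₁₁, Matrix.one_apply]

theorem l1_P_mul {M N : Matrix (Fin m ⊕ Fin m) (Fin m ⊕ Fin m) F} (hM : l1_P M) (hN : l1_P N) :
    l1_P (M * N) := by
  rw [← fromBlocks_toBlocks M, ← fromBlocks_toBlocks N, fromBlocks_multiply]
  obtain ⟨hM1, hM2⟩ := hM
  obtain ⟨hN1, hN2⟩ := hN
  constructor
  · rw [toBlocks_fromBlocks₂₁, hM1, hN1]
    simp
  · rw [toBlocks_fromBlocks₁₁, hN1, Matrix.mul_zero, add_zero]
    exact hM2.mul hN2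

instance l1_finite : Finite (SpG m F) := by
  classical
  exact Finite.of_fintype _

/-- the subgroup of block upper triangular elements with unitriangular corner -/
def l1_Sub (m : ℕ) (F : Type*) [Field F] [Fintype F] : Subgroup (SpG m F) where
  carrier := {g | l1_P g.1}
  one_mem' := l1_P_one
  mul_mem' := fun {x y} hx hy => l1_P_mul hx hy
  inv_mem' := by
    intro x hx
    have hpow : ∀ k : ℕ, l1_P (x ^ k).1 := by
      intro k
      induction k with
      | zero => rw [pow_zero]; exact l1_P_one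
      | succ k ih => rw [pow_succ]; exact l1_P_mul ih hx
    have h1 : x⁻¹ = x ^ (orderOf x - 1) := by
      apply inv_eq_of_mul_eq_one_right
      rw [← pow_succ', Nat.sub_add_cancel (orderOf_pos x), pow_orderOf_eq_one]
    show l1_P (x⁻¹).1
    rw [h1]
    exact hpow _

theorem l1_DS_le : DS m F ≤ l1_Sub m F := by
  rintro _ ⟨A, hA, rfl⟩
  show l1_P (dHom A).1
  rw [dHom_coe]
  exact ⟨toBlocks_fromBlocks₂₁ _ _ _ _, by rw [toBlocks_fromBlocks₁₁]; exact hA⟩

theorem l1_elim_inL (y : Fin m → F) : InL (Sum.elim y (0 : Fin m → F) : Vec m F) := by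
  intro i
  simp

theorem l1_NS_le : NS m F ≤ l1_Sub m F := by
  intro g hg
  show l1_P g.1
  have key : ∀ j : Fin m, g.1 *ᵥ (Pi.single (Sum.inl j) 1 : Vec m F) = Pi.single (Sum.inl j) 1 := by
    intro j
    apply hg
    intro i
    simp
  constructor
  · ext i j
    have := congrFun (key j) (Sum.inr i)
    rw [mulVec_single_one] at this
    simpa [toBlocks₂₁] using this
  · intro i j _
    have := congrFun (key j) (Sum.inl i)
    rw [mulVec_single_one] at this
    simp only [toBlocks₁₁, of_apply]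
    rw [Matrix.one_apply]
    simpa [Pi.single_apply, eq_comm] using this

theorem l1_US_le : US m F ≤ l1_Sub m F := sup_le l1_DS_le l1_NS_le

/-- L1. block description of `US`. -/
theorem mem_US_iff {g : SpG m F} : g ∈ US m F ↔
    (∀ i j : Fin m, g.1 (Sum.inr i) (Sum.inl j) = 0) ∧
    (∀ i j : Fin m, j ≤ i → g.1 (Sum.inl i) (Sum.inl j) = (1 : Matrix (Fin m) (Fin m) F) i j) := by
  constructor
  · intro hg
    obtain ⟨h1, h2⟩ := l1_US_le hg
    refine ⟨fun i j => ?_, fun i j hij => ?_⟩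
    · have := congrFun (congrFun h1 i) j
      simpa [toBlocks₂₁] using this
    · exact h2 i j hij
  · rintro ⟨h1, h2⟩
    have hU : IsUni (g.1.toBlocks₁₁) := fun i j hij => h2 i j hij
    have hdet : (g.1.toBlocks₁₁).det = 1 := Cfsg.Agent.Lib.Helper5.AutPSLn.det_of_isUni hU
    set A : SpecialLinearGroup (Fin m) F := ⟨g.1.toBlocks₁₁, hdet⟩ with hA
    have hAU : A ∈ Uni m F := hU
    have hn : (dHom A)⁻¹ * g ∈ NS m F := by
      intro y hy
      have hy0 : y ∘ Sum.inr = 0 := by
        ext j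
        exact hy j
      have h3 : g.1 *ᵥ y = (dHom A).1 *ᵥ y := by
        rw [dHom_mulVec, hy0, mulVec_zero]
        conv_lhs => rw [← fromBlocks_toBlocks g.1, fromBlocks_mulVec]
        have h21 : g.1.toBlocks₂₁ = 0 := by
          ext i j
          exact h1 i j
        rw [hy0, mulVec_zero, mulVec_zero, add_zero, add_zero, h21, zero_mulVec]
      rw [mul_mulVec, h3, inv_mulVec_mulVec]
    have : g = dHom A * ((dHom A)⁻¹ * g) := by rw [mul_inv_cancel_left]
    rw [this]
    exact Subgroup.mul_mem_sup (Subgroup.mem_map_of_mem _ hAU) hn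

end Cfsg.Agent.Lib.Helper85.PSp
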