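import Mathlib
import Cfsg.Agent.Lib.Helper85.PSpDefs

set_option autoImplicit false

namespace Cfsg.Agent.Lib.Helper85.PSp

open Matrix Cfsg.Agent.Lib.Helper45.SpAut Cfsg.Agent.Lib.Helper13

variable {F : Type*} [Field F] {m : ℕ}

/-- an element commuting with a transvection `T v 1` maps `v` to `± v` -/
theorem l19_sign (g : SpG m F) {v : Vec m F} (hv : v ≠ 0) (h : g * T v 1 = T v 1 * g) :
    g.1 *ᵥ v = v ∨ g.1 *ᵥ v = -v := by
  have h1 : T (g.1 *ᵥ v) 1 = T v 1 := by
    rw [← conj_T, h, mul_inv_cancel_right]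
  have hu0 : g.1 *ᵥ v ≠ 0 := mulVec_ne_zero g hv
  generalize g.1 *ᵥ v = u at h1 hu0 ⊢
  have key : ∀ x : Vec m F, B x u • u = B x v • v := by
    intro x
    have := congrArg (fun t : SpG m F => t.1 *ᵥ x) h1
    simp only [T_mulVec, one_mul] at this
    exact add_left_cancel this
  obtain ⟨x₀, hx₀⟩ := exists_B_ne_zero hv
  obtain ⟨x₁, hx₁⟩ := exists_B_ne_zero hu0
  have hvl : v = (B x₀ u / B x₀ v) • u := by
    rw [div_eq_inv_mul, mul_smul, key x₀, smul_smul, inv_mul_cancel₀ hx₀, one_smul]
  generalize B x₀ u / B x₀ v = lam at hvl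
  have h2 := key x₁
  have h3 : lam * lam = 1 := by
    have hB : B x₁ v = lam * B x₁ u := by
      rw [hvl]; exact sympForm_smul_right m lam x₁ u
    have h4 : (B x₁ u) • u = (lam * lam * B x₁ u) • u := by
      rw [h2, hB]
      conv_lhs => rw [hvl]
      rw [smul_smul]
      congr 1
      ring
    have h5 : (B x₁ u - lam * lam * B x₁ u) • u = 0 := by rw [sub_smul, ← h4, sub_self]
    rcases smul_eq_zero.1 h5 with h6 | h6
    · have : (1 - lam * lam) * B x₁ u = 0 := by linear_combination h6
      rcases mul_eq_zero.1 this with h7 | h7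
      · linear_combination -h7
      · exact absurd h7 hx₁
    · exact absurd h6 hu0
  have h8 : lam = 1 ∨ lam = -1 := by
    have : (lam - 1) * (lam + 1) = 0 := by linear_combination h3
    rcases mul_eq_zero.1 this with h | h
    · left; linear_combination h
    · right; linear_combination h
  rcases h8 with h | h
  · left
    rw [hvl, h, one_smul]
  · right
    rw [hvl, h, neg_smul, one_smul, neg_neg]

/-- the central element `-1` -/
def l19_negOne (m : ℕ) (F : Type*) [Field F] : SpG m F :=
  ⟨-1, SymplecticGroup.neg_mem (Submonoid.one_mem _)⟩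

theorem l19_negOne_mulVec (x : Vec m F) : (l19_negOne m F).1 *ᵥ x = -x := by
  show (-1 : Matrix _ _ F) *ᵥ x = -x
  rw [neg_mulVec, one_mulVec]

theorem l19_negOne_mem_center [NeZero m] : l19_negOne m F ∈ Subgroup.center (SpG m F) := by
  haveI : Nonempty (Fin m) := ⟨0⟩
  rw [Cfsg.Agent.Lib.Helper5.mem_center_symplecticGroup_iff]
  right
  rfl

theorem l19_negOne_mul_self : l19_negOne m F * l19_negOne m F = 1 := by
  apply sp_ext
  intro x
  rw [mul_mulVec, l19_negOne_mulVec, l19_negOne_mulVec, neg_neg, one_mulVec']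

theorem l19_decomp {v : Vec m F} (hv : InL v) : v = ∑ i : Fin m, v (Sum.inl i) • (eV i : Vec m F) := by
  ext j
  rcases j with j | j
  · rw [Finset.sum_apply, Finset.sum_eq_single j]
    · simp [eV]
    · intro b _ hb
      simp [eV, hb.symm]
    · intro h; exact absurd (Finset.mem_univ _) h
  · rw [hv j, Finset.sum_apply]
    symm
    apply Finset.sum_eq_zero
    intro b _
    simp [eV]

theorem l19_fix_of_basis (g : SpG m F) (h : ∀ i : Fin m, g.1 *ᵥ (eV i : Vec m F) = eV i)
    {v : Vec m F} (hv : InL v) : g.1 *ᵥ v = v := by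
  conv_lhs => rw [l19_decomp hv]
  rw [mulVec_sum]
  conv_rhs => rw [l19_decomp hv]
  apply Finset.sum_congr rfl
  intro i _
  rw [mulVec_smul, h i]

theorem l19_neg_eq_self_of {i : Fin m} (h : (1 : F) = -1) (x : Vec m F) : -x = x := by
  have : -x = (-1 : F) • x := by rw [neg_smul, one_smul]
  rw [this, ← h, one_smul]

/-- if `g` centralises `NS` and fixes `e_0` then it lies in `NS` -/
theorem l19_mem_NS [NeZero m] (g : SpG m F) (hg : ∀ r ∈ NS m F, g * r = r * g)
    (h0 : g.1 *ᵥ (eV 0 : Vec m F) = eV 0) : g ∈ NS m F := by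
  have hs : ∀ v : Vec m F, InL v → v ≠ 0 → g.1 *ᵥ v = v ∨ g.1 *ᵥ v = -v :=
    fun v hv hv0 => l19_sign g hv0 (hg _ (T_mem_NS hv 1))
  intro v hv
  apply l19_fix_of_basis g _ hv
  intro i
  by_cases hi0 : i = 0
  · rw [hi0]; exact h0
  rcases hs (eV i) (inL_eV i) (eV_ne_zero i) with h | h
  · exact h
  · have hne : (eV i + eV 0 : Vec m F) ≠ 0 := by
      intro hh
      have := congrFun hh (Sum.inl i)
      simp [eV, hi0] at this
    have hsum := hs (eV i + eV 0) ((inL_eV i).add (inL_eV 0)) hne
    rw [mulVec_add, h, h0] at hsum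
    have h11 : (1 : F) = -1 := by
      rcases hsum with h' | h'
      · have := congrFun h' (Sum.inl i)
        simp [eV, hi0] at this
        exact this.symm
      · have := congrFun h' (Sum.inl 0)
        have hi0' : (0 : Fin m) ≠ i := fun h => hi0 h.symm
        simp [eV, hi0'] at this
        exact this
    rw [h]
    exact l19_neg_eq_self_of (i := i) h11 _

/-- L19. the centraliser of `NS` is `Z · NS`. -/
theorem centralizer_NS [NeZero m] (g : SpG m F) (hg : ∀ r ∈ NS m F, g * r = r * g) :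
    ∃ z ∈ Subgroup.center (SpG m F), ∃ r ∈ NS m F, g = z * r := by
  rcases l19_sign g (eV_ne_zero (0 : Fin m)) (hg _ (T_mem_NS (inL_eV 0) 1)) with h0 | h0
  · exact ⟨1, Subgroup.one_mem _, g, l19_mem_NS g hg h0, (one_mul g).symm⟩
  · have hc := l19_negOne_mem_center (m := m) (F := F)
    refine ⟨l19_negOne m F, hc, l19_negOne m F * g, ?_, ?_⟩
    · apply l19_mem_NS
      · intro r hr
        rw [mul_assoc, hg r hr, ← mul_assoc, ← mul_assoc]
        congr 1
        exact (Subgroup.mem_center_iff.1 hc r).symm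
      · rw [mul_mulVec, h0, l19_negOne_mulVec, neg_neg]
    · rw [← mul_assoc, l19_negOne_mul_self, one_mul]

end Cfsg.Agent.Lib.Helper85.PSp
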