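import Cfsg.Agent.Lib.Helper40.SemisimpleCount
set_option autoImplicit false
open Polynomial
open UniqueFactorizationMonoid
open scoped Classical

namespace Cfsg.Agent.Lib.Helper40.PrimeOrder


/-- The block of an irreducible polynomial, with control of its powers. -/
theorem exists_irred_block' {F : Type*} [Field F] [Fintype F] (p : F[X]) (hpm : p.Monic)
    (hpi : Irreducible p) (hp0 : p.coeff 0 ≠ 0) :
    ∃ (ι : Type) (_ : Fintype ι) (_ : DecidableEq ι) (A : Matrix ι ι F) (N : ℕ),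
      Fintype.card ι = p.natDegree ∧ A.charpoly = p ∧ (N : F) ≠ 0 ∧ A ^ N = 1 ∧
      ∀ k : ℕ, p ∣ X ^ k - 1 → A ^ k = 1 := by
  classical
  have : Fact (Irreducible p) := ⟨hpi⟩
  have hpne : p ≠ 0 := hpm.ne_zero
  set pb := AdjoinRoot.powerBasis hpne with hpb
  have hdim : pb.dim = p.natDegree := AdjoinRoot.powerBasis_dim hpne
  set A0 : Matrix (Fin pb.dim) (Fin pb.dim) F := Algebra.leftMulMatrix pb.basis pb.gen with hA0
  have hcp : A0.charpoly = p := by
    rw [hA0, charpoly_leftMulMatrix, AdjoinRoot.powerBasis_gen, AdjoinRoot.minpoly_root hpne,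
      hpm.leadingCoeff, inv_one, C_1, mul_one]
  have : Module.Finite F (AdjoinRoot p) := pb.finite
  have : Finite (AdjoinRoot p) := Module.finite_of_finite F
  have : Fintype (AdjoinRoot p) := Fintype.ofFinite _
  have hroot : AdjoinRoot.root p ≠ 0 := by
    intro h0
    have h1 := AdjoinRoot.eval₂_root p
    rw [h0, Polynomial.eval₂_at_zero] at h1
    exact hp0 ((map_eq_zero_iff _ (AdjoinRoot.of p).injective).1 h1)
  have hcard : ((Fintype.card (AdjoinRoot p) : ℕ) : F) = 0 := by
    have h1 : ((Fintype.card (AdjoinRoot p) : ℕ) : AdjoinRoot p) = 0 :=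
      FiniteField.cast_card_eq_zero (AdjoinRoot p)
    have h2 : algebraMap F (AdjoinRoot p) ((Fintype.card (AdjoinRoot p) : ℕ) : F) = 0 := by
      rw [map_natCast]; exact h1
    exact (map_eq_zero_iff _ (algebraMap F (AdjoinRoot p)).injective).1 h2
  have hpos : 1 ≤ Fintype.card (AdjoinRoot p) := Fintype.card_pos
  refine ⟨Fin pb.dim, inferInstance, inferInstance, A0, Fintype.card (AdjoinRoot p) - 1, ?_, hcp,
    ?_, ?_, ?_⟩
  · rw [Fintype.card_fin, hdim]
  · rw [Nat.cast_sub hpos, hcard, Nat.cast_one, zero_sub]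
    exact neg_ne_zero.2 one_ne_zero
  · rw [hA0, ← map_pow, AdjoinRoot.powerBasis_gen, FiniteField.pow_card_sub_one_eq_one _ hroot,
      map_one]
  · intro k hk
    have h1 : AdjoinRoot.mk p (X ^ k - 1) = 0 := AdjoinRoot.mk_eq_zero.2 hk
    rw [map_sub, map_pow, AdjoinRoot.mk_X, map_one, sub_eq_zero] at h1
    rw [hA0, ← map_pow, AdjoinRoot.powerBasis_gen, h1, map_one]

theorem exists_matrix_of_charpoly' {F : Type*} [Field F] [Fintype F] : ∀ (n : ℕ) (f : F[X]),
    f.Monic → f.natDegree = n → f.coeff 0 ≠ 0 →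
    ∃ (ι : Type) (_ : Fintype ι) (_ : DecidableEq ι) (A : Matrix ι ι F) (N : ℕ),
      Fintype.card ι = n ∧ A.charpoly = f ∧ (N : F) ≠ 0 ∧ A ^ N = 1 ∧
      ∀ k : ℕ, (∀ π : F[X], π.Monic → Irreducible π → π ∣ f → π ∣ X ^ k - 1) → A ^ k = 1 := by
  intro n
  induction n using Nat.strong_induction_on with
  | _ n ih =>
    intro f hfm hfd hf0
    rcases Nat.eq_zero_or_pos n with h0 | hpos
    · subst h0
      have hf1 : f = 1 := Polynomial.eq_one_of_monic_natDegree_zero hfm hfd
      refine ⟨Fin 0, inferInstance, inferInstance, 1, 1, by simp, ?_, by simp, by simp,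
        fun k _ => one_pow k⟩
      rw [hf1, Matrix.charpoly, Matrix.det_isEmpty]
    · have hnu : ¬ IsUnit f := by
        intro hu
        have := Polynomial.natDegree_eq_zero_of_isUnit hu
        omega
      obtain ⟨p, hpm, hpi, ⟨f₁, hf₁⟩⟩ := Polynomial.exists_monic_irreducible_factor f hnu
      have hf₁m : f₁.Monic := Polynomial.Monic.of_mul_monic_left hpm (hf₁ ▸ hfm)
      have hc0 : p.coeff 0 * f₁.coeff 0 ≠ 0 := by
        rw [← Polynomial.mul_coeff_zero, ← hf₁]; exact hf0
      have hp0 : p.coeff 0 ≠ 0 := left_ne_zero_of_mul hc0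
      have hf₁0 : f₁.coeff 0 ≠ 0 := right_ne_zero_of_mul hc0
      have hdeg : p.natDegree + f₁.natDegree = n := by
        rw [← hfd, hf₁, Polynomial.Monic.natDegree_mul hpm hf₁m]
      have hdpos := hpi.natDegree_pos
      obtain ⟨ι₁, _, _, A₁, N₁, hc₁, hcp₁, hN₁, hA₁, hk₁⟩ := exists_irred_block' p hpm hpi hp0
      obtain ⟨ι₂, _, _, A₂, N₂, hc₂, hcp₂, hN₂, hA₂, hk₂⟩ :=
        ih f₁.natDegree (by omega) f₁ hf₁m rfl hf₁0
      refine ⟨ι₁ ⊕ ι₂, inferInstance, inferInstance, Matrix.fromBlocks A₁ 0 0 A₂, N₁ * N₂, ?_, ?_,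
        ?_, ?_, ?_⟩
      · rw [Fintype.card_sum, hc₁, hc₂, hdeg]
      · rw [Matrix.charpoly_fromBlocks_zero₁₂, hcp₁, hcp₂, hf₁]
      · rw [Nat.cast_mul]; exact mul_ne_zero hN₁ hN₂
      · rw [Matrix.fromBlocks_diagonal_pow, pow_mul, hA₁, one_pow, mul_comm, pow_mul, hA₂, one_pow,
          Matrix.fromBlocks_one]
      · intro k hk
        rw [Matrix.fromBlocks_diagonal_pow, hk₁ k (hk p hpm hpi (hf₁ ▸ dvd_mul_right p f₁)),
          hk₂ k (fun π hπm hπi hπd => hk π hπm hπi (hf₁ ▸ dvd_mul_of_dvd_right hπd p)),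
          Matrix.fromBlocks_one]

theorem exists_GL_of_charpoly' {F : Type*} [Field F] [Fintype F] (p : ℕ) [Fact p.Prime]
    [CharP F p] (n : ℕ) (f : F[X]) (hfm : f.Monic) (hfd : f.natDegree = n) (hf0 : f.coeff 0 ≠ 0) :
    ∃ g : GL (Fin n) F, (orderOf g).Coprime p ∧ (g : Matrix (Fin n) (Fin n) F).charpoly = f ∧
      ∀ k : ℕ, (∀ π : F[X], π.Monic → Irreducible π → π ∣ f → π ∣ X ^ k - 1) → g ^ k = 1 := by
  obtain ⟨ι, _, _, A, N, hc, hcp, hN, hA, hk⟩ := exists_matrix_of_charpoly' n f hfm hfd hf0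
  set e := Fintype.equivFinOfCardEq hc with he
  set B : Matrix (Fin n) (Fin n) F := Matrix.reindexAlgEquiv F F e A with hBdef
  have hB : B ^ N = 1 := by rw [hBdef, ← map_pow, hA, map_one]
  have hBc : B.charpoly = f := by rw [← hcp]; exact Matrix.charpoly_reindex e A
  have hNpos : 0 < N := Nat.pos_of_ne_zero (by rintro rfl; simp at hN)
  let g : GL (Fin n) F := ⟨B, B ^ (N - 1), by rw [← pow_succ', Nat.sub_add_cancel hNpos, hB],
    by rw [← pow_succ, Nat.sub_add_cancel hNpos, hB]⟩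
  have hgN : g ^ N = 1 := Units.ext (by simpa [g] using hB)
  refine ⟨g, ?_, hBc, ?_⟩
  · have hdvd : orderOf g ∣ N := orderOf_dvd_of_pow_eq_one hgN
    have hNp : Nat.Coprime N p := by
      rw [Nat.coprime_comm, Nat.Prime.coprime_iff_not_dvd Fact.out]
      intro hd
      apply hN
      rw [CharP.cast_eq_zero_iff F p]
      exact hd
    exact Nat.Coprime.coprime_dvd_left hdvd hNp
  · intro k hk'
    apply Units.ext
    have h1 : B ^ k = 1 := by rw [hBdef, ← map_pow, hk k hk', map_one]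
    simpa [g] using h1



theorem pow_eq_one_zmod_iff (q r d : ℕ) (hq : 1 ≤ q) : ((q : ZMod r)) ^ d = 1 ↔ r ∣ q ^ d - 1 := by
  have h1 : ((q : ZMod r)) ^ d = ((q ^ d : ℕ) : ZMod r) := by push_cast; rfl
  have h2 : (1 : ZMod r) = ((1 : ℕ) : ZMod r) := by simp
  rw [h1, h2, ZMod.natCast_eq_natCast_iff]
  constructor
  · intro h; exact (Nat.modEq_iff_dvd' (Nat.one_le_pow _ _ hq)).1 h.symm
  · intro h; exact ((Nat.modEq_iff_dvd' (Nat.one_le_pow _ _ hq)).2 h).symm

/-- The degree of an irreducible factor of `X^r - 1` other than `X - 1` over a finite field with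
`q` elements is the order of `q` modulo `r`. -/
theorem natDegree_of_irreducible_dvd {F : Type*} [Field F] [Fintype F] (r : ℕ) [hr : Fact r.Prime]
    (π : F[X]) (hπm : π.Monic) (hπi : Irreducible π) (hπd : π ∣ X ^ r - 1) (hπ1 : π ≠ X - 1) :
    π.natDegree = orderOf ((Fintype.card F : ℕ) : ZMod r) := by
  classical
  have : Fact (Irreducible π) := ⟨hπi⟩
  have hπne : π ≠ 0 := hπm.ne_zero
  set pb := AdjoinRoot.powerBasis hπne with hpb
  have : Module.Finite F (AdjoinRoot π) := pb.finite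
  have : Finite (AdjoinRoot π) := Module.finite_of_finite F
  have : Fintype (AdjoinRoot π) := Fintype.ofFinite _
  set ζ := AdjoinRoot.root π with hζ
  set q := Fintype.card F with hq
  have hq1 : 1 ≤ q := Fintype.card_pos
  have hfr : Module.finrank F (AdjoinRoot π) = π.natDegree := by
    rw [pb.finrank, AdjoinRoot.powerBasis_dim]
  have hζr : ζ ^ r = 1 := by
    have h1 : AdjoinRoot.mk π (X ^ r - 1) = 0 := AdjoinRoot.mk_eq_zero.2 hπd
    rw [map_sub, map_pow, AdjoinRoot.mk_X, map_one, sub_eq_zero] at h1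
    exact h1
  have hζ1 : ζ ≠ 1 := by
    intro h
    have h1 : AdjoinRoot.mk π (X - 1) = 0 := by
      rw [map_sub, AdjoinRoot.mk_X, map_one, sub_eq_zero]; exact h
    have h2 : π ∣ X - 1 := AdjoinRoot.mk_eq_zero.1 h1
    have h3 : Irreducible (X - 1 : F[X]) := by
      have := Polynomial.irreducible_X_sub_C (1 : F)
      simpa using this
    have h4 : Associated π (X - 1) := Irreducible.associated_of_dvd hπi h3 h2
    have h5 : (X - 1 : F[X]).Monic := by
      have := Polynomial.monic_X_sub_C (1 : F)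
      simpa using this
    exact hπ1 (Polynomial.eq_of_monic_of_associated hπm h5 h4)
  have hord : orderOf ζ = r := orderOf_eq_prime hζr hζ1
  have hζ0 : ζ ≠ 0 := by
    intro h0
    rw [h0, zero_pow hr.out.ne_zero] at hζr
    exact zero_ne_one hζr
  have hcard : Fintype.card (AdjoinRoot π) = q ^ π.natDegree := by
    rw [← hfr]; exact Module.card_eq_pow_finrank
  -- `i ∣ d`
  have hdvd1 : orderOf ((q : ℕ) : ZMod r) ∣ π.natDegree := by
    apply orderOf_dvd_of_pow_eq_one
    rw [pow_eq_one_zmod_iff q r _ hq1, ← hord, ← hcard]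
    exact orderOf_dvd_of_pow_eq_one (FiniteField.pow_card_sub_one_eq_one ζ hζ0)
  -- `d ∣ i`
  have hdvd2 : π.natDegree ∣ orderOf ((q : ℕ) : ZMod r) := by
    rw [← hfr, ← FiniteField.orderOf_frobeniusAlgHom F (AdjoinRoot π)]
    apply orderOf_dvd_of_pow_eq_one
    apply AdjoinRoot.algHom_ext
    rw [AlgHom.coe_pow, FiniteField.coe_frobeniusAlgHom, pow_iterate, AlgHom.one_apply]
    have h1 : r ∣ q ^ orderOf ((q : ℕ) : ZMod r) - 1 := by
      rw [← pow_eq_one_zmod_iff q r _ hq1]
      exact pow_orderOf_eq_one _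
    obtain ⟨c, hc⟩ := h1
    have h2 : q ^ orderOf ((q : ℕ) : ZMod r) = r * c + 1 := by
      have := Nat.one_le_pow (orderOf ((q : ℕ) : ZMod r)) q hq1
      omega
    rw [← hζ, h2]
    change ζ ^ (r * c + 1) = ζ
    rw [pow_succ, pow_mul, hζr, one_pow, one_mul]
  exact Nat.dvd_antisymm hdvd2 hdvd1



section
variable {F : Type*} [Field F]

theorem X_pow_sub_one_ne_zero (r : ℕ) (hr : 0 < r) : (X ^ r - 1 : F[X]) ≠ 0 :=
  (monic_X_pow_sub_C (1 : F) hr.ne').ne_zero

theorem monic_X_sub_one : (X - 1 : F[X]).Monic := by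
  have := Polynomial.monic_X_sub_C (1 : F)
  simpa using this

theorem irreducible_X_sub_one : Irreducible (X - 1 : F[X]) := by
  have := Polynomial.irreducible_X_sub_C (1 : F)
  simpa using this

theorem X_sub_one_dvd (r : ℕ) : (X - 1 : F[X]) ∣ X ^ r - 1 := by
  have := sub_dvd_pow_sub_pow (X : F[X]) 1 r
  simpa using this

/-- The monic irreducible factors of `X^r - 1` other than `X - 1`. -/
noncomputable def Rset (F : Type*) [Field F] (r : ℕ) : Finset F[X] :=
  ((normalizedFactors (X ^ r - 1 : F[X])).toFinset).erase (X - 1)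

theorem mem_normalizedFactors_iff_monic {f π : F[X]} (hf : f ≠ 0) :
    π ∈ normalizedFactors f ↔ π.Monic ∧ Irreducible π ∧ π ∣ f := by
  classical
  rw [mem_normalizedFactors_iff' hf]
  constructor
  · rintro ⟨h1, h2, h3⟩
    refine ⟨?_, h1, h3⟩
    rw [← h2]
    exact Polynomial.monic_normalize h1.ne_zero
  · rintro ⟨h1, h2, h3⟩
    exact ⟨h2, h1.normalize_eq_self, h3⟩

theorem mem_Rset {r : ℕ} (hr : 0 < r) {π : F[X]} :
    π ∈ Rset F r ↔ π.Monic ∧ Irreducible π ∧ π ∣ X ^ r - 1 ∧ π ≠ X - 1 := by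
  classical
  unfold Rset
  rw [Finset.mem_erase, Multiset.mem_toFinset,
    mem_normalizedFactors_iff_monic (X_pow_sub_one_ne_zero r hr)]
  tauto

theorem prod_normalizedFactors_of_monic {f : F[X]} (hf : f.Monic) :
    (normalizedFactors f).prod = f := by
  classical
  apply Polynomial.eq_of_monic_of_associated _ hf (prod_normalizedFactors hf.ne_zero)
  have := Polynomial.monic_multiset_prod_of_monic (normalizedFactors f) id (fun π hπ =>
    ((mem_normalizedFactors_iff_monic hf.ne_zero).1 hπ).1)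
  simpa using this

end

theorem card_Rset_mul {F : Type*} [Field F] [Fintype F] (r : ℕ) [hr : Fact r.Prime]
    (hrF : (r : F) ≠ 0) :
    (Rset F r).card * orderOf ((Fintype.card F : ℕ) : ZMod r) = r - 1 := by
  classical
  have hr0 : 0 < r := hr.out.pos
  set Q : F[X] := X ^ r - 1 with hQ
  have hQm : Q.Monic := monic_X_pow_sub_C (1 : F) hr0.ne'
  have hQ0 : Q ≠ 0 := hQm.ne_zero
  have hsq : Squarefree Q := by
    have := (separable_X_pow_sub_C (1 : F) hrF one_ne_zero).squarefree
    simpa using this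
  have hnd : (normalizedFactors Q).Nodup := (squarefree_iff_nodup_normalizedFactors hQ0).1 hsq
  have hprod := prod_normalizedFactors_of_monic hQm
  have hdeg : Q.natDegree = r := by
    have := natDegree_X_pow_sub_C (R := F) (n := r) (r := 1)
    simpa using this
  have h1 : ((normalizedFactors Q).map natDegree).sum = r := by
    rw [← Polynomial.natDegree_multiset_prod_of_monic _ (fun π hπ =>
      ((mem_normalizedFactors_iff_monic hQ0).1 hπ).1), hprod, hdeg]
  have h2 : ((normalizedFactors Q).map natDegree).sum =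
      ∑ π ∈ (normalizedFactors Q).toFinset, π.natDegree := by
    rw [Finset.sum, Multiset.toFinset_val, Multiset.dedup_eq_self.2 hnd]
  have hmem : (X - 1 : F[X]) ∈ (normalizedFactors Q).toFinset := by
    rw [Multiset.mem_toFinset, mem_normalizedFactors_iff_monic hQ0]
    exact ⟨monic_X_sub_one, irreducible_X_sub_one, X_sub_one_dvd r⟩
  rw [h2, ← Finset.add_sum_erase _ _ hmem] at h1
  have h3 : ∑ π ∈ ((normalizedFactors Q).toFinset).erase (X - 1), π.natDegree =
      (Rset F r).card * orderOf ((Fintype.card F : ℕ) : ZMod r) := by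
    have h5 : ∀ π ∈ Rset F r, π.natDegree = orderOf ((Fintype.card F : ℕ) : ZMod r) :=
      fun π hπ => natDegree_of_irreducible_dvd r π
        ((mem_Rset hr0).1 hπ).1 ((mem_Rset hr0).1 hπ).2.1 ((mem_Rset hr0).1 hπ).2.2.1
        ((mem_Rset hr0).1 hπ).2.2.2
    change ∑ π ∈ Rset F r, π.natDegree = _
    rw [Finset.sum_congr rfl h5, Finset.sum_const, smul_eq_mul]
  rw [h3] at h1
  have h4 : (X - 1 : F[X]).natDegree = 1 := by
    have := natDegree_X_sub_C (1 : F)
    simpa using this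
  omega


end Cfsg.Agent.Lib.Helper40.PrimeOrder
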