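import Mathlib
import Cfsg.Agent.Lib.Helper40.PrimeOrder
set_option autoImplicit false

namespace Cfsg.Agent.Lib.Helper40.PSp

open Cfsg.Agent.Lib.Helper40.PrimeOrder

theorem cast_pow_eq_neg_one (q r j : ℕ) (h : r ∣ q ^ j + 1) : ((q : ℕ) : ZMod r) ^ j = -1 := by
  have h1 : ((q ^ j + 1 : ℕ) : ZMod r) = 0 := (ZMod.natCast_eq_zero_iff _ _).2 h
  push_cast at h1
  exact eq_neg_of_add_eq_zero_left h1

theorem dvd_of_cast_pow_eq_neg_one (q r j : ℕ) (h : ((q : ℕ) : ZMod r) ^ j = -1) :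
    r ∣ q ^ j + 1 := by
  rw [← ZMod.natCast_eq_zero_iff]
  push_cast
  rw [h]; ring

theorem exists_odd_of_dvd_pow_add_one (q r j : ℕ) (hr : r.Prime) (hr2 : r ≠ 2)
    (h : r ∣ q ^ j + 1) :
    ∃ a : ℕ, Odd a ∧ 2 * j = orderOf ((q : ℕ) : ZMod r) * a := by
  have : Fact r.Prime := ⟨hr⟩
  have h1 := cast_pow_eq_neg_one q r j h
  have h2 : ((q : ℕ) : ZMod r) ^ (2 * j) = 1 := by
    rw [mul_comm, pow_mul, h1]; ring
  obtain ⟨a, ha⟩ := orderOf_dvd_of_pow_eq_one h2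
  refine ⟨a, ?_, ha⟩
  by_contra hodd
  rw [Nat.not_odd_iff_even] at hodd
  obtain ⟨a', ha'⟩ := hodd
  have h3 : j = orderOf ((q : ℕ) : ZMod r) * a' := by
    rw [ha'] at ha
    have : 2 * j = 2 * (orderOf ((q : ℕ) : ZMod r) * a') := by rw [ha]; ring
    omega
  have h4 : ((q : ℕ) : ZMod r) ^ j = 1 := by
    rw [h3, pow_mul, pow_orderOf_eq_one, one_pow]
  rw [h4] at h1
  have h5 : ((2 : ℕ) : ZMod r) = 0 := by
    push_cast
    linear_combination h1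
  have h6 : r ∣ 2 := (ZMod.natCast_eq_zero_iff _ _).1 h5
  exact hr2 ((Nat.prime_dvd_prime_iff_eq hr Nat.prime_two).1 h6)

theorem dvd_pow_half_add_one (q r : ℕ) (hr : r.Prime) (hr2 : r ≠ 2) (c : ℕ) (hc : 0 < c)
    (hkc : orderOf ((q : ℕ) : ZMod r) = 2 * c) : r ∣ q ^ c + 1 := by
  have : Fact r.Prime := ⟨hr⟩
  apply dvd_of_cast_pow_eq_neg_one
  have h1 : ((q : ℕ) : ZMod r) ^ c * ((q : ℕ) : ZMod r) ^ c = 1 := by
    rw [← pow_add, ← two_mul, ← hkc, pow_orderOf_eq_one]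
  have h2 : ((q : ℕ) : ZMod r) ^ c ≠ 1 := pow_ne_one_of_lt_orderOf hc.ne' (by omega)
  exact (mul_self_eq_one_iff.1 h1).resolve_left h2

theorem eta_le (l ηl : ℕ) (hηl : (Odd l ∧ ηl = l) ∨ (Even l ∧ 2 * ηl = l)) : ηl ≤ l := by
  rcases hηl with ⟨_, h⟩ | ⟨_, h⟩ <;> omega

theorem caseA_arith (k l ηk ηl n d : ℕ)
    (hηl : (Odd l ∧ ηl = l) ∨ (Even l ∧ 2 * ηl = l)) (hkl : ηk ≤ ηl)
    (hkd : k ∣ d) (hld : l ∣ d) (hd0 : 0 < d) (hdn : d ≤ n) (hn : n < ηk + ηl) :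
    ∃ t : ℕ, Odd t ∧ l = k * t := by
  have h1 := eta_le l ηl hηl
  have h2 : d = l := Nat.eq_of_dvd_of_lt_two_mul hd0.ne' hld (by omega)
  subst h2
  have hodd : Odd d := by
    rcases hηl with ⟨h, _⟩ | ⟨_, h⟩
    · exact h
    · omega
  obtain ⟨t, ht⟩ := hkd
  refine ⟨t, ?_, ht⟩
  rw [ht] at hodd
  exact (Nat.odd_mul.1 hodd).2

theorem even_of_two_mul_eq (j k a : ℕ) (ha : Odd a) (h : 2 * j = k * a) : Even k := by
  have h1 : 2 ∣ k * a := ⟨j, h.symm⟩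
  rcases (Nat.Prime.dvd_mul Nat.prime_two).1 h1 with h2 | h2
  · exact even_iff_two_dvd.2 h2
  · exact absurd (even_iff_two_dvd.2 h2) (Nat.not_even_iff_odd.2 ha)

theorem caseB_arith (k l ηk ηl n d j a b : ℕ)
    (hηk : (Odd k ∧ ηk = k) ∨ (Even k ∧ 2 * ηk = k))
    (hηl : (Odd l ∧ ηl = l) ∨ (Even l ∧ 2 * ηl = l)) (hkl : ηk ≤ ηl)
    (hkd : k ∣ d) (hld : l ∣ d) (hd0 : 0 < d) (hdn : d ≤ 2 * n) (hn : n < ηk + ηl)
    (ha : Odd a) (hja : 2 * j = k * a) (hb : Odd b) (hjb : 2 * j = l * b) :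
    ∃ t : ℕ, Odd t ∧ l = k * t := by
  have hek := even_of_two_mul_eq j k a ha hja
  have hel := even_of_two_mul_eq j l b hb hjb
  have h2k : 2 * ηk = k := by
    rcases hηk with ⟨h, _⟩ | ⟨_, h⟩
    · exact absurd hek (Nat.not_even_iff_odd.2 h)
    · exact h
  have h2l : 2 * ηl = l := by
    rcases hηl with ⟨h, _⟩ | ⟨_, h⟩
    · exact absurd hel (Nat.not_even_iff_odd.2 h)
    · exact h
  have h2 : d = l := Nat.eq_of_dvd_of_lt_two_mul hd0.ne' hld (by omega)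
  subst h2
  obtain ⟨t, ht⟩ := hkd
  refine ⟨t, ?_, ht⟩
  have hk0 : 0 < k := by
    rcases Nat.eq_zero_or_pos k with h | h
    · rw [h, zero_mul] at ht; omega
    · exact h
  have h3 : a = t * b := by
    have : k * a = k * (t * b) := by rw [← hja, hjb, ht]; ring
    exact Nat.eq_of_mul_eq_mul_left hk0 this
  rw [h3] at ha
  exact (Nat.odd_mul.1 ha).1

end Cfsg.Agent.Lib.Helper40.PSp
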