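import Cfsg.Agent.Lib.Helper40.PSpRoot
import Cfsg.Agent.Lib.Helper40.PSpNum
import Cfsg.Agent.Lib.Helper40.PGSL
set_option autoImplicit false
open Polynomial UniqueFactorizationMonoid

namespace Cfsg.Agent.Lib.Helper40.PSp

open Cfsg.Agent.Lib.Helper40.PrimeOrder Cfsg.Agent.Lib.Helper40.Symp Cfsg.Agent.Lib.Helper40.PG

section blocks
variable {F : Type*} [Field F] [Fintype F]

/-- the block attached to an irreducible factor of prime order in a palindromic polynomial -/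
theorem exists_block (r : ℕ) [Fact r.Prime] (hr2 : r ≠ 2) (π : F[X]) (hπ : π ∈ Rset F r)
    (χ : F[X]) (hχ : χ.reverse = χ) (hd : π ∣ χ) (k ηk : ℕ)
    (hk : k = orderOf ((Fintype.card F : ℕ) : ZMod r))
    (hηk : (Odd k ∧ ηk = k) ∨ (Even k ∧ 2 * ηk = k)) :
    ∃ S : Finset F[X], S ⊆ Rset F r ∧ (∏ ρ ∈ S, ρ) ∣ χ ∧ (∏ ρ ∈ S, ρ).natDegree = 2 * ηk := by
  classical
  have hr0 : 0 < r := (Fact.out : r.Prime).pos
  have h := (mem_Rset hr0).1 hπ
  have h0 := coeff_zero_ne_zero_of_mem_Rset hr0 hπ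
  have hdeg : π.natDegree = k := by
    rw [hk]; exact natDegree_of_irreducible_dvd r π h.1 h.2.1 h.2.2.1 h.2.2.2
  rcases hηk with ⟨hodd, hη⟩ | ⟨hev, hη⟩
  · have hne : recip π ≠ π := recip_ne_self_of_odd r hr2 hπ (by rw [← hk]; exact hodd)
    refine ⟨{π, recip π}, ?_, ?_, ?_⟩
    · intro ρ hρ
      rw [Finset.mem_insert, Finset.mem_singleton] at hρ
      rcases hρ with rfl | rfl
      · exact hπ
      · exact recip_mem_Rset r hπ
    · rw [Finset.prod_pair hne.symm]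
      exact mul_recip_dvd χ π hχ h.1 h.2.1 h0 hd hne
    · rw [Finset.prod_pair hne.symm, Monic.natDegree_mul h.1 (recip_monic π h0),
        recip_natDegree π h0, hdeg, hη]
      ring
  · refine ⟨{π}, ?_, ?_, ?_⟩
    · intro ρ hρ
      rw [Finset.mem_singleton] at hρ
      rw [hρ]; exact hπ
    · rw [Finset.prod_singleton]; exact hd
    · rw [Finset.prod_singleton, hdeg, hη]

theorem isCoprime_Rset (r s : ℕ) (hr : r.Prime) (hs : s.Prime) (hrs : r ≠ s) (ρ ρ' : F[X])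
    (hρ : ρ ∈ Rset F r) (hρ' : ρ' ∈ Rset F s) : IsCoprime ρ ρ' := by
  have h := (mem_Rset hr.pos).1 hρ
  have h' := (mem_Rset hs.pos).1 hρ'
  rw [Irreducible.coprime_iff_not_dvd h.2.1]
  intro hd
  have h1 : Associated ρ ρ' := Irreducible.associated_of_dvd h.2.1 h'.2.1 hd
  have h2 : ρ = ρ' := eq_of_monic_of_associated h.1 h'.1 h1
  have : Fact (Irreducible ρ) := ⟨h.2.1⟩
  have e1 : (AdjoinRoot.root ρ) ^ r = 1 := (root_pow_eq_one_iff ρ h.2.1 r).2 h.2.2.1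
  have e2 : (AdjoinRoot.root ρ) ^ s = 1 := (root_pow_eq_one_iff ρ h.2.1 s).2 (h2 ▸ h'.2.2.1)
  have e3 : orderOf (AdjoinRoot.root ρ) ∣ Nat.gcd r s :=
    Nat.dvd_gcd (orderOf_dvd_of_pow_eq_one e1) (orderOf_dvd_of_pow_eq_one e2)
  rw [(Nat.coprime_primes hr hs).2 hrs] at e3
  have e4 : (AdjoinRoot.root ρ) ^ 1 = 1 := orderOf_dvd_iff_pow_eq_one.1 e3
  have e5 : ρ ∣ X ^ 1 - 1 := (root_pow_eq_one_iff ρ h.2.1 1).1 e4
  rw [pow_one] at e5
  have e6 : Associated ρ (X - 1) := Irreducible.associated_of_dvd h.2.1 irreducible_X_sub_one e5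
  exact h.2.2.2 (eq_of_monic_of_associated h.1 monic_X_sub_one e6)

end blocks

section non
variable {F : Type*} [Field F] [Fintype F]

theorem charpoly_natDegree_symplectic (n : ℕ) (A : Matrix (Fin n ⊕ Fin n) (Fin n ⊕ Fin n) F) :
    A.charpoly.natDegree = 2 * n := by
  rw [Matrix.charpoly_natDegree_eq_dim, Fintype.card_sum, Fintype.card_fin]; ring

/-- an irreducible factor "of order `r * s`" cannot occur -/
theorem no_mixed_factor (n : ℕ) (r s : ℕ) (hr : r.Prime) (hs : s.Prime) (hr2 : r ≠ 2)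
    (hs2 : s ≠ 2) (k l ηk ηl : ℕ) (hk : k = orderOf ((Fintype.card F : ℕ) : ZMod r))
    (hl : l = orderOf ((Fintype.card F : ℕ) : ZMod s))
    (hηk : (Odd k ∧ ηk = k) ∨ (Even k ∧ 2 * ηk = k))
    (hηl : (Odd l ∧ ηl = l) ∨ (Even l ∧ 2 * ηl = l)) (hkl : ηk ≤ ηl) (hn : n < ηk + ηl)
    (hno : ¬ ∃ t : ℕ, Odd t ∧ l = k * t) (χ : F[X]) (hχ0 : χ ≠ 0) (hχr : χ.reverse = χ)
    (hχd : χ.natDegree = 2 * n) (π : F[X]) (hm : π.Monic) (hi : Irreducible π) (hπχ : π ∣ χ)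
    (hd : π ∣ X ^ (r * s) - 1) (hnr : ¬ π ∣ X ^ r - 1) (hns : ¬ π ∣ X ^ s - 1) : False := by
  have h0 : π.coeff 0 ≠ 0 := by
    apply coeff_zero_ne_zero_of_dvd (r * s) (Nat.mul_pos hr.pos hs.pos) π 1
    rw [pow_one]; exact hd
  have hd0 : 0 < π.natDegree := Irreducible.natDegree_pos hi
  have hkd : k ∣ π.natDegree := by
    rw [hk]; exact order_dvd_natDegree r s hr hs.pos π hm hi hd hns
  have hld : l ∣ π.natDegree := by
    rw [hl]; exact order_dvd_natDegree s r hs hr.pos π hm hi (by rwa [mul_comm]) hnr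
  by_cases hrec : recip π = π
  · obtain ⟨j, hjr, hjs⟩ := exists_dvd_pow_add_one r s hr hs π hm hi hd hnr hns hrec
    obtain ⟨a, ha, hja⟩ := exists_odd_of_dvd_pow_add_one _ r j hr hr2 hjr
    obtain ⟨b, hb, hjb⟩ := exists_odd_of_dvd_pow_add_one _ s j hs hs2 hjs
    rw [← hk] at hja
    rw [← hl] at hjb
    have hdn : π.natDegree ≤ 2 * n := by
      rw [← hχd]; exact natDegree_le_of_dvd hπχ hχ0
    exact hno (caseB_arith k l ηk ηl n π.natDegree j a b hηk hηl hkl hkd hld hd0 hdn hn ha hja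
      hb hjb)
  · have h1 := mul_recip_dvd χ π hχr hm hi h0 hπχ hrec
    have h2 := natDegree_le_of_dvd h1 hχ0
    rw [Monic.natDegree_mul hm (recip_monic π h0), recip_natDegree π h0, hχd] at h2
    exact hno (caseA_arith k l ηk ηl n π.natDegree hηl hkl hkd hld hd0 (by omega) hn)

/-- no element of order `r * s` in `Sp_2n(q)` under the numerical condition -/
theorem no_element (p : ℕ) [Fact p.Prime] [CharP F p] (n : ℕ) (r s : ℕ) (hr : r.Prime)
    (hs : s.Prime) (hr2 : r ≠ 2) (hs2 : s ≠ 2) (hrp : r ≠ p) (hsp : s ≠ p) (hrs : r ≠ s)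
    (k l ηk ηl : ℕ) (hk : k = orderOf ((Fintype.card F : ℕ) : ZMod r))
    (hl : l = orderOf ((Fintype.card F : ℕ) : ZMod s))
    (hηk : (Odd k ∧ ηk = k) ∨ (Even k ∧ 2 * ηk = k))
    (hηl : (Odd l ∧ ηl = l) ∨ (Even l ∧ 2 * ηl = l)) (hkl : ηk ≤ ηl) (hn : n < ηk + ηl)
    (hno : ¬ ∃ t : ℕ, Odd t ∧ l = k * t) (g : ↥(Matrix.symplecticGroup (Fin n) F))
    (hg : orderOf g = r * s) : False := by
  classical
  have : Fact r.Prime := ⟨hr⟩
  have : Fact s.Prime := ⟨hs⟩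
  set A : Matrix (Fin n ⊕ Fin n) (Fin n ⊕ Fin n) F :=
    (g : Matrix (Fin n ⊕ Fin n) (Fin n ⊕ Fin n) F) with hA
  have hχr : A.charpoly.reverse = A.charpoly := charpoly_reverse_symplectic g
  have hχd := charpoly_natDegree_symplectic n A
  have hχ0 : A.charpoly ≠ 0 := (Matrix.charpoly_monic A).ne_zero
  have hNF : ((r * s : ℕ) : F) ≠ 0 := by
    rw [Nat.cast_mul]
    exact mul_ne_zero (natCast_ne_zero_of_prime_ne p r hr hrp)
      (natCast_ne_zero_of_prime_ne p s hs hsp)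
  have hpow : ∀ j : ℕ, A ^ j = 1 ↔ g ^ j = 1 := by
    intro j
    rw [hA, ← coe_pow_symplectic]
    constructor
    · intro h; exact Subtype.ext h
    · intro h; rw [h]; rfl
  have hAN : A ^ (r * s) = 1 := by rw [hpow, ← hg]; exact pow_orderOf_eq_one g
  have hAs : A ^ s ≠ 1 := by
    rw [Ne, hpow]
    intro h
    have h1 := orderOf_dvd_of_pow_eq_one h
    rw [hg] at h1
    have h2 := Nat.le_of_dvd hs.pos h1
    have h3 : 2 * s ≤ r * s := Nat.mul_le_mul_right s hr.two_le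
    have h4 := hs.pos
    omega
  have hAr : A ^ r ≠ 1 := by
    rw [Ne, hpow]
    intro h
    have h1 := orderOf_dvd_of_pow_eq_one h
    rw [hg] at h1
    have h2 := Nat.le_of_dvd hr.pos h1
    have h3 : r * 2 ≤ r * s := Nat.mul_le_mul_left r hs.two_le
    have h4 := hr.pos
    omega
  obtain ⟨π₁, hm₁, hi₁, hd₁, hN₁, hn₁⟩ := exists_factor_not_dvd A (r * s) hNF hAN s hAs
  obtain ⟨π₂, hm₂, hi₂, hd₂, hN₂, hn₂⟩ := exists_factor_not_dvd A (r * s) hNF hAN r hAr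
  by_cases h1 : π₁ ∣ X ^ r - 1
  · by_cases h2 : π₂ ∣ X ^ s - 1
    · have hπ₁ : π₁ ∈ Rset F r := by
        rw [mem_Rset hr.pos]
        refine ⟨hm₁, hi₁, h1, ?_⟩
        intro h
        rw [h] at hn₁
        exact hn₁ (X_sub_one_dvd s)
      have hπ₂ : π₂ ∈ Rset F s := by
        rw [mem_Rset hs.pos]
        refine ⟨hm₂, hi₂, h2, ?_⟩
        intro h
        rw [h] at hn₂
        exact hn₂ (X_sub_one_dvd r)
      obtain ⟨S₁, hS₁, hB₁, hdeg₁⟩ := exists_block r hr2 π₁ hπ₁ _ hχr hd₁ k ηk hk hηk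
      obtain ⟨S₂, hS₂, hB₂, hdeg₂⟩ := exists_block s hs2 π₂ hπ₂ _ hχr hd₂ l ηl hl hηl
      have hcop : IsCoprime (∏ ρ ∈ S₁, ρ) (∏ ρ ∈ S₂, ρ) := by
        apply IsCoprime.prod_left
        intro ρ hρ
        apply IsCoprime.prod_right
        intro ρ' hρ'
        exact isCoprime_Rset r s hr hs hrs ρ ρ' (hS₁ hρ) (hS₂ hρ')
      have h3 := hcop.mul_dvd hB₁ hB₂
      have h4 := natDegree_le_of_dvd h3 hχ0
      rw [natDegree_mul (ne_zero_of_dvd_ne_zero hχ0 hB₁) (ne_zero_of_dvd_ne_zero hχ0 hB₂), hdeg₁,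
        hdeg₂, hχd] at h4
      omega
    · exact no_mixed_factor n r s hr hs hr2 hs2 k l ηk ηl hk hl hηk hηl hkl hn hno _ hχ0 hχr hχd
        π₂ hm₂ hi₂ hd₂ hN₂ hn₂ h2
  · exact no_mixed_factor n r s hr hs hr2 hs2 k l ηk ηl hk hl hηk hηl hkl hn hno _ hχ0 hχr hχd
      π₁ hm₁ hi₁ hd₁ hN₁ h1 hn₁

/-- an element of odd prime order `s` forces `η(l) ≤ n` -/
theorem eta_le_of_order (p : ℕ) [Fact p.Prime] [CharP F p] (n : ℕ) (s : ℕ) (hs : s.Prime)
    (hs2 : s ≠ 2) (hsp : s ≠ p) (l ηl : ℕ) (hl : l = orderOf ((Fintype.card F : ℕ) : ZMod s))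
    (hηl : (Odd l ∧ ηl = l) ∨ (Even l ∧ 2 * ηl = l)) (g : ↥(Matrix.symplecticGroup (Fin n) F))
    (hg : orderOf g = s) : ηl ≤ n := by
  classical
  have : Fact s.Prime := ⟨hs⟩
  set A : Matrix (Fin n ⊕ Fin n) (Fin n ⊕ Fin n) F :=
    (g : Matrix (Fin n ⊕ Fin n) (Fin n ⊕ Fin n) F) with hA
  have hχr : A.charpoly.reverse = A.charpoly := charpoly_reverse_symplectic g
  have hχd := charpoly_natDegree_symplectic n A
  have hχ0 : A.charpoly ≠ 0 := (Matrix.charpoly_monic A).ne_zero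
  have hNF : ((s : ℕ) : F) ≠ 0 := natCast_ne_zero_of_prime_ne p s hs hsp
  have hpow : ∀ j : ℕ, A ^ j = 1 ↔ g ^ j = 1 := by
    intro j
    rw [hA, ← coe_pow_symplectic]
    constructor
    · intro h; exact Subtype.ext h
    · intro h; rw [h]; rfl
  have hAN : A ^ s = 1 := by rw [hpow, ← hg]; exact pow_orderOf_eq_one g
  have hA1 : A ^ 1 ≠ 1 := by
    rw [Ne, hpow, pow_one]
    intro h
    rw [h, orderOf_one] at hg
    exact hs.one_lt.ne hg
  obtain ⟨π, hm, hi, hd, hN, hn1⟩ := exists_factor_not_dvd A s hNF hAN 1 hA1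
  have hπ : π ∈ Rset F s := by
    rw [mem_Rset hs.pos]
    refine ⟨hm, hi, hN, ?_⟩
    intro h
    rw [h, pow_one] at hn1
    exact hn1 dvd_rfl
  obtain ⟨S, hS, hB, hdeg⟩ := exists_block s hs2 π hπ _ hχr hd l ηl hl hηl
  have h4 := natDegree_le_of_dvd hB hχ0
  rw [hdeg, hχd] at h4
  omega

end non

end Cfsg.Agent.Lib.Helper40.PSp
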