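import Cfsg.Agent.Lib.Helper40.PrimeOrder
set_option autoImplicit false
open Polynomial
open UniqueFactorizationMonoid
open scoped Classical

namespace Cfsg.Agent.Lib.Helper40.PrimeOrder


section poly
variable {F : Type*} [Field F]

/-- The polynomial `(X - 1)^a * ∏ M`. -/
noncomputable def polyOf (a : ℕ) (M : Multiset F[X]) : F[X] := (X - 1) ^ a * M.prod

theorem prod_monic (M : Multiset F[X]) (hM : ∀ π ∈ M, π.Monic) : M.prod.Monic := by
  have := Polynomial.monic_multiset_prod_of_monic M id hM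
  simpa using this

theorem polyOf_monic (a : ℕ) (M : Multiset F[X]) (hM : ∀ π ∈ M, π.Monic) :
    (polyOf a M).Monic :=
  (monic_X_sub_one.pow a).mul (prod_monic M hM)

theorem polyOf_natDegree (a : ℕ) (M : Multiset F[X]) (hM : ∀ π ∈ M, π.Monic) (i : ℕ)
    (hdeg : ∀ π ∈ M, π.natDegree = i) : (polyOf a M).natDegree = a + i * Multiset.card M := by
  unfold polyOf
  rw [Polynomial.Monic.natDegree_mul (monic_X_sub_one.pow a) (prod_monic M hM),
    Polynomial.Monic.natDegree_pow monic_X_sub_one,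
    Polynomial.natDegree_multiset_prod_of_monic M hM]
  have h4 : (X - 1 : F[X]).natDegree = 1 := by
    have := natDegree_X_sub_C (1 : F)
    simpa using this
  rw [h4, mul_one, Multiset.map_congr rfl hdeg, Multiset.map_const', Multiset.sum_replicate,
    smul_eq_mul, mul_comm]

theorem normalizedFactors_polyOf (a : ℕ) (M : Multiset F[X]) (hM : ∀ π ∈ M, π.Monic)
    (hMi : ∀ π ∈ M, Irreducible π) :
    normalizedFactors (polyOf a M) = Multiset.replicate a (X - 1) + M := by
  unfold polyOf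
  rw [normalizedFactors_mul (pow_ne_zero _ monic_X_sub_one.ne_zero) (prod_monic M hM).ne_zero,
    normalizedFactors_pow, normalizedFactors_irreducible irreducible_X_sub_one,
    monic_X_sub_one.normalize_eq_self, normalizedFactors_prod_eq M hMi,
    Multiset.map_congr rfl (fun π hπ => (hM π hπ).normalize_eq_self), Multiset.map_id',
    Multiset.nsmul_singleton]

theorem filter_polyOf (a : ℕ) (M : Multiset F[X]) (hM : ∀ π ∈ M, π.Monic)
    (hMi : ∀ π ∈ M, Irreducible π) (hM1 : ∀ π ∈ M, π ≠ X - 1) :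
    (normalizedFactors (polyOf a M)).filter (fun π => π ≠ X - 1) = M := by
  rw [normalizedFactors_polyOf a M hM hMi, Multiset.filter_add,
    Multiset.filter_eq_nil.2 (fun π hπ => by
      rw [Multiset.eq_of_mem_replicate hπ]; simp),
    Multiset.filter_eq_self.2 hM1, zero_add]

theorem dvd_of_dvd_polyOf (a : ℕ) (M : Multiset F[X]) (Q : F[X]) (h1 : (X - 1) ∣ Q)
    (hM : ∀ π ∈ M, π ∣ Q) (π' : F[X]) (hπ' : Irreducible π') (hd : π' ∣ polyOf a M) : π' ∣ Q := by
  have hp : Prime π' := hπ'.prime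
  unfold polyOf at hd
  rcases hp.dvd_or_dvd hd with h | h
  · exact (hp.dvd_of_dvd_pow h).trans h1
  · obtain ⟨π, hπ, hπd⟩ := hp.exists_mem_multiset_dvd h
    exact hπd.trans (hM π hπ)

theorem coeff_zero_ne_zero_of_dvd (r : ℕ) (hr : 0 < r) (f : F[X]) (k : ℕ)
    (hf : f ∣ (X ^ r - 1) ^ k) : f.coeff 0 ≠ 0 := by
  intro h0
  obtain ⟨s, hs⟩ := hf
  have h1 := congrArg (fun g : F[X] => g.coeff 0) hs
  simp only [mul_coeff_zero, h0, zero_mul] at h1
  rw [coeff_zero_eq_eval_zero, eval_pow, eval_sub, eval_pow, eval_X, eval_one,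
    zero_pow hr.ne', zero_sub] at h1
  exact (pow_ne_zero k (neg_ne_zero.2 one_ne_zero)) h1

theorem polyOf_dvd_pow (a : ℕ) (M : Multiset F[X]) (Q : F[X]) (h1 : (X - 1) ∣ Q)
    (hM : ∀ π ∈ M, π ∣ Q) : polyOf a M ∣ Q ^ (a + Multiset.card M) := by
  unfold polyOf
  rw [pow_add]
  apply mul_dvd_mul (pow_dvd_pow_of_dvd h1 a)
  induction M using Multiset.induction_on with
  | empty => simp
  | cons π M ih =>
    rw [Multiset.prod_cons, Multiset.card_cons, pow_succ, mul_comm]
    exact mul_dvd_mul (ih (fun π' hπ' => hM π' (Multiset.mem_cons_of_mem hπ')))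
      (hM π (Multiset.mem_cons_self π M))

end poly



open Cfsg.Agent.Lib.Helper40.SemisimpleConj

section
variable {F : Type*} [Field F]


theorem dvd_of_pow_eq_one {ι : Type*} [Fintype ι] [DecidableEq ι] (A : Matrix ι ι F) (r : ℕ)
    (hA : A ^ r = 1) (π : F[X]) (hπ : Irreducible π) (hd : π ∣ A.charpoly) : π ∣ X ^ r - 1 := by
  by_contra hnd
  have hc : IsCoprime π (X ^ r - 1) := (Irreducible.coprime_iff_not_dvd hπ).2 hnd
  obtain ⟨a, b, hab⟩ := hc
  have h0 := det_aeval_eq_zero_of_dvd_charpoly A π hπ hd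
  have h1 : aeval A (a * π + b * (X ^ r - 1)) = 1 := by rw [hab]; simp
  rw [map_add, map_mul, map_mul, map_sub, map_pow, aeval_X, map_one, hA, sub_self, mul_zero,
    add_zero] at h1
  have h2 := congrArg Matrix.det h1
  rw [Matrix.det_mul, h0, mul_zero, Matrix.det_one] at h2
  exact zero_ne_one h2

theorem eq_polyOf_of_monic (f : F[X]) (hf : f.Monic) :
    f = polyOf (Multiset.count (X - 1) (normalizedFactors f))
      ((normalizedFactors f).filter (fun π => π ≠ X - 1)) := by
  unfold polyOf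
  have h1 := prod_normalizedFactors_of_monic hf
  have h2 := Multiset.filter_add_not (fun π => π = X - 1) (normalizedFactors f)
  rw [Multiset.filter_eq'] at h2
  conv_lhs => rw [← h1, ← h2]
  rw [Multiset.prod_add, Multiset.prod_replicate]

end

theorem eq_one_of_charpoly {F : Type*} [Field F] [Fintype F] (p : ℕ) [Fact p.Prime] [CharP F p]
    {n : ℕ} (g : GL (Fin n) F) (hg : (orderOf g).Coprime p)
    (hc : (g : Matrix (Fin n) (Fin n) F).charpoly = (X - 1) ^ n) : g = 1 := by
  have h1 : IsConj g 1 := by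
    apply isConj_GL_of_charpoly_eq p g 1 hg (by simp)
    rw [hc]
    simp [Matrix.charpoly_one]
  exact isConj_one_left.1 h1


end Cfsg.Agent.Lib.Helper40.PrimeOrder
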