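import Cfsg.Agent.Lib.Helper40.PrimeOrder2
set_option autoImplicit false
open Polynomial
open UniqueFactorizationMonoid
open scoped Classical

namespace Cfsg.Agent.Lib.Helper40.PrimeOrder


theorem sum_multichoose (t N : ℕ) :
    ∑ k ∈ Finset.range (N + 1), Nat.multichoose t k = Nat.multichoose (t + 1) N := by
  induction N with
  | zero => simp
  | succ N ih =>
    rw [Finset.sum_range_succ, ih, Nat.multichoose_succ_succ, add_comm]

/-- multisets of bounded size on `Fin t` -/
noncomputable def boundedEquiv (t N : ℕ) :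
    {m : Multiset (Fin t) // Multiset.card m ≤ N} ≃ (Σ k : Fin (N + 1), Sym (Fin t) k) where
  toFun m := ⟨⟨Multiset.card m.1, Nat.lt_succ_of_le m.2⟩, ⟨m.1, rfl⟩⟩
  invFun x := ⟨x.2.1, by rw [x.2.2]; exact Nat.le_of_lt_succ x.1.2⟩
  left_inv m := rfl
  right_inv x := by
    obtain ⟨⟨k, hk⟩, ⟨m, hm⟩⟩ := x
    simp only at hm
    subst hm
    rfl

theorem card_multiset_le (t N : ℕ) :
    Nat.card {m : Multiset (Fin t) // Multiset.card m ≤ N} = (N + t).choose t := by
  rw [Nat.card_congr (boundedEquiv t N), Nat.card_eq_fintype_card, Fintype.card_sigma]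
  simp only [Sym.card_sym_eq_multichoose, Fintype.card_fin]
  rw [Fin.sum_univ_eq_sum_range (fun k => Nat.multichoose t k) (N + 1), sum_multichoose,
    Nat.multichoose_eq]
  have : t + 1 + N - 1 = N + t := by omega
  rw [this, Nat.choose_symm_add]

theorem card_multiset_ne_zero_le (t i n : ℕ) (hi : 1 ≤ i) :
    Nat.card {m : Multiset (Fin t) // m ≠ 0 ∧ i * Multiset.card m ≤ n} =
      (n / i + t).choose t - 1 := by
  have h1 := card_multiset_le t (n / i)
  set A : Set (Multiset (Fin t)) := {m | Multiset.card m ≤ n / i} with hA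
  have hAfin : A.Finite := by
    have : Nat.card A ≠ 0 := by
      change Nat.card {m : Multiset (Fin t) // Multiset.card m ≤ n / i} ≠ 0
      rw [h1]
      exact (Nat.choose_pos (Nat.le_add_left t (n / i))).ne'
    exact Set.finite_coe_iff.1 (Nat.finite_of_card_ne_zero this)
  have h2 : {m : Multiset (Fin t) | m ≠ 0 ∧ i * Multiset.card m ≤ n} = A \ {0} := by
    ext m
    simp only [Set.mem_ofPred_eq, Set.mem_sdiff, Set.mem_singleton_iff, hA]
    rw [Nat.le_div_iff_mul_le (by omega), mul_comm]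
    tauto
  change Nat.card ↥{m : Multiset (Fin t) | m ≠ 0 ∧ i * Multiset.card m ≤ n} = _
  rw [h2, Nat.card_coe_set_eq, Set.ncard_sdiff_singleton_of_mem (by simp [hA]),
    ← Nat.card_coe_set_eq]
  change Nat.card {m : Multiset (Fin t) // Multiset.card m ≤ n / i} - 1 = _
  rw [h1]



open Cfsg.Agent.Lib.Helper40.SemisimpleConj

set_option maxHeartbeats 800000 in
theorem card_classes_eq {F : Type*} [Field F] [Fintype F] (p : ℕ) [Fact p.Prime] [CharP F p]
    (n r i t : ℕ) (hr : r.Prime) (hrp : r ≠ p)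
    (hi : i = orderOf ((Fintype.card F : ℕ) : ZMod r)) (ht : t * i = r - 1) :
    Nat.card {C : ConjClasses (GL (Fin n) F) //
      ∃ g : GL (Fin n) F, ConjClasses.mk g = C ∧ orderOf g = r} =
    Nat.card {m : Multiset (Fin t) // m ≠ 0 ∧ i * Multiset.card m ≤ n} := by
  have : Fact r.Prime := ⟨hr⟩
  have hp : p.Prime := Fact.out
  have hr0 : 0 < r := hr.pos
  have hr2 := hr.two_le
  have hrF : (r : F) ≠ 0 := by
    intro h0
    rw [CharP.cast_eq_zero_iff F p] at h0
    exact hrp ((Nat.prime_dvd_prime_iff_eq hp hr).1 h0).symm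
  have hrcop : r.Coprime p := (Nat.coprime_primes hr hp).2 hrp
  have hi1 : 1 ≤ i := by
    rcases Nat.eq_zero_or_pos i with h | h
    · subst h
      rw [mul_zero] at ht
      omega
    · exact h
  have ht1 : 0 < t := by
    rcases Nat.eq_zero_or_pos t with h | h
    · subst h
      rw [zero_mul] at ht
      omega
    · exact h
  have : Nonempty (Fin t) := ⟨⟨0, ht1⟩⟩
  have hcard : (Rset F r).card = t := by
    have h1 := card_Rset_mul (F := F) r hrF
    rw [← hi, ← ht] at h1
    exact Nat.eq_of_mul_eq_mul_right hi1 h1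
  let e : Fin t ≃ ↥(Rset F r) := (Finset.equivFinOfCardEq hcard).symm
  let π : Fin t → F[X] := fun j => (e j : F[X])
  have hπinj : Function.Injective π := fun a b h => e.injective (Subtype.ext h)
  have hπ : ∀ j, (π j).Monic ∧ Irreducible (π j) ∧ π j ∣ X ^ r - 1 ∧ π j ≠ X - 1 :=
    fun j => (mem_Rset hr0).1 (e j).2
  have hπdeg : ∀ j, (π j).natDegree = i := fun j => by
    rw [hi]
    exact natDegree_of_irreducible_dvd r _ (hπ j).1 (hπ j).2.1 (hπ j).2.2.1 (hπ j).2.2.2
  have hπsurj : ∀ x ∈ Rset F r, ∃ j, π j = x := fun x hx => ⟨e.symm ⟨x, hx⟩, by simp [π]⟩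
  have hMm : ∀ m : Multiset (Fin t), ∀ x ∈ m.map π, x.Monic := by
    intro m x hx; obtain ⟨j, _, rfl⟩ := Multiset.mem_map.1 hx; exact (hπ j).1
  have hMi : ∀ m : Multiset (Fin t), ∀ x ∈ m.map π, Irreducible x := by
    intro m x hx; obtain ⟨j, _, rfl⟩ := Multiset.mem_map.1 hx; exact (hπ j).2.1
  have hMd : ∀ m : Multiset (Fin t), ∀ x ∈ m.map π, x ∣ X ^ r - 1 := by
    intro m x hx; obtain ⟨j, _, rfl⟩ := Multiset.mem_map.1 hx; exact (hπ j).2.2.1
  have hM1 : ∀ m : Multiset (Fin t), ∀ x ∈ m.map π, x ≠ X - 1 := by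
    intro m x hx; obtain ⟨j, _, rfl⟩ := Multiset.mem_map.1 hx; exact (hπ j).2.2.2
  have hMdeg : ∀ m : Multiset (Fin t), ∀ x ∈ m.map π, x.natDegree = i := by
    intro m x hx; obtain ⟨j, _, rfl⟩ := Multiset.mem_map.1 hx; exact hπdeg j
  let P : Multiset (Fin t) → F[X] := fun m => polyOf (n - i * Multiset.card m) (m.map π)
  have hPm : ∀ m, (P m).Monic := fun m => polyOf_monic _ _ (hMm m)
  have hPd : ∀ m : Multiset (Fin t), i * Multiset.card m ≤ n → (P m).natDegree = n := by
    intro m hm
    rw [polyOf_natDegree _ _ (hMm m) i (hMdeg m), Multiset.card_map]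
    omega
  have hP0 : ∀ m, (P m).coeff 0 ≠ 0 := fun m =>
    coeff_zero_ne_zero_of_dvd r hr0 _ _ (polyOf_dvd_pow _ _ _ (X_sub_one_dvd r) (hMd m))
  have hPinj : ∀ m m' : Multiset (Fin t), P m = P m' → m = m' := by
    intro m m' h
    have h1 := filter_polyOf (n - i * Multiset.card m) _ (hMm m) (hMi m) (hM1 m)
    have h2 := filter_polyOf (n - i * Multiset.card m') _ (hMm m') (hMi m') (hM1 m')
    have h3 : m.map π = m'.map π := by
      rw [← h1, ← h2]
      exact congrArg (fun f => (normalizedFactors f).filter (fun π => π ≠ X - 1)) h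
    exact Multiset.map_injective hπinj h3
  have hex : ∀ m : {m : Multiset (Fin t) // m ≠ 0 ∧ i * Multiset.card m ≤ n},
      ∃ g : GL (Fin n) F, (orderOf g).Coprime p ∧
        (g : Matrix (Fin n) (Fin n) F).charpoly = P m.1 ∧ orderOf g = r := by
    intro m
    obtain ⟨g, hg1, hg2, hg3⟩ :=
      exists_GL_of_charpoly' p n (P m.1) (hPm _) (hPd _ m.2.2) (hP0 _)
    refine ⟨g, hg1, hg2, ?_⟩
    have hgr : g ^ r = 1 := hg3 r (fun π' _ hπ'i hπ'd =>
      dvd_of_dvd_polyOf _ _ _ (X_sub_one_dvd r) (hMd m.1) π' hπ'i hπ'd)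
    have hg1' : g ≠ 1 := by
      intro h1
      apply m.2.1
      have h2 : P m.1 = polyOf n (0 : Multiset F[X]) := by
        rw [← hg2, h1]
        simp [polyOf, Matrix.charpoly_one]
      have h3 := filter_polyOf (n - i * Multiset.card m.1) _ (hMm m.1) (hMi m.1) (hM1 m.1)
      have h4 := filter_polyOf (F := F) n (0 : Multiset F[X]) (by simp) (by simp) (by simp)
      have h5 : m.1.map π = 0 := by
        rw [← h3, ← h4]
        exact congrArg (fun f => (normalizedFactors f).filter (fun π => π ≠ X - 1)) h2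
      exact Multiset.map_eq_zero.1 h5
    exact orderOf_eq_prime hgr hg1'
  let Ξ : {m : Multiset (Fin t) // m ≠ 0 ∧ i * Multiset.card m ≤ n} →
      {C : ConjClasses (GL (Fin n) F) //
        ∃ g : GL (Fin n) F, ConjClasses.mk g = C ∧ orderOf g = r} := fun m =>
    ⟨ConjClasses.mk (Classical.choose (hex m)), Classical.choose (hex m), rfl,
      (Classical.choose_spec (hex m)).2.2⟩
  symm
  apply Nat.card_eq_of_bijective Ξ
  constructor
  · intro m m' hmm
    have h1 : ConjClasses.mk (Classical.choose (hex m)) =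
        ConjClasses.mk (Classical.choose (hex m')) := congrArg Subtype.val hmm
    have h2 := charpoly_eq_of_isConj _ _ (ConjClasses.mk_eq_mk_iff_isConj.1 h1)
    rw [(Classical.choose_spec (hex m)).2.1, (Classical.choose_spec (hex m')).2.1] at h2
    exact Subtype.ext (hPinj _ _ h2)
  · rintro ⟨C, g, hgC, hgr⟩
    set f := (g : Matrix (Fin n) (Fin n) F).charpoly with hf
    have hfm : f.Monic := Matrix.charpoly_monic _
    have hfd : f.natDegree = n := by
      rw [hf, Matrix.charpoly_natDegree_eq_dim, Fintype.card_fin]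
    set M := normalizedFactors f with hM
    set M' := M.filter (fun π => π ≠ X - 1) with hM'
    set a := Multiset.count (X - 1) M with ha
    have hfP : f = polyOf a M' := eq_polyOf_of_monic f hfm
    have hgr1 : (g : Matrix (Fin n) (Fin n) F) ^ r = 1 := by
      have h1 : g ^ r = 1 := by rw [← hgr]; exact pow_orderOf_eq_one g
      have h2 := congrArg (fun y : GL (Fin n) F => (y : Matrix (Fin n) (Fin n) F)) h1
      simpa using h2
    have hM'mem : ∀ x ∈ M', x ∈ Rset F r := by
      intro x hx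
      rw [hM', Multiset.mem_filter] at hx
      obtain ⟨hx1, hx2⟩ := hx
      rw [hM, mem_normalizedFactors_iff_monic hfm.ne_zero] at hx1
      rw [mem_Rset hr0]
      exact ⟨hx1.1, hx1.2.1, dvd_of_pow_eq_one _ r hgr1 x hx1.2.1 hx1.2.2, hx2⟩
    set m : Multiset (Fin t) := M'.map (Function.invFun π) with hm
    have hmM : m.map π = M' := by
      rw [hm, Multiset.map_map]
      conv_rhs => rw [← Multiset.map_id' M']
      apply Multiset.map_congr rfl
      intro x hx
      exact Function.invFun_eq (hπsurj x (hM'mem x hx))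
    have hcm : Multiset.card m = Multiset.card M' := by rw [hm, Multiset.card_map]
    have hdeg : n = a + i * Multiset.card M' := by
      rw [← hfd, hfP]
      apply polyOf_natDegree
      · intro x hx; exact ((mem_Rset hr0).1 (hM'mem x hx)).1
      · intro x hx
        rw [hi]
        have := (mem_Rset hr0).1 (hM'mem x hx)
        exact natDegree_of_irreducible_dvd r x this.1 this.2.1 this.2.2.1 this.2.2.2
    have hle : i * Multiset.card m ≤ n := by rw [hcm]; omega
    have hfPm : f = P m := by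
      change f = polyOf (n - i * Multiset.card m) (m.map π)
      rw [hmM, hcm, hfP]
      congr 1
      omega
    have hgcop : (orderOf g).Coprime p := by rw [hgr]; exact hrcop
    have hm0 : m ≠ 0 := by
      intro h0
      have h1 : f = (X - 1) ^ n := by
        rw [hfPm, h0]
        simp [P, polyOf]
      have h2 := eq_one_of_charpoly p g hgcop h1
      rw [h2, orderOf_one] at hgr
      omega
    refine ⟨⟨m, hm0, hle⟩, ?_⟩
    apply Subtype.ext
    change ConjClasses.mk (Classical.choose (hex ⟨m, hm0, hle⟩)) = C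
    rw [← hgC]
    apply ConjClasses.mk_eq_mk_iff_isConj.2
    obtain ⟨hc1, hc2, hc3⟩ := Classical.choose_spec (hex ⟨m, hm0, hle⟩)
    apply isConj_GL_of_charpoly_eq p _ _ hc1 hgcop
    rw [hc2, ← hfPm]


end Cfsg.Agent.Lib.Helper40.PrimeOrder
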