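import Cfsg.Agent.Lib.Helper40.PrimeOrder3
set_option autoImplicit false
open Polynomial UniqueFactorizationMonoid

namespace Cfsg.Agent.Lib.Helper40.PrimeOrder

section recip
variable {F : Type*} [Field F]

/-- the monic reciprocal polynomial -/
noncomputable def recip (π : F[X]) : F[X] := C (π.coeff 0)⁻¹ * π.reverse

theorem reverse_eq_of_coeff_zero (π : F[X]) (h0 : π.coeff 0 ≠ 0) :
    π.reverse = C (π.coeff 0) * recip π := by
  rw [recip, ← mul_assoc, ← C_mul, mul_inv_cancel₀ h0, C_1, one_mul]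

theorem natDegree_reverse_of_coeff_zero (π : F[X]) (h0 : π.coeff 0 ≠ 0) :
    π.reverse.natDegree = π.natDegree := by
  rw [reverse_natDegree, natTrailingDegree_eq_zero.2 (Or.inr h0), Nat.sub_zero]

theorem reverse_reverse_of_coeff_zero (π : F[X]) (h0 : π.coeff 0 ≠ 0) :
    π.reverse.reverse = π := by
  have h1 := natDegree_reverse_of_coeff_zero π h0
  conv_lhs => rw [reverse, h1]
  rw [reverse, reflect_reflect]

theorem leadingCoeff_reverse_of_coeff_zero (π : F[X]) (h0 : π.coeff 0 ≠ 0) :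
    π.reverse.leadingCoeff = π.coeff 0 := by
  rw [reverse_leadingCoeff, trailingCoeff, natTrailingDegree_eq_zero.2 (Or.inr h0)]

theorem recip_monic (π : F[X]) (h0 : π.coeff 0 ≠ 0) : (recip π).Monic := by
  rw [Monic, recip, leadingCoeff_mul, leadingCoeff_C, leadingCoeff_reverse_of_coeff_zero π h0,
    inv_mul_cancel₀ h0]

theorem recip_natDegree (π : F[X]) (h0 : π.coeff 0 ≠ 0) : (recip π).natDegree = π.natDegree := by
  rw [recip, natDegree_C_mul (inv_ne_zero h0), natDegree_reverse_of_coeff_zero π h0]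

theorem recip_coeff_zero (π : F[X]) (hm : π.Monic) : (recip π).coeff 0 = (π.coeff 0)⁻¹ := by
  rw [recip, coeff_C_mul, coeff_zero_reverse, hm.leadingCoeff, mul_one]

theorem reverse_C_mul' (a : F) (f : F[X]) : (C a * f).reverse = C a * f.reverse := by
  rw [reverse_mul_of_domain, reverse_C]

theorem recip_recip (π : F[X]) (hm : π.Monic) (h0 : π.coeff 0 ≠ 0) : recip (recip π) = π := by
  have h1 : (recip π).coeff 0 = (π.coeff 0)⁻¹ := recip_coeff_zero π hm
  rw [recip, h1, inv_inv]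
  conv_lhs => rw [recip, reverse_C_mul', reverse_reverse_of_coeff_zero π h0]
  rw [← mul_assoc, ← C_mul, mul_inv_cancel₀ h0, C_1, one_mul]

theorem reverse_X' : (X : F[X]).reverse = 1 := by
  have := reverse_mul_X (1 : F[X])
  rw [one_mul] at this
  rw [this]
  have h3 : (1 : F[X]) = C 1 := by simp
  rw [h3, reverse_C]

theorem reverse_X_sub_one : (X - 1 : F[X]).reverse = -(X - 1) := by
  have h : (X - 1 : F[X]) = X + C (-1) := by simp [sub_eq_add_neg]
  rw [h, reverse_add_C, reverse_X', natDegree_X]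
  simp

theorem eval_one_reverse (f : F[X]) : f.reverse.eval 1 = f.eval 1 := by
  have : Invertible (1 : F) := invertibleOne
  have := eval₂_reverse_mul_pow (RingHom.id F) (1 : F) f
  rw [invOf_one, one_pow, mul_one] at this
  exact this

theorem recip_dvd (π Q : F[X]) (h0 : π.coeff 0 ≠ 0) (hQ : Q.reverse = -Q) (h : π ∣ Q) :
    recip π ∣ Q := by
  obtain ⟨s, rfl⟩ := h
  have h1 : (π * s).reverse = π.reverse * s.reverse := reverse_mul_of_domain π s
  have h2 : recip π ∣ (π * s).reverse := by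
    rw [h1, reverse_eq_of_coeff_zero π h0, mul_assoc, mul_left_comm]
    exact Dvd.intro _ rfl
  rw [hQ] at h2
  exact (dvd_neg.1 h2)

theorem reverse_X_pow_sub_one (r : ℕ) (hr : 0 < r) : (X ^ r - 1 : F[X]).reverse = -(X ^ r - 1) := by
  have h : (X ^ r - 1 : F[X]) = X ^ r + C (-1) := by simp [sub_eq_add_neg]
  rw [h, reverse_add_C]
  have h2 : (X ^ r : F[X]).reverse = 1 := by
    have := reverse_mul_X_pow (1 : F[X]) r
    rw [one_mul] at this
    rw [this]
    have h3 : (1 : F[X]) = C 1 := by simp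
    rw [h3, reverse_C]
  rw [h2, natDegree_X_pow]
  simp

end recip

section rset
variable {F : Type*} [Field F]

theorem coeff_zero_ne_zero_of_mem_Rset {r : ℕ} (hr : 0 < r) {π : F[X]} (hπ : π ∈ Rset F r) :
    π.coeff 0 ≠ 0 := by
  have h := (mem_Rset hr).1 hπ
  apply coeff_zero_ne_zero_of_dvd r hr π 1
  rw [pow_one]
  exact h.2.2.1

theorem eval_one_ne_zero_of_mem_Rset {r : ℕ} (hr : 0 < r) {π : F[X]} (hπ : π ∈ Rset F r) :
    π.eval 1 ≠ 0 := by
  have h := (mem_Rset hr).1 hπ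
  intro h1
  have h2 : (X - C (1 : F)) ∣ π := dvd_iff_isRoot.2 h1
  rw [C_1] at h2
  rcases (h.2.1.dvd_iff).1 h2 with hu | ha
  · exact irreducible_X_sub_one.not_isUnit hu
  · exact h.2.2.2 (eq_of_monic_of_associated h.1 monic_X_sub_one ha)

end rset
end Cfsg.Agent.Lib.Helper40.PrimeOrder

namespace Cfsg.Agent.Lib.Helper40.PrimeOrder

section rset2
variable {F : Type*} [Field F] [Fintype F]

theorem recip_mem_Rset (r : ℕ) [hr : Fact r.Prime] {π : F[X]} (hπ : π ∈ Rset F r) :
    recip π ∈ Rset F r := by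
  have hr0 : 0 < r := hr.out.pos
  have h := (mem_Rset hr0).1 hπ
  have h0 := coeff_zero_ne_zero_of_mem_Rset hr0 hπ
  have hm := recip_monic π h0
  have hd : recip π ∣ X ^ r - 1 := recip_dvd π _ h0 (reverse_X_pow_sub_one r hr0) h.2.2.1
  have hdeg : (recip π).natDegree = orderOf ((Fintype.card F : ℕ) : ZMod r) := by
    rw [recip_natDegree π h0]
    exact natDegree_of_irreducible_dvd r π h.1 h.2.1 h.2.2.1 h.2.2.2
  have he1 : (recip π).eval 1 ≠ 0 := by
    rw [recip, eval_mul, eval_C, eval_one_reverse]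
    exact mul_ne_zero (inv_ne_zero h0) (eval_one_ne_zero_of_mem_Rset hr0 hπ)
  have hnu : ¬ IsUnit (recip π) := by
    intro hu
    have h1 := natDegree_eq_zero_of_isUnit hu
    rw [hdeg] at h1
    have h2 : 0 < orderOf ((Fintype.card F : ℕ) : ZMod r) := by
      rw [← natDegree_of_irreducible_dvd r π h.1 h.2.1 h.2.2.1 h.2.2.2]
      exact Irreducible.natDegree_pos h.2.1
    omega
  obtain ⟨ρ, hρm, hρi, hρd⟩ := exists_monic_irreducible_factor (recip π) hnu
  have hρ1 : ρ ≠ X - 1 := by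
    intro h1
    rw [h1] at hρd
    apply he1
    have h2 : (X - C (1 : F)) ∣ recip π := by rw [C_1]; exact hρd
    exact dvd_iff_isRoot.1 h2
  have hρdeg := natDegree_of_irreducible_dvd r ρ hρm hρi (hρd.trans hd) hρ1
  have heq : recip π = ρ :=
    eq_of_monic_of_dvd_of_natDegree_le hρm hm hρd (by rw [hdeg, hρdeg])
  rw [mem_Rset hr0]
  refine ⟨hm, ?_, hd, ?_⟩
  · rw [heq]; exact hρi
  · rw [heq]; exact hρ1

/-- common setup: in `K = F[X]/(π)`, `aeval ζ⁻¹ π = 0` iff `recip π = π`. -/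
theorem recip_eq_self_iff (r : ℕ) [hr : Fact r.Prime] {π : F[X]} (hπ : π ∈ Rset F r) :
    haveI : Fact (Irreducible π) := ⟨((mem_Rset hr.out.pos).1 hπ).2.1⟩
    recip π = π ↔ aeval (AdjoinRoot.root π)⁻¹ π = 0 := by
  have hr0 : 0 < r := hr.out.pos
  have h := (mem_Rset hr0).1 hπ
  have h0 := coeff_zero_ne_zero_of_mem_Rset hr0 hπ
  haveI : Fact (Irreducible π) := ⟨h.2.1⟩
  set ζ := AdjoinRoot.root π with hζ
  have hζr : ζ ^ r = 1 := by
    have h1 : AdjoinRoot.mk π (X ^ r - 1) = 0 := AdjoinRoot.mk_eq_zero.2 h.2.2.1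
    rw [map_sub, map_pow, AdjoinRoot.mk_X, map_one, sub_eq_zero] at h1
    exact h1
  have hζ0 : ζ ≠ 0 := by
    intro h0
    rw [h0, zero_pow hr.out.ne_zero] at hζr
    exact zero_ne_one hζr
  haveI : Invertible ζ⁻¹ := invertibleOfNonzero (inv_ne_zero hζ0)
  have hkey : aeval ζ π.reverse = 0 ↔ aeval ζ⁻¹ π = 0 := by
    have := eval₂_reverse_eq_zero_iff (algebraMap F (AdjoinRoot π)) ζ⁻¹ π
    rw [invOf_eq_inv, inv_inv] at this
    exact this
  rw [← hkey]
  constructor
  · intro heq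
    rw [reverse_eq_of_coeff_zero π h0, heq, map_mul, AdjoinRoot.aeval_eq π, AdjoinRoot.mk_self,
      mul_zero]
  · intro hz
    have h1 : aeval ζ (recip π) = 0 := by
      rw [recip, map_mul, hz, mul_zero]
    rw [AdjoinRoot.aeval_eq, AdjoinRoot.mk_eq_zero] at h1
    exact eq_of_monic_of_dvd_of_natDegree_le h.1 (recip_monic π h0) h1
      (by rw [recip_natDegree π h0])

end rset2
end Cfsg.Agent.Lib.Helper40.PrimeOrder
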