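import Cfsg.Agent.Lib.Helper40.Recip
set_option autoImplicit false
open Polynomial UniqueFactorizationMonoid

namespace Cfsg.Agent.Lib.Helper40.PrimeOrder

section dich
variable {F : Type*} [Field F] [Fintype F]

theorem recip_eq_self_of_even (r : ℕ) [hr : Fact r.Prime] {π : F[X]} (hπ : π ∈ Rset F r)
    (hev : Even (orderOf ((Fintype.card F : ℕ) : ZMod r))) : recip π = π := by
  have hr0 : 0 < r := hr.out.pos
  have h := (mem_Rset hr0).1 hπ
  haveI : Fact (Irreducible π) := ⟨h.2.1⟩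
  rw [recip_eq_self_iff r hπ]
  set ζ := AdjoinRoot.root π with hζ
  have hζr : ζ ^ r = 1 := by
    have h1 : AdjoinRoot.mk π (X ^ r - 1) = 0 := AdjoinRoot.mk_eq_zero.2 h.2.2.1
    rw [map_sub, map_pow, AdjoinRoot.mk_X, map_one, sub_eq_zero] at h1
    exact h1
  have hζ0 : ζ ≠ 0 := by
    intro h0
    rw [h0, zero_pow hr.out.ne_zero] at hζr
    exact zero_ne_one hζr
  set q := Fintype.card F with hq
  obtain ⟨k, hk⟩ := hev
  have hipos : 0 < orderOf ((q : ℕ) : ZMod r) := by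
    rw [← natDegree_of_irreducible_dvd r π h.1 h.2.1 h.2.2.1 h.2.2.2]
    exact Irreducible.natDegree_pos h.2.1
  have hk0 : 0 < k := by omega
  have h1 : ((q : ℕ) : ZMod r) ^ k * ((q : ℕ) : ZMod r) ^ k = 1 := by
    rw [← pow_add, ← hk, pow_orderOf_eq_one]
  have h2 : ((q : ℕ) : ZMod r) ^ k ≠ 1 := pow_ne_one_of_lt_orderOf hk0.ne' (by omega)
  have h3 : ((q : ℕ) : ZMod r) ^ k = -1 := (mul_self_eq_one_iff.1 h1).resolve_left h2
  have h4 : ((q ^ k + 1 : ℕ) : ZMod r) = 0 := by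
    push_cast
    rw [h3]; ring
  have h5 : r ∣ q ^ k + 1 := (ZMod.natCast_eq_zero_iff _ _).1 h4
  have h6 : ζ ^ (q ^ k) = ζ⁻¹ := by
    obtain ⟨c, hc⟩ := h5
    have : ζ ^ (q ^ k) * ζ = 1 := by
      rw [← pow_succ, hc, pow_mul, hζr, one_pow]
    exact eq_inv_of_mul_eq_one_left this
  have hpb := AdjoinRoot.powerBasis h.1.ne_zero
  have : Module.Finite F (AdjoinRoot π) := hpb.finite
  have h7 : ((FiniteField.frobeniusAlgHom F (AdjoinRoot π)) ^ k) ζ = ζ⁻¹ := by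
    rw [AlgHom.coe_pow, FiniteField.coe_frobeniusAlgHom, pow_iterate]
    exact h6
  rw [← h7, aeval_algHom_apply, AdjoinRoot.aeval_eq, AdjoinRoot.mk_self, map_zero]

theorem recip_ne_self_of_odd (r : ℕ) [hr : Fact r.Prime] (hr2 : r ≠ 2) {π : F[X]}
    (hπ : π ∈ Rset F r) (hodd : Odd (orderOf ((Fintype.card F : ℕ) : ZMod r))) :
    recip π ≠ π := by
  have hr0 : 0 < r := hr.out.pos
  have h := (mem_Rset hr0).1 hπ
  haveI : Fact (Irreducible π) := ⟨h.2.1⟩
  rw [Ne, recip_eq_self_iff r hπ]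
  intro hz
  set ζ := AdjoinRoot.root π with hζ
  have hζr : ζ ^ r = 1 := by
    have h1 : AdjoinRoot.mk π (X ^ r - 1) = 0 := AdjoinRoot.mk_eq_zero.2 h.2.2.1
    rw [map_sub, map_pow, AdjoinRoot.mk_X, map_one, sub_eq_zero] at h1
    exact h1
  have hζ0 : ζ ≠ 0 := by
    intro h0
    rw [h0, zero_pow hr.out.ne_zero] at hζr
    exact zero_ne_one hζr
  have hζ1 : ζ ≠ 1 := by
    intro h1
    have h2 : AdjoinRoot.mk π (X - 1) = 0 := by
      rw [map_sub, AdjoinRoot.mk_X, map_one, sub_eq_zero]; exact h1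
    have h3 : π ∣ X - 1 := AdjoinRoot.mk_eq_zero.1 h2
    have h4 : Associated π (X - 1) := Irreducible.associated_of_dvd h.2.1 irreducible_X_sub_one h3
    exact h.2.2.2 (Polynomial.eq_of_monic_of_associated h.1 monic_X_sub_one h4)
  have hord : orderOf ζ = r := orderOf_eq_prime hζr hζ1
  have hζinv : ζ⁻¹ ≠ ζ := by
    intro h1
    have h2 : ζ ^ 2 = 1 := by
      rw [pow_two]
      nth_rewrite 1 [← h1]
      exact inv_mul_cancel₀ hζ0
    have h3 : r ∣ 2 := by rw [← hord]; exact orderOf_dvd_of_pow_eq_one h2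
    have h4 := (Nat.prime_dvd_prime_iff_eq hr.out Nat.prime_two).1 h3
    exact hr2 h4
  have hpb := AdjoinRoot.powerBasis h.1.ne_zero
  have : Module.Finite F (AdjoinRoot π) := hpb.finite
  have : Finite (AdjoinRoot π) := Module.finite_of_finite F
  have hfr : Module.finrank F (AdjoinRoot π) = π.natDegree := by
    rw [(AdjoinRoot.powerBasis h.1.ne_zero).finrank, AdjoinRoot.powerBasis_dim]
  -- the automorphism `ζ ↦ ζ⁻¹`
  let σ : AdjoinRoot π →ₐ[F] AdjoinRoot π :=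
    AdjoinRoot.liftAlgHom π (Algebra.ofId F (AdjoinRoot π)) ζ⁻¹ (by
      rw [aeval_def] at hz
      exact hz)
  have hσζ : σ ζ = ζ⁻¹ := AdjoinRoot.liftAlgHom_root _ _ _ _
  let σe : AdjoinRoot π ≃ₐ[F] AdjoinRoot π := AlgEquiv.ofBijective σ (AlgHom.bijective σ)
  have hσe : ∀ x, σe x = σ x := fun x => rfl
  have hσ2 : σe ^ 2 = 1 := by
    apply AlgEquiv.ext
    intro x
    have h1 : (σ.comp σ) = AlgHom.id F _ := by
      apply AdjoinRoot.algHom_ext
      rw [AlgHom.comp_apply, hσζ, map_inv₀, hσζ, inv_inv]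
      rfl
    rw [pow_two, AlgEquiv.mul_apply, hσe, hσe, AlgEquiv.one_apply]
    exact congrArg (fun f : AdjoinRoot π →ₐ[F] AdjoinRoot π => f x) h1
  have hσ1 : σe ≠ 1 := by
    intro h1
    have h2 : σe ζ = ζ := by rw [h1]; rfl
    rw [hσe, hσζ] at h2
    exact hζinv h2
  have hord2 : orderOf σe = 2 := orderOf_eq_prime hσ2 hσ1
  have h2 : 2 ∣ Module.finrank F (AdjoinRoot π) := by
    rw [← IsGalois.card_aut_eq_finrank F (AdjoinRoot π), ← hord2]
    exact orderOf_dvd_natCard σe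
  rw [hfr, natDegree_of_irreducible_dvd r π h.1 h.2.1 h.2.2.1 h.2.2.2] at h2
  rcases hodd with ⟨c, hc⟩
  omega

end dich
end Cfsg.Agent.Lib.Helper40.PrimeOrder
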