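import Mathlib
set_option autoImplicit false
open Polynomial

namespace Cfsg.Agent.Lib.Helper40.SemisimpleConj


/-- An irreducible divisor of the characteristic polynomial of a matrix gives a singular value. -/
theorem det_aeval_eq_zero_of_dvd_charpoly {F : Type*} [Field F] {ι : Type*} [Fintype ι]
    [DecidableEq ι] (A : Matrix ι ι F) (p : F[X]) (hp : Irreducible p) (hdvd : p ∣ A.charpoly) :
    (aeval A p).det = 0 := by
  have : Fact (Irreducible p) := ⟨hp⟩
  set L := AdjoinRoot p with hL
  set α : L := AdjoinRoot.root p with hα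
  set AL : Matrix ι ι L := A.map (algebraMap F L) with hAL
  have hroot : (p.map (algebraMap F L)).IsRoot α := by
    rw [IsRoot, eval_map, hα]
    exact AdjoinRoot.eval₂_root p
  have h1 : (AL.charpoly).IsRoot α := by
    rw [hAL, Matrix.charpoly_map]
    obtain ⟨s, hs⟩ := hdvd
    rw [hs, Polynomial.map_mul, IsRoot, eval_mul, hroot, zero_mul]
  obtain ⟨s, hs⟩ := (dvd_iff_isRoot).2 hroot
  have h2 : aeval AL p = (aeval A p).map (algebraMap F L) := by
    have := Polynomial.aeval_algHom_apply (AlgHom.mapMatrix (Algebra.ofId F L) : Matrix ι ι F →ₐ[F] Matrix ι ι L) A p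
    exact this
  have h3 : aeval AL p = aeval AL (p.map (algebraMap F L)) := by
    rw [Polynomial.aeval_map_algebraMap]
  have h4 : (aeval AL (p.map (algebraMap F L))).det = 0 := by
    rw [hs, map_mul, Matrix.det_mul]
    have : (aeval AL (X - C α)).det = 0 := by
      have e1 : aeval AL (X - C α) = - (Matrix.scalar ι α - AL) := by
        simp [Algebra.algebraMap_eq_smul_one, Matrix.scalar_apply]
        rw [Matrix.smul_one_eq_diagonal]
      rw [e1, Matrix.det_neg, ← Matrix.eval_charpoly, h1, mul_zero]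
    rw [this, zero_mul]
  have h5 : (algebraMap F L) (aeval A p).det = 0 := by
    rw [RingHom.map_det, RingHom.mapMatrix_apply, ← h2, h3, h4]
  exact (map_eq_zero_iff _ (algebraMap F L).injective).1 h5



/-- An irreducible divisor `p` of the characteristic polynomial of `f` kills a nonzero vector. -/
theorem exists_ne_zero_aeval_eq_zero {F V : Type*} [Field F] [AddCommGroup V] [Module F V]
    [FiniteDimensional F V] (f : Module.End F V) (p : F[X]) (hp : Irreducible p)
    (hdvd : p ∣ f.charpoly) : ∃ w : V, w ≠ 0 ∧ aeval f p w = 0 := by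
  classical
  set b := Module.finBasis F V with hb
  have h1 : (aeval (LinearMap.toMatrix b b f) p).det = 0 :=
    det_aeval_eq_zero_of_dvd_charpoly _ p hp (by rwa [LinearMap.charpoly_toMatrix])
  have h2 : aeval (LinearMap.toMatrix b b f) p = LinearMap.toMatrix b b (aeval f p) :=
    Polynomial.aeval_algHom_apply (LinearMap.toMatrixAlgEquiv b).toAlgHom f p
  rw [h2, LinearMap.det_toMatrix] at h1
  have h3 := LinearMap.det_eq_zero_iff_ker_ne_bot.1 h1
  obtain ⟨w, hw, hw0⟩ := Submodule.exists_mem_ne_zero_of_ne_bot h3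
  exact ⟨w, hw0, hw⟩

/-- Evaluation at a vector: `h ↦ h(f) w`. -/
noncomputable def ev {F V : Type*} [Field F] [AddCommGroup V] [Module F V] (f : Module.End F V)
    (w : V) : F[X] →ₗ[F] V :=
  (LinearMap.applyₗ w).comp (aeval f).toLinearMap

theorem ev_apply {F V : Type*} [Field F] [AddCommGroup V] [Module F V] (f : Module.End F V)
    (w : V) (h : F[X]) : ev f w h = aeval f h w := rfl

theorem ev_X_mul {F V : Type*} [Field F] [AddCommGroup V] [Module F V] (f : Module.End F V)
    (w : V) (h : F[X]) : ev f w (X * h) = f (ev f w h) := by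
  simp [ev_apply, map_mul]

theorem mem_ker_ev_iff {F V : Type*} [Field F] [AddCommGroup V] [Module F V] (f : Module.End F V)
    (w : V) (p : F[X]) (hp : Irreducible p) (hw : w ≠ 0) (hpw : aeval f p w = 0) (h : F[X]) :
    h ∈ LinearMap.ker (ev f w) ↔ p ∣ h := by
  rw [LinearMap.mem_ker, ev_apply]
  constructor
  · intro hh
    by_contra hnd
    have hc : IsCoprime p h := (Irreducible.coprime_iff_not_dvd hp).2 hnd
    obtain ⟨a, b, hab⟩ := hc
    apply hw
    have : aeval f (a * p + b * h) w = w := by rw [hab]; simp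
    rw [← this, map_add, map_mul, map_mul, LinearMap.add_apply, Module.End.mul_apply,
      Module.End.mul_apply, hpw, hh, map_zero, map_zero, add_zero]
  · rintro ⟨s, rfl⟩
    rw [mul_comm, map_mul, Module.End.mul_apply, hpw, map_zero]

section peel
variable {F : Type*} [Field F] {V V' : Type*} [AddCommGroup V] [Module F V] [AddCommGroup V']
  [Module F V']

/-- The cyclic submodule `F[f] w`. -/
noncomputable abbrev cyc (f : Module.End F V) (w : V) : Submodule F V := LinearMap.range (ev f w)

theorem cyc_invt (f : Module.End F V) (w : V) : ∀ x ∈ cyc f w, f x ∈ cyc f w := by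
  rintro _ ⟨h, rfl⟩
  exact ⟨X * h, ev_X_mul f w h⟩

theorem ev_mem_cyc (f : Module.End F V) (w : V) (h : F[X]) : ev f w h ∈ cyc f w := ⟨h, rfl⟩

/-- Two cyclic submodules with the same annihilator are isomorphic. -/
noncomputable def cycEquiv (f : Module.End F V) (w : V) (f' : Module.End F V') (w' : V')
    (hk : LinearMap.ker (ev f w) = LinearMap.ker (ev f' w')) : cyc f w ≃ₗ[F] cyc f' w' :=
  ((ev f w).quotKerEquivRange).symm ≪≫ₗ (Submodule.quotEquivOfEq _ _ hk) ≪≫ₗ
    (ev f' w').quotKerEquivRange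

theorem cycEquiv_ev (f : Module.End F V) (w : V) (f' : Module.End F V') (w' : V')
    (hk : LinearMap.ker (ev f w) = LinearMap.ker (ev f' w')) (h : F[X]) :
    (cycEquiv f w f' w' hk ⟨ev f w h, ev_mem_cyc f w h⟩ : V') = ev f' w' h := by
  have h1 : (⟨ev f w h, ev_mem_cyc f w h⟩ : cyc f w) =
      (ev f w).quotKerEquivRange (Submodule.Quotient.mk h) := by
    apply Subtype.ext
    rw [LinearMap.quotKerEquivRange_apply_mk]
  rw [h1]
  unfold cycEquiv
  rw [LinearEquiv.trans_apply, LinearEquiv.trans_apply, LinearEquiv.symm_apply_apply,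
    Submodule.quotEquivOfEq_mk, LinearMap.quotKerEquivRange_apply_mk]

theorem cycEquiv_comm (f : Module.End F V) (w : V) (f' : Module.End F V') (w' : V')
    (hk : LinearMap.ker (ev f w) = LinearMap.ker (ev f' w')) (x : cyc f w) :
    (cycEquiv f w f' w' hk ⟨f x, cyc_invt f w x x.2⟩ : V') = f' (cycEquiv f w f' w' hk x) := by
  obtain ⟨x, h, rfl⟩ := x
  have e1 : (⟨f (ev f w h), cyc_invt f w _ (ev_mem_cyc f w h)⟩ : cyc f w) =
      ⟨ev f w (X * h), ev_mem_cyc f w _⟩ := by
    apply Subtype.ext
    exact (ev_X_mul f w h).symm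
  have e2 := cycEquiv_ev f w f' w' hk h
  have e3 := cycEquiv_ev f w f' w' hk (X * h)
  change ((cycEquiv f w f' w' hk) ⟨f (ev f w h), _⟩ : V') = f' ((cycEquiv f w f' w' hk) ⟨ev f w h, _⟩)
  rw [e1, e3, e2, ev_X_mul]

end peel



section glue
variable {F : Type*} [Field F] {V V' : Type*} [AddCommGroup V] [Module F V] [AddCommGroup V']
  [Module F V']

theorem charpoly_eq_mul_of_isCompl [FiniteDimensional F V] (f : Module.End F V)
    (W W' : Submodule F V) (hW : ∀ x ∈ W, f x ∈ W) (hW' : ∀ x ∈ W', f x ∈ W')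
    (hc : IsCompl W W') :
    f.charpoly = (f.restrict hW).charpoly * (f.restrict hW').charpoly := by
  set e := Submodule.prodEquivOfIsCompl W W' hc with he
  have h1 : e.conj ((f.restrict hW).prodMap (f.restrict hW')) = f := by
    apply LinearMap.ext
    intro v
    obtain ⟨⟨a, b⟩, rfl⟩ := e.surjective v
    rw [LinearEquiv.conj_apply]
    simp [he, Submodule.coe_prodEquivOfIsCompl']
  have h2 := LinearEquiv.charpoly_conj e ((f.restrict hW).prodMap (f.restrict hW'))
  rw [h1, LinearMap.charpoly_prodMap] at h2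
  exact h2

theorem exists_glue (f : Module.End F V) (f' : Module.End F V')
    (W W' : Submodule F V) (W₁ W₁' : Submodule F V')
    (hW : ∀ x ∈ W, f x ∈ W) (hW' : ∀ x ∈ W', f x ∈ W')
    (hc : IsCompl W W') (hc' : IsCompl W₁ W₁')
    (ψ : W ≃ₗ[F] W₁) (hψ : ∀ x : W, (ψ (f.restrict hW x) : V') = f' (ψ x))
    (φ' : W' ≃ₗ[F] W₁') (hφ' : ∀ x : W', (φ' (f.restrict hW' x) : V') = f' (φ' x)) :
    ∃ φ : V ≃ₗ[F] V', ∀ v, φ (f v) = f' (φ v) := by
  set e := Submodule.prodEquivOfIsCompl W W' hc with he
  set e' := Submodule.prodEquivOfIsCompl W₁ W₁' hc' with he'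
  refine ⟨e.symm ≪≫ₗ (ψ.prodCongr φ') ≪≫ₗ e', ?_⟩
  intro v
  obtain ⟨⟨a, b⟩, rfl⟩ := e.surjective v
  have h1 : f (e (a, b)) = e (f.restrict hW a, f.restrict hW' b) := by
    simp [he, Submodule.coe_prodEquivOfIsCompl']
  rw [h1]
  simp only [LinearEquiv.trans_apply, LinearEquiv.symm_apply_apply, LinearEquiv.prodCongr_apply,
    he', Submodule.coe_prodEquivOfIsCompl', map_add, hψ, hφ']

end glue




universe u v

/-- Semisimple endomorphisms with the same characteristic polynomial are intertwined by a linear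
isomorphism. -/
theorem exists_intertwining {F : Type u} [Field F] : ∀ (n : ℕ) (V V' : Type v) [AddCommGroup V]
    [Module F V] [AddCommGroup V'] [Module F V'] [FiniteDimensional F V] [FiniteDimensional F V']
    (f : Module.End F V) (f' : Module.End F V'), Module.finrank F V = n → f.IsSemisimple →
    f'.IsSemisimple → f.charpoly = f'.charpoly → ∃ φ : V ≃ₗ[F] V', ∀ v, φ (f v) = f' (φ v) := by
  intro n
  induction n using Nat.strong_induction_on with
  | _ n ih =>
    intro V V' _ _ _ _ _ _ f f' hn hs hs' hcp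
    have hn' : Module.finrank F V' = n := by
      rw [← LinearMap.charpoly_natDegree f', ← hcp, LinearMap.charpoly_natDegree f, hn]
    rcases Nat.eq_zero_or_pos n with h0 | hpos
    · subst h0
      have : Subsingleton V' := Module.finrank_zero_iff.1 hn'
      exact ⟨LinearEquiv.ofFinrankEq V V' (by rw [hn, hn']), fun v => Subsingleton.elim _ _⟩
    · have hnu : ¬ IsUnit f.charpoly := by
        intro hu
        have := Polynomial.natDegree_eq_zero_of_isUnit hu
        rw [LinearMap.charpoly_natDegree, hn] at this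
        omega
      obtain ⟨p, hpm, hpi, hpd⟩ := Polynomial.exists_monic_irreducible_factor _ hnu
      obtain ⟨w, hw0, hw⟩ := exists_ne_zero_aeval_eq_zero f p hpi hpd
      obtain ⟨w', hw0', hw'⟩ := exists_ne_zero_aeval_eq_zero f' p hpi (hcp ▸ hpd)
      have hk : LinearMap.ker (ev f w) = LinearMap.ker (ev f' w') := by
        ext h
        rw [mem_ker_ev_iff f w p hpi hw0 hw, mem_ker_ev_iff f' w' p hpi hw0' hw']
      set ψ := cycEquiv f w f' w' hk with hψ
      obtain ⟨W', hW'i, hc⟩ := Module.End.isSemisimple_iff.1 hs (cyc f w)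
        ((Module.End.mem_invtSubmodule f).2 (fun x hx => cyc_invt f w x hx))
      obtain ⟨W₁', hW₁'i, hc'⟩ := Module.End.isSemisimple_iff.1 hs' (cyc f' w')
        ((Module.End.mem_invtSubmodule f').2 (fun x hx => cyc_invt f' w' x hx))
      have hW' : ∀ x ∈ W', f x ∈ W' := fun x hx => (Module.End.mem_invtSubmodule f).1 hW'i hx
      have hW₁' : ∀ x ∈ W₁', f' x ∈ W₁' := fun x hx => (Module.End.mem_invtSubmodule f').1 hW₁'i hx
      have hψc : ∀ x : cyc f w, (ψ (f.restrict (cyc_invt f w) x) : V') = f' (ψ x) := by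
        intro x
        exact cycEquiv_comm f w f' w' hk x
      have hconj : ψ.conj (f.restrict (cyc_invt f w)) = f'.restrict (cyc_invt f' w') := by
        apply LinearMap.ext
        intro x
        apply Subtype.ext
        rw [LinearEquiv.conj_apply]
        simp only [LinearMap.coe_comp, LinearEquiv.coe_coe, Function.comp_apply]
        rw [hψc, LinearEquiv.apply_symm_apply]
        rfl
      have hcp1 : (f.restrict (cyc_invt f w)).charpoly = (f'.restrict (cyc_invt f' w')).charpoly := by
        rw [← hconj, LinearEquiv.charpoly_conj]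
      have hcp2 : (f.restrict hW').charpoly = (f'.restrict hW₁').charpoly := by
        have e1 := charpoly_eq_mul_of_isCompl f (cyc f w) W' (cyc_invt f w) hW' hc
        have e2 := charpoly_eq_mul_of_isCompl f' (cyc f' w') W₁' (cyc_invt f' w') hW₁' hc'
        rw [hcp, e2, hcp1] at e1
        exact (mul_left_cancel₀ (LinearMap.charpoly_monic _).ne_zero e1).symm
      have hlt : Module.finrank F W' < n := by
        have h1 := Submodule.finrank_add_eq_of_isCompl hc
        have h2 : 0 < Module.finrank F (cyc f w) := by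
          rw [Module.finrank_pos_iff_exists_ne_zero]
          refine ⟨⟨w, ⟨1, by simp [ev_apply]⟩⟩, ?_⟩
          intro h
          exact hw0 (congrArg Subtype.val h)
        omega
      obtain ⟨φ', hφ'⟩ := ih _ hlt W' W₁' (f.restrict hW') (f'.restrict hW₁') rfl
        (Module.End.IsSemisimple.restrict hW'i hs) (Module.End.IsSemisimple.restrict hW₁'i hs') hcp2
      refine exists_glue f f' (cyc f w) W' (cyc f' w') W₁' (cyc_invt f w) hW' hc hc' ψ hψc φ' ?_
      intro x
      rw [hφ']
      rfl

theorem isSemisimple_toLin'_of_pow_eq_one {F : Type*} [Field F] {ι : Type*} [Fintype ι]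
    [DecidableEq ι] (A : Matrix ι ι F) (N : ℕ) (hN : (N : F) ≠ 0) (hA : A ^ N = 1) :
    Module.End.IsSemisimple (Matrix.toLin' A) := by
  have hsq : Squarefree (X ^ N - C (1 : F)) :=
    (separable_X_pow_sub_C (1 : F) hN one_ne_zero).squarefree
  apply Module.End.isSemisimple_of_squarefree_aeval_eq_zero hsq
  rw [map_sub, map_pow, aeval_X, aeval_C, ← Matrix.toLin'_pow, hA, Matrix.toLin'_one]
  simp only [map_one]
  exact sub_self _

theorem exists_GL_conj {F : Type*} [Field F] {ι : Type*} [Fintype ι] [DecidableEq ι]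
    (A B : Matrix ι ι F) (N : ℕ) (hN : (N : F) ≠ 0) (hA : A ^ N = 1) (hB : B ^ N = 1)
    (hc : A.charpoly = B.charpoly) :
    ∃ P : GL ι F, (P : Matrix ι ι F) * A = B * (P : Matrix ι ι F) := by
  obtain ⟨φ, hφ⟩ := exists_intertwining (F := F) _ (ι → F) (ι → F) (Matrix.toLin' A)
    (Matrix.toLin' B) rfl (isSemisimple_toLin'_of_pow_eq_one A N hN hA)
    (isSemisimple_toLin'_of_pow_eq_one B N hN hB)
    (by rw [Matrix.charpoly_toLin', Matrix.charpoly_toLin', hc])
  have h1 : LinearMap.toMatrix' (φ : (ι → F) →ₗ[F] (ι → F)) *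
      LinearMap.toMatrix' (φ.symm : (ι → F) →ₗ[F] (ι → F)) = 1 := by
    rw [← LinearMap.toMatrix'_comp]
    simp
  have h2 : LinearMap.toMatrix' (φ.symm : (ι → F) →ₗ[F] (ι → F)) *
      LinearMap.toMatrix' (φ : (ι → F) →ₗ[F] (ι → F)) = 1 := by
    rw [← LinearMap.toMatrix'_comp]
    simp
  refine ⟨⟨_, _, h1, h2⟩, ?_⟩
  change LinearMap.toMatrix' (φ : (ι → F) →ₗ[F] (ι → F)) * A = B * LinearMap.toMatrix' (φ : (ι → F) →ₗ[F] (ι → F))
  apply Matrix.toLin'.injective
  apply LinearMap.ext
  intro v
  rw [Matrix.toLin'_mul, Matrix.toLin'_mul, Matrix.toLin'_toMatrix']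
  simp only [LinearMap.coe_comp, LinearEquiv.coe_coe, Function.comp_apply]
  exact hφ v

theorem isConj_GL_of_charpoly_eq {F : Type*} [Field F] (p : ℕ) [Fact p.Prime] [CharP F p]
    {ι : Type*} [Fintype ι] [DecidableEq ι] (g h : GL ι F) (hg : (orderOf g).Coprime p)
    (hh : (orderOf h).Coprime p)
    (hc : (g : Matrix ι ι F).charpoly = (h : Matrix ι ι F).charpoly) : IsConj g h := by
  set N := orderOf g * orderOf h with hNdef
  have hN : (N : F) ≠ 0 := by
    intro h0
    rw [CharP.cast_eq_zero_iff F p] at h0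
    have hp : p.Prime := Fact.out
    rcases (Nat.Prime.dvd_mul hp).1 h0 with h1 | h1
    · exact hp.one_lt.ne' (Nat.dvd_one.mp (by
        have := Nat.dvd_gcd h1 (dvd_refl p)
        rwa [Nat.Coprime.gcd_eq_one hg] at this))
    · exact hp.one_lt.ne' (Nat.dvd_one.mp (by
        have := Nat.dvd_gcd h1 (dvd_refl p)
        rwa [Nat.Coprime.gcd_eq_one hh] at this))
  have hgN : (g : Matrix ι ι F) ^ N = 1 := by
    have : g ^ N = 1 := by rw [hNdef, pow_mul, pow_orderOf_eq_one, one_pow]
    have h2 := congrArg (fun y : GL ι F => (y : Matrix ι ι F)) this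
    simpa using h2
  have hhN : (h : Matrix ι ι F) ^ N = 1 := by
    have : h ^ N = 1 := by rw [hNdef, mul_comm, pow_mul, pow_orderOf_eq_one, one_pow]
    have h2 := congrArg (fun y : GL ι F => (y : Matrix ι ι F)) this
    simpa using h2
  obtain ⟨P, hP⟩ := exists_GL_conj _ _ N hN hgN hhN hc
  rw [isConj_iff]
  refine ⟨P, ?_⟩
  rw [mul_inv_eq_iff_eq_mul]
  apply Units.ext
  exact hP


end Cfsg.Agent.Lib.Helper40.SemisimpleConj
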