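import Mathlib
import Cfsg.Agent.Lib.Helper40.SpGen3

set_option autoImplicit false

namespace Cfsg.Agent.Lib.Helper40.SpGen

open Matrix Cfsg.Agent.Lib.Helper13

section elts
variable {F : Type*} [Field F] {m : ℕ}

/-- the block diagonal symplectic matrix `diag(A, A')` with `A * A'ᵀ = 1` -/
def dgElt (A A' : Matrix (Fin m) (Fin m) F) (h : A * A'ᵀ = 1) : symplecticGroup (Fin m) F :=
  ⟨fromBlocks A 0 0 A', by
    have h' : A' * Aᵀ = 1 := by
      have := congrArg transpose h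
      rwa [transpose_mul, transpose_transpose, transpose_one] at this
    rw [SymplecticGroup.mem_iff]
    simp [Matrix.J, fromBlocks_transpose, fromBlocks_multiply, h, h']⟩

theorem dgElt_mulVec (A A' : Matrix (Fin m) (Fin m) F) (h : A * A'ᵀ = 1) (e f : Fin m → F) :
    (dgElt A A' h).1 *ᵥ Sum.elim e f = Sum.elim (A *ᵥ e) (A' *ᵥ f) := by
  show fromBlocks A 0 0 A' *ᵥ Sum.elim e f = _
  rw [fromBlocks_mulVec]
  simp

/-- the indicator of the index `i₂` -/
def eps (i₂ : Fin m) : Fin m → F := Pi.single i₂ 1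

theorem eps_cases (i₂ i : Fin m) : eps (F := F) i₂ i = 0 ∨ eps (F := F) i₂ i = 1 := by
  unfold eps
  by_cases h : i = i₂
  · right; rw [h]; simp
  · left; simp [h]

/-- the matrix acting as `[[0,-1],[1,d]]` on the hyperbolic plane of index `i₂` -/
def zMat (i₂ : Fin m) (d : F) : Matrix (Fin m ⊕ Fin m) (Fin m ⊕ Fin m) F :=
  fromBlocks (diagonal (1 - eps i₂)) (diagonal (- eps i₂)) (diagonal (eps i₂))
    (diagonal (1 - eps i₂ + d • eps i₂))

theorem zMat_mulVec_inl (i₂ : Fin m) (d : F) (x : Fin m ⊕ Fin m → F) (i : Fin m) :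
    (zMat i₂ d *ᵥ x) (Sum.inl i) =
      (1 - eps i₂ i) * x (Sum.inl i) - eps i₂ i * x (Sum.inr i) := by
  unfold zMat
  rw [fromBlocks_mulVec]
  simp only [Sum.elim_inl, Pi.add_apply, mulVec_diagonal, Function.comp_apply, Pi.sub_apply,
    Pi.one_apply, Pi.neg_apply]
  ring

theorem zMat_mulVec_inr (i₂ : Fin m) (d : F) (x : Fin m ⊕ Fin m → F) (i : Fin m) :
    (zMat i₂ d *ᵥ x) (Sum.inr i) =
      eps i₂ i * x (Sum.inl i) + (1 - eps i₂ i + d * eps i₂ i) * x (Sum.inr i) := by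
  unfold zMat
  rw [fromBlocks_mulVec]
  simp only [Sum.elim_inr, Pi.add_apply, mulVec_diagonal, Function.comp_apply, Pi.sub_apply,
    Pi.one_apply, Pi.smul_apply, smul_eq_mul]

theorem zMat_mem (i₂ : Fin m) (d : F) : zMat i₂ d ∈ symplecticGroup (Fin m) F := by
  apply mem_symplectic_of_preserves
  intro u v
  rw [sympForm_expand, sympForm_expand]
  apply Finset.sum_congr rfl
  intro i _
  rw [zMat_mulVec_inl, zMat_mulVec_inr, zMat_mulVec_inl, zMat_mulVec_inr]
  rcases eps_cases (F := F) i₂ i with h | h <;> rw [h] <;> ring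

def zElt (i₂ : Fin m) (d : F) : symplecticGroup (Fin m) F := ⟨zMat i₂ d, zMat_mem i₂ d⟩

theorem zElt_pow_four (i₂ : Fin m) : zElt (F := F) i₂ 0 ^ 4 = 1 := by
  apply Subtype.ext
  apply mat_ext_mulVec
  intro x
  rw [SubmonoidClass.coe_pow]
  show zMat i₂ 0 ^ 4 *ᵥ x = (1 : Matrix _ _ F) *ᵥ x
  rw [one_mulVec, pow_succ, pow_succ, pow_succ, pow_one, ← mulVec_mulVec, ← mulVec_mulVec,
    ← mulVec_mulVec]
  ext j
  rcases j with i | i
  · simp only [zMat_mulVec_inl, zMat_mulVec_inr]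
    rcases eps_cases (F := F) i₂ i with h | h <;> rw [h] <;> ring
  · simp only [zMat_mulVec_inl, zMat_mulVec_inr]
    rcases eps_cases (F := F) i₂ i with h | h <;> rw [h] <;> ring

theorem zElt_pow_three (i₂ : Fin m) : zElt (F := F) i₂ (-1) ^ 3 = 1 := by
  apply Subtype.ext
  apply mat_ext_mulVec
  intro x
  rw [SubmonoidClass.coe_pow]
  show zMat i₂ (-1) ^ 3 *ᵥ x = (1 : Matrix _ _ F) *ᵥ x
  rw [one_mulVec, pow_succ, pow_succ, pow_one, ← mulVec_mulVec, ← mulVec_mulVec]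
  ext j
  rcases j with i | i
  · simp only [zMat_mulVec_inl, zMat_mulVec_inr]
    rcases eps_cases (F := F) i₂ i with h | h <;> rw [h] <;> ring
  · simp only [zMat_mulVec_inl, zMat_mulVec_inr]
    rcases eps_cases (F := F) i₂ i with h | h <;> rw [h] <;> ring

theorem zElt_mulVec_fix (i₁ i₂ : Fin m) (h12 : i₁ ≠ i₂) (d : F) :
    (zElt i₂ d).1 *ᵥ Sum.elim (Pi.single i₁ (1 : F)) (0 : Fin m → F) =
      Sum.elim (Pi.single i₁ (1 : F)) (0 : Fin m → F) := by
  show zMat i₂ d *ᵥ _ = _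
  ext j
  rcases j with i | i
  · rw [zMat_mulVec_inl]
    simp only [Sum.elim_inl, Sum.elim_inr, Pi.zero_apply, mul_zero, sub_zero]
    by_cases h : i = i₁
    · subst h; simp [eps, h12]
    · simp [h]
  · rw [zMat_mulVec_inr]
    simp only [Sum.elim_inl, Sum.elim_inr, Pi.zero_apply, mul_zero, add_zero]
    by_cases h : i = i₁
    · subst h; simp [eps, h12]
    · simp [h]

theorem zElt_mulVec_move (i₂ : Fin m) (d : F) :
    (zElt i₂ d).1 *ᵥ Sum.elim (Pi.single i₂ (1 : F)) (0 : Fin m → F) =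
      Sum.elim (0 : Fin m → F) (Pi.single i₂ (1 : F)) := by
  show zMat i₂ d *ᵥ _ = _
  ext j
  rcases j with i | i
  · rw [zMat_mulVec_inl]
    simp only [Sum.elim_inl, Sum.elim_inr, Pi.zero_apply, mul_zero, sub_zero]
    by_cases h : i = i₂
    · subst h; simp [eps]
    · simp [h]
  · rw [zMat_mulVec_inr]
    simp only [Sum.elim_inl, Sum.elim_inr, Pi.zero_apply, mul_zero, add_zero]
    by_cases h : i = i₂
    · subst h; simp [eps]
    · simp [h, eps]

end elts

end Cfsg.Agent.Lib.Helper40.SpGen
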