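import Mathlib
import Cfsg.Agent.Lib.Helper40.SpGen4

set_option autoImplicit false

namespace Cfsg.Agent.Lib.Helper40.SpGen

open Matrix Cfsg.Agent.Lib.Helper13

section main
variable {F : Type*} [Field F] [Fintype F] {m : ℕ}

theorem elim_zero_zero : Sum.elim (0 : Fin m → F) (0 : Fin m → F) = 0 := by
  ext j; cases j <;> rfl

theorem closure_eq_top (hm : 2 ≤ m) (A A' : Matrix (Fin m) (Fin m) F) (N : ℕ)
    (hN : Fintype.card F ^ m = N + 1) (hAA : A * A'ᵀ = 1) (hA : A ^ N = 1) (hA' : A' ^ N = 1)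
    (hfA : ∀ k, 0 < k → k < N → ∀ v : Fin m → F, A ^ k *ᵥ v = v → v = 0)
    (hfA' : ∀ k, 0 < k → k < N → ∀ v : Fin m → F, A' ^ k *ᵥ v = v → v = 0)
    (d : F) (k : ℕ) (hk : (k : F) ≠ 0) (hz : zElt (⟨1, by omega⟩ : Fin m) d ^ k = 1) :
    Subgroup.closure ({dgElt A A' hAA,
      sympTransvElt m (Sum.elim (Pi.single (⟨0, by omega⟩ : Fin m) (1 : F)) (0 : Fin m → F)) 1 *
        zElt (⟨1, by omega⟩ : Fin m) d} : Set (symplecticGroup (Fin m) F)) = ⊤ := by
  classical
  set i₁ : Fin m := ⟨0, by omega⟩ with hi₁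
  set i₂ : Fin m := ⟨1, by omega⟩ with hi₂
  have h12 : i₁ ≠ i₂ := by simp [hi₁, hi₂, Fin.ext_iff]
  set x := dgElt A A' hAA with hxdef
  set w₁ : Fin m ⊕ Fin m → F := Sum.elim (Pi.single i₁ (1 : F)) (0 : Fin m → F) with hw₁
  set t₁ := sympTransvElt m w₁ 1 with ht₁def
  set z := zElt i₂ d with hzdef
  set H := Subgroup.closure ({x, t₁ * z} : Set (symplecticGroup (Fin m) F)) with hH
  have hx : x ∈ H := Subgroup.subset_closure (by simp)
  have hy : t₁ * z ∈ H := Subgroup.subset_closure (by simp)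
  have hcomm : Commute t₁ z := by
    have h := mul_transv m z w₁ 1
    rw [hzdef, hw₁, zElt_mulVec_fix i₁ i₂ h12 d] at h
    exact h.symm
  have hyk : (t₁ * z) ^ k = sympTransvElt m w₁ (k : F) := by
    rw [hcomm.mul_pow, hz, mul_one, ht₁def, transv_pow, mul_one]
  have h1 : sympTransvElt m w₁ (k : F) ∈ H := hyk ▸ H.pow_mem hy k
  have hsingle : ∀ i : Fin m, (Pi.single i (1 : F) : Fin m → F) ≠ 0 := by
    intro i h
    have := congrFun h i
    simp at this
  have hS1 : ∀ e : Fin m → F, sympTransvElt m (Sum.elim e (0 : Fin m → F)) (k : F) ∈ H := by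
    intro e
    by_cases he : e = 0
    · rw [he, elim_zero_zero, transv_vec_zero]
      exact H.one_mem
    · obtain ⟨j, hj⟩ := singer_transitive A hN hA hfA (Pi.single i₁ 1) e (hsingle i₁) he
      have := orbit_mem A {e | sympTransvElt m (Sum.elim e (0 : Fin m → F)) (k : F) ∈ H}
        (fun u hu => ?_) h1 j
      · rwa [hj] at this
      · show sympTransvElt m (Sum.elim (A *ᵥ u) (0 : Fin m → F)) (k : F) ∈ H
        have h2 := conj_transv m x (Sum.elim u (0 : Fin m → F)) (k : F)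
        rw [hxdef, dgElt_mulVec, mulVec_zero] at h2
        rw [← h2]
        exact H.mul_mem (H.mul_mem hx hu) (H.inv_mem hx)
  have hL : ∀ e : Fin m → F, Sum.elim e (0 : Fin m → F) ∈ TT m H := by
    intro e
    apply mem_TT_of_smul hk exists_sq_add_sq
    intro a
    have : a • Sum.elim e (0 : Fin m → F) = Sum.elim (a • e) (0 : Fin m → F) := by
      ext j; cases j <;> simp
    rw [this]
    exact hS1 _
  have ht₁ : t₁ ∈ H := hL _ 1
  have hzH : z ∈ H := by
    have := H.mul_mem (H.inv_mem ht₁) hy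
    rwa [inv_mul_cancel_left] at this
  have hR0 : Sum.elim (0 : Fin m → F) (Pi.single i₂ (1 : F)) ∈ TT m H := by
    rw [← zElt_mulVec_move i₂ d]
    exact mulVec_mem_TT hzH (hL _)
  have hR : ∀ f : Fin m → F, Sum.elim (0 : Fin m → F) f ∈ TT m H := by
    intro f
    by_cases hf : f = 0
    · rw [hf, elim_zero_zero]
      exact zero_mem_TT H
    · obtain ⟨j, hj⟩ := singer_transitive A' hN hA' hfA' (Pi.single i₂ 1) f (hsingle i₂) hf
      have := orbit_mem A' {f | Sum.elim (0 : Fin m → F) f ∈ TT m H} (fun u hu => ?_) hR0 j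
      · rwa [hj] at this
      · show Sum.elim (0 : Fin m → F) (A' *ᵥ u) ∈ TT m H
        have h2 := mulVec_mem_TT hx hu
        rwa [hxdef, dgElt_mulVec, mulVec_zero] at h2
  have hall := TT_top hL hR
  rw [eq_top_iff, ← sympTransvSubgroup_eq_top]
  unfold sympTransvSubgroup
  rw [Subgroup.closure_le]
  rintro g ⟨w, c, hg⟩
  have : g = sympTransvElt m w c := Subtype.ext hg
  rw [this]
  exact hall w c

theorem exists_two_gen (hm : 2 ≤ m) :
    ∃ x y : symplecticGroup (Fin m) F,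
      Subgroup.closure ({x, y} : Set (symplecticGroup (Fin m) F)) = ⊤ := by
  classical
  obtain ⟨A, A', N, hN, hAA, hA, hA', hfA, hfA'⟩ := exists_singer_pair (F := F) m (by omega)
  by_cases h2 : (2 : F) = 0
  · refine ⟨_, _, closure_eq_top hm A A' N hN hAA hA hA' hfA hfA' (-1) 3 ?_ (zElt_pow_three _)⟩
    have : ((3 : ℕ) : F) = 1 := by push_cast; linear_combination h2
    rw [this]
    exact one_ne_zero
  · refine ⟨_, _, closure_eq_top hm A A' N hN hAA hA hA' hfA hfA' 0 4 ?_ (zElt_pow_four _)⟩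
    have : ((4 : ℕ) : F) = 2 * 2 := by push_cast; ring
    rw [this]
    exact mul_ne_zero h2 h2

end main

end Cfsg.Agent.Lib.Helper40.SpGen
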