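import Mathlib

/-! # ST-T1 (helper6 Steinberg hive, wave 2): fixed points decompose along orbits (helper40) -/

set_option autoImplicit false

namespace Cfsg.Agent.Lib.Helper6.St

/-- the comparison map used for `card_fixedBy_eq_sum` -/
noncomputable def t1_map {B X D : Type*} [Group B] [MulAction B X] (r : D → X) (b : B) :
    (Σ d, MulAction.fixedBy (B ⧸ MulAction.stabilizer B (r d)) b) → MulAction.fixedBy X b :=
  fun p => ⟨MulAction.ofQuotientStabilizer B (r p.1) p.2.1, by
    have h := p.2.2
    rw [MulAction.mem_fixedBy] at h ⊢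
    rw [← MulAction.ofQuotientStabilizer_smul, h]⟩

theorem t1_map_bijective {B X D : Type*} [Group B] [MulAction B X]
    (r : D → X) (hr : ∀ x : X, ∃! d, x ∈ MulAction.orbit B (r d)) (b : B) :
    Function.Bijective (t1_map (B := B) r b) := by
  constructor
  · rintro ⟨d, q, hq⟩ ⟨d', q', hq'⟩ h
    have h1 : MulAction.ofQuotientStabilizer B (r d) q =
        MulAction.ofQuotientStabilizer B (r d') q' := congrArg Subtype.val h
    have hd : d = d' := by
      obtain ⟨d0, -, hu⟩ := hr (MulAction.ofQuotientStabilizer B (r d) q)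
      have e1 := hu d (MulAction.ofQuotientStabilizer_mem_orbit B (r d) q)
      have e2 := hu d' (by rw [h1]; exact MulAction.ofQuotientStabilizer_mem_orbit B (r d') q')
      rw [e1, e2]
    subst hd
    have hq2 : q = q' := MulAction.injective_ofQuotientStabilizer B (r d) h1
    subst hq2
    rfl
  · rintro ⟨x, hx⟩
    obtain ⟨d, ⟨g, hg⟩, -⟩ := hr x
    have hg' : g • r d = x := hg
    refine ⟨⟨d, (QuotientGroup.mk g : B ⧸ MulAction.stabilizer B (r d)), ?_⟩, ?_⟩
    · rw [MulAction.mem_fixedBy]
      apply MulAction.injective_ofQuotientStabilizer B (r d)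
      rw [MulAction.ofQuotientStabilizer_smul, MulAction.ofQuotientStabilizer_mk, hg']
      exact hx
    · apply Subtype.ext
      show MulAction.ofQuotientStabilizer B (r d) (QuotientGroup.mk g) = x
      rw [MulAction.ofQuotientStabilizer_mk, hg']

/-! ### ST-T1 (Mathlib only): fixed points decompose along orbits -/
theorem card_fixedBy_eq_sum {B X D : Type*} [Group B] [MulAction B X] [Finite X] [Fintype D]
    (r : D → X) (hr : ∀ x : X, ∃! d, x ∈ MulAction.orbit B (r d)) (b : B) :
    Nat.card (MulAction.fixedBy X b) =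
      ∑ d, Nat.card (MulAction.fixedBy (B ⧸ MulAction.stabilizer B (r d)) b) := by
  haveI : ∀ d, Finite (B ⧸ MulAction.stabilizer B (r d)) := fun d =>
    Finite.of_injective _ (MulAction.injective_ofQuotientStabilizer B (r d))
  rw [← Nat.card_congr (Equiv.ofBijective _ (t1_map_bijective r hr b)), Nat.card_sigma]

end Cfsg.Agent.Lib.Helper6.St
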