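import Cfsg.Agent.Lib.Helper40.SemisimpleConj
set_option autoImplicit false
open Polynomial
open LinearMap (BilinForm)

namespace Cfsg.Agent.Lib.Helper40.Symp

open Cfsg.Agent.Lib.Helper40.SemisimpleConj

section adj
variable {F : Type*} [Field F] {V : Type*} [AddCommGroup V] [Module F V]

/-- `g` preserves the bilinear form `B`. -/
def Inv (B : BilinForm F V) (g : Module.End F V) : Prop := ∀ u v, B (g u) (g v) = B u v

/-- The adjoint on the level of polynomials, for an operator with `g ^ N = 1`. -/
noncomputable def sig (N : ℕ) (h : F[X]) : F[X] := h.comp (X ^ (N - 1))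

theorem aeval_sig (N : ℕ) (g : Module.End F V) (h : F[X]) :
    aeval g (sig N h) = aeval (g ^ (N - 1)) h := by
  unfold sig
  rw [Polynomial.aeval_comp, map_pow, aeval_X]

theorem sig_mul (N : ℕ) (h k : F[X]) : sig N (h * k) = sig N h * sig N k := by
  unfold sig; exact Polynomial.mul_comp _ _ _

theorem sig_add (N : ℕ) (h k : F[X]) : sig N (h + k) = sig N h + sig N k := by
  unfold sig; exact Polynomial.add_comp

theorem sig_one (N : ℕ) : sig N (1 : F[X]) = 1 := by
  unfold sig; exact Polynomial.one_comp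

variable {B : BilinForm F V} {g : Module.End F V} {N : ℕ}

theorem pow_mul_pow_pred (hN0 : 0 < N) (hN : g ^ N = 1) : g * g ^ (N - 1) = 1 := by
  rw [← pow_succ', Nat.sub_add_cancel hN0, hN]

theorem pow_pred_mul (hN0 : 0 < N) (hN : g ^ N = 1) : g ^ (N - 1) * g = 1 := by
  rw [← pow_succ, Nat.sub_add_cancel hN0, hN]

theorem adj_g (hinv : Inv B g) (hN0 : 0 < N) (hN : g ^ N = 1) (u v : V) :
    B (g u) v = B u ((g ^ (N - 1)) v) := by
  have h1 : v = g ((g ^ (N - 1)) v) := by
    have := congrArg (fun f : Module.End F V => f v) (pow_mul_pow_pred hN0 hN)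
    simpa using this.symm
  conv_lhs => rw [h1]
  exact hinv _ _

theorem adj_g' (hinv : Inv B g) (hN0 : 0 < N) (hN : g ^ N = 1) (u v : V) :
    B u (g v) = B ((g ^ (N - 1)) u) v := by
  have h1 : u = g ((g ^ (N - 1)) u) := by
    have := congrArg (fun f : Module.End F V => f u) (pow_mul_pow_pred hN0 hN)
    simpa using this.symm
  conv_lhs => rw [h1]
  exact hinv _ _

theorem adj_pow (hinv : Inv B g) (hN0 : 0 < N) (hN : g ^ N = 1) (k : ℕ) (u v : V) :
    B ((g ^ k) u) v = B u (((g ^ (N - 1)) ^ k) v) := by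
  induction k generalizing u v with
  | zero => simp
  | succ k ih =>
    rw [pow_succ, Module.End.mul_apply, ih, adj_g hinv hN0 hN, pow_succ', Module.End.mul_apply]

theorem adj_pow' (hinv : Inv B g) (hN0 : 0 < N) (hN : g ^ N = 1) (k : ℕ) (u v : V) :
    B u ((g ^ k) v) = B (((g ^ (N - 1)) ^ k) u) v := by
  induction k generalizing u v with
  | zero => simp
  | succ k ih =>
    rw [pow_succ, Module.End.mul_apply, ih, adj_g' hinv hN0 hN, pow_succ', Module.End.mul_apply]

/-- The adjoint of `h(g)` is `(sig h)(g)`. -/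
theorem adj_poly (hinv : Inv B g) (hN0 : 0 < N) (hN : g ^ N = 1) (h : F[X]) (u v : V) :
    B (aeval g h u) v = B u (aeval g (sig N h) v) := by
  rw [aeval_sig]
  induction h using Polynomial.induction_on' with
  | add p q hp hq =>
    simp only [map_add, LinearMap.add_apply]
    rw [hp, hq]
  | monomial n a =>
    simp only [aeval_monomial, Module.algebraMap_end_apply, Module.End.mul_apply,
      LinearMap.smul_apply, map_smul]
    rw [adj_pow hinv hN0 hN]

theorem adj_poly' (hinv : Inv B g) (hN0 : 0 < N) (hN : g ^ N = 1) (h : F[X]) (u v : V) :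
    B u (aeval g h v) = B (aeval g (sig N h) u) v := by
  rw [aeval_sig]
  induction h using Polynomial.induction_on' with
  | add p q hp hq =>
    simp only [map_add, LinearMap.add_apply]
    rw [hp, hq]
  | monomial n a =>
    simp only [aeval_monomial, Module.algebraMap_end_apply, Module.End.mul_apply,
      LinearMap.smul_apply, map_smul]
    rw [adj_pow' hinv hN0 hN]

/-- `sig` is an involution modulo `g ^ N = 1`. -/
theorem aeval_sig_sig (hN0 : 0 < N) (hN : g ^ N = 1) (h : F[X]) :
    aeval g (sig N (sig N h)) = aeval g h := by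
  rw [aeval_sig, aeval_sig]
  have h1 : (g ^ (N - 1)) ^ (N - 1) = g := by
    have h2 : (g ^ (N - 1)) ^ (N - 1) * g ^ (N - 1) = 1 := by
      rw [← pow_succ, Nat.sub_add_cancel hN0, ← pow_mul, mul_comm, pow_mul, hN, one_pow]
    calc (g ^ (N - 1)) ^ (N - 1) = (g ^ (N - 1)) ^ (N - 1) * (g ^ (N - 1) * g) := by
          rw [pow_pred_mul hN0 hN, mul_one]
      _ = ((g ^ (N - 1)) ^ (N - 1) * g ^ (N - 1)) * g := by rw [mul_assoc]
      _ = g := by rw [h2, one_mul]
  rw [h1]

end adj

end Cfsg.Agent.Lib.Helper40.Symp
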