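import Mathlib
set_option autoImplicit false
open Polynomial

namespace Cfsg.Agent.Lib.Helper40.Symp

section pal
variable {F : Type*} [Field F] {l : Type*} [Fintype l] [DecidableEq l]

theorem charpoly_inv_symplectic (A : ↥(Matrix.symplecticGroup l F)) :
    ((A⁻¹ : ↥(Matrix.symplecticGroup l F)) : Matrix (l ⊕ l) (l ⊕ l) F).charpoly =
      (A : Matrix (l ⊕ l) (l ⊕ l) F).charpoly := by
  rw [SymplecticGroup.coe_inv, Matrix.charpoly_mul_comm, ← Matrix.mul_assoc, Matrix.mul_neg,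
    Matrix.J_squared, neg_neg, Matrix.one_mul, Matrix.charpoly_transpose]

theorem charpoly_reverse_symplectic (A : ↥(Matrix.symplecticGroup l F)) :
    (A : Matrix (l ⊕ l) (l ⊕ l) F).charpoly.reverse = (A : Matrix (l ⊕ l) (l ⊕ l) F).charpoly := by
  rw [Matrix.reverse_charpoly, ← charpoly_inv_symplectic A]
  set M : Matrix (l ⊕ l) (l ⊕ l) F := (A : Matrix (l ⊕ l) (l ⊕ l) F) with hM
  set M' : Matrix (l ⊕ l) (l ⊕ l) F := ((A⁻¹ : ↥(Matrix.symplecticGroup l F)) :
    Matrix (l ⊕ l) (l ⊕ l) F) with hM'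
  have hMM' : M * M' = 1 := by
    rw [hM, hM', ← Submonoid.coe_mul, mul_inv_cancel]; rfl
  have hdet : M.det = 1 := SymplecticGroup.det_eq_one A.2
  unfold Matrix.charpolyRev Matrix.charpoly
  have h1 : (1 : Matrix (l ⊕ l) (l ⊕ l) F[X]) - (X : F[X]) • M.map (⇑(C : F →+* F[X])) =
      (C : F →+* F[X]).mapMatrix M * (-(Matrix.charmatrix M')) := by
    have h2 : (C : F →+* F[X]).mapMatrix M * (C : F →+* F[X]).mapMatrix M' = 1 := by
      rw [← map_mul, hMM', map_one]
    rw [Matrix.charmatrix, neg_sub, mul_sub, h2]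
    congr 1
    rw [Matrix.scalar_apply, ← Matrix.smul_one_eq_diagonal, Matrix.mul_smul, Matrix.mul_one]
    rfl
  rw [h1, Matrix.det_mul, ← RingHom.map_det, hdet, map_one, one_mul, Matrix.det_neg]
  have hc : Fintype.card (l ⊕ l) = 2 * Fintype.card l := by
    rw [Fintype.card_sum]; ring
  rw [hc, pow_mul]
  simp

end pal
end Cfsg.Agent.Lib.Helper40.Symp
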