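import Cfsg.Agent.Lib.Helper40.SympExist
import Cfsg.Agent.Lib.Helper40.SympPal
import Cfsg.Agent.Lib.Helper40.SympMatrix
import Cfsg.Agent.Lib.Helper40.SemisimpleCount
set_option autoImplicit false
open Polynomial
open LinearMap (BilinForm)

namespace Cfsg.Agent.Lib.Helper40.Symp

open Cfsg.Agent.Lib.Helper40.SemisimpleConj

section poly
variable {F : Type*} [Field F]

theorem palindromic_eq {n : ℕ} (P Q : F[X]) (hP : P.Monic) (hQ : Q.Monic)
    (hPd : P.natDegree = 2 * n) (hQd : Q.natDegree = 2 * n) (hPr : P.reverse = P)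
    (hQr : Q.reverse = Q) (hc : ∀ k : Fin n, P.coeff ((k : ℕ) + 1) = Q.coeff ((k : ℕ) + 1)) :
    P = Q := by
  have hrev : ∀ (R : F[X]), R.natDegree = 2 * n → R.reverse = R → ∀ k, k ≤ 2 * n →
      R.coeff k = R.coeff (2 * n - k) := by
    intro R hRd hRr k hk
    conv_lhs => rw [← hRr]
    rw [coeff_reverse, hRd, revAt_le hk]
  have hlow : ∀ k, k ≤ n → P.coeff k = Q.coeff k := by
    intro k hk
    rcases Nat.eq_zero_or_pos k with h0 | hpos
    · subst h0
      rw [hrev P hPd hPr 0 (Nat.zero_le _), hrev Q hQd hQr 0 (Nat.zero_le _), Nat.sub_zero]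
      have h1 := hP.coeff_natDegree
      have h2 := hQ.coeff_natDegree
      rw [hPd] at h1
      rw [hQd] at h2
      rw [h1, h2]
    · have := hc ⟨k - 1, by omega⟩
      simp only at this
      rwa [Nat.sub_add_cancel hpos] at this
  ext k
  rcases le_or_gt k n with hk | hk
  · exact hlow k hk
  · rcases le_or_gt k (2 * n) with hk2 | hk2
    · rw [hrev P hPd hPr k hk2, hrev Q hQd hQr k hk2]
      exact hlow _ (by omega)
    · rw [coeff_eq_zero_of_natDegree_lt (by omega), coeff_eq_zero_of_natDegree_lt (by omega)]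

theorem monic_mul_self_inj (P Q : F[X]) (hP : P.Monic) (hQ : Q.Monic) (h : P * P = Q * Q) :
    P = Q := by
  rcases mul_self_eq_mul_self_iff.1 h with h1 | h1
  · exact h1
  · have h2 : P.leadingCoeff = (-Q).leadingCoeff := by rw [h1]
    rw [leadingCoeff_neg, hP.leadingCoeff, hQ.leadingCoeff] at h2
    have h3 : -Q = C (-1 : F) * Q := by
      rw [map_neg, map_one, neg_one_mul]
    rw [h1, h3, ← h2, map_one, one_mul]

theorem vecPoly_injective {n : ℕ} (a a' : Fin n → F) (h : vecPoly a = vecPoly a') : a = a' := by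
  funext i
  rw [← vecPoly_coeff a i, ← vecPoly_coeff a' i, h]

end poly

section conj
variable {F : Type*} [Field F] {l : Type*} [Fintype l] [DecidableEq l]

theorem charpoly_add_inv_of_isConj (a b : ↥(Matrix.symplecticGroup l F)) (hab : IsConj a b) :
    ((a : Matrix (l ⊕ l) (l ⊕ l) F) +
      ((a⁻¹ : ↥(Matrix.symplecticGroup l F)) : Matrix (l ⊕ l) (l ⊕ l) F)).charpoly =
    ((b : Matrix (l ⊕ l) (l ⊕ l) F) +
      ((b⁻¹ : ↥(Matrix.symplecticGroup l F)) : Matrix (l ⊕ l) (l ⊕ l) F)).charpoly := by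
  rw [isConj_iff] at hab
  obtain ⟨c, hc⟩ := hab
  have hb : b = c * a * c⁻¹ := hc.symm
  have hbi : b⁻¹ = c * a⁻¹ * c⁻¹ := by
    rw [hb]; group
  have e1 : (b : Matrix (l ⊕ l) (l ⊕ l) F) = (c : Matrix (l ⊕ l) (l ⊕ l) F) *
      (a : Matrix (l ⊕ l) (l ⊕ l) F) *
      ((c⁻¹ : ↥(Matrix.symplecticGroup l F)) : Matrix (l ⊕ l) (l ⊕ l) F) := by
    rw [hb]; rfl
  have e2 : ((b⁻¹ : ↥(Matrix.symplecticGroup l F)) : Matrix (l ⊕ l) (l ⊕ l) F) =
      (c : Matrix (l ⊕ l) (l ⊕ l) F) *
      ((a⁻¹ : ↥(Matrix.symplecticGroup l F)) : Matrix (l ⊕ l) (l ⊕ l) F) *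
      ((c⁻¹ : ↥(Matrix.symplecticGroup l F)) : Matrix (l ⊕ l) (l ⊕ l) F) := by
    rw [hbi]; rfl
  have e3 : ((c⁻¹ : ↥(Matrix.symplecticGroup l F)) : Matrix (l ⊕ l) (l ⊕ l) F) *
      (c : Matrix (l ⊕ l) (l ⊕ l) F) = 1 := by
    rw [← Submonoid.coe_mul, inv_mul_cancel]; rfl
  rw [e1, e2, ← Matrix.add_mul, ← Matrix.mul_add, Matrix.charpoly_mul_comm, ← Matrix.mul_assoc,
    e3, Matrix.one_mul]

end conj

section count
variable {F : Type*} [Field F] [Fintype F]

theorem card_symplectic_semisimple_classes (p : ℕ) [Fact p.Prime] [CharP F p] (n : ℕ) :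
    Nat.card {c : ConjClasses ↥(Matrix.symplecticGroup (Fin n) F) //
      ∃ g : ↥(Matrix.symplecticGroup (Fin n) F), ConjClasses.mk g = c ∧ (orderOf g).Coprime p} =
      Fintype.card F ^ n := by
  classical
  have hcard : Nat.card (Fin n → F) = Fintype.card F ^ n := by
    rw [Nat.card_eq_fintype_card, Fintype.card_fun, Fintype.card_fin]
  apply le_antisymm
  · rw [← hcard]
    let Ψ : {c : ConjClasses ↥(Matrix.symplecticGroup (Fin n) F) //
      ∃ g : ↥(Matrix.symplecticGroup (Fin n) F), ConjClasses.mk g = c ∧ (orderOf g).Coprime p} →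
      (Fin n → F) := fun c k =>
        ((Classical.choose c.2 : ↥(Matrix.symplecticGroup (Fin n) F)) :
          Matrix (Fin n ⊕ Fin n) (Fin n ⊕ Fin n) F).charpoly.coeff ((k : ℕ) + 1)
    apply Nat.card_le_card_of_injective Ψ
    intro c c' hcc
    obtain ⟨hc1, hc2⟩ := Classical.choose_spec c.2
    obtain ⟨hc1', hc2'⟩ := Classical.choose_spec c'.2
    have hdim : ∀ A : Matrix (Fin n ⊕ Fin n) (Fin n ⊕ Fin n) F, A.charpoly.natDegree = 2 * n := by
      intro A
      rw [Matrix.charpoly_natDegree_eq_dim, Fintype.card_sum, Fintype.card_fin]; ring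
    have h2 : ((Classical.choose c.2 : ↥(Matrix.symplecticGroup (Fin n) F)) :
          Matrix (Fin n ⊕ Fin n) (Fin n ⊕ Fin n) F).charpoly =
        ((Classical.choose c'.2 : ↥(Matrix.symplecticGroup (Fin n) F)) :
          Matrix (Fin n ⊕ Fin n) (Fin n ⊕ Fin n) F).charpoly := by
      apply palindromic_eq (n := n) _ _ (Matrix.charpoly_monic _) (Matrix.charpoly_monic _)
        (hdim _) (hdim _) (charpoly_reverse_symplectic _) (charpoly_reverse_symplectic _)
      intro k
      exact congrFun hcc k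
    have h3 := isConj_symplectic p _ _ hc2 hc2' h2
    apply Subtype.ext
    rw [← hc1, ← hc1']
    exact ConjClasses.mk_eq_mk_iff_isConj.2 h3
  · rw [← hcard]
    have hex : ∀ a : Fin n → F, ∃ g : ↥(Matrix.symplecticGroup (Fin n) F),
        (orderOf g).Coprime p ∧
        ((g : Matrix (Fin n ⊕ Fin n) (Fin n ⊕ Fin n) F) +
          ((g⁻¹ : ↥(Matrix.symplecticGroup (Fin n) F)) :
            Matrix (Fin n ⊕ Fin n) (Fin n ⊕ Fin n) F)).charpoly = vecPoly a * vecPoly a :=
      fun a => exists_symplectic_of_monic p n (vecPoly a) (vecPoly_monic a) (vecPoly_natDegree a)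
    let Φ : (Fin n → F) → {c : ConjClasses ↥(Matrix.symplecticGroup (Fin n) F) //
      ∃ g : ↥(Matrix.symplecticGroup (Fin n) F), ConjClasses.mk g = c ∧ (orderOf g).Coprime p} :=
      fun a => ⟨ConjClasses.mk (Classical.choose (hex a)), Classical.choose (hex a), rfl,
        (Classical.choose_spec (hex a)).1⟩
    apply Nat.card_le_card_of_injective Φ
    intro a a' haa
    have h1 := congrArg Subtype.val haa
    simp only [Φ] at h1
    have h2 := ConjClasses.mk_eq_mk_iff_isConj.1 h1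
    have h3 := charpoly_add_inv_of_isConj _ _ h2
    rw [(Classical.choose_spec (hex a)).2, (Classical.choose_spec (hex a')).2] at h3
    exact vecPoly_injective a a' (monic_mul_self_inj _ _ (vecPoly_monic a) (vecPoly_monic a') h3)

end count
end Cfsg.Agent.Lib.Helper40.Symp
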