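import Cfsg.Agent.Lib.Helper40.SympTypeI
set_option autoImplicit false
open Polynomial
open LinearMap (BilinForm)

namespace Cfsg.Agent.Lib.Helper40.Symp

open Cfsg.Agent.Lib.Helper40.SemisimpleConj



section dich
variable {F : Type*} [Field F] {V : Type*} [AddCommGroup V] [Module F V]
variable {B : BilinForm F V} {g : Module.End F V} {N : ℕ}

/-- An invariant complement of `W^⊥`, killed by `(sig p)(g)`. -/
theorem exists_dual_compl [FiniteDimensional F V] (hinv : Inv B g) (hN0 : 0 < N)
    (hN : g ^ N = 1) (hNF : (N : F) ≠ 0) (p : F[X]) (w : V) (hpw : aeval g p w = 0) :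
    ∃ U : Submodule F V, (∀ u ∈ U, g u ∈ U) ∧ IsCompl U (B.orthogonal (cyc g w)) ∧
      ∀ u ∈ U, aeval g (sig N p) u = 0 := by
  have hs := isSemisimple_of_pow_eq_one (g := g) hNF hN
  have hperp : ∀ x ∈ B.orthogonal (cyc g w), g x ∈ B.orthogonal (cyc g w) :=
    perp_invt hinv hN0 hN _ (cyc_invt g w)
  obtain ⟨U, hUi, hc⟩ := Module.End.isSemisimple_iff.1 hs (B.orthogonal (cyc g w))
    ((Module.End.mem_invtSubmodule g).2 (fun x hx => hperp x hx))
  have hU : ∀ u ∈ U, g u ∈ U := fun u hu => (Module.End.mem_invtSubmodule g).1 hUi hu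
  refine ⟨U, hU, hc.symm, ?_⟩
  intro u hu
  have h1 : aeval g (sig N p) u ∈ U := aeval_mem_of_invt U hU _ u hu
  have h2 : aeval g (sig N p) u ∈ B.orthogonal (cyc g w) := by
    rw [BilinForm.mem_orthogonal_iff]
    intro x hx
    exact ortho_sig hinv hN0 hN p x (aeval_eq_zero_on_cyc p w hpw x hx) u
  have h3 : aeval g (sig N p) u ∈ U ⊓ B.orthogonal (cyc g w) := Submodule.mem_inf.2 ⟨h1, h2⟩
  rw [hc.symm.inf_eq_bot, Submodule.mem_bot] at h3
  exact h3

theorem isotropic_le_perp {W : Submodule F V} (hW : Isotropic B W) : W ≤ B.orthogonal W := by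
  intro x hx
  rw [BilinForm.mem_orthogonal_iff]
  intro y hy
  exact hW y hy x hx

theorem pairing_props [FiniteDimensional F V] (halt : B.IsAlt) (hnd : B.Nondegenerate)
    {W U : Submodule F V} (hW : Isotropic B W) (hc : IsCompl U (B.orthogonal W)) :
    (∀ u ∈ U, (∀ x ∈ W, B x u = 0) → u = 0) ∧ Module.finrank F U = Module.finrank F W ∧
      Disjoint W U ∧ NondegOn B (W ⊔ U) := by
  have h1 : ∀ u ∈ U, (∀ x ∈ W, B x u = 0) → u = 0 := by
    intro u hu hx
    have h3 : u ∈ U ⊓ B.orthogonal W :=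
      Submodule.mem_inf.2 ⟨hu, BilinForm.mem_orthogonal_iff.2 hx⟩
    rw [hc.inf_eq_bot, Submodule.mem_bot] at h3
    exact h3
  have h2 : Module.finrank F U = Module.finrank F W := by
    have e1 := Submodule.finrank_add_eq_of_isCompl hc
    have e2 := BilinForm.finrank_orthogonal hnd W
    have e3 := Submodule.finrank_le W
    omega
  have h3 : Disjoint W U := by
    rw [disjoint_comm]
    exact hc.disjoint.mono_right (isotropic_le_perp hW)
  refine ⟨h1, h2, h3, ?_⟩
  intro x hx hxy
  obtain ⟨a, ha, b, hb, rfl⟩ := Submodule.mem_sup.1 hx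
  have hb0 : b = 0 := by
    apply h1 b hb
    intro y hy
    have := hxy y (Submodule.mem_sup_left hy)
    rw [map_add, LinearMap.add_apply, hW a ha y hy, zero_add] at this
    rw [alt_swap halt, this, neg_zero]
  subst hb0
  rw [add_zero] at hxy ⊢
  apply hnd.1 a
  intro z
  obtain ⟨u, hu, c, hc', rfl⟩ := Submodule.mem_sup.1
    (show z ∈ U ⊔ B.orthogonal W by rw [hc.sup_eq_top]; trivial)
  rw [map_add, hxy u (Submodule.mem_sup_right hu), zero_add]
  exact BilinForm.mem_orthogonal_iff.1 hc' a ha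

end dich




section dich
variable {F : Type*} [Field F] {V : Type*} [AddCommGroup V] [Module F V]
variable {B : BilinForm F V} {g : Module.End F V} {N : ℕ}

/-- If `p ∣ sig p`, the kernel of `(sig p)(g)` is the kernel of `p(g)`. -/
theorem aeval_eq_zero_of_sig (hN0 : 0 < N) (hN : g ^ N = 1) (p : F[X]) (hps : p ∣ sig N p)
    (u : V) (hu : aeval g (sig N p) u = 0) : aeval g p u = 0 := by
  obtain ⟨s, hs⟩ := hps
  have h1 : sig N (sig N p) = sig N p * sig N s := by rw [← sig_mul, ← hs]
  have h2 : aeval g (sig N (sig N p)) u = 0 := by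
    rw [h1, mul_comm, aeval_mul_apply, hu, map_zero]
  rw [aeval_sig_sig hN0 hN] at h2
  exact h2

/-- A nondegenerate cyclic irreducible piece forces `p` to be self-reciprocal and not to divide
`X^2 - 1`. -/
theorem caseA_of_nondeg (halt : B.IsAlt) (hinv : Inv B g) (hN0 : 0 < N) (hN : g ^ N = 1)
    (p : F[X]) (hp : Irreducible p) (v : V) (hv0 : v ≠ 0) (hpv : aeval g p v = 0)
    (hnd : NondegOn B (cyc g v)) : p ∣ sig N p ∧ ¬ p ∣ X ^ 2 - 1 := by
  constructor
  · rw [← mem_ker_ev_iff g v p hp hv0 hpv, LinearMap.mem_ker, ev_apply]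
    apply hnd _ (aeval_mem_cyc v _)
    intro y hy
    rw [alt_swap halt, ortho_sig hinv hN0 hN p y (aeval_eq_zero_on_cyc p v hpv y hy), neg_zero]
  · intro h2
    have h3 : (X ^ 2 - 1 : F[X]) = (X - 1) * (X + 1) := by ring
    rw [h3] at h2
    have hle : ∀ ε : F, aeval g (X - C ε) v = 0 → False := by
      intro ε hε
      rw [map_sub, aeval_X, aeval_C, LinearMap.sub_apply, Module.algebraMap_end_apply,
        sub_eq_zero] at hε
      apply hv0
      apply hnd v (self_mem_cyc v)
      have hsub : cyc g v ≤ Submodule.span F {v} := by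
        apply cyc_le v _ _ (Submodule.mem_span_singleton_self v)
        intro x hx
        obtain ⟨a, rfl⟩ := Submodule.mem_span_singleton.1 hx
        rw [map_smul, hε, smul_smul]
        exact Submodule.smul_mem _ _ (Submodule.mem_span_singleton_self v)
      intro y hy
      obtain ⟨a, rfl⟩ := Submodule.mem_span_singleton.1 (hsub hy)
      rw [map_smul, halt v, smul_zero]
    rcases hp.prime.dvd_or_dvd h2 with h | h
    · apply hle 1
      have := aeval_eq_zero_of_dvd g p _ h v hpv
      simpa using this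
    · apply hle (-1)
      have := aeval_eq_zero_of_dvd g p _ h v hpv
      simpa using this

/-- Under case (A) there is a nondegenerate cyclic piece. -/
theorem exists_nondeg_cyc [FiniteDimensional F V] (halt : B.IsAlt) (hnd : B.Nondegenerate)
    (hinv : Inv B g) (hN0 : 0 < N) (hN : g ^ N = 1) (hNF : (N : F) ≠ 0) (p : F[X])
    (hp : Irreducible p) (hps : p ∣ sig N p) (hp2 : ¬ p ∣ X ^ 2 - 1) (w : V) (hw0 : w ≠ 0)
    (hpw : aeval g p w = 0) :
    ∃ v : V, v ≠ 0 ∧ aeval g p v = 0 ∧ NondegOn B (cyc g v) := by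
  by_contra hcon
  push Not at hcon
  have hall : ∀ v : V, aeval g p v = 0 → ∀ h : F[X], B v (aeval g h v) = 0 := by
    intro v hv h
    by_cases hv0 : v = 0
    · rw [hv0]; simp
    · have := isotropic_of_degenerate halt hinv hN0 hN p hp v hv (hcon v hv0 hv)
      exact this v (self_mem_cyc v) _ (aeval_mem_cyc v h)
  have hpol : ∀ x y : V, aeval g p x = 0 → aeval g p y = 0 → ∀ h : F[X],
      B x (aeval g (h - sig N h) y) = 0 := by
    intro x y hx hy h
    have h1 := hall (x + y) (by rw [map_add, hx, hy, add_zero]) h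
    rw [map_add, map_add, LinearMap.add_apply, map_add, map_add, hall x hx, hall y hy,
      zero_add, add_zero] at h1
    rw [map_sub, LinearMap.sub_apply, map_sub, ← adj_poly hinv hN0 hN, alt_swap halt _ y]
    rw [sub_neg_eq_add]
    exact h1
  have hWi : Isotropic B (cyc g w) := by
    have := isotropic_of_degenerate halt hinv hN0 hN p hp w hpw (hcon w hw0 hpw)
    exact this
  obtain ⟨U, hU, hc, hUs⟩ := exists_dual_compl (B := B) hinv hN0 hN hNF p w hpw
  obtain ⟨-, -, -, hndP⟩ := pairing_props halt hnd hWi hc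
  have hPk : ∀ x ∈ cyc g w ⊔ U, aeval g p x = 0 := by
    intro x hx
    obtain ⟨a, ha, b, hb, rfl⟩ := Submodule.mem_sup.1 hx
    rw [map_add, aeval_eq_zero_on_cyc p w hpw a ha,
      aeval_eq_zero_of_sig hN0 hN p hps b (hUs b hb), add_zero]
  set z := aeval g ((X : F[X]) - sig N (X : F[X])) w with hz
  have hzP : z ∈ cyc g w ⊔ U := Submodule.mem_sup_left (aeval_mem_cyc w _)
  have hz0 : z = 0 := by
    apply hndP z hzP
    intro y hy
    rw [alt_swap halt, hz, hpol y w (hPk y hy) hpw (X : F[X]), neg_zero]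
  apply hp2
  have h1 : p ∣ (X : F[X]) - sig N (X : F[X]) := by
    rw [← mem_ker_ev_iff g w p hp hw0 hpw, LinearMap.mem_ker, ev_apply]
    exact hz0
  have hpN : p ∣ X ^ N - 1 := by
    rw [← mem_ker_ev_iff g w p hp hw0 hpw, LinearMap.mem_ker, ev_apply, map_sub, map_pow, aeval_X,
      map_one, hN, sub_self, LinearMap.zero_apply]
  have h2 : (X ^ 2 - 1 : F[X]) = X * ((X : F[X]) - sig N (X : F[X])) + (X ^ N - 1) := by
    have h3 : sig N (X : F[X]) = X ^ (N - 1) := by simp [sig]
    have h4 : (X : F[X]) * X ^ (N - 1) = X ^ N := by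
      rw [← pow_succ', Nat.sub_add_cancel hN0]
    rw [h3, mul_sub, h4]
    ring
  rw [h2]
  exact dvd_add (Dvd.dvd.mul_left h1 X) hpN

end dich


end Cfsg.Agent.Lib.Helper40.Symp
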