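import Cfsg.Agent.Lib.Helper40.SympToSp
import Cfsg.Agent.Lib.Helper40.SympAdjoin
set_option autoImplicit false
open Polynomial
open LinearMap (BilinForm)

namespace Cfsg.Agent.Lib.Helper40.Symp

section build
variable {F : Type*} [Field F] (h : F[X])

/-- the symmetric form `(x, y) ↦ ℓ(xy)` on `F[X]/(h)` -/
noncomputable def betaForm (hh : h.Monic) : BilinForm F (AdjoinRoot h) :=
  (LinearMap.mul F (AdjoinRoot h)).compr₂ (topCoeff h hh)

theorem betaForm_apply (hh : h.Monic) (x y : AdjoinRoot h) :
    betaForm h hh x y = topCoeff h hh (x * y) := rfl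

/-- the alternating form on `F[X]/(h) × F[X]/(h)` -/
noncomputable def altForm (hh : h.Monic) : BilinForm F (AdjoinRoot h × AdjoinRoot h) :=
  (betaForm h hh).compl₁₂ (LinearMap.fst F _ _) (LinearMap.snd F _ _) -
    (betaForm h hh).compl₁₂ (LinearMap.snd F _ _) (LinearMap.fst F _ _)

theorem altForm_apply (hh : h.Monic) (u v : AdjoinRoot h × AdjoinRoot h) :
    altForm h hh u v = topCoeff h hh (u.1 * v.2) - topCoeff h hh (u.2 * v.1) := rfl

theorem altForm_isAlt (hh : h.Monic) : (altForm h hh).IsAlt := by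
  intro u
  rw [altForm_apply, mul_comm, sub_self]

theorem altForm_nondegenerate (hh : h.Monic) : (altForm h hh).Nondegenerate := by
  have hleft : (altForm h hh).SeparatingLeft := by
    intro u hu
    have h1 : u.1 = 0 := by
      apply topCoeff_nondeg h hh
      intro y
      have := hu (0, y)
      rw [altForm_apply] at this
      simpa using this
    have h2 : u.2 = 0 := by
      apply topCoeff_nondeg h hh
      intro y
      have := hu (y, 0)
      rw [altForm_apply] at this
      simpa using this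
    exact Prod.ext h1 h2
  refine ⟨hleft, ?_⟩
  intro u hu
  apply hleft u
  intro v
  rw [← (altForm_isAlt h hh).neg_eq, hu v, neg_zero]

/-- multiplication by the root -/
noncomputable def sMul : AdjoinRoot h →ₗ[F] AdjoinRoot h :=
  Algebra.lmul F (AdjoinRoot h) (AdjoinRoot.root h)

theorem sMul_apply (x : AdjoinRoot h) : sMul h x = AdjoinRoot.root h * x := rfl

/-- the symplectic map `(x₁, x₂) ↦ (-x₂, x₁ + s x₂)` -/
noncomputable def sympMap : AdjoinRoot h × AdjoinRoot h →ₗ[F] AdjoinRoot h × AdjoinRoot h :=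
  (-(LinearMap.snd F _ _)).prod (LinearMap.fst F _ _ + (sMul h) ∘ₗ (LinearMap.snd F _ _))

/-- its inverse `(x₁, x₂) ↦ (s x₁ + x₂, -x₁)` -/
noncomputable def sympMapInv : AdjoinRoot h × AdjoinRoot h →ₗ[F] AdjoinRoot h × AdjoinRoot h :=
  ((sMul h) ∘ₗ (LinearMap.fst F _ _) + LinearMap.snd F _ _).prod (-(LinearMap.fst F _ _))

theorem sympMap_apply (u : AdjoinRoot h × AdjoinRoot h) :
    sympMap h u = (-u.2, u.1 + AdjoinRoot.root h * u.2) := rfl

theorem sympMapInv_apply (u : AdjoinRoot h × AdjoinRoot h) :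
    sympMapInv h u = (AdjoinRoot.root h * u.1 + u.2, -u.1) := rfl

theorem sympMap_mul_inv : sympMap h * sympMapInv h = 1 := by
  apply LinearMap.ext
  intro u
  rw [Module.End.mul_apply, sympMapInv_apply, sympMap_apply, Module.End.one_apply]
  apply Prod.ext
  · simp
  · show AdjoinRoot.root h * u.1 + u.2 + AdjoinRoot.root h * (-u.1) = u.2
    ring

theorem sympMap_add_inv : sympMap h + sympMapInv h = (sMul h).prodMap (sMul h) := by
  apply LinearMap.ext
  intro u
  rw [LinearMap.add_apply, sympMapInv_apply, sympMap_apply, LinearMap.prodMap_apply, sMul_apply,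
    sMul_apply]
  apply Prod.ext
  · show -u.2 + (AdjoinRoot.root h * u.1 + u.2) = AdjoinRoot.root h * u.1
    ring
  · show u.1 + AdjoinRoot.root h * u.2 + -u.1 = AdjoinRoot.root h * u.2
    ring

theorem sympMap_isometry (hh : h.Monic) (u v : AdjoinRoot h × AdjoinRoot h) :
    altForm h hh (sympMap h u) (sympMap h v) = altForm h hh u v := by
  rw [altForm_apply, altForm_apply, sympMap_apply, sympMap_apply]
  simp only
  have e1 : -u.2 * (v.1 + AdjoinRoot.root h * v.2) =
      -(u.2 * v.1) - AdjoinRoot.root h * (u.2 * v.2) := by ring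
  have e2 : (u.1 + AdjoinRoot.root h * u.2) * -v.2 =
      -(u.1 * v.2) - AdjoinRoot.root h * (u.2 * v.2) := by ring
  rw [e1, e2]
  simp only [map_sub, map_neg]
  ring

end build

section final
variable {F : Type*} [Field F] [Fintype F]

/-- For every monic `h` of degree `n` there is a `p'`-element `g` of `Sp_2n(F)` with
`charpoly (g + g⁻¹) = h * h`. -/
theorem exists_symplectic_of_monic (p : ℕ) [Fact p.Prime] [CharP F p] (n : ℕ) (h : F[X])
    (hh : h.Monic) (hn : h.natDegree = n) :
    ∃ g : ↥(Matrix.symplecticGroup (Fin n) F), (orderOf g).Coprime p ∧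
      ((g : Matrix (Fin n ⊕ Fin n) (Fin n ⊕ Fin n) F) +
        ((g⁻¹ : ↥(Matrix.symplecticGroup (Fin n) F)) :
          Matrix (Fin n ⊕ Fin n) (Fin n ⊕ Fin n) F)).charpoly = h * h := by
  have := (AdjoinRoot.powerBasis' hh).finite
  have hfr : Module.finrank F (AdjoinRoot h × AdjoinRoot h) = 2 * n := by
    rw [Module.finrank_prod, (AdjoinRoot.powerBasis' hh).finrank]
    show h.natDegree + h.natDegree = 2 * n
    rw [hn]; ring
  obtain ⟨g, hg1, hg2⟩ := exists_semisimple_symplectic_of_isometry p (altForm h hh)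
    (altForm_isAlt h hh) (altForm_nondegenerate h hh) n hfr (sympMap h) (sympMapInv h)
    (sympMap_mul_inv h) (sympMap_isometry h hh)
  refine ⟨g, hg1, ?_⟩
  rw [hg2, sympMap_add_inv, LinearMap.charpoly_prodMap]
  have := charpoly_lmul_root h hh
  rw [sMul, this]

end final
end Cfsg.Agent.Lib.Helper40.Symp
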