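import Cfsg.Agent.Lib.Helper40.SympCount
import Cfsg.Agent.Lib.Helper40.PrimeOrder3
set_option autoImplicit false
open Polynomial UniqueFactorizationMonoid

namespace Cfsg.Agent.Lib.Helper40.Symp

open Cfsg.Agent.Lib.Helper40.SemisimpleConj Cfsg.Agent.Lib.Helper40.PrimeOrder

section exist
variable {F : Type*} [Field F] [Fintype F]

/-- Every monic palindromic polynomial of degree `2n` is the characteristic polynomial of a
`p'`-element of `Sp_2n(F)`. -/
theorem exists_symplectic_of_palindromic (p : ℕ) [Fact p.Prime] [CharP F p] (n : ℕ) (P : F[X])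
    (hP : P.Monic) (hPd : P.natDegree = 2 * n) (hPr : P.reverse = P) :
    ∃ g : ↥(Matrix.symplecticGroup (Fin n) F), (orderOf g).Coprime p ∧
      (g : Matrix (Fin n ⊕ Fin n) (Fin n ⊕ Fin n) F).charpoly = P := by
  classical
  have hcard : Nat.card (Fin n → F) = Fintype.card F ^ n := by
    rw [Nat.card_eq_fintype_card, Fintype.card_fun, Fintype.card_fin]
  let Ψ : {c : ConjClasses ↥(Matrix.symplecticGroup (Fin n) F) //
      ∃ g : ↥(Matrix.symplecticGroup (Fin n) F), ConjClasses.mk g = c ∧ (orderOf g).Coprime p} →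
      (Fin n → F) := fun c k =>
        ((Classical.choose c.2 : ↥(Matrix.symplecticGroup (Fin n) F)) :
          Matrix (Fin n ⊕ Fin n) (Fin n ⊕ Fin n) F).charpoly.coeff ((k : ℕ) + 1)
  have hdim : ∀ A : Matrix (Fin n ⊕ Fin n) (Fin n ⊕ Fin n) F, A.charpoly.natDegree = 2 * n := by
    intro A
    rw [Matrix.charpoly_natDegree_eq_dim, Fintype.card_sum, Fintype.card_fin]; ring
  have hinj : Function.Injective Ψ := by
    intro c c' hcc
    obtain ⟨hc1, hc2⟩ := Classical.choose_spec c.2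
    obtain ⟨hc1', hc2'⟩ := Classical.choose_spec c'.2
    have h2 : ((Classical.choose c.2 : ↥(Matrix.symplecticGroup (Fin n) F)) :
          Matrix (Fin n ⊕ Fin n) (Fin n ⊕ Fin n) F).charpoly =
        ((Classical.choose c'.2 : ↥(Matrix.symplecticGroup (Fin n) F)) :
          Matrix (Fin n ⊕ Fin n) (Fin n ⊕ Fin n) F).charpoly := by
      apply palindromic_eq (n := n) _ _ (Matrix.charpoly_monic _) (Matrix.charpoly_monic _)
        (hdim _) (hdim _) (charpoly_reverse_symplectic _) (charpoly_reverse_symplectic _)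
      intro k
      exact congrFun hcc k
    have h3 := isConj_symplectic p _ _ hc2 hc2' h2
    apply Subtype.ext
    rw [← hc1, ← hc1']
    exact ConjClasses.mk_eq_mk_iff_isConj.2 h3
  have hbij : Function.Bijective Ψ := by
    apply Function.Injective.bijective_of_nat_card_le hinj
    rw [hcard, card_symplectic_semisimple_classes p n]
  obtain ⟨c, hc⟩ := hbij.2 (fun k => P.coeff ((k : ℕ) + 1))
  obtain ⟨hc1, hc2⟩ := Classical.choose_spec c.2
  refine ⟨Classical.choose c.2, hc2, ?_⟩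
  apply palindromic_eq (n := n) _ _ (Matrix.charpoly_monic _) hP (hdim _) hPd
    (charpoly_reverse_symplectic _) hPr
  intro k
  exact congrFun hc k

end exist

section pow
variable {F : Type*} [Field F] {ι : Type*} [Fintype ι] [DecidableEq ι]

theorem pow_eq_one_of_charpoly_dvd (A : Matrix ι ι F) (N : ℕ) (hN : (N : F) ≠ 0)
    (hAN : A ^ N = 1) (k e : ℕ) (hdvd : A.charpoly ∣ (X ^ k - 1) ^ e) : A ^ k = 1 := by
  set μ := minpoly F A with hμ
  have h1 : μ ∣ X ^ N - 1 := by
    apply minpoly.dvd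
    rw [map_sub, map_pow, aeval_X, map_one, hAN, sub_self]
  have hsep : (X ^ N - 1 : F[X]).Separable := by
    have := separable_X_pow_sub_C (1 : F) hN one_ne_zero
    simpa using this
  have hsq : Squarefree μ := hsep.squarefree.squarefree_of_dvd h1
  have h2 : μ ∣ (X ^ k - 1) ^ e := (Matrix.minpoly_dvd_charpoly A).trans hdvd
  have h3 : μ ∣ X ^ k - 1 := hsq.isRadical e _ h2
  obtain ⟨s, hs⟩ := h3
  have h4 : aeval A (X ^ k - 1 : F[X]) = 0 := by
    rw [hs, map_mul, hμ, minpoly.aeval, zero_mul]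
  rw [map_sub, map_pow, aeval_X, map_one, sub_eq_zero] at h4
  exact h4

end pow

section conj
variable {F : Type*} [Field F] {l : Type*} [Fintype l] [DecidableEq l]

theorem charpoly_eq_of_isConj_symplectic (a b : ↥(Matrix.symplecticGroup l F))
    (hab : IsConj a b) :
    (a : Matrix (l ⊕ l) (l ⊕ l) F).charpoly = (b : Matrix (l ⊕ l) (l ⊕ l) F).charpoly := by
  rw [isConj_iff] at hab
  obtain ⟨c, hc⟩ := hab
  have e1 : (b : Matrix (l ⊕ l) (l ⊕ l) F) = (c : Matrix (l ⊕ l) (l ⊕ l) F) *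
      (a : Matrix (l ⊕ l) (l ⊕ l) F) *
      ((c⁻¹ : ↥(Matrix.symplecticGroup l F)) : Matrix (l ⊕ l) (l ⊕ l) F) := by
    rw [← hc]; rfl
  have e3 : ((c⁻¹ : ↥(Matrix.symplecticGroup l F)) : Matrix (l ⊕ l) (l ⊕ l) F) *
      (c : Matrix (l ⊕ l) (l ⊕ l) F) = 1 := by
    rw [← Submonoid.coe_mul, inv_mul_cancel]; rfl
  rw [e1, Matrix.charpoly_mul_comm, ← Matrix.mul_assoc, e3, Matrix.one_mul]

end conj
end Cfsg.Agent.Lib.Helper40.Symp
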