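import Cfsg.Agent.Lib.Helper40.SympPal2
set_option autoImplicit false
open Polynomial UniqueFactorizationMonoid

namespace Cfsg.Agent.Lib.Helper40.Symp

open Cfsg.Agent.Lib.Helper40.SemisimpleConj Cfsg.Agent.Lib.Helper40.PrimeOrder

set_option maxHeartbeats 800000 in
theorem card_sp_classes_eq {F : Type*} [Field F] [Fintype F] (p : ℕ) [Fact p.Prime] [CharP F p]
    (m r i : ℕ) (hr : r.Prime) (hrp : r ≠ p)
    (hi : i = orderOf ((Fintype.card F : ℕ) : ZMod r)) :
    Nat.card {C : ConjClasses ↥(Matrix.symplecticGroup (Fin m) F) //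
      ∃ g : ↥(Matrix.symplecticGroup (Fin m) F), ConjClasses.mk g = C ∧ orderOf g = r} =
    Nat.card {M : Multiset F[X] // (∀ π ∈ M, π ∈ Rset F r) ∧ M ≠ 0 ∧
      i * Multiset.card M ≤ 2 * m ∧
      (polyOf (2 * m - i * Multiset.card M) M).reverse =
        polyOf (2 * m - i * Multiset.card M) M} := by
  classical
  have : Fact r.Prime := ⟨hr⟩
  have hp : p.Prime := Fact.out
  have hr0 : 0 < r := hr.pos
  have hr2 := hr.two_le
  have hrcop : r.Coprime p := (Nat.coprime_primes hr hp).2 hrp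
  have hRm : ∀ π ∈ Rset F r, π.Monic := fun π h => ((mem_Rset hr0).1 h).1
  have hRi : ∀ π ∈ Rset F r, Irreducible π := fun π h => ((mem_Rset hr0).1 h).2.1
  have hRd : ∀ π ∈ Rset F r, π ∣ X ^ r - 1 := fun π h => ((mem_Rset hr0).1 h).2.2.1
  have hR1 : ∀ π ∈ Rset F r, π ≠ X - 1 := fun π h => ((mem_Rset hr0).1 h).2.2.2
  have hRdeg : ∀ π ∈ Rset F r, π.natDegree = i := fun π h => by
    rw [hi]
    exact natDegree_of_irreducible_dvd r π (hRm π h) (hRi π h) (hRd π h) (hR1 π h)
  let P : Multiset F[X] → F[X] := fun M => polyOf (2 * m - i * Multiset.card M) M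
  have hPinj : ∀ M M' : Multiset F[X], (∀ π ∈ M, π ∈ Rset F r) → (∀ π ∈ M', π ∈ Rset F r) →
      P M = P M' → M = M' := by
    intro M M' hM hM' h
    have h1 := filter_polyOf (2 * m - i * Multiset.card M) M (fun π hπ => hRm π (hM π hπ))
      (fun π hπ => hRi π (hM π hπ)) (fun π hπ => hR1 π (hM π hπ))
    have h2 := filter_polyOf (2 * m - i * Multiset.card M') M' (fun π hπ => hRm π (hM' π hπ))
      (fun π hπ => hRi π (hM' π hπ)) (fun π hπ => hR1 π (hM' π hπ))
    rw [← h1, ← h2]
    exact congrArg (fun f => (normalizedFactors f).filter (fun π => π ≠ X - 1)) h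
  have hex : ∀ M : {M : Multiset F[X] // (∀ π ∈ M, π ∈ Rset F r) ∧ M ≠ 0 ∧
      i * Multiset.card M ≤ 2 * m ∧ (P M).reverse = P M},
      ∃ g : ↥(Matrix.symplecticGroup (Fin m) F), (orderOf g).Coprime p ∧
        (g : Matrix (Fin m ⊕ Fin m) (Fin m ⊕ Fin m) F).charpoly = P M.1 ∧ orderOf g = r := by
    rintro ⟨M, hM, hM0, hMle, hMrev⟩
    have hPm : (P M).Monic := polyOf_monic _ _ (fun π hπ => hRm π (hM π hπ))
    have hPd : (P M).natDegree = 2 * m := by
      change (polyOf (2 * m - i * Multiset.card M) M).natDegree = 2 * m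
      rw [polyOf_natDegree _ _ (fun π hπ => hRm π (hM π hπ)) i (fun π hπ => hRdeg π (hM π hπ))]
      omega
    obtain ⟨g, hg1, hg2⟩ := exists_symplectic_of_palindromic p m (P M) hPm hPd hMrev
    refine ⟨g, hg1, hg2, ?_⟩
    have hNF : ((orderOf g : ℕ) : F) ≠ 0 := natCast_ne_zero_of_coprime p _ hg1
    have hgN : (g : Matrix (Fin m ⊕ Fin m) (Fin m ⊕ Fin m) F) ^ orderOf g = 1 := by
      rw [← coe_pow_symplectic, pow_orderOf_eq_one]; rfl
    have hgr : g ^ r = 1 := by
      apply Subtype.ext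
      rw [coe_pow_symplectic]
      apply pow_eq_one_of_charpoly_dvd _ (orderOf g) hNF hgN r
        (2 * m - i * Multiset.card M + Multiset.card M)
      rw [hg2]
      exact polyOf_dvd_pow _ _ _ (X_sub_one_dvd r) (fun π hπ => hRd π (hM π hπ))
    have hg1' : g ≠ 1 := by
      intro h1
      apply hM0
      have h2 : P M = polyOf (2 * m) (0 : Multiset F[X]) := by
        rw [← hg2, h1]
        have : ((1 : ↥(Matrix.symplecticGroup (Fin m) F)) :
            Matrix (Fin m ⊕ Fin m) (Fin m ⊕ Fin m) F) = 1 := rfl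
        rw [this, Matrix.charpoly_one]
        simp [polyOf, two_mul]
      have h3 := filter_polyOf (2 * m - i * Multiset.card M) M (fun π hπ => hRm π (hM π hπ))
        (fun π hπ => hRi π (hM π hπ)) (fun π hπ => hR1 π (hM π hπ))
      have h4 := filter_polyOf (F := F) (2 * m) (0 : Multiset F[X]) (by simp) (by simp) (by simp)
      rw [← h3, ← h4]
      exact congrArg (fun f => (normalizedFactors f).filter (fun π => π ≠ X - 1)) h2
    exact orderOf_eq_prime hgr hg1'
  let Ξ : {M : Multiset F[X] // (∀ π ∈ M, π ∈ Rset F r) ∧ M ≠ 0 ∧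
      i * Multiset.card M ≤ 2 * m ∧ (P M).reverse = P M} →
      {C : ConjClasses ↥(Matrix.symplecticGroup (Fin m) F) //
        ∃ g : ↥(Matrix.symplecticGroup (Fin m) F), ConjClasses.mk g = C ∧ orderOf g = r} :=
    fun M => ⟨ConjClasses.mk (Classical.choose (hex M)), Classical.choose (hex M), rfl,
      (Classical.choose_spec (hex M)).2.2⟩
  symm
  apply Nat.card_eq_of_bijective Ξ
  constructor
  · intro M M' hMM
    have h1 : ConjClasses.mk (Classical.choose (hex M)) =
        ConjClasses.mk (Classical.choose (hex M')) := congrArg Subtype.val hMM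
    have h2 := charpoly_eq_of_isConj_symplectic _ _ (ConjClasses.mk_eq_mk_iff_isConj.1 h1)
    rw [(Classical.choose_spec (hex M)).2.1, (Classical.choose_spec (hex M')).2.1] at h2
    exact Subtype.ext (hPinj _ _ M.2.1 M'.2.1 h2)
  · rintro ⟨C, g, hgC, hgr⟩
    set f := (g : Matrix (Fin m ⊕ Fin m) (Fin m ⊕ Fin m) F).charpoly with hf
    have hfm : f.Monic := Matrix.charpoly_monic _
    have hfd : f.natDegree = 2 * m := by
      rw [hf, Matrix.charpoly_natDegree_eq_dim, Fintype.card_sum, Fintype.card_fin]; ring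
    set M₀ := normalizedFactors f with hM₀
    set M' := M₀.filter (fun π => π ≠ X - 1) with hM'
    set a := Multiset.count (X - 1) M₀ with ha
    have hfP : f = polyOf a M' := eq_polyOf_of_monic f hfm
    have hgr1 : (g : Matrix (Fin m ⊕ Fin m) (Fin m ⊕ Fin m) F) ^ r = 1 := by
      rw [← coe_pow_symplectic, ← hgr, pow_orderOf_eq_one]; rfl
    have hM'mem : ∀ x ∈ M', x ∈ Rset F r := by
      intro x hx
      rw [hM', Multiset.mem_filter] at hx
      obtain ⟨hx1, hx2⟩ := hx
      rw [hM₀, mem_normalizedFactors_iff_monic hfm.ne_zero] at hx1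
      rw [mem_Rset hr0]
      exact ⟨hx1.1, hx1.2.1, dvd_of_pow_eq_one _ r hgr1 x hx1.2.1 hx1.2.2, hx2⟩
    have hdeg : 2 * m = a + i * Multiset.card M' := by
      rw [← hfd, hfP]
      exact polyOf_natDegree _ _ (fun x hx => hRm x (hM'mem x hx)) i
        (fun x hx => hRdeg x (hM'mem x hx))
    have hle : i * Multiset.card M' ≤ 2 * m := by omega
    have hfPm : f = P M' := by
      change f = polyOf (2 * m - i * Multiset.card M') M'
      rw [hfP]
      congr 1
      omega
    have hgcop : (orderOf g).Coprime p := by rw [hgr]; exact hrcop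
    have hrev : (P M').reverse = P M' := by
      rw [← hfPm, hf]
      exact charpoly_reverse_symplectic g
    have hM0 : M' ≠ 0 := by
      intro h0
      have h1 : f = (1 : Matrix (Fin m ⊕ Fin m) (Fin m ⊕ Fin m) F).charpoly := by
        rw [hfPm, h0, Matrix.charpoly_one]
        simp [P, polyOf, two_mul]
      have h2 : IsConj g 1 := isConj_symplectic p g 1 hgcop (by simp) h1
      have h3 : g = 1 := isConj_one_left.1 h2
      rw [h3, orderOf_one] at hgr
      omega
    refine ⟨⟨M', hM'mem, hM0, hle, hrev⟩, ?_⟩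
    apply Subtype.ext
    change ConjClasses.mk (Classical.choose (hex ⟨M', hM'mem, hM0, hle, hrev⟩)) = C
    rw [← hgC]
    apply ConjClasses.mk_eq_mk_iff_isConj.2
    obtain ⟨hc1, hc2, hc3⟩ := Classical.choose_spec (hex ⟨M', hM'mem, hM0, hle, hrev⟩)
    apply isConj_symplectic p _ _ hc1 hgcop
    rw [hc2, ← hfPm]

end Cfsg.Agent.Lib.Helper40.Symp
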