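import Mathlib
import Cfsg.Agent.Lib.Helper40.Darboux
set_option autoImplicit false
open Polynomial
open LinearMap (BilinForm)

namespace Cfsg.Agent.Lib.Helper40.Symp

open Cfsg.Agent.Lib.Helper40.Darboux

section frob
variable {F : Type*} [Field F] [Fintype F] {ι : Type*} [Fintype ι] [DecidableEq ι]

theorem charpoly_pow_card_pow (A : Matrix ι ι F) (k : ℕ) :
    (A ^ (Fintype.card F ^ k)).charpoly = A.charpoly := by
  induction k with
  | zero => simp
  | succ k ih =>
    rw [pow_succ, pow_mul, FiniteField.Matrix.charpoly_pow_card, ih]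

end frob

section toSp
variable {F : Type*} [Field F] {V : Type*} [AddCommGroup V] [Module F V] [FiniteDimensional F V]

/-- An isometry of a symplectic space of dimension `2N` gives an element of `Sp_2N`. -/
theorem exists_symplectic_of_isometry (B : BilinForm F V) (halt : B.IsAlt) (hnd : B.Nondegenerate)
    (N : ℕ) (hfr : Module.finrank F V = 2 * N) (M M' : V →ₗ[F] V) (hMM' : M * M' = 1)
    (hB : ∀ u v, B (M u) (M v) = B u v) :
    ∃ g : ↥(Matrix.symplecticGroup (Fin N) F),
      ((g : Matrix (Fin N ⊕ Fin N) (Fin N ⊕ Fin N) F) +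
        ((g⁻¹ : ↥(Matrix.symplecticGroup (Fin N) F)) :
          Matrix (Fin N ⊕ Fin N) (Fin N ⊕ Fin N) F)).charpoly = (M + M').charpoly := by
  classical
  obtain ⟨b, hb⟩ := darboux_basis N V B halt hnd hfr
  have hmem : LinearMap.toMatrix b b M ∈ Matrix.symplecticGroup (Fin N) F := by
    rw [SymplecticGroup.mem_iff']
    have hcomp : B.comp M M = B := by
      ext u w
      simp only [LinearMap.BilinForm.comp_apply]
      exact hB u w
    have h1 := LinearMap.BilinForm.toMatrix_comp b b B M M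
    rw [hcomp, hb, gramJ_eq] at h1
    have h2 : -((LinearMap.toMatrix b b M).transpose * Matrix.J (Fin N) F * LinearMap.toMatrix b b M) =
        - Matrix.J (Fin N) F := by
      rw [h1]; simp
    exact neg_injective h2
  refine ⟨⟨LinearMap.toMatrix b b M, hmem⟩, ?_⟩
  have hinv : ((⟨LinearMap.toMatrix b b M, hmem⟩⁻¹ : ↥(Matrix.symplecticGroup (Fin N) F)) :
      Matrix (Fin N ⊕ Fin N) (Fin N ⊕ Fin N) F) = LinearMap.toMatrix b b M' := by
    rw [SymplecticGroup.coe_inv']
    apply Matrix.inv_eq_right_inv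
    show LinearMap.toMatrix b b M * LinearMap.toMatrix b b M' = 1
    rw [← LinearMap.toMatrix_mul, hMM', LinearMap.toMatrix_one]
  rw [hinv]
  show (LinearMap.toMatrix b b M + LinearMap.toMatrix b b M').charpoly = _
  rw [← map_add, LinearMap.charpoly_toMatrix]

end toSp

section toSpFin
variable {F : Type*} [Field F] [Fintype F] {V : Type*} [AddCommGroup V] [Module F V]
  [FiniteDimensional F V]

theorem exists_semisimple_symplectic_of_isometry (p : ℕ) [Fact p.Prime] [CharP F p]
    (B : BilinForm F V) (halt : B.IsAlt) (hnd : B.Nondegenerate)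
    (N : ℕ) (hfr : Module.finrank F V = 2 * N) (M M' : V →ₗ[F] V) (hMM' : M * M' = 1)
    (hB : ∀ u v, B (M u) (M v) = B u v) :
    ∃ g : ↥(Matrix.symplecticGroup (Fin N) F), (orderOf g).Coprime p ∧
      ((g : Matrix (Fin N ⊕ Fin N) (Fin N ⊕ Fin N) F) +
        ((g⁻¹ : ↥(Matrix.symplecticGroup (Fin N) F)) :
          Matrix (Fin N ⊕ Fin N) (Fin N ⊕ Fin N) F)).charpoly = (M + M').charpoly := by
  classical
  obtain ⟨g₀, hg₀⟩ := exists_symplectic_of_isometry B halt hnd N hfr M M' hMM' hB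
  have hp : p.Prime := Fact.out
  obtain ⟨e, -, he⟩ := FiniteField.card F p
  set N₀ := orderOf g₀ with hN₀
  have hN₀pos : N₀ ≠ 0 := (orderOf_pos g₀).ne'
  set a := N₀.factorization p with ha
  set N' := N₀ / p ^ a with hN'
  have hNN : p ^ a * N' = N₀ := Nat.ordProj_mul_ordCompl_eq_self N₀ p
  have hcop : p.Coprime N' := Nat.coprime_ordCompl hp hN₀pos
  have halt' : a < N₀ := Nat.factorization_lt p hN₀pos
  refine ⟨g₀ ^ (Fintype.card F ^ N₀), ?_, ?_⟩
  · have hdvd : orderOf (g₀ ^ (Fintype.card F ^ N₀)) ∣ N' := by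
      apply orderOf_dvd_of_pow_eq_one
      rw [← pow_mul]
      apply orderOf_dvd_iff_pow_eq_one.1
      rw [← hN₀, ← hNN, he, ← pow_mul]
      apply Nat.mul_dvd_mul _ (dvd_refl _)
      apply pow_dvd_pow
      have : 1 ≤ (e : ℕ) := e.pos
      nlinarith
    exact (Nat.Coprime.coprime_dvd_left hdvd hcop.symm)
  · rw [← hg₀]
    rcases isEmpty_or_nonempty (Fin N ⊕ Fin N) with hemp | hne
    · exact congrArg Matrix.charpoly (Subsingleton.elim _ _)
    · have : CharP (Matrix (Fin N ⊕ Fin N) (Fin N ⊕ Fin N) F) p := Matrix.charP p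
      have hcomm : Commute (g₀ : Matrix (Fin N ⊕ Fin N) (Fin N ⊕ Fin N) F)
          ((g₀⁻¹ : ↥(Matrix.symplecticGroup (Fin N) F)) :
            Matrix (Fin N ⊕ Fin N) (Fin N ⊕ Fin N) F) := by
        show _ * _ = _ * _
        rw [← Submonoid.coe_mul, ← Submonoid.coe_mul, mul_inv_cancel, inv_mul_cancel]
      rw [← charpoly_pow_card_pow ((g₀ : Matrix (Fin N ⊕ Fin N) (Fin N ⊕ Fin N) F) +
        ((g₀⁻¹ : ↥(Matrix.symplecticGroup (Fin N) F)) :
            Matrix (Fin N ⊕ Fin N) (Fin N ⊕ Fin N) F)) N₀]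
      congr 1
      rw [he, ← pow_mul, add_pow_char_pow_of_commute p _ hcomm, ← inv_pow]
      rfl

end toSpFin
end Cfsg.Agent.Lib.Helper40.Symp
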